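import Mathlib.GroupTheory.Frattini
import Mathlib.GroupTheory.Nilpotent

/-!
A normal maximal subgroup contains the derived group; in a finite nilpotent group the derived
group lies in the Frattini subgroup.
-/

set_option autoImplicit false

open scoped commutatorElement

namespace Cfsg.Agent.Perm

variable {G : Type*} [Group G]

theorem commutator_le_of_normal_coatom {M : Subgroup G} [M.Normal] (hM : IsCoatom M) :
    commutator G ≤ M := by
  obtain ⟨x, -, hx⟩ := SetLike.exists_of_lt (lt_top_iff_ne_top.2 hM.1)
  have htop : M ⊔ Subgroup.zpowers x = ⊤ :=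
    hM.2 _ (lt_of_le_of_ne le_sup_left fun h => hx (h ▸ Subgroup.mem_sup_right (Subgroup.mem_zpowers x)))
  have key : ∀ g : G, ∃ n : ℤ, QuotientGroup.mk' M g = QuotientGroup.mk' M x ^ n := by
    intro g
    have h : g ∈ M ⊔ Subgroup.zpowers x := by rw [htop]; trivial
    rw [Subgroup.mem_sup_of_normal_left] at h
    obtain ⟨m, hm, _, ⟨n, rfl⟩, rfl⟩ := h
    refine ⟨n, ?_⟩
    rw [map_mul, show QuotientGroup.mk' M m = 1 from (QuotientGroup.eq_one_iff m).2 hm, one_mul,
      map_zpow]
  rw [commutator_def, Subgroup.commutator_le]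
  intro a _ b _
  rw [← QuotientGroup.eq_one_iff]
  show QuotientGroup.mk' M ⁅a, b⁆ = 1
  rw [map_commutatorElement, commutatorElement_eq_one_iff_commute]
  obtain ⟨i, hi⟩ := key a
  obtain ⟨j, hj⟩ := key b
  rw [hi, hj]
  exact Commute.zpow_zpow (Commute.refl _) i j

theorem commutator_le_frattini [Finite G] [Group.IsNilpotent G] : commutator G ≤ frattini G := by
  refine le_iInf₂ fun M hM => ?_
  haveI : M.Normal :=
    Subgroup.NormalizerCondition.normal_of_coatom M Group.normalizerCondition_of_isNilpotent hM
  exact commutator_le_of_normal_coatom hM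

end Cfsg.Agent.Perm
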