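import Cfsg.Agent.Lib.Solv.Basic
import Cfsg.Agent.Lib.Solv.Cores
import Cfsg.Agent.Lib.Perm.NilpFrattini
import Mathlib.GroupTheory.Sylow
import Mathlib.GroupTheory.Solvable
import Mathlib.GroupTheory.Frattini
import Mathlib.Data.Fintype.Sum
import Mathlib.Data.Set.Finite.Lemmas
import Mathlib.Tactic.Group

/-!
Finite groups all of whose proper subgroups are nilpotent: solvability and Schmidt's structure
theorem for the non-nilpotent ones.
-/

set_option autoImplicit false

open scoped Pointwise commutatorElement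

namespace Cfsg.Agent.Perm

universe u

variable {G : Type u} [Group G]

/-- Sylow subgroups of finite nilpotent groups are normal. -/
theorem sylow_normal_of_nilpotent {H : Type*} [Group H] [Finite H] (hH : Group.IsNilpotent H)
    {p : ℕ} [Fact p.Prime] (P : Sylow p H) : (P : Subgroup H).Normal := by
  have h2 : ∀ (p : ℕ) (_ : Fact p.Prime) (P : Sylow p H), (P : Subgroup H).Normal :=
    ((Group.isNilpotent_of_finite_tfae (G := H)).out 0 3).mp hH
  exact h2 p inferInstance P

theorem nilpotent_of_sylow_normal {H : Type*} [Group H] [Finite H]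
    (h : ∀ (p : ℕ) (_ : Fact p.Prime) (P : Sylow p H), (P : Subgroup H).Normal) :
    Group.IsNilpotent H :=
  ((Group.isNilpotent_of_finite_tfae (G := H)).out 0 3).mpr h

/-- Subgroups of prime power orders for different primes inside a nilpotent subgroup commute. -/
theorem commute_of_le_nilpotent [Finite G] {H A B : Subgroup G} (hH : Group.IsNilpotent H)
    {p q : ℕ} [Fact p.Prime] [Fact q.Prime] (hpq : p ≠ q) (hA : IsPGroup p A) (hB : IsPGroup q B)
    (hAH : A ≤ H) (hBH : B ≤ H) : A ≤ Subgroup.centralizer (B : Set G) := by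
  obtain ⟨P, hP⟩ := (hA.comap_of_injective H.subtype H.subtype_injective :
    IsPGroup p (A.subgroupOf H)).exists_le_sylow
  obtain ⟨Q, hQ⟩ := (hB.comap_of_injective H.subtype H.subtype_injective :
    IsPGroup q (B.subgroupOf H)).exists_le_sylow
  haveI := sylow_normal_of_nilpotent hH P
  haveI := sylow_normal_of_nilpotent hH Q
  intro a ha
  rw [Subgroup.mem_centralizer_iff]
  intro b hb
  exact congrArg Subtype.val (Subgroup.commute_of_normal_of_disjoint _ _ inferInstance inferInstance
    (IsPGroup.disjoint_of_ne p q hpq _ _ P.2 Q.2) ⟨a, hAH ha⟩ ⟨b, hBH hb⟩ (hP ha) (hQ hb)).symm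

/-- If the maximal subgroups are nilpotent, all proper subgroups are. -/
theorem proper_nilpotent_of_coatom [Finite G]
    (h : ∀ M : Subgroup G, IsCoatom M → Group.IsNilpotent M) :
    ∀ H : Subgroup G, H ≠ ⊤ → Group.IsNilpotent H := fun H hH => by
  obtain ⟨M, hM, hHM⟩ := (eq_top_or_exists_le_coatom H).resolve_left hH
  exact Cfsg.Agent.Solv.isNilpotent_of_le hHM (h M hM)

theorem exists_normal_of_proper_nilpotent [Finite G]
    (h : ∀ H : Subgroup G, H ≠ ⊤ → Group.IsNilpotent H) (hns : ¬ Group.IsSolvable G) :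
    ∃ N : Subgroup G, N.Normal ∧ N ≠ ⊥ ∧ N ≠ ⊤ := by
  by_contra hno
  push Not at hno
  haveI : Nontrivial G := by
    by_contra hn
    rw [not_nontrivial_iff_subsingleton] at hn
    exact hns inferInstance
  have hcyc : ∀ x : G, Subgroup.zpowers x ≠ ⊤ := fun x hx => hns (Group.isSolvable_of_comm
    fun a b => by
      obtain ⟨i, rfl⟩ := Subgroup.mem_zpowers_iff.1 ((Subgroup.eq_top_iff' _).1 hx a)
      obtain ⟨j, rfl⟩ := Subgroup.mem_zpowers_iff.1 ((Subgroup.eq_top_iff' _).1 hx b)
      exact (Commute.refl x).zpow_zpow i j)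
  have hNM : ∀ M : Subgroup G, IsCoatom M → Subgroup.normalizer (M : Set G) = M := by
    intro M hM
    refine (Subgroup.le_normalizer.eq_or_lt).elim Eq.symm fun hlt => ?_
    have hn := Subgroup.normalizer_eq_top_iff.1 (hM.2 _ hlt)
    rcases eq_or_ne M ⊥ with rfl | hb
    · obtain ⟨x, hx⟩ := exists_ne (1 : G)
      exact absurd (hM.2 _ (bot_lt_iff_ne_bot.2 (by simpa using hx))) (hcyc x)
    · exact absurd (hno M hn hb) hM.1
  -- distinct maximal subgroups intersect trivially
  have hTI : ∀ M L : Subgroup G, IsCoatom M → IsCoatom L → M ≠ L → M ⊓ L = ⊥ := by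
    intro M L hM hL hne
    by_contra hbot
    let P : Set (Subgroup G × Subgroup G) :=
      {q | IsCoatom q.1 ∧ IsCoatom q.2 ∧ q.1 ≠ q.2 ∧ q.1 ⊓ q.2 ≠ ⊥}
    obtain ⟨⟨A, B⟩, ⟨hA, hB, hAB, hD⟩, hmax⟩ := Set.exists_max_image P
      (fun q => Nat.card (q.1 ⊓ q.2 : Subgroup G)) (Set.toFinite _) ⟨(M, L), hM, hL, hne, hbot⟩
    set D := A ⊓ B with hDdef
    have hNtop : Subgroup.normalizer (D : Set G) ≠ ⊤ := fun ht =>
      hA.1 (top_le_iff.1 (hno D (Subgroup.normalizer_eq_top_iff.1 ht) hD ▸ (inf_le_left : D ≤ A)))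
    obtain ⟨K, hK, hNK⟩ := (eq_top_or_exists_le_coatom _).resolve_left hNtop
    have step : ∀ A : Subgroup G, IsCoatom A → D < A →
        (∀ q ∈ P, Nat.card (q.1 ⊓ q.2 : Subgroup G) ≤ Nat.card D) → A = K := by
      intro A hA hDA hmax
      haveI := h A hA.1
      have hlt : D.subgroupOf A < ⊤ :=
        lt_top_iff_ne_top.2 fun ht => hDA.not_ge (Subgroup.subgroupOf_eq_top.1 ht)
      obtain ⟨x, hxN, hxD⟩ := SetLike.exists_of_lt
        (Group.normalizerCondition_of_isNilpotent (G := A) _ hlt)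
      have hxN' : (x : G) ∈ Subgroup.normalizer (D : Set G) := by
        have := Subgroup.le_normalizer_map A.subtype (Subgroup.mem_map_of_mem A.subtype hxN)
        rwa [Subgroup.map_subgroupOf_eq_of_le hDA.le] at this
      by_contra hAK
      have hbig : D < A ⊓ K :=
        SetLike.lt_iff_le_and_exists.2 ⟨le_inf hDA.le (Subgroup.le_normalizer.trans hNK),
          (x : G), Subgroup.mem_inf.2 ⟨x.2, hNK hxN'⟩, hxD⟩
      have := hmax (A, K) ⟨hA, hK, hAK, fun hb => by rw [hb] at hbig; exact not_lt_bot hbig⟩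
      exact absurd (Cfsg.Agent.Solv.card_lt_of_lt hbig) (not_lt.2 this)
    have hDA : D < A := lt_of_le_of_ne inf_le_left fun e =>
      hAB (((inf_eq_left.1 e).eq_or_lt).resolve_right fun hlt => hB.1 (hA.2 _ hlt))
    have hDB : D < B := lt_of_le_of_ne inf_le_right fun e =>
      hAB (((inf_eq_right.1 e).eq_or_lt).resolve_right fun hlt => hA.1 (hB.2 _ hlt)).symm
    exact hAB ((step A hA hDA hmax).trans (step B hB hDB hmax).symm)
  -- counting
  obtain ⟨M, hM⟩ : ∃ M : Subgroup G, IsCoatom M := by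
    obtain ⟨x, hx⟩ := exists_ne (1 : G)
    obtain ⟨M, hM, -⟩ := (eq_top_or_exists_le_coatom _).resolve_left (hcyc x)
    exact ⟨M, hM⟩
  have hMbot : ∀ M : Subgroup G, IsCoatom M → M ≠ ⊥ := by
    rintro M hM rfl
    obtain ⟨x, hx⟩ := exists_ne (1 : G)
    exact hcyc x (hM.2 _ (bot_lt_iff_ne_bot.2 (by simpa using hx)))
  have conjco : ∀ (M : Subgroup G) (g : G), IsCoatom M → IsCoatom (MulAut.conj g • M) := by
    intro M g hM
    refine ⟨fun e => hM.1 ?_, fun C hC => ?_⟩
    · rw [← inv_smul_smul (MulAut.conj g) M, e, ← map_inv, Subgroup.Normal.conj_smul_eq_self]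
    · have h1 : M < (MulAut.conj g)⁻¹ • C := by
        refine lt_of_le_of_ne (Subgroup.pointwise_smul_subset_iff.1 hC.le) fun e => hC.ne ?_
        rw [e, smul_inv_smul]
      rw [← smul_inv_smul (MulAut.conj g) C, hM.2 _ h1, Subgroup.Normal.conj_smul_eq_self]
  let f : ∀ M : Subgroup G, (G ⧸ M) × {m : M // m ≠ 1} → G :=
    fun M x => x.1.out * (x.2.1 : G) * x.1.out⁻¹
  have fmem : ∀ M x, f M x ∈ MulAut.conj x.1.out • M := fun M x => by
    rw [Cfsg.Agent.Solv.mem_conj_smul]
    have e : x.1.out⁻¹ * f M x * x.1.out = (x.2.1 : G) := by simp [f, mul_assoc]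
    rw [e]
    exact x.2.1.2
  have fne : ∀ M x, f M x ≠ 1 := fun M x e => x.2.2 (Subtype.ext (by simpa [f] using e))
  have finj : ∀ M : Subgroup G, IsCoatom M → Function.Injective (f M) := by
    intro M hM x y e
    have h1 : MulAut.conj x.1.out • M = MulAut.conj y.1.out • M := by
      by_contra hne
      have := hTI _ _ (conjco M _ hM) (conjco M _ hM) hne
      exact fne M x (Subgroup.mem_bot.1 (this ▸ ⟨fmem M x, e ▸ fmem M y⟩))
    have h2 : x.1.out⁻¹ * y.1.out ∈ M := by
      refine (hNM M hM).le (Cfsg.Agent.Solv.mem_normalizer_of_conj_smul ?_)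
      rw [← Cfsg.Agent.Solv.conj_smul_conj, ← h1, Cfsg.Agent.Solv.conj_smul_conj, inv_mul_cancel,
        Cfsg.Agent.Solv.conj_one_smul]
    have h3 : x.1 = y.1 := by
      rw [← QuotientGroup.out_eq' x.1, ← QuotientGroup.out_eq' y.1, QuotientGroup.eq]
      exact h2
    obtain ⟨q, m⟩ := x
    obtain ⟨q', m'⟩ := y
    obtain rfl : q = q' := h3
    simp only [f] at e
    exact Prod.ext rfl (Subtype.ext (Subtype.ext (mul_left_cancel (mul_right_cancel e))))
  have fcard : ∀ M : Subgroup G, Nat.card ((G ⧸ M) × {m : M // m ≠ 1}) + M.index = Nat.card G := by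
    intro M
    have h1 : Nat.card {m : M // m ≠ 1} + 1 = Nat.card M := by
      haveI := Fintype.ofFinite M
      classical
      have hpos : 0 < Fintype.card M := Fintype.card_pos
      rw [Nat.card_eq_fintype_card, Nat.card_eq_fintype_card, Fintype.card_subtype_compl,
        Fintype.card_subtype_eq]
      omega
    rw [Nat.card_prod, ← Subgroup.index_eq_card, ← M.card_mul_index, ← h1]
    ring
  have hidx : ∀ M : Subgroup G, IsCoatom M → 2 * M.index ≤ Nat.card G := by
    intro M hM
    rw [← M.card_mul_index]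
    exact Nat.mul_le_mul_right _ ((Subgroup.one_lt_card_iff_ne_bot _).2 (hMbot M hM))
  obtain ⟨z, hz1, hz⟩ : ∃ z : G, z ≠ 1 ∧ ∀ x, f M x ≠ z := by
    by_contra hcon
    push Not at hcon
    let F : Option ((G ⧸ M) × {m : M // m ≠ 1}) → G := fun o => o.elim 1 (f M)
    have hF : Function.Surjective F := fun z => by
      rcases eq_or_ne z 1 with rfl | hz
      · exact ⟨none, rfl⟩
      · obtain ⟨x, hx⟩ := hcon z hz
        exact ⟨some x, hx⟩
    have := Nat.card_le_card_of_surjective F hF
    rw [Finite.card_option] at this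
    have h2 := fcard M
    have h3 := Subgroup.one_lt_index_of_ne_top hM.1
    omega
  obtain ⟨L, hL, hzL⟩ := (eq_top_or_exists_le_coatom _).resolve_left (hcyc z)
  have hzL' : z ∈ L := hzL (Subgroup.mem_zpowers z)
  have hsep : ∀ x y, f M x ≠ f L y := by
    intro x y e
    have hne : MulAut.conj x.1.out • M ≠ MulAut.conj y.1.out • L := by
      intro e'
      have hLg : MulAut.conj (y.1.out⁻¹ * x.1.out) • M = L := by
        rw [← Cfsg.Agent.Solv.conj_smul_conj, e', Cfsg.Agent.Solv.conj_smul_conj, inv_mul_cancel,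
          Cfsg.Agent.Solv.conj_one_smul]
      rw [← hLg, Cfsg.Agent.Solv.mem_conj_smul] at hzL'
      set g := y.1.out⁻¹ * x.1.out
      set g' := (QuotientGroup.mk g : G ⧸ M).out
      have hgg : g⁻¹ * g' ∈ M := QuotientGroup.eq.1 (QuotientGroup.out_eq' _).symm
      have hm : g'⁻¹ * z * g' ∈ M := by
        rw [show g'⁻¹ * z * g' = (g⁻¹ * g')⁻¹ * (g⁻¹ * z * g) * (g⁻¹ * g') by group]
        exact M.mul_mem (M.mul_mem (M.inv_mem hgg) hzL') hgg
      refine hz (QuotientGroup.mk g, ⟨⟨_, hm⟩, fun e1 => hz1 ?_⟩) ?_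
      · have := congrArg Subtype.val e1
        simp only [Subgroup.coe_one] at this
        calc z = g' * (g'⁻¹ * z * g') * g'⁻¹ := by group
          _ = 1 := by rw [this]; group
      · show g' * (g'⁻¹ * z * g') * g'⁻¹ = z
        group
    have := hTI _ _ (conjco M _ hM) (conjco L _ hL) hne
    exact fne M x (Subgroup.mem_bot.1 (this ▸ ⟨fmem M x, e ▸ fmem L y⟩))
  let Φ : Option (((G ⧸ M) × {m : M // m ≠ 1}) ⊕ ((G ⧸ L) × {m : L // m ≠ 1})) → G :=
    fun o => o.elim 1 (Sum.elim (f M) (f L))
  have hΦ : Function.Injective Φ := by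
    rintro (_ | x | x) (_ | y | y) e <;>
      simp only [Φ, Option.elim_none, Option.elim_some, Sum.elim_inl, Sum.elim_inr] at e
    · rfl
    · exact absurd e.symm (fne M y)
    · exact absurd e.symm (fne L y)
    · exact absurd e (fne M x)
    · rw [finj M hM e]
    · exact absurd e (hsep x y)
    · exact absurd e (fne L x)
    · exact absurd e.symm (hsep y x)
    · rw [finj L hL e]
  have := Nat.card_le_card_of_injective Φ hΦ
  rw [Finite.card_option, Nat.card_sum] at this
  have := fcard M
  have := fcard L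
  have := hidx M hM
  have := hidx L hL
  omega

/-- A finite group all of whose proper subgroups are nilpotent is solvable. -/
theorem isSolvable_of_proper_nilpotent : ∀ (n : ℕ) {G : Type u} [Group G] [Finite G],
    Nat.card G = n → (∀ H : Subgroup G, H ≠ ⊤ → Group.IsNilpotent H) → Group.IsSolvable G := by
  intro n
  induction n using Nat.strong_induction_on with
  | _ n ih =>
    intro G _ _ hn h
    subst hn
    by_contra hns
    obtain ⟨N, hN, hN1, hN2⟩ := exists_normal_of_proper_nilpotent h hns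
    haveI := hN
    haveI := h N hN2
    refine hns ((Group.isSolvable_iff_subgroup_quotient N).2 ⟨inferInstance, ?_⟩)
    refine ih _ (Cfsg.Agent.Solv.card_quotient_lt N hN1) rfl fun H hH => ?_
    have hne : H.comap (QuotientGroup.mk' N) ≠ ⊤ := fun e => hH (by
      rw [← Subgroup.map_comap_eq_self_of_surjective (QuotientGroup.mk'_surjective N) H, e,
        Subgroup.map_top_of_surjective _ (QuotientGroup.mk'_surjective N)])
    haveI := h _ hne
    exact Group.nilpotent_of_surjective ((QuotientGroup.mk' N).subgroupComap H)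
      ((QuotientGroup.mk' N).subgroupComap_surjective_of_surjective H (QuotientGroup.mk'_surjective N))

/-- Schmidt's structure theorem. -/
theorem schmidt [Finite G] (h : ∀ H : Subgroup G, H ≠ ⊤ → Group.IsNilpotent H)
    (hG : ¬ Group.IsNilpotent G) :
    ∃ p q : ℕ, p.Prime ∧ q.Prime ∧ p ≠ q ∧ ∃ (P : Sylow p G) (Q : Sylow q G), IsCyclic P ∧
      (Q : Subgroup G).Normal ∧ (P : Subgroup G) ⊔ Q = ⊤ ∧ ¬ (P : Subgroup G).Normal := by
  haveI := isSolvable_of_proper_nilpotent _ rfl h
  haveI : Nontrivial G := by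
    by_contra hn
    rw [not_nontrivial_iff_subsingleton] at hn
    exact hG inferInstance
  -- a normal maximal subgroup
  have hc : commutator G < ⊤ := Group.IsSolvable.commutator_lt_top_of_nontrivial G
  obtain ⟨M, hM, hcM⟩ := (eq_top_or_exists_le_coatom _).resolve_left hc.ne
  haveI : M.Normal := Subgroup.Normal.of_commutator_le (G := G) hcM
  obtain ⟨x, -, hx⟩ := SetLike.exists_of_lt (lt_top_iff_ne_top.2 hM.1)
  haveI : Nontrivial (G ⧸ M) := QuotientGroup.nontrivial_iff.2 hM.1
  obtain ⟨p, hp, hpd⟩ := Nat.exists_prime_and_dvd (Finite.one_lt_card (α := G ⧸ M)).ne'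
  haveI := Fact.mk hp
  -- the index of `M` is a power of `p`
  have hidx : ∀ r : ℕ, r.Prime → r ∣ M.index → r = p := by
    intro r hr hrd
    haveI := Fact.mk hr
    obtain ⟨y, hy⟩ := exists_prime_orderOf_dvd_card' (G := G ⧸ M) r (by rwa [← Subgroup.index_eq_card])
    obtain ⟨z, hz⟩ := exists_prime_orderOf_dvd_card' (G := G ⧸ M) p hpd
    have htop : Subgroup.zpowers y = ⊤ := by
      by_contra hne
      have h1 : M < (Subgroup.zpowers y).comap (QuotientGroup.mk' M) := by
        rw [lt_iff_le_and_ne]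
        refine ⟨fun m hm => ?_, fun e => ?_⟩
        · show QuotientGroup.mk' M m ∈ Subgroup.zpowers y
          rw [QuotientGroup.mk'_apply, (QuotientGroup.eq_one_iff m).2 hm]
          exact one_mem _
        · obtain ⟨w, rfl⟩ := QuotientGroup.mk'_surjective M y
          have hw : w ∈ M := by rw [e]; exact Subgroup.mem_zpowers _
          rw [QuotientGroup.mk'_apply, (QuotientGroup.eq_one_iff w).2 hw, orderOf_one] at hy
          exact hr.one_lt.ne hy
      refine hne ?_
      rw [← Subgroup.map_comap_eq_self_of_surjective (QuotientGroup.mk'_surjective M) (Subgroup.zpowers y),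
        hM.2 _ h1, Subgroup.map_top_of_surjective _ (QuotientGroup.mk'_surjective M)]
    have : p ∣ r := by
      rw [← hz, ← hy]
      obtain ⟨i, rfl⟩ := Subgroup.mem_zpowers_iff.1 ((Subgroup.eq_top_iff' _).1 htop z)
      exact orderOf_dvd_of_mem_zpowers (zpow_mem (Subgroup.mem_zpowers y) i)
    exact ((Nat.prime_dvd_prime_iff_eq hp hr).1 this).symm
  haveI hMnil := h M hM.1
  -- Sylow subgroups for primes other than `p` are normal
  have hnormal : ∀ r : ℕ, [Fact r.Prime] → r ≠ p → ∀ Q : Sylow r G, (Q : Subgroup G).Normal := by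
    intro r _ hrp Q
    have hle : (Q : Subgroup G) ≤ M := by
      refine Cfsg.Agent.Solv.le_of_coprime_index M _ ?_
      obtain ⟨k, hk⟩ := IsPGroup.iff_card.1 Q.2
      rw [hk]
      exact (((Fact.out : r.Prime).coprime_iff_not_dvd).2 fun hd => hrp (hidx r Fact.out hd)).pow_left k
    have := sylow_normal_of_nilpotent hMnil (Q.subtype hle)
    have hch : ((Q.subtype hle : Sylow r M) : Subgroup M).Characteristic :=
      Sylow.characteristic_of_normal _ this
    have := Cfsg.Agent.Solv.map_subtype_normal_of_characteristic M ((Q.subtype hle : Sylow r M) : Subgroup M)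
    rwa [Sylow.coe_subtype, Subgroup.map_subgroupOf_eq_of_le hle] at this
  obtain ⟨P⟩ : Nonempty (Sylow p G) := inferInstance
  have hPn : ¬ (P : Subgroup G).Normal := by
    intro hn
    refine hG (nilpotent_of_sylow_normal fun r hr Q => ?_)
    haveI := hr
    rcases eq_or_ne r p with rfl | hrp
    · obtain ⟨g, rfl⟩ := MulAction.exists_smul_eq G P Q
      rwa [Sylow.smul_eq_of_normal]
    · exact hnormal r hrp Q
  -- some `Q` generates with `P`
  have hex : ∃ q : ℕ, ∃ _ : Fact q.Prime, q ≠ p ∧ ∃ Q : Sylow q G, (P : Subgroup G) ⊔ Q = ⊤ := by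
    by_contra hcon
    push Not at hcon
    refine hPn (Subgroup.normalizer_eq_top_iff.1 (Cfsg.Agent.Solv.eq_top_of_forall_sylow_le _ ?_))
    intro r hr
    haveI : Fact r.Prime := hr
    obtain ⟨R⟩ : Nonempty (Sylow r G) := inferInstance
    rcases eq_or_ne r p with rfl | hrp
    · exact ⟨P, Subgroup.le_normalizer⟩
    · exact ⟨R, (commute_of_le_nilpotent (h _ (hcon r hr hrp R)) hrp R.2 P.2 le_sup_right le_sup_left).trans
        (Subgroup.centralizer_le_normalizer _)⟩
  obtain ⟨q, hq', hqp, Q, hPQ⟩ := hex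
  haveI := hq'
  haveI hQn := hnormal q hqp Q
  refine ⟨p, q, hp, Fact.out, hqp.symm, P, Q, ?_, hQn, hPQ, hPn⟩
  by_contra hcyc
  have hcomm : (P : Subgroup G) ≤ Subgroup.centralizer ((Q : Subgroup G) : Set G) := by
    intro x hx
    have hproper : Subgroup.zpowers x ⊔ (Q : Subgroup G) ≠ ⊤ := by
      intro e
      refine hcyc ?_
      have hxP : Subgroup.zpowers x ≤ (P : Subgroup G) := Subgroup.zpowers_le.2 hx
      have : (P : Subgroup G) ≤ Subgroup.zpowers x := by
        intro y hy
        have hy' : y ∈ ((Q : Subgroup G) ⊔ Subgroup.zpowers x : Subgroup G) := by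
          rw [sup_comm, e]; trivial
        rw [Subgroup.mem_sup_of_normal_left] at hy'
        obtain ⟨a, ha, b, hb, rfl⟩ := hy'
        have ha' : a ∈ (P : Subgroup G) ⊓ Q :=
          ⟨((P : Subgroup G).mul_mem_cancel_right (hxP hb)).1 hy, ha⟩
        rw [(IsPGroup.disjoint_of_ne p q hqp.symm _ _ P.2 Q.2).eq_bot, Subgroup.mem_bot] at ha'
        simpa [ha'] using hb
      rw [le_antisymm this hxP]
      exact Subgroup.isCyclic_zpowers x
    exact commute_of_le_nilpotent (h _ hproper) hqp.symm (P.2.to_le (Subgroup.zpowers_le.2 hx)) Q.2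
      le_sup_left le_sup_right (Subgroup.mem_zpowers x)
  refine hPn (Subgroup.normalizer_eq_top_iff.1 (top_le_iff.1 (hPQ ▸ sup_le Subgroup.le_normalizer ?_)))
  exact (Subgroup.le_centralizer_iff.1 hcomm).trans (Subgroup.centralizer_le_normalizer _)

end Cfsg.Agent.Perm
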