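import Mathlib.GroupTheory.Subgroup.Center
import Mathlib.GroupTheory.Subgroup.Simple
import Mathlib.GroupTheory.NoncommCoprod
import Mathlib.Algebra.Group.TransferInstance
import Mathlib.Algebra.Group.Pi.Lemmas
import Mathlib.Data.Set.Finite.Basic
import Mathlib.Data.Fintype.Powerset
import Mathlib.GroupTheory.Sylow
import Mathlib.Data.Fintype.EquivFin

/-!
Finite groups with no proper nontrivial normal subgroup invariant under a group of automorphisms
are direct powers of a simple group; in particular minimal normal subgroups.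
-/

set_option autoImplicit false

namespace Cfsg.Agent.Perm

universe u

/-- Splitting off the first factor of a finite power. -/
def piFinSucc (T : Type u) [Group T] (m : ℕ) : T × (Fin m → T) ≃* (Fin (m + 1) → T) where
  toFun x := Fin.cons x.1 x.2
  invFun f := (f 0, fun i => f i.succ)
  left_inv x := by simp
  right_inv f := by
    funext i
    induction i using Fin.cases <;> simp
  map_mul' x y := by
    funext i
    induction i using Fin.cases <;> simp

variable {K : Type u} [Group K] [Finite K] [Nontrivial K]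

/-- A finite group without proper nontrivial normal subgroups invariant under `A` is a power of a
simple group. -/
theorem exists_power_of_simple (A : Subgroup (MulAut K))
    (hA : ∀ J : Subgroup K, J.Normal → (∀ φ ∈ A, J.map (φ : K ≃* K).toMonoidHom ≤ J) →
      J = ⊥ ∨ J = ⊤) :
    ∃ T : Subgroup K, T.Normal ∧ IsSimpleGroup T ∧
      ∃ m : ℕ, 0 < m ∧ Nonempty (K ≃* (Fin m → T)) := by
  classical
  obtain ⟨T, hT⟩ := (Set.toFinite {L : Subgroup K | L.Normal ∧ L ≠ ⊥}).exists_minimal
    ⟨⊤, inferInstance, top_ne_bot⟩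
  haveI hTn : T.Normal := hT.1.1
  have hTmin : ∀ L : Subgroup K, L.Normal → L ≤ T → L = ⊥ ∨ L = T := fun L hL hLT => by
    by_cases h : L = ⊥
    · exact Or.inl h
    · exact Or.inr (le_antisymm hLT (hT.2 ⟨hL, h⟩ hLT))
  let O : Set (Subgroup K) := {L | ∃ φ ∈ A, T.map (φ : K ≃* K).toMonoidHom = L}
  have hOn : ∀ L ∈ O, L.Normal := by
    rintro _ ⟨φ, -, rfl⟩
    exact hTn.map _ φ.surjective
  have hOmin : ∀ L ∈ O, ∀ J : Subgroup K, J.Normal → J ≤ L → J = ⊥ ∨ J = L := by
    rintro _ ⟨φ, -, rfl⟩ J hJ hJL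
    have he : J = (J.comap (φ : K ≃* K).toMonoidHom).map (φ : K ≃* K).toMonoidHom :=
      (Subgroup.map_comap_eq_self_of_surjective φ.surjective J).symm
    rcases hTmin (J.comap (φ : K ≃* K).toMonoidHom) (hJ.comap _) (fun x hx => by
      obtain ⟨t, ht, htx⟩ := hJL hx
      rwa [← φ.injective htx]) with h | h
    · left; rw [he, h, Subgroup.map_bot]
    · right; rw [he, h]
  have hTO : T ∈ O := ⟨1, one_mem A, by ext x; simp⟩
  have hsup : sSup O = ⊤ := by
    have hn : (sSup O).Normal := by
      refine Subgroup.normalizer_eq_top_iff.1 (top_le_iff.1 fun g _ => ?_)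
      refine Subgroup.mem_normalizer_fintype fun x hx => ?_
      have hle : (sSup O).map (MulAut.conj g).toMonoidHom ≤ sSup O := by
        rw [sSup_eq_iSup, Subgroup.map_iSup]
        refine iSup_le fun L => ?_
        rw [Subgroup.map_iSup]
        refine iSup_le fun hL => le_iSup₂_of_le L hL ?_
        rintro _ ⟨y, hy, rfl⟩
        exact (hOn L hL).conj_mem y hy g
      exact hle ⟨x, hx, rfl⟩
    refine (hA _ hn fun φ hφ => ?_).resolve_left fun h => hT.1.2 ?_
    · rw [sSup_eq_iSup, Subgroup.map_iSup]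
      refine iSup_le fun L => ?_
      rw [Subgroup.map_iSup]
      refine iSup_le ?_
      rintro ⟨ψ, hψ, rfl⟩
      refine le_iSup₂_of_le ((T.map (ψ : K ≃* K).toMonoidHom).map (φ : K ≃* K).toMonoidHom)
        ⟨φ * ψ, mul_mem hφ hψ, ?_⟩ le_rfl
      rw [Subgroup.map_map]
      rfl
    · exact le_bot_iff.1 (h ▸ le_sSup hTO)
  have hcomm : ∀ L ∈ O, ∀ M : Subgroup K, M.Normal → ¬ L ≤ M →
      L ⊓ M = ⊥ := fun L hL M hM hLM => by
    haveI := hOn L hL
    haveI := hM
    exact (hOmin L hL (L ⊓ M) inferInstance inf_le_left).resolve_right fun h =>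
      hLM (h ▸ inf_le_right)
  -- `T` is simple
  have hsimple : IsSimpleGroup T := by
    haveI : Nontrivial T := (Subgroup.nontrivial_iff_ne_bot T).2 hT.1.2
    refine ⟨fun M hM => ?_⟩
    have hM' : (M.map T.subtype).Normal := by
      refine Subgroup.normalizer_eq_top_iff.1 (top_le_iff.1 ?_)
      rw [← hsup]
      refine sSup_le fun L hL l hl => ?_
      by_cases hLT : L ≤ T
      · refine Subgroup.mem_normalizer_fintype ?_
        rintro _ ⟨m, hm, rfl⟩
        exact ⟨_, hM.conj_mem m hm ⟨l, hLT hl⟩, rfl⟩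
      · refine Subgroup.mem_normalizer_fintype ?_
        rintro _ ⟨m, hm, rfl⟩
        have hc := Subgroup.commute_of_normal_of_disjoint L T (hOn L hL) hTn
          (disjoint_iff.2 (hcomm L hL T hTn hLT)) l m hl m.2
        refine ⟨m, hm, ?_⟩
        show (m : K) = l * (m : K) * l⁻¹
        rw [hc.eq, mul_inv_cancel_right]
    rcases hTmin _ hM' (Subgroup.map_subtype_le M) with h | h
    · left
      exact (Subgroup.map_eq_bot_iff_of_injective M T.subtype_injective).1 h
    · right
      refine Subgroup.map_injective T.subtype_injective (h.trans ?_)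
      rw [← MonoidHom.range_eq_map, Subgroup.range_subtype]
  refine ⟨T, hTn, hsimple, ?_⟩
  -- maximal normal subgroup that is a power of `T`
  obtain ⟨J, hJ⟩ := (Set.toFinite
    {J : Subgroup K | J.Normal ∧ ∃ m, Nonempty (J ≃* (Fin m → T))}).exists_maximal
    ⟨⊥, inferInstance, 0, ⟨MulEquiv.ofUnique⟩⟩
  obtain ⟨hJn, m, ⟨e⟩⟩ := hJ.1
  have hJtop : J = ⊤ := by
    by_contra hne
    obtain ⟨L, hL, hLJ⟩ : ∃ L ∈ O, ¬ L ≤ J := by
      by_contra h
      push Not at h
      exact hne (top_le_iff.1 (hsup ▸ sSup_le h))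
    haveI := hJn
    haveI := hOn L hL
    have hd : L ⊓ J = ⊥ := hcomm L hL J hJn hLJ
    have hc : ∀ (x : L) (y : J), Commute (L.subtype x) (J.subtype y) := fun x y =>
      Subgroup.commute_of_normal_of_disjoint L J (hOn L hL) hJn (disjoint_iff.2 hd) x y x.2 y.2
    let f : L × J →* K := MonoidHom.noncommCoprod L.subtype J.subtype hc
    have hf : Function.Injective f := by
      rw [MonoidHom.noncommCoprod_injective]
      refine ⟨L.subtype_injective, J.subtype_injective, ?_⟩
      rw [Subgroup.range_subtype, Subgroup.range_subtype, disjoint_iff]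
      exact hd
    have hr : f.range = L ⊔ J := by
      rw [MonoidHom.noncommCoprod_range, Subgroup.range_subtype, Subgroup.range_subtype]
    obtain ⟨φ, -, rfl⟩ := id hL
    let eL : T ≃* T.map (φ : K ≃* K).toMonoidHom := T.equivMapOfInjective _ φ.injective
    have : T.map (φ : K ≃* K).toMonoidHom ⊔ J ≤ J := by
      refine hJ.2 ⟨inferInstance, m + 1, ⟨?_⟩⟩ le_sup_right
      exact (((MulEquiv.subgroupCongr hr.symm).trans (MonoidHom.ofInjective hf).symm).trans
        (eL.symm.prodCongr e)).trans (piFinSucc T m)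
    exact hLJ (le_sup_left.trans this)
  subst hJtop
  refine ⟨m, Nat.pos_of_ne_zero ?_, ⟨Subgroup.topEquiv.symm.trans e⟩⟩
  rintro rfl
  exact not_subsingleton K ((Subgroup.topEquiv.symm.trans e).injective.subsingleton)

omit [Finite K] [Nontrivial K] in
/-- A finite group is isomorphic to a group in `Type`. -/
theorem exists_small_group [Finite K] :
    ∃ (T : Type) (_ : Group T), Nonempty (K ≃* T) := by
  let e := Finite.equivFin K
  let f : K →* Equiv.Perm (Fin (Nat.card K)) :=
    e.permCongrHom.toMonoidHom.comp (MulAction.toPermHom K K)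
  have hf : Function.Injective f :=
    e.permCongrHom.injective.comp MulAction.toPerm_injective
  exact ⟨f.range, inferInstance, ⟨MonoidHom.ofInjective hf⟩⟩

/-- A minimal normal subgroup is a power of a simple group (in `Type`). -/
theorem minimal_normal_power {H : Type u} [Group H] [Finite H] (N : Subgroup H) [N.Normal]
    (hN : N ≠ ⊥) (hmin : ∀ M : Subgroup H, M.Normal → M ≤ N → M = ⊥ ∨ M = N) :
    ∃ (T : Type) (_ : Group T) (m : ℕ), IsSimpleGroup T ∧ 0 < m ∧
      Nonempty (N ≃* (Fin m → T)) := by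
  haveI : Nontrivial N := (Subgroup.nontrivial_iff_ne_bot N).2 hN
  obtain ⟨T, -, hT, m, hm, ⟨e⟩⟩ := exists_power_of_simple
    (MulAut.conjNormal (H := N)).range fun J hJ hinv => by
      have hJ' : (J.map N.subtype).Normal := ⟨fun x hx g => by
        obtain ⟨y, hy, rfl⟩ := hx
        refine ⟨MulAut.conjNormal g y, hinv _ ⟨g, rfl⟩ ⟨y, hy, rfl⟩, ?_⟩
        rw [Subgroup.coe_subtype, MulAut.conjNormal_apply]⟩
      rcases hmin _ hJ' (Subgroup.map_subtype_le J) with h | h
      · left
        exact (Subgroup.map_eq_bot_iff_of_injective J N.subtype_injective).1 h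
      · right
        refine Subgroup.map_injective N.subtype_injective (h.trans ?_)
        rw [← MonoidHom.range_eq_map, Subgroup.range_subtype]
  obtain ⟨T₀, hg, ⟨e₀⟩⟩ := exists_small_group (K := T)
  haveI : Nontrivial T₀ := e₀.symm.toEquiv.nontrivial
  exact ⟨T₀, hg, m, IsSimpleGroup.isSimpleGroup_of_surjective e₀.toMonoidHom e₀.surjective, hm,
    ⟨e.trans (MulEquiv.piCongrRight fun _ => e₀)⟩⟩

end Cfsg.Agent.Perm
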