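import Mathlib

/-!
# Automorphisms of alternating groups
-/

set_option autoImplicit false

open Equiv Equiv.Perm

namespace Cfsg.Agent.Perm.AltAut

variable {α : Type*} [Fintype α] [DecidableEq α]

/-- The 3-cycle `a ↦ b ↦ d ↦ a`. -/
def cyc (a b d : α) : Perm α := swap a b * swap b d

theorem cyc_isThreeCycle {a b d : α} (hab : a ≠ b) (had : a ≠ d) (hbd : b ≠ d) :
    IsThreeCycle (cyc a b d) := by
  rw [cyc, swap_comm a b]
  exact isThreeCycle_swap_mul_swap_same hab.symm hbd had

theorem cyc_left {a b d : α} (hab : a ≠ b) (had : a ≠ d) : cyc a b d a = b := by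
  rw [cyc, mul_apply, swap_apply_of_ne_of_ne hab had, swap_apply_left]

theorem cyc_mid {a b d : α} (had : a ≠ d) (hbd : b ≠ d) : cyc a b d b = d := by
  rw [cyc, mul_apply, swap_apply_left, swap_apply_of_ne_of_ne had.symm hbd.symm]

theorem cyc_right {a b d : α} : cyc a b d d = a := by
  rw [cyc, mul_apply, swap_apply_right, swap_apply_right]

theorem cyc_other {a b d x : α} (hxa : x ≠ a) (hxb : x ≠ b) (hxd : x ≠ d) : cyc a b d x = x := by
  rw [cyc, mul_apply, swap_apply_of_ne_of_ne hxb hxd, swap_apply_of_ne_of_ne hxa hxb]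

theorem cyc_rot {a b d : α} (hab : a ≠ b) (had : a ≠ d) (hbd : b ≠ d) : cyc a b d = cyc b d a := by
  refine Equiv.ext fun x => ?_
  by_cases hxa : x = a
  · subst hxa; rw [cyc_left hab had, cyc_right]
  by_cases hxb : x = b
  · subst hxb; rw [cyc_mid had hbd, cyc_left hbd hab.symm]
  by_cases hxd : x = d
  · subst hxd; rw [cyc_right, cyc_mid hab.symm had.symm]
  rw [cyc_other hxa hxb hxd, cyc_other hxb hxd hxa]

theorem cyc_inv (a b d : α) : (cyc a b d)⁻¹ = swap b d * swap a b := by
  rw [cyc, mul_inv_rev, swap_inv, swap_inv]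

theorem conj_cyc (g : Perm α) (a b d : α) : g * cyc a b d * g⁻¹ = cyc (g a) (g b) (g d) := by
  rw [cyc, cyc, swap_apply_apply, swap_apply_apply]
  group

theorem three_points {f : Perm α} (hf : IsThreeCycle f) {a : α} (ha : f a ≠ a) :
    f a ≠ f (f a) ∧ a ≠ f (f a) ∧ f (f (f a)) = a := by
  have h3 : f ^ 3 = 1 := by rw [← hf.orderOf]; exact pow_orderOf_eq_one f
  have h1 : f (f (f a)) = a := by
    have := congrArg (fun g : Perm α => g a) h3
    simpa [pow_succ] using this
  refine ⟨fun h => ha (f.injective h).symm, fun h => ?_, h1⟩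
  have := congrArg f h
  rw [h1] at this
  exact ha this

theorem eq_cyc {f : Perm α} (hf : IsThreeCycle f) {a : α} (ha : f a ≠ a) :
    f = cyc a (f a) (f (f a)) := by
  obtain ⟨h1, h2, h3⟩ := three_points hf ha
  refine Equiv.ext fun x => ?_
  by_cases hxa : x = a
  · subst hxa; rw [cyc_left ha.symm h2]
  by_cases hxb : x = f a
  · subst hxb; rw [cyc_mid h2 h1]
  by_cases hxd : x = f (f a)
  · subst hxd; rw [cyc_right, h3]
  rw [cyc_other hxa hxb hxd]
  by_contra hx
  have hsup : f.support = {a, f a, f (f a)} := hf.support_eq_iff_mem_support.2 (mem_support.2 ha)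
  have hm : x ∈ f.support := mem_support.2 hx
  rw [hsup] at hm
  simp [hxa, hxb, hxd] at hm

/-- Two 3-cycles whose product is an involution share an ordered pair. -/
theorem share {f g : Perm α} (hf : IsThreeCycle f) (hg : IsThreeCycle g) (hne : f * g ≠ 1)
    (h2 : f * g * (f * g) = 1) : ∃ v, f v ≠ v ∧ g v = f v ∧ g v ≠ v := by
  have happ : ∀ x, f (g (f (g x))) = x := fun x => by
    have := congrArg (fun p : Perm α => p x) h2
    simpa using this
  by_cases hsub : ∃ u, g u ≠ u ∧ f u = u
  · obtain ⟨u, hu, hfu⟩ := hsub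
    obtain ⟨h1, h3, h4⟩ := three_points hg hu
    have e1 : f (g u) = g (g u) := by
      have h5 : g (f (g u)) = u := f.injective (by rw [happ u, hfu])
      exact g.injective (by rw [h5, h4])
    exact ⟨g u, by rw [e1]; exact h1.symm, e1.symm, h1.symm⟩
  · push Not at hsub
    obtain ⟨a, ha⟩ : ∃ a, g a ≠ a := by
      by_contra h
      push Not at h
      exact hg.ne_one (Equiv.ext h)
    obtain ⟨h1, h3, h4⟩ := three_points hg ha
    have hfa : f a ≠ a := hsub a ha
    obtain ⟨g1, g3, g4⟩ := three_points hf hfa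
    have hsup : g.support ⊆ f.support := fun x hx => mem_support.2 (hsub x (mem_support.1 hx))
    have heq : g.support = f.support :=
      Finset.eq_of_subset_of_card_le hsup (by rw [hf.card_support, hg.card_support])
    have hm : g a ∈ f.support := heq ▸ mem_support.2 (fun h => ha (g.injective h))
    rw [hf.support_eq_iff_mem_support.2 (mem_support.2 hfa)] at hm
    simp only [Finset.mem_insert, Finset.mem_singleton] at hm
    rcases hm with h | h | h
    · exact (ha h).elim
    · exact ⟨a, hfa, h, ha⟩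
    · exfalso
      apply hne
      have hgga : g (g a) = f a := by
        have hm : g (g a) ∈ f.support :=
          heq ▸ mem_support.2 (fun e => ha (g.injective (g.injective e)))
        rw [hf.support_eq_iff_mem_support.2 (mem_support.2 hfa)] at hm
        simp only [Finset.mem_insert, Finset.mem_singleton] at hm
        rcases hm with e | e | e
        · exact (h3 e.symm).elim
        · exact e
        · exact (h1 (e.trans h.symm).symm).elim
      have hg' := eq_cyc hg ha
      rw [hgga, h] at hg'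
      refine Equiv.ext fun x => ?_
      rw [mul_apply, Equiv.Perm.one_apply, hg']
      by_cases hxa : x = a
      · subst hxa; rw [cyc_left g3 hfa.symm, g4]
      by_cases hxb : x = f (f a)
      · subst hxb; rw [cyc_mid hfa.symm g1.symm]
      by_cases hxd : x = f a
      · subst hxd; rw [cyc_right]
      rw [cyc_other hxa hxb hxd]
      have hsf : f.support = {a, f a, f (f a)} := hf.support_eq_iff_mem_support.2 (mem_support.2 hfa)
      by_contra hx
      have hm : x ∈ f.support := mem_support.2 hx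
      rw [hsf] at hm
      simp [hxa, hxb, hxd] at hm

variable {n : ℕ}

set_option maxHeartbeats 2000000 in
/-- An automorphism of the alternating group mapping 3-cycles to 3-cycles is induced by a permutation. -/
theorem exists_perm (hn : 4 ≤ n) (σ : MulAut ↥(alternatingGroup (Fin n)))
    (hσ : ∀ f : ↥(alternatingGroup (Fin n)), IsThreeCycle (f : Perm (Fin n)) →
      IsThreeCycle (σ f : Perm (Fin n))) :
    ∃ π : Perm (Fin n), σ = MulAut.conjNormal π := by
  obtain ⟨p0, p1, hp01⟩ : ∃ p0 p1 : Fin n, p0 ≠ p1 :=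
    ⟨⟨0, by omega⟩, ⟨1, by omega⟩, fun h => by simpa using congrArg Fin.val h⟩
  let I := {i : Fin n // i ≠ p0 ∧ i ≠ p1}
  let x : I → ↥(alternatingGroup (Fin n)) := fun i =>
    ⟨cyc p0 p1 i, (cyc_isThreeCycle hp01 i.2.1.symm i.2.2.symm).mem_alternatingGroup⟩
  let X : I → Perm (Fin n) := fun i => (σ (x i) : Perm (Fin n))
  have hX : ∀ i, IsThreeCycle (X i) := fun i =>
    hσ _ (cyc_isThreeCycle hp01 i.2.1.symm i.2.2.symm)
  have hxv : ∀ i : I, (x i : Perm (Fin n)) = cyc p0 p1 (i : Fin n) := fun i => rfl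
  have hXinj : Function.Injective X := fun i j h => by
    have h1 : (x i : Perm (Fin n)) p1 = (x j : Perm (Fin n)) p1 := by
      rw [σ.injective (Subtype.ext h)]
    rw [hxv, hxv] at h1
    rw [cyc_mid i.2.1.symm i.2.2.symm, cyc_mid j.2.1.symm j.2.2.symm] at h1
    exact Subtype.ext h1
  have hinv : ∀ i j, i ≠ j → X i * X j ≠ 1 ∧ X i * X j * (X i * X j) = 1 := by
    intro i j hij
    have hij' : (i : Fin n) ≠ j := fun h => hij (Subtype.ext h)
    have e2 : x i * x j * (x i * x j) = 1 := by
      refine Subtype.ext (Equiv.ext fun y => ?_)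
      simp only [Subgroup.coe_mul, Subgroup.coe_one, hxv, mul_apply, Equiv.Perm.one_apply]
      have a1 := cyc_left hp01 i.2.1.symm
      have a2 := cyc_mid i.2.1.symm i.2.2.symm (a := p0)
      have a3 : cyc p0 p1 (i : Fin n) i = p0 := cyc_right
      have a4 : cyc p0 p1 (i : Fin n) (j : Fin n) = j := cyc_other j.2.1 j.2.2 hij'.symm
      have b1 := cyc_left hp01 j.2.1.symm
      have b2 := cyc_mid j.2.1.symm j.2.2.symm (a := p0)
      have b3 : cyc p0 p1 (j : Fin n) j = p0 := cyc_right
      have b4 : cyc p0 p1 (j : Fin n) (i : Fin n) = i := cyc_other i.2.1 i.2.2 hij'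
      by_cases h0 : y = p0
      · subst h0; rw [b1, a2, b4, a3]
      by_cases h1 : y = p1
      · subst h1; rw [b2, a4, b3, a1]
      by_cases hi : y = i
      · subst hi; rw [b4, a3, b1, a2]
      by_cases hj : y = j
      · subst hj; rw [b3, a1, b2, a4]
      rw [cyc_other h0 h1 hj, cyc_other h0 h1 hi, cyc_other h0 h1 hj, cyc_other h0 h1 hi]
    refine ⟨fun h => ?_, ?_⟩
    · have h' : x i * x j = 1 := σ.injective (Subtype.ext (by rw [map_mul, map_one]; exact h))
      have h1 := congrArg (fun g : ↥(alternatingGroup (Fin n)) => (g : Perm (Fin n)) p0) h'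
      simp only [Subgroup.coe_mul, Subgroup.coe_one, hxv, mul_apply, Equiv.Perm.one_apply] at h1
      rw [cyc_left hp01 j.2.1.symm, cyc_mid i.2.1.symm i.2.2.symm] at h1
      exact i.2.1 h1
    · have := congrArg (fun g => (σ g : Perm (Fin n))) e2
      simpa using this
  -- two indices
  obtain ⟨i0, i1, h01⟩ : ∃ i0 i1 : I, i0 ≠ i1 := by
    have : 1 < Fintype.card I := by
      rw [Fintype.card_subtype]
      have : (Finset.univ.filter fun i : Fin n => i ≠ p0 ∧ i ≠ p1) = Finset.univ \ {p0, p1} := by
        ext i; simp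
      rw [this, Finset.card_sdiff, Finset.inter_univ, Finset.card_pair hp01, Finset.card_univ, Fintype.card_fin]
      omega
    exact Fintype.exists_pair_of_one_lt_card this
  obtain ⟨a, haf, hag, -⟩ := share (hX i0) (hX i1) (hinv _ _ h01).1 (hinv _ _ h01).2
  set b := X i0 a with hb
  have hcommon : ∀ i, X i a = b := by
    intro i
    by_cases hi0 : i = i0
    · rw [hi0]
    by_cases hi1 : i = i1
    · rw [hi1, hag]
    obtain ⟨v, hv0, hgv, hv1⟩ := share (hX i0) (hX i) (hinv _ _ (Ne.symm hi0)).1 (hinv _ _ (Ne.symm hi0)).2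
    obtain ⟨w, hw0, hgw, hw1⟩ := share (hX i1) (hX i) (hinv _ _ (Ne.symm hi1)).1 (hinv _ _ (Ne.symm hi1)).2
    obtain ⟨d0, d1, d2⟩ := three_points (hX i0) haf
    have haf1 : X i1 a ≠ a := by rw [hag]; exact haf
    obtain ⟨e0, e1, e2⟩ := three_points (hX i1) haf1
    rw [hag] at e0 e1 e2
    set d := X i0 b with hd
    set e := X i1 b with he
    have hde : d ≠ e := fun h => h01 (hXinj (by
      rw [eq_cyc (hX i0) haf, eq_cyc (hX i1) haf1, hag, ← hb, ← hd, ← he, h]))
    have hvm : v = a ∨ v = b ∨ v = d := by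
      have hm : v ∈ (X i0).support := mem_support.2 hv0
      rw [(hX i0).support_eq_iff_mem_support.2 (mem_support.2 haf)] at hm
      simpa using hm
    have hwm : w = a ∨ w = b ∨ w = e := by
      have hm : w ∈ (X i1).support := mem_support.2 hw0
      rw [(hX i1).support_eq_iff_mem_support.2 (mem_support.2 haf1)] at hm
      simpa [hag] using hm
    rcases hvm with rfl | rfl | rfl
    · exact hgv
    · rcases hwm with rfl | rfl | rfl
      · exact hgw.trans hag
      · exact (hde (by rw [hd, ← hgv, hgw, he])).elim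
      · -- X i : b ↦ d and e ↦ a
        exfalso
        have h1 : X i b = d := hgv
        have h2 : X i e = a := hgw.trans e2
        have hbne : X i b ≠ b := hv1
        obtain ⟨f0, f1, f2⟩ := three_points (hX i) hbne
        rw [h1] at f0 f1 f2
        have hem : e ∈ ({b, X i b, X i (X i b)} : Finset (Fin n)) := by
          rw [← (hX i).support_eq_iff_mem_support.2 (mem_support.2 hbne)]
          exact mem_support.2 hw1
        rw [h1] at hem
        simp only [Finset.mem_insert, Finset.mem_singleton] at hem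
        rcases hem with h | h | h
        · exact e0 h.symm
        · exact hde h.symm
        · rw [h, f2] at h2
          exact haf h2
    · rcases hwm with rfl | rfl | rfl
      · exact hgw.trans hag
      · exfalso
        have h1 : X i d = a := hgv.trans d2
        have h2 : X i b = e := hgw
        have hbne : X i b ≠ b := hw1
        obtain ⟨f0, f1, f2⟩ := three_points (hX i) hbne
        rw [h2] at f0 f1 f2
        have hdm : d ∈ ({b, X i b, X i (X i b)} : Finset (Fin n)) := by
          rw [← (hX i).support_eq_iff_mem_support.2 (mem_support.2 hbne)]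
          exact mem_support.2 hv1
        rw [h2] at hdm
        simp only [Finset.mem_insert, Finset.mem_singleton] at hdm
        rcases hdm with h | h | h
        · exact d0 h.symm
        · exact hde h
        · rw [h, f2] at h1
          exact haf h1
      · exact (hde ((X i).injective (by rw [hgv.trans d2, hgw.trans e2]))).elim
  have hab : a ≠ b := fun h => haf h.symm
  have hmoved : ∀ i, X i a ≠ a := fun i => by rw [hcommon i]; exact hab.symm
  have hform : ∀ i, X i = cyc a b (X i b) ∧ b ≠ X i b ∧ a ≠ X i b := fun i => by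
    have h1 := eq_cyc (hX i) (hmoved i)
    obtain ⟨h2, h3, -⟩ := three_points (hX i) (hmoved i)
    rw [hcommon i] at h1 h2 h3
    exact ⟨h1, h2, h3⟩
  let π0 : Fin n → Fin n := fun y =>
    if h0 : y = p0 then a else if h1 : y = p1 then b else X ⟨y, h0, h1⟩ b
  have hinj : Function.Injective π0 := by
    intro y y' h
    simp only [π0] at h
    split_ifs at h with h0 h0' h1' h1 h0' h1' h0' h1'
    all_goals first
      | (subst_vars; rfl)
      | exact (hab h).elim
      | exact (hab h.symm).elim
      | exact ((hform _).2.2 h).elim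
      | exact ((hform _).2.2 h.symm).elim
      | exact ((hform _).2.1 h).elim
      | exact ((hform _).2.1 h.symm).elim
      | exact congrArg Subtype.val (hXinj (a₁ := ⟨y, h0, h1⟩) (a₂ := ⟨y', h0', h1'⟩)
          (by rw [(hform _).1, (hform ⟨y', h0', h1'⟩).1, h]))
  let π : Perm (Fin n) := Equiv.ofBijective π0 (Finite.injective_iff_bijective.1 hinj)
  refine ⟨π, ?_⟩
  have hπ : ∀ i : I, π * cyc p0 p1 (i : Fin n) * π⁻¹ = X i := fun i => by
    rw [conj_cyc]
    have e0 : π p0 = a := by simp [π, π0]
    have e1 : π p1 = b := by simp [π, π0, hp01.symm]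
    have ei : π i = X i b := by simp [π, π0, i.2.1, i.2.2]
    rw [e0, e1, ei, ← (hform i).1]
  -- agreement on all 3-cycles
  let M : Subgroup ↥(alternatingGroup (Fin n)) :=
    MonoidHom.eqLocus σ.toMonoidHom (MulAut.conjNormal π : MulAut ↥(alternatingGroup (Fin n))).toMonoidHom
  set M' := M.map (alternatingGroup (Fin n)).subtype with hM'
  have hx : ∀ i : I, cyc p0 p1 (i : Fin n) ∈ M' := fun i => ⟨x i, Subtype.ext (by
    rw [MulEquiv.coe_toMonoidHom, MulEquiv.coe_toMonoidHom, MulAut.conjNormal_apply, hxv]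
    exact (hπ i).symm), hxv i⟩
  have hconj : ∀ g f, g ∈ M' → f ∈ M' → g * f * g⁻¹ ∈ M' := fun g f hg hf =>
    mul_mem (mul_mem hg hf) (inv_mem hg)
  -- (p1 j i)
  have h1ji : ∀ i j : I, i ≠ j → cyc p1 (j : Fin n) i ∈ M' ∧ cyc (j : Fin n) p0 i ∈ M' := fun i j hij => by
    have hij' : (i : Fin n) ≠ j := fun h => hij (Subtype.ext h)
    constructor
    · have h := hconj _ _ (hx j) (hx i)
      rwa [conj_cyc, cyc_left hp01 j.2.1.symm, cyc_mid j.2.1.symm j.2.2.symm,
        cyc_other i.2.1 i.2.2 hij'] at h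
    · have h := hconj _ _ (inv_mem (hx j)) (hx i)
      have r0 : (cyc p0 p1 (j : Fin n))⁻¹ p0 = j := Perm.inv_eq_iff_eq.2 cyc_right.symm
      have r1 : (cyc p0 p1 (j : Fin n))⁻¹ p1 = p0 :=
        Perm.inv_eq_iff_eq.2 (cyc_left hp01 j.2.1.symm).symm
      have r2 : (cyc p0 p1 (j : Fin n))⁻¹ i = i :=
        Perm.inv_eq_iff_eq.2 (cyc_other i.2.1 i.2.2 hij').symm
      rwa [conj_cyc, r0, r1, r2] at h
  have h0 : ∀ u v : Fin n, p0 ≠ u → p0 ≠ v → u ≠ v → cyc p0 u v ∈ M' := by
    intro u v hu hv huv
    by_cases hu1 : u = p1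
    · subst u; exact hx ⟨v, hv.symm, huv.symm⟩
    by_cases hv1 : v = p1
    · subst v
      have := inv_mem (hx ⟨u, hu.symm, huv⟩)
      have e : (cyc p0 p1 u)⁻¹ = cyc p0 u p1 := by
        refine inv_eq_of_mul_eq_one_right (Equiv.ext fun y => ?_)
        rw [mul_apply, Equiv.Perm.one_apply]
        by_cases ha : y = p0
        · subst ha; rw [cyc_left hu hp01, cyc_right]
        by_cases hb : y = u
        · subst hb; rw [cyc_mid hp01 huv, cyc_mid hu huv.symm]
        by_cases hc : y = p1
        · subst hc; rw [cyc_right, cyc_left hp01 hu]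
        rw [cyc_other ha hb hc, cyc_other ha hc hb]
      rwa [e] at this
    · have := (h1ji ⟨u, hu.symm, hu1⟩ ⟨v, hv.symm, hv1⟩ (fun h => huv (congrArg Subtype.val h))).2
      rwa [cyc_rot hv.symm huv.symm hu] at this
  have h1 : ∀ u v : Fin n, p1 ≠ u → p1 ≠ v → u ≠ v → cyc p1 u v ∈ M' := by
    intro u v hu hv huv
    by_cases hu0 : u = p0
    · subst u
      have := h0 v p1 huv hp01 hv.symm
      rwa [cyc_rot huv hp01 hv.symm, cyc_rot hv.symm huv.symm hp01.symm] at this
    by_cases hv0 : v = p0
    · subst v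
      have h2 := h0 p1 u hp01 (Ne.symm hu0) hu
      rwa [cyc_rot hp01 (Ne.symm hu0) hu] at h2
    · exact (h1ji ⟨v, hv0, hv.symm⟩ ⟨u, hu0, hu.symm⟩ (fun h => huv.symm (congrArg Subtype.val h))).1
  have hall : ∀ u v w : Fin n, u ≠ v → u ≠ w → v ≠ w → cyc u v w ∈ M' := by
    intro u v w huv huw hvw
    by_cases hu0 : u = p0
    · subst u; exact h0 v w huv huw hvw
    by_cases hv0 : v = p0
    · subst v; rw [cyc_rot huv huw hvw]; exact h0 w u hvw huv.symm huw.symm
    by_cases hw0 : w = p0
    · subst w; rw [cyc_rot huv huw hvw, cyc_rot hvw huv.symm huw.symm]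
      exact h0 u v huw.symm hvw.symm huv
    by_cases hu1 : u = p1
    · subst u; exact h1 v w huv huw hvw
    by_cases hv1 : v = p1
    · subst v; rw [cyc_rot huv huw hvw]; exact h1 w u hvw huv.symm huw.symm
    by_cases hw1 : w = p1
    · subst w; rw [cyc_rot huv huw hvw, cyc_rot hvw huv.symm huw.symm]
      exact h1 u v huw.symm hvw.symm huv
    have hA := (h1ji ⟨w, hw0, hw1⟩ ⟨v, hv0, hv1⟩ (fun h => hvw (congrArg Subtype.val h).symm)).1
    have h := hconj _ _ (hx ⟨u, hu0, hu1⟩) hA
    rwa [conj_cyc, cyc_mid (Ne.symm hu0) (Ne.symm hu1), cyc_other hw0 hw1 huw.symm,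
      cyc_other hv0 hv1 huv.symm] at h
  refine MulEquiv.ext fun g => ?_
  have hg : (g : Perm (Fin n)) ∈ M' := by
    have hle : alternatingGroup (Fin n) ≤ M' := by
      rw [← closure_three_cycles_eq_alternating, Subgroup.closure_le]
      intro f hf
      obtain ⟨u, hu⟩ : ∃ u, f u ≠ u := by
        by_contra h
        push Not at h
        exact (hf : IsThreeCycle f).ne_one (Equiv.ext h)
      obtain ⟨q1, q2, -⟩ := three_points hf hu
      rw [eq_cyc hf hu]
      exact hall _ _ _ hu.symm q2 q1
    exact hle g.2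
  obtain ⟨g', hg', e⟩ := hg
  exact (Subtype.ext e : g' = g) ▸ hg'

omit [Fintype α] [DecidableEq α] in
theorem conjNormal_injective (hn : 4 ≤ n) :
    Function.Injective (MulAut.conjNormal : Perm (Fin n) →* MulAut ↥(alternatingGroup (Fin n))) := by
  refine (injective_iff_map_eq_one _).2 fun π hπ => Equiv.ext fun u => ?_
  rw [Equiv.Perm.one_apply]
  by_contra hu
  obtain ⟨v, w, hvu, hwu, hvw, hv', hw'⟩ :
      ∃ v w : Fin n, v ≠ u ∧ w ≠ u ∧ v ≠ w ∧ v ≠ π u ∧ w ≠ π u := by
    have : 1 < (Finset.univ \ {u, π u} : Finset (Fin n)).card := by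
      rw [Finset.card_sdiff, Finset.inter_univ, Finset.card_pair (Ne.symm hu), Finset.card_univ, Fintype.card_fin]
      omega
    obtain ⟨v, hv, w, hw, hvw⟩ := Finset.one_lt_card.1 this
    simp only [Finset.mem_sdiff, Finset.mem_univ, Finset.mem_insert, Finset.mem_singleton, true_and, not_or] at hv hw
    exact ⟨v, w, hv.1, hw.1, hvw, hv.2, hw.2⟩
  have h := congrArg (fun σ : MulAut ↥(alternatingGroup (Fin n)) =>
    (σ ⟨cyc u v w, (cyc_isThreeCycle hvu.symm hwu.symm hvw).mem_alternatingGroup⟩ : Perm (Fin n))) hπ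
  rw [MulAut.one_apply, MulAut.conjNormal_apply, conj_cyc] at h
  have h' := congrArg (fun f : Perm (Fin n) => f (π u)) h
  rw [cyc_left (fun e => hvu.symm (π.injective e)) (fun e => hwu.symm (π.injective e)),
    cyc_other hu hv'.symm hw'.symm] at h'
  exact hvu (π.injective h')

theorem card_centralizer_eq {m : ℕ} {f : Perm (Fin m)} {k : ℕ} (hf : f.cycleType = Multiset.replicate k 3) :
    Nat.card (Subgroup.centralizer ({f} : Set (Perm (Fin m)))) =
      (m - 3 * k).factorial * 3 ^ k * k.factorial := by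
  rw [nat_card_centralizer, hf, Multiset.sum_replicate, Multiset.prod_replicate, Fintype.card_fin, smul_eq_mul,
    mul_comm k 3]
  congr 1
  rcases Nat.eq_zero_or_pos k with rfl | hk
  · simp
  · rw [Multiset.toFinset_replicate, if_neg (by omega), Finset.prod_singleton, Multiset.count_replicate_self]

theorem arith {m k P : ℕ} (hk : 2 ≤ k) (hm : 3 * k ≤ m) (hP : P * (m - 3 * k).factorial = (m - 3).factorial)
    (hP' : P ≤ 2 * 3 ^ (k - 1) * k.factorial) : k = 2 := by
  by_contra hne
  have h1 : (3 * k - 3).factorial ≤ P := by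
    have h3 : (3 * k - 3).factorial * (m - 3 * k).factorial ∣ (m - 3).factorial := by
      have := Nat.factorial_mul_factorial_dvd_factorial_add (3 * k - 3) (m - 3 * k)
      rwa [show 3 * k - 3 + (m - 3 * k) = m - 3 by omega] at this
    rw [← hP] at h3
    exact Nat.le_of_dvd (Nat.pos_of_ne_zero fun h => by
      rw [h, zero_mul] at hP; exact (Nat.factorial_ne_zero _) hP.symm)
      (Nat.dvd_of_mul_dvd_mul_right (Nat.factorial_pos _) h3)
  have h2 : ∀ j, 2 * 3 ^ (j + 2) * (j + 3).factorial < (3 * (j + 3) - 3).factorial := by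
    intro j
    induction j with
    | zero => decide
    | succ j ih =>
      have e : 3 * (j + 1 + 3) - 3 = (3 * (j + 3) - 3) + 1 + 1 + 1 := by omega
      rw [e, Nat.factorial_succ (3 * (j + 3) - 3 + 1 + 1), Nat.factorial_succ (3 * (j + 3) - 3 + 1),
        Nat.factorial_succ (3 * (j + 3) - 3), show j + 1 + 3 = (j + 3) + 1 by ring, Nat.factorial_succ (j + 3),
        show j + 1 + 2 = (j + 2) + 1 by ring, pow_succ]
      set F := (3 * (j + 3) - 3).factorial
      set K := (j + 3).factorial
      have hc : 3 * (j + 3 + 1) ≤ (3 * (j + 3) - 3 + 1 + 1 + 1) * ((3 * (j + 3) - 3 + 1 + 1) * (3 * (j + 3) - 3 + 1)) := by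
        have a1 : 1 ≤ (3 * (j + 3) - 3 + 1 + 1) * (3 * (j + 3) - 3 + 1) := Nat.mul_pos (by omega) (by omega)
        have a2 : 3 * (j + 3 + 1) ≤ (3 * (j + 3) - 3 + 1 + 1 + 1) * ((3 * (j + 3) - 3 + 1 + 1) * (3 * (j + 3) - 3 + 1)) := by
          have a3 : 2 ≤ (3 * (j + 3) - 3 + 1 + 1) * (3 * (j + 3) - 3 + 1) :=
            le_trans (by omega : 2 ≤ 3 * (j + 3) - 3 + 1 + 1) (Nat.le_mul_of_pos_right _ (by omega))
          calc 3 * (j + 3 + 1) ≤ (3 * (j + 3) - 3 + 1 + 1 + 1) * 2 := by omega
            _ ≤ _ := Nat.mul_le_mul_left _ a3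
        exact a2
      calc 2 * (3 ^ (j + 2) * 3) * ((j + 3 + 1) * K) = (2 * 3 ^ (j + 2) * K) * (3 * (j + 3 + 1)) := by ring
        _ < F * (3 * (j + 3 + 1)) := Nat.mul_lt_mul_of_pos_right ih (by omega)
        _ ≤ F * ((3 * (j + 3) - 3 + 1 + 1 + 1) * ((3 * (j + 3) - 3 + 1 + 1) * (3 * (j + 3) - 3 + 1))) :=
          Nat.mul_le_mul_left _ hc
        _ = _ := by ring
  obtain ⟨j, rfl⟩ : ∃ j, k = j + 3 := ⟨k - 3, by omega⟩
  have := h2 j
  rw [show j + 3 - 1 = j + 2 by omega] at hP'
  omega

theorem centralizer_alt (g : ↥(alternatingGroup (Fin n))) :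
    ∃ d ≤ 2, 1 ≤ d ∧ Nat.card (Subgroup.centralizer ({(g : Perm (Fin n))} : Set (Perm (Fin n)))) =
      Nat.card (Subgroup.centralizer ({g} : Set ↥(alternatingGroup (Fin n)))) * d ∧
      ((∃ t ∈ Subgroup.centralizer ({(g : Perm (Fin n))} : Set (Perm (Fin n))), Perm.sign t = -1) → d = 2) ∧
      (d = 2 → ∃ t ∈ Subgroup.centralizer ({(g : Perm (Fin n))} : Set (Perm (Fin n))), Perm.sign t = -1) := by
  set C := Subgroup.centralizer ({(g : Perm (Fin n))} : Set (Perm (Fin n)))
  let D := (alternatingGroup (Fin n)).subgroupOf C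
  have e : Nat.card D = Nat.card (Subgroup.centralizer ({g} : Set ↥(alternatingGroup (Fin n)))) := by
    refine Nat.card_congr
      { toFun := fun x => ⟨⟨(x : C), x.2⟩, Subgroup.mem_centralizer_singleton_iff.2 (Subtype.ext
          (Subgroup.mem_centralizer_singleton_iff.1 (x : C).2))⟩
        invFun := fun x => ⟨⟨(x : ↥(alternatingGroup (Fin n))), Subgroup.mem_centralizer_singleton_iff.2
          (congrArg Subtype.val (Subgroup.mem_centralizer_singleton_iff.1 x.2))⟩, x.1.2⟩
        left_inv := fun x => rfl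
        right_inv := fun x => rfl }
  refine ⟨D.index, ?_, Nat.pos_of_ne_zero Subgroup.index_ne_zero_of_finite, by rw [← e, Subgroup.card_mul_index], ?_, ?_⟩
  · have h1 : D.index ∣ (alternatingGroup (Fin n)).index := Subgroup.relIndex_dvd_index_of_normal _ _
    rcases Nat.lt_or_ge 1 n with hn | hn
    · haveI : Nontrivial (Fin n) := Fin.nontrivial_iff_two_le.2 hn
      rw [alternatingGroup.index_eq_two] at h1
      exact Nat.le_of_dvd two_pos h1
    · haveI : Subsingleton (Fin n) := Fintype.card_le_one_iff_subsingleton.1 (by rw [Fintype.card_fin]; exact hn)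
      rw [show D = ⊤ from eq_top_iff.2 fun x _ => by
        rw [Subgroup.mem_subgroupOf, Subsingleton.elim (x : Perm (Fin n)) 1]; exact one_mem _, Subgroup.index_top]
      exact Nat.one_le_ofNat
  · rintro ⟨t, ht, hs⟩
    haveI : Nontrivial (Fin n) := by
      by_contra h
      rw [not_nontrivial_iff_subsingleton] at h
      rw [Subsingleton.elim t 1, map_one] at hs
      exact absurd hs (by decide)
    have h1 : D.index ∣ (alternatingGroup (Fin n)).index := Subgroup.relIndex_dvd_index_of_normal _ _
    rw [alternatingGroup.index_eq_two] at h1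
    rcases (Nat.dvd_prime Nat.prime_two).1 h1 with h | h
    · exfalso
      have : (⟨t, ht⟩ : C) ∈ D := Subgroup.index_eq_one.1 h ▸ Subgroup.mem_top _
      rw [Subgroup.mem_subgroupOf, mem_alternatingGroup] at this
      rw [this] at hs
      exact absurd hs (by decide)
    · exact h
  · intro h2
    by_contra hno
    push Not at hno
    have : D = ⊤ := eq_top_iff.2 fun w _ => by
      rw [Subgroup.mem_subgroupOf, mem_alternatingGroup]
      exact (Int.units_eq_one_or (Perm.sign (w : Perm (Fin n)))).resolve_right (hno w w.2)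
    rw [this, Subgroup.index_top] at h2
    omega

theorem card_centralizer_aut (σ : MulAut ↥(alternatingGroup (Fin n))) (f : ↥(alternatingGroup (Fin n))) :
    Nat.card (Subgroup.centralizer ({σ f} : Set ↥(alternatingGroup (Fin n)))) =
      Nat.card (Subgroup.centralizer ({f} : Set ↥(alternatingGroup (Fin n)))) := by
  have e : Subgroup.centralizer ({σ f} : Set ↥(alternatingGroup (Fin n))) =
      (Subgroup.centralizer ({f} : Set ↥(alternatingGroup (Fin n)))).map σ.toMonoidHom := by
    ext y
    rw [Subgroup.mem_centralizer_singleton_iff]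
    constructor
    · intro h
      exact ⟨σ.symm y, Subgroup.mem_centralizer_singleton_iff.2 (σ.injective (by
        rw [map_mul, map_mul, σ.apply_symm_apply]; exact h)), σ.apply_symm_apply y⟩
    · rintro ⟨x, hx, rfl⟩
      rw [MulEquiv.coe_toMonoidHom, ← map_mul, ← map_mul, Subgroup.mem_centralizer_singleton_iff.1 hx]
  rw [e, Subgroup.card_map_of_injective σ.injective]

/-- An automorphism image of a 3-cycle is a 3-cycle, unless `n = 6` where it may be a product of two. -/
theorem image_three (hn : 5 ≤ n) (σ : MulAut ↥(alternatingGroup (Fin n))) (f : ↥(alternatingGroup (Fin n)))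
    (hf : IsThreeCycle (f : Perm (Fin n))) : IsThreeCycle (σ f : Perm (Fin n)) ∨
      (n = 6 ∧ (σ f : Perm (Fin n)).cycleType = Multiset.replicate 2 3) := by
  have ho : orderOf (σ f : Perm (Fin n)) = 3 := by
    rw [Subgroup.orderOf_coe]
    exact (orderOf_injective σ.toMonoidHom σ.injective f).trans ((Subgroup.orderOf_coe f).symm.trans hf.orderOf)
  obtain ⟨j, hj⟩ := cycleType_prime_order (σ := (σ f : Perm (Fin n))) (by rw [ho]; exact Nat.prime_three)
  rw [ho] at hj
  rcases Nat.eq_zero_or_pos j with rfl | hj0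
  · left; exact hj
  right
  set k := j + 1 with hk
  have hk3 : 3 * k ≤ n := by
    have := (σ f : Perm (Fin n)).support.card_le_univ
    rw [← sum_cycleType, hj, Multiset.sum_replicate, Fintype.card_fin, smul_eq_mul] at this
    omega
  have hCg := card_centralizer_eq hj
  have hCf := card_centralizer_eq (k := 1) (f := (f : Perm (Fin n))) (by rw [hf.cycleType]; rfl)
  obtain ⟨d, hd, hd1, hdf, hodd, -⟩ := centralizer_alt f
  obtain ⟨d', hd', hd1', hdg, -, -⟩ := centralizer_alt (σ f)
  have hAeq := card_centralizer_aut σ f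
  have hd2 : d = 2 := by
    obtain ⟨u, hu, v, hv, huv⟩ := Finset.one_lt_card.1
      (show 1 < (Finset.univ \ (f : Perm (Fin n)).support : Finset (Fin n)).card by
        rw [Finset.card_sdiff, Finset.inter_univ, hf.card_support, Finset.card_univ, Fintype.card_fin]; omega)
    simp only [Finset.mem_sdiff, Finset.mem_univ, true_and, notMem_support] at hu hv
    refine hodd ⟨swap u v, Subgroup.mem_centralizer_singleton_iff.2 ?_, sign_swap huv⟩
    rw [mul_swap_eq_swap_mul, hu, hv]
  rw [hd2, hCf] at hdf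
  rw [hAeq, hCg] at hdg
  set A := Nat.card (Subgroup.centralizer ({f} : Set ↥(alternatingGroup (Fin n))))
  rw [Nat.factorial_one, mul_one, pow_one] at hdf
  obtain ⟨P, hP⟩ : (n - 3 * k).factorial ∣ (n - 3).factorial := Nat.factorial_dvd_factorial (by omega)
  rw [hP] at hdf
  have key : P * 3 * d' = 2 * 3 ^ k * k.factorial := by
    have h2 : (n - 3 * k).factorial * P * 3 * d' = A * 2 * d' := by rw [hdf]
    have h3 : (n - 3 * k).factorial * (P * 3 * d') = (n - 3 * k).factorial * (2 * 3 ^ k * k.factorial) := by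
      calc (n - 3 * k).factorial * (P * 3 * d') = (n - 3 * k).factorial * P * 3 * d' := by ring
        _ = A * 2 * d' := h2
        _ = A * d' * 2 := by ring
        _ = (n - 3 * k).factorial * 3 ^ k * k.factorial * 2 := by rw [← hdg]
        _ = _ := by ring
    exact Nat.eq_of_mul_eq_mul_left (Nat.factorial_pos _) h3
  have hP' : P ≤ 2 * 3 ^ (k - 1) * k.factorial := by
    have h3 : P * 3 ≤ 2 * 3 ^ k * k.factorial := key ▸ Nat.le_mul_of_pos_right _ hd1'
    have e : 3 ^ k = 3 ^ (k - 1) * 3 := by rw [← pow_succ, show k - 1 + 1 = k by omega]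
    rw [e] at h3
    nlinarith
  have hk2 : k = 2 := arith (by omega) hk3 (by rw [mul_comm]; exact hP.symm) hP'
  refine ⟨?_, by rw [hj, hk2]⟩
  rw [hk2] at hP hP' key
  obtain ⟨l, hl⟩ : ∃ l, n = 6 + l := ⟨n - 6, by omega⟩
  rw [hl, show 6 + l - 3 = l + 1 + 1 + 1 by omega, show 6 + l - 3 * 2 = l by omega, Nat.factorial_succ,
    Nat.factorial_succ, Nat.factorial_succ] at hP
  have hP2 : P = (l + 1 + 1 + 1) * ((l + 1 + 1) * (l + 1)) := Nat.eq_of_mul_eq_mul_left (Nat.factorial_pos l)
    (by rw [← hP]; ring)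
  rcases Nat.lt_or_ge l 1 with h | h
  · omega
  · exfalso
    have h24 : 24 ≤ P := by
      rw [hP2]
      exact le_trans (by norm_num : 24 ≤ 4 * (3 * 2))
        (Nat.mul_le_mul (by omega) (Nat.mul_le_mul (by omega) (by omega)))
    norm_num at hP'
    omega

theorem exists_perm_of_ne_six (hn : 4 ≤ n) (h6 : n ≠ 6) (σ : MulAut ↥(alternatingGroup (Fin n))) :
    ∃ π : Perm (Fin n), σ = MulAut.conjNormal π := by
  refine exists_perm hn σ fun f hf => ?_
  rcases Nat.lt_or_ge n 5 with h4 | h5
  · obtain rfl : n = 4 := by omega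
    have : ∀ g : ↥(alternatingGroup (Fin 4)), g * g * g = 1 → g ≠ 1 → IsThreeCycle (g : Perm (Fin 4)) := by
      intro g h1 h2
      have ho : orderOf (g : Perm (Fin 4)) = 3 := orderOf_eq_prime
        (by rw [pow_succ, pow_two]; exact congrArg Subtype.val h1) (fun e => h2 (Subtype.ext e))
      obtain ⟨j, hj⟩ := cycleType_prime_order (σ := (g : Perm (Fin 4))) (by rw [ho]; exact Nat.prime_three)
      have hle := (g : Perm (Fin 4)).support.card_le_univ
      rw [← sum_cycleType, hj, Multiset.sum_replicate, Fintype.card_fin, smul_eq_mul, ho] at hle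
      obtain rfl : j = 0 := by omega
      rw [IsThreeCycle, hj, ho]; rfl
    refine this _ ?_ ?_
    · rw [← map_mul, ← map_mul]
      have h3 : f * f * f = 1 := Subtype.ext (by
        have := pow_orderOf_eq_one (f : Perm (Fin 4))
        rw [hf.orderOf, pow_succ, pow_two] at this
        exact this)
      rw [h3, map_one]
    · intro h
      rw [← map_one σ] at h
      exact hf.ne_one (by rw [σ.injective h]; rfl)
  · exact (image_three h5 σ f hf).resolve_right fun h => h6 h.1

/-- Automorphisms of odd order are induced by permutations, in every degree at least five. -/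
theorem exists_perm_of_odd (hn : 5 ≤ n) (σ : MulAut ↥(alternatingGroup (Fin n))) (hodd : Odd (orderOf σ)) :
    ∃ π : Perm (Fin n), σ = MulAut.conjNormal π := by
  by_cases h6 : n = 6
  swap
  · exact exists_perm_of_ne_six (by omega) h6 σ
  subst h6
  have hT : ∀ τ : MulAut ↥(alternatingGroup (Fin 6)), ∀ f g : ↥(alternatingGroup (Fin 6)),
      IsThreeCycle (f : Perm (Fin 6)) → IsThreeCycle (g : Perm (Fin 6)) →
      IsThreeCycle (τ f : Perm (Fin 6)) → IsThreeCycle (τ g : Perm (Fin 6)) := by
    intro τ f g hf hg h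
    obtain ⟨c, hc⟩ := isConj_iff.1 (alternatingGroup.isThreeCycle_isConj (by simpa using hn) hf hg)
    have e := congrArg (fun y => (τ y : Perm (Fin 6))) hc
    simp only [map_mul, map_inv, Subgroup.coe_mul, Subgroup.coe_inv] at e
    rw [← e, IsThreeCycle, cycleType_conj]
    exact h
  have hsq : ∀ g : ↥(alternatingGroup (Fin 6)), IsThreeCycle (g : Perm (Fin 6)) →
      IsThreeCycle ((σ ^ 2) g : Perm (Fin 6)) := by
    intro g hg
    rw [pow_two, MulAut.mul_apply]
    rcases image_three hn σ g hg with h1 | ⟨-, h1⟩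
    · exact hT σ g _ hg h1 h1
    by_contra hne
    have ho : orderOf (σ (σ g) : Perm (Fin 6)) = 3 := by
      rw [Subgroup.orderOf_coe]
      exact (orderOf_injective σ.toMonoidHom σ.injective (σ g)).trans
        ((orderOf_injective σ.toMonoidHom σ.injective g).trans ((Subgroup.orderOf_coe g).symm.trans hg.orderOf))
    obtain ⟨j, hj⟩ := cycleType_prime_order (σ := (σ (σ g) : Perm (Fin 6))) (by rw [ho]; exact Nat.prime_three)
    rw [ho] at hj
    have hle := (σ (σ g) : Perm (Fin 6)).support.card_le_univ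
    rw [← sum_cycleType, hj, Multiset.sum_replicate, Fintype.card_fin, smul_eq_mul] at hle
    obtain rfl : j = 1 := by
      by_contra hj1
      exact hne (by rw [IsThreeCycle, hj, show j = 0 by omega]; rfl)
    -- conjugate in the alternating group
    obtain ⟨u, hu, hus⟩ : ∃ u : Perm (Fin 6), u * (σ g : Perm (Fin 6)) * u⁻¹ = (σ (σ g) : Perm (Fin 6)) ∧
        Perm.sign u = 1 := by
      obtain ⟨u, hu⟩ := isConj_iff.1 (isConj_iff_cycleType_eq.2 (h1.trans hj.symm))
      rcases Int.units_eq_one_or (Perm.sign u) with hs | hs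
      · exact ⟨u, hu, hs⟩
      obtain ⟨d, -, -, hd, -, hd2⟩ := centralizer_alt (σ g)
      obtain ⟨df, -, -, hdf, hdf2, -⟩ := centralizer_alt g
      have hd2' : df = 2 := hdf2 (by
        obtain ⟨a, ha, b, hb, hab⟩ := Finset.one_lt_card.1
          (show 1 < (Finset.univ \ (g : Perm (Fin 6)).support : Finset (Fin 6)).card by
            rw [Finset.card_sdiff, Finset.inter_univ, hg.card_support, Finset.card_univ, Fintype.card_fin]; omega)
        simp only [Finset.mem_sdiff, Finset.mem_univ, true_and, notMem_support] at ha hb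
        exact ⟨swap a b, Subgroup.mem_centralizer_singleton_iff.2 (by rw [mul_swap_eq_swap_mul, ha, hb]),
          sign_swap hab⟩)
      have hcf := card_centralizer_eq (k := 1) (f := (g : Perm (Fin 6))) (by rw [hg.cycleType]; rfl)
      have hcg := card_centralizer_eq h1
      rw [card_centralizer_aut, hcg] at hd
      rw [hcf, hd2'] at hdf
      norm_num [Nat.factorial] at hd hdf
      obtain ⟨w, hw, hws⟩ := hd2 (by
        have h9 : Nat.card (Subgroup.centralizer ({g} : Set ↥(alternatingGroup (Fin 6)))) = 9 := by omega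
        rw [h9] at hd
        omega)
      refine ⟨u * w, ?_, by rw [map_mul, hs, hws]; decide⟩
      rw [show u * w * (σ g : Perm (Fin 6)) * (u * w)⁻¹ = u * (w * (σ g : Perm (Fin 6)) * w⁻¹) * u⁻¹ by group,
        Subgroup.mem_centralizer_singleton_iff.1 hw, mul_inv_cancel_right, hu]
    let v : ↥(alternatingGroup (Fin 6)) := σ.symm ⟨u, mem_alternatingGroup.2 hus⟩
    have e : σ (v * g * v⁻¹) = σ (σ g) := Subtype.ext (by simp [v, hu])
    have e2 := congrArg (fun y : ↥(alternatingGroup (Fin 6)) => (y : Perm (Fin 6)).cycleType) (σ.injective e)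
    simp only [Subgroup.coe_mul, Subgroup.coe_inv, cycleType_conj, hg.cycleType, h1] at e2
    exact absurd e2 (by decide)
  have hσT : ∀ g : ↥(alternatingGroup (Fin 6)), IsThreeCycle (g : Perm (Fin 6)) →
      IsThreeCycle (σ g : Perm (Fin 6)) := by
    obtain ⟨t, ht⟩ := hodd
    have hσ : σ = (σ ^ 2) ^ (t + 1) := by
      rw [← pow_mul, show 2 * (t + 1) = orderOf σ + 1 by omega, pow_succ, pow_orderOf_eq_one, one_mul]
    have hit : ∀ m : ℕ, ∀ g : ↥(alternatingGroup (Fin 6)), IsThreeCycle (g : Perm (Fin 6)) →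
        IsThreeCycle (((σ ^ 2) ^ m) g : Perm (Fin 6)) := by
      intro m
      induction m with
      | zero => intro g hg; rw [pow_zero, MulAut.one_apply]; exact hg
      | succ m ih => intro g hg; rw [pow_succ', MulAut.mul_apply]; exact hsq _ (ih g hg)
    intro g hg
    rw [hσ]
    exact hit _ g hg
  exact exists_perm (by omega) σ hσT

end Cfsg.Agent.Perm.AltAut
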