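import Cfsg.Agent.Lib.Solv.ThompsonFPF

/-!
Kegel's theorem: a group with a splitting automorphism of prime order is nilpotent.
-/

set_option autoImplicit false
set_option linter.style.haveILetI false

open scoped Pointwise commutatorElement

namespace Cfsg.Agent.Perm

open Cfsg.Agent.Solv

universe u

variable {G : Type u} [Group G]

/-- A splitting element of prime order has no faithful coprime module. -/
theorem split_trivial [Finite G] (V S : Subgroup G) [IsMulCommutative V] {x : G} {p : ℕ}
    (hp : p.Prime) (hxV : x ∈ Subgroup.normalizer (V : Set G))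
    (hxS : x ∈ Subgroup.normalizer (S : Set G)) (hSV : S ≤ Subgroup.normalizer (V : Set G))
    (hsp : ∀ v ∈ V, ∀ s ∈ S, (v * s * x) ^ p = 1)
    (hCS : V ⊓ Subgroup.centralizer (S : Set G) = ⊥) (hco : (Nat.card V).Coprime (Nat.card S)) :
    V = ⊥ := by
  classical
  rw [eq_bot_iff]
  intro v₀ hv₀
  rw [Subgroup.mem_bot]
  letI : CommGroup V :=
    { (inferInstance : Group V) with mul_comm := fun x y => IsMulCommutative.is_comm.comm x y }
  have := Fintype.ofFinite S
  set N := Subgroup.normalizer (V : Set G) with hN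
  let φ : N → (V →* V) := fun g => conjHom (g : G) g.2
  have hφ : ∀ (g : N) (v : V), ((φ g v : V) : G) = g * v * (g : G)⁻¹ := fun g v => rfl
  have hφmul : ∀ g h : N, ∀ v, φ (g * h) v = φ g (φ h v) := fun g h v => Subtype.ext (by
    rw [hφ, hφ, hφ, Subgroup.coe_mul]; group)
  have hφ1 : ∀ v, φ 1 v = v := fun v => Subtype.ext (by rw [hφ]; simp)
  let sN : S → N := fun s => ⟨s, hSV s.2⟩
  set X : N := ⟨x, hxV⟩
  set v : V := ⟨v₀, hv₀⟩
  have hg : ∀ s : S, ((sN s * X : N) : G) ^ p = 1 := fun s => by
    show ((s : G) * x) ^ p = 1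
    have := hsp 1 V.one_mem s s.2
    rwa [one_mul] at this
  have hexp : ∀ (g : N) (w : V) (n : ℕ), ((w : G) * (g : G)) ^ n =
      ((∏ i ∈ Finset.range n, φ (g ^ i) w : V) : G) * (g : G) ^ n := by
    intro g w n
    induction n with
    | zero => simp
    | succ n ih =>
      rw [pow_succ, ih, Finset.prod_range_succ, Subgroup.coe_mul, hφ, Subgroup.coe_pow, pow_succ]
      group
  have hsum : ∀ s : S, ∏ i ∈ Finset.range p, φ ((sN s * X) ^ i) v = 1 := by
    intro s
    have h1 := hexp (sN s * X) v p
    rw [hg s, mul_one] at h1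
    refine Subtype.ext ?_
    rw [← h1, Subgroup.coe_one]
    show ((v₀ : G) * ((s : G) * x)) ^ p = 1
    rw [← mul_assoc]
    exact hsp v₀ hv₀ s s.2
  have hnS : ∀ w : V, ∏ s : S, φ (sN s) w = 1 := by
    intro w
    set m := ∏ s : S, φ (sN s) w with hm
    have hmem : (m : G) ∈ V ⊓ Subgroup.centralizer (S : Set G) := by
      refine ⟨m.2, Subgroup.mem_centralizer_iff.2 fun t ht => ?_⟩
      have hfix : φ (sN ⟨t, ht⟩) m = m := by
        rw [hm, map_prod]
        refine Fintype.prod_equiv (Equiv.mulLeft (⟨t, ht⟩ : S)) _ _ fun s => ?_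
        rw [← hφmul]; rfl
      exact mul_inv_eq_iff_eq_mul.1 (congrArg Subtype.val hfix)
    rw [hCS, Subgroup.mem_bot] at hmem
    exact Subtype.ext hmem
  have hone : ∏ s : S, ∏ i ∈ Finset.range p, φ ((sN s * X) ^ i) v = 1 :=
    Finset.prod_eq_one fun s _ => hsum s
  rw [Finset.prod_comm, Finset.prod_eq_single 0 ?_ (fun h => absurd (Finset.mem_range.2 hp.pos) h)] at hone
  · have h2 : v ^ Fintype.card S = 1 := by
      rw [← hone]
      simp only [pow_zero, hφ1, Finset.prod_const, Finset.card_univ]
    rw [← Nat.card_eq_fintype_card] at h2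
    have h3 : v = 1 := by
      rw [← orderOf_eq_one_iff]
      exact Nat.eq_one_of_dvd_coprimes hco (orderOf_dvd_natCard v) (orderOf_dvd_of_pow_eq_one h2)
    exact congrArg Subtype.val h3
  intro i hi hi0
  have hir : i < p := Finset.mem_range.1 hi
  obtain ⟨m, -, hm⟩ := Nat.exists_mul_mod_eq_of_coprime 1 (Nat.coprime_of_lt_prime hi0 hir hp).symm
    hp.ne_zero
  have hmem : ∀ (n : ℕ) (s : S), ((s : G) * x) ^ n * (x ^ n)⁻¹ ∈ S := by
    intro n s
    induction n with
    | zero => simp
    | succ n ih =>
      have h : ((s : G) * x) ^ (n + 1) * (x ^ (n + 1))⁻¹ =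
          (s : G) * (x * (((s : G) * x) ^ n * (x ^ n)⁻¹) * x⁻¹) := by
        rw [pow_succ', pow_succ']; group
      rw [h]
      exact S.mul_mem s.2 ((Subgroup.mem_normalizer_iff.1 hxS _).1 ih)
  let t : S → S := fun s => ⟨((s : G) * x) ^ i * (x ^ i)⁻¹, hmem i s⟩
  have ht : Function.Bijective t := by
    refine Finite.injective_iff_bijective.1 fun a b hab => ?_
    have h1 : ((a : G) * x) ^ i = ((b : G) * x) ^ i := mul_right_cancel (congrArg Subtype.val hab)
    have h2 : ∀ s : S, (((s : G) * x) ^ i) ^ m = (s : G) * x := by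
      intro s
      have h3 : ((s : G) * x) ^ p = 1 := hg s
      rw [← pow_mul, pow_eq_pow_mod _ h3]
      conv_rhs => rw [← pow_one ((s : G) * x), pow_eq_pow_mod 1 h3]
      exact congrArg _ hm
    have h4 := congrArg (fun g => g ^ m) h1
    simp only [h2] at h4
    exact Subtype.ext (mul_right_cancel h4)
  calc ∏ s : S, φ ((sN s * X) ^ i) v = ∏ s : S, φ (sN (t s)) (φ (X ^ i) v) := by
        refine Finset.prod_congr rfl fun s _ => ?_
        rw [← hφmul]
        refine congrArg (fun g => φ g v) (Subtype.ext ?_)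
        show ((s : G) * x) ^ i = ((s : G) * x) ^ i * (x ^ i)⁻¹ * x ^ i
        group
    _ = ∏ s : S, φ (sN s) (φ (X ^ i) v) := ht.prod_comp (fun s => φ (sN s) (φ (X ^ i) v))
    _ = 1 := hnS _

theorem splitting_nilpotent_aux : ∀ (n : ℕ) {G : Type u} [Group G] [Finite G] (K : Subgroup G)
    (x : G) (p : ℕ), Nat.card K = n → p.Prime → x ∈ Subgroup.normalizer (K : Set G) →
    (∀ k ∈ K, (k * x) ^ p = 1) → Group.IsNilpotent K := by
  intro n
  induction n using Nat.strong_induction_on with
  | _ n ih =>
    intro G _ _ K x p hn hp hxK hsp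
    have := Fact.mk hp
    have hprop : ∀ L : Subgroup G, L ≤ K → L ≠ K → ∀ y : G, y ∈ Subgroup.normalizer (L : Set G) →
        y * x⁻¹ ∈ K → Group.IsNilpotent L := fun L hL hne y hy hyK =>
      ih _ (hn ▸ card_lt_of_lt (lt_of_le_of_ne hL hne)) L y p rfl hp hy fun l hl => by
        have := hsp _ (K.mul_mem (hL hl) hyK)
        rwa [mul_assoc, inv_mul_cancel_right] at this
    have hsylow : ∀ (s : ℕ) [Fact s.Prime], ∃ S : Subgroup G, ∃ y : G,
        IsSylIn s S K ∧ y ∈ Subgroup.normalizer (S : Set G) ∧ y * x⁻¹ ∈ K ∧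
          y ∈ Subgroup.normalizer (K : Set G) := by
      intro s _
      obtain ⟨S, hS⟩ := exists_isSylIn s K
      obtain ⟨k, hk, e⟩ := hS.exists_conj (hS.conj hxK)
      refine ⟨S, k⁻¹ * x, hS, mem_normalizer_of_conj_smul ?_, ?_, ?_⟩
      · rw [← conj_smul_conj, ← e, conj_smul_conj, inv_mul_cancel, conj_one_smul]
      · rw [mul_inv_cancel_right]; exact K.inv_mem hk
      · exact Subgroup.mul_mem _ (Subgroup.le_normalizer (K.inv_mem hk)) hxK
    by_cases hN : ∃ N : Subgroup G, N ≤ K ∧ K ≤ Subgroup.normalizer (N : Set G) ∧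
        x ∈ Subgroup.normalizer (N : Set G) ∧ N ≠ ⊥ ∧ N ≠ K
    · obtain ⟨N₀, hN₀⟩ := hN
      obtain ⟨N, hNN₀, hmin⟩ := Finite.exists_le_minimal (p := fun N : Subgroup G =>
        N ≤ K ∧ K ≤ Subgroup.normalizer (N : Set G) ∧ x ∈ Subgroup.normalizer (N : Set G) ∧ N ≠ ⊥)
        (a := N₀) ⟨hN₀.1, hN₀.2.1, hN₀.2.2.1, hN₀.2.2.2.1⟩
      obtain ⟨hNK, hKN, hxN, hNb⟩ := hmin.1
      have hNne : N ≠ K := fun e => hN₀.2.2.2.2 (le_antisymm hN₀.1 (e.ge.trans hNN₀))
      have hmin' : ∀ L : Subgroup G, L ≤ N → K ≤ Subgroup.normalizer (L : Set G) →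
          x ∈ Subgroup.normalizer (L : Set G) → L = ⊥ ∨ L = N := by
        intro L hL h1 h2
        by_cases hLb : L = ⊥
        · exact Or.inl hLb
        · exact Or.inr (le_antisymm hL (hmin.2 ⟨hL.trans hNK, h1, h2, hLb⟩ hL))
      have hNnil := hprop N hNK hNne x hxN (by rw [mul_inv_cancel]; exact K.one_mem)
      have : Nontrivial N := (Subgroup.nontrivial_iff_ne_bot N).2 hNb
      -- `N` is an abelian `q`-group
      have hNcomm : ⁅N, N⁆ = ⊥ := by
        have hcn : ∀ g ∈ Subgroup.normalizer (N : Set G),
            g ∈ Subgroup.normalizer ((⁅N, N⁆ : Subgroup G) : Set G) := fun g hg => mem_normalizer_of_map_conj (by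
          rw [Subgroup.map_commutator, map_conj_of_mem hg])
        refine (hmin' ⁅N, N⁆ (Subgroup.commutator_le_self N) (fun g hg => hcn g (hKN hg))
          (hcn x hxN)).resolve_right fun h => ?_
        have hlt : commutator N < ⊤ := Group.IsSolvable.commutator_lt_top_of_nontrivial N
        have h2 : (commutator N).map N.subtype = N := by
          rw [commutator_def, Subgroup.map_commutator, ← MonoidHom.range_eq_map, Subgroup.range_subtype, h]
        exact hlt.ne (Subgroup.map_injective N.subtype_injective
          (h2.trans (by rw [← MonoidHom.range_eq_map, Subgroup.range_subtype])))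
      have hNab : ∀ a ∈ N, ∀ b ∈ N, a * b = b * a := fun a ha b hb => by
        rw [← commutatorElement_eq_one_iff_mul_comm, ← Subgroup.mem_bot, ← hNcomm]
        exact Subgroup.commutator_mem_commutator ha hb
      have : IsMulCommutative N := ⟨⟨fun a b => Subtype.ext (hNab a a.2 b b.2)⟩⟩
      obtain ⟨q, hq, hqN⟩ := Nat.exists_prime_and_dvd (n := Nat.card N)
        (fun h => hNb (Subgroup.card_eq_one.1 h))
      have := Fact.mk hq
      obtain ⟨T, hT⟩ := exists_isSylIn q N
      have hTN : T = N := by
        have hTn : ∀ g ∈ Subgroup.normalizer (N : Set G), g ∈ Subgroup.normalizer (T : Set G) := by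
          intro g hg
          obtain ⟨k, hk, e⟩ := hT.exists_conj (hT.conj hg)
          refine mem_normalizer_of_conj_smul (e.symm.trans (conj_smul_of_mem_normalizer ?_))
          refine Subgroup.centralizer_le_normalizer _ (Subgroup.mem_centralizer_iff.2 fun t ht => ?_)
          exact hNab t (hT.1 ht) k hk
        refine (hmin' T hT.1 (fun g hg => hTn g (hKN hg)) (hTn x hxN)).resolve_left fun h => ?_
        have h1 := hT.2
        rw [h, Subgroup.card_bot] at h1
        rcases Nat.pow_eq_one.1 h1.symm with h' | h'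
        · exact hq.ne_one h'
        · exact (hq.factorization_pos_of_dvd Nat.card_pos.ne' hqN).ne' h'
      have hNq : IsPGroup q N := hTN ▸ hT.isPGroup
      -- the quotient is nilpotent
      set M := Subgroup.normalizer (N : Set G) with hM
      have hNn : (N.subgroupOf M).Normal := Subgroup.normal_subgroupOf_of_le_normalizer le_rfl
      set π := QuotientGroup.mk' (N.subgroupOf M)
      set K' := (K.subgroupOf M).map π with hK'
      have hK'lt : Nat.card K' < n := by
        have h := card_map_mk'_mul_card_inf (N.subgroupOf M) (K.subgroupOf M)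
        have hinf : N.subgroupOf M ⊓ K.subgroupOf M = N.subgroupOf M :=
          inf_eq_left.2 fun m hm => hNK hm
        rw [hinf, card_subgroupOf (hNK.trans hKN), card_subgroupOf hKN, hn] at h
        rw [← h]
        exact lt_mul_of_one_lt_right Nat.card_pos ((Subgroup.one_lt_card_iff_ne_bot N).2 hNb)
      have hK'nil : Group.IsNilpotent K' := by
        refine ih _ hK'lt K' (π ⟨x, hxN⟩) p rfl hp ?_ ?_
        · refine Subgroup.le_normalizer_map π ⟨⟨x, hxN⟩, ?_, rfl⟩
          exact Subgroup.mem_normalizer_iff.2 fun m => Subgroup.mem_normalizer_iff.1 hxK (m : G)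
        · rintro _ ⟨k, hk, rfl⟩
          rw [← map_mul, ← map_pow]
          exact (congrArg π (Subtype.ext (hsp k hk) : (k * ⟨x, hxN⟩ : M) ^ p = 1)).trans (map_one π)
      let f : K →* K' := (π.comp (Subgroup.inclusion hKN)).codRestrict K'
        (fun k => ⟨Subgroup.inclusion hKN k, k.2, rfl⟩)
      have hf : Function.Surjective f := by
        rintro ⟨_, m, hm, rfl⟩
        exact ⟨⟨m, hm⟩, rfl⟩
      have hker : f.ker = N.subgroupOf K := by
        ext k
        show f k = 1 ↔ _
        rw [Subtype.ext_iff]
        exact (QuotientGroup.eq_one_iff (Subgroup.inclusion hKN k))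
      -- every Sylow subgroup is normal
      refine Cfsg.Agent.Perm.nilpotent_of_sylow_normal fun s hsF P => ?_
      have hs : s.Prime := hsF.out
      obtain ⟨S, y, hS, hyS, hyK, hyKn⟩ := hsylow s
      suffices hKS : K ≤ Subgroup.normalizer (S : Set G) by
        obtain ⟨S', hS'⟩ := hS.exists_sylow
        have hS'n : (S' : Subgroup K).Normal := by
          have h := Subgroup.normal_subgroupOf_of_le_normalizer hKS
          rwa [← hS', Subgroup.subgroupOf, Subgroup.comap_map_eq_self_of_injective K.subtype_injective] at h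
        have := Sylow.unique_of_normal S' hS'n
        rw [Subsingleton.elim P S']
        exact hS'n
      set L := N ⊔ S with hL
      have hLK : L ≤ K := sup_le hNK hS.1
      have hKL : K ≤ Subgroup.normalizer (L : Set G) := by
        obtain ⟨S', hS'⟩ := hS.exists_sylow
        have h1 : ((S'.mapSurjective hf : Sylow s K') : Subgroup K').Normal :=
          Cfsg.Agent.Perm.sylow_normal_of_nilpotent hK'nil _
        rw [Sylow.coe_mapSurjective] at h1
        have h2 := h1.comap f
        rw [Subgroup.comap_map_eq, hker] at h2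
        intro k hk
        refine mem_normalizer_of_conj_smul (Subgroup.eq_of_le_of_card_ge ?_ (by rw [card_conj_smul]))
        have hmap : ((S' : Subgroup K) ⊔ N.subgroupOf K).map K.subtype = L := by
          rw [Subgroup.map_sup, hS', Subgroup.map_subgroupOf_eq_of_le hNK, hL, sup_comm]
        rw [conj_smul_eq_map, ← hmap]
        rintro _ ⟨_, ⟨u, hu, rfl⟩, rfl⟩
        exact ⟨⟨k, hk⟩ * u * ⟨k, hk⟩⁻¹, h2.conj_mem u hu _, rfl⟩
      by_cases hNS : N ≤ S
      · rwa [hL, sup_eq_right.2 hNS] at hKL
      have hyN : y ∈ Subgroup.normalizer (N : Set G) := by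
        have h := Subgroup.mul_mem _ (hKN hyK) hxN
        rwa [inv_mul_cancel_right] at h
      have hyL : y ∈ Subgroup.normalizer (L : Set G) := mem_normalizer_of_map_conj (by
        rw [hL, Subgroup.map_sup, map_conj_of_mem hyN, map_conj_of_mem hyS])
      have hSL : IsSylIn s S L := by
        refine ⟨le_sup_right, ?_⟩
        have := Fact.mk hs
        refine le_antisymm ?_ ?_
        · rw [hS.2]
          refine Nat.pow_le_pow_right hs.pos ((hs.pow_dvd_iff_le_factorization Nat.card_pos.ne').1 ?_)
          rw [← hS.2]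
          exact Subgroup.card_dvd_of_le le_sup_right
        · rw [hS.2]
          exact Nat.pow_le_pow_right hs.pos
            ((Nat.factorization_le_iff_dvd Nat.card_pos.ne' Nat.card_pos.ne').2 (Subgroup.card_dvd_of_le hLK) s)
      have hLS : L ≠ K → L ≤ Subgroup.normalizer (S : Set G) := by
        intro hne
        obtain ⟨S', hS'⟩ := hSL.exists_sylow
        have hn' := Cfsg.Agent.Perm.sylow_normal_of_nilpotent (hprop L hLK hne y hyL hyK) S'
        intro l hl
        refine mem_normalizer_of_conj_smul (Subgroup.eq_of_le_of_card_ge ?_ (by rw [card_conj_smul]))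
        rw [conj_smul_eq_map, ← hS']
        rintro _ ⟨_, ⟨u, hu, rfl⟩, rfl⟩
        exact ⟨⟨l, hl⟩ * u * ⟨l, hl⟩⁻¹, hn'.conj_mem u hu _, rfl⟩
      by_cases hLeq : L = K
      · -- `K = N S`
        have hSN : S ≤ Subgroup.normalizer (N : Set G) := hS.1.trans hKN
        set V := N ⊓ Subgroup.centralizer (S : Set G) with hV
        have hyC : y ∈ Subgroup.normalizer ((Subgroup.centralizer (S : Set G) : Subgroup G) : Set G) := by
          refine mem_normalizer_of_conj_smul (Subgroup.eq_of_le_of_card_ge ?_ (by rw [card_conj_smul]))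
          rw [conj_smul_eq_map]
          rintro _ ⟨c, hc, rfl⟩
          refine Subgroup.mem_centralizer_iff.2 fun u hu => ?_
          have hu' : y⁻¹ * u * y ∈ S := by
            rw [Subgroup.mem_normalizer_iff.1 hyS, show y * (y⁻¹ * u * y) * y⁻¹ = u by group]
            exact hu
          show u * (y * c * y⁻¹) = y * c * y⁻¹ * u
          calc u * (y * c * y⁻¹) = y * ((y⁻¹ * u * y) * c) * y⁻¹ := by group
            _ = y * (c * (y⁻¹ * u * y)) * y⁻¹ := by rw [Subgroup.mem_centralizer_iff.1 hc _ hu']
            _ = _ := by group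
        have hyVn : y ∈ Subgroup.normalizer (V : Set G) := mem_normalizer_of_conj_smul (by
          rw [hV, Subgroup.smul_inf, conj_smul_of_mem_normalizer hyN, conj_smul_of_mem_normalizer hyC])
        have hKV : K ≤ Subgroup.normalizer (V : Set G) := by
          rw [← hLeq, hL]
          refine sup_le (fun t ht => Subgroup.centralizer_le_normalizer _
            (Subgroup.mem_centralizer_iff.2 fun v hv => hNab v hv.1 t ht)) fun t ht => ?_
          refine mem_normalizer_of_conj_smul (Subgroup.eq_of_le_of_card_ge ?_ (by rw [card_conj_smul]))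
          rw [conj_smul_eq_map]
          rintro _ ⟨v, hv, rfl⟩
          show t * v * t⁻¹ ∈ V
          rwa [Subgroup.mem_centralizer_iff.1 hv.2 t ht, mul_inv_cancel_right]
        have hxVn : x ∈ Subgroup.normalizer (V : Set G) := by
          have h := Subgroup.mul_mem _ (hKV (K.inv_mem hyK)) hyVn
          rwa [mul_inv_rev, inv_inv, inv_mul_cancel_right] at h
        rcases hmin' V inf_le_left hKV hxVn with hV0 | hV0
        · exfalso
          refine hNb (split_trivial N S hp hyN hyS hSN (fun v hv t ht => ?_) hV0 ?_)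
          · have h := hsp _ (K.mul_mem (K.mul_mem (hNK hv) (hS.1 ht)) hyK)
            rwa [mul_assoc (v * t), inv_mul_cancel_right] at h
          obtain ⟨k, hk⟩ := IsPGroup.iff_card.1 hNq
          have := Fact.mk hs
          obtain ⟨j, hj⟩ := IsPGroup.iff_card.1 hS.isPGroup
          rw [hk, hj]
          refine Nat.Coprime.pow _ _ ((Nat.coprime_primes hq hs).2 ?_)
          rintro rfl
          refine hNS ?_
          have hsup : IsPGroup q (S ⊔ N : Subgroup G) := hS.isPGroup.to_sup_of_normal_right' hNq hSN
          exact (le_sup_right : N ≤ S ⊔ N).trans (hS.eq_of_le hsup (sup_le hS.1 hNK) le_sup_left).ge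
        · rw [← hLeq, hL]
          refine sup_le (fun t ht => Subgroup.centralizer_le_normalizer _ ?_) Subgroup.le_normalizer
          have h1 : N ≤ Subgroup.centralizer (S : Set G) := hV0 ▸ inf_le_right
          exact h1 ht
      · intro k hk
        have hkL := hKL hk
        have := Fact.mk hs
        obtain ⟨l, hl, e⟩ := hSL.exists_conj (hSL.conj hkL)
        exact mem_normalizer_of_conj_smul
          (e.symm.trans (conj_smul_of_mem_normalizer (hLS hLeq hl)))
    -- no proper invariant normal subgroup
    by_cases hodd : ∃ q, q.Prime ∧ q ≠ 2 ∧ q ∣ Nat.card K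
    swap
    · have := Fact.mk Nat.prime_two
      refine IsPGroup.isNilpotent (p := 2) (IsPGroup.of_card (n := (Nat.card K).primeFactorsList.length) ?_)
      exact Nat.eq_prime_pow_of_unique_prime_dvd Nat.card_pos.ne'
        (fun {d} hd hdK => by_contra fun h => hodd ⟨d, hd, h, hdK⟩)
    obtain ⟨q, hq, hq2, hqK⟩ := hodd
    have := Fact.mk hq
    obtain ⟨Q, y, hQ, hyQ, hyK, hyKn⟩ := hsylow q
    have hxy : ∀ L : Subgroup G, K ≤ Subgroup.normalizer (L : Set G) →
        y ∈ Subgroup.normalizer (L : Set G) → x ∈ Subgroup.normalizer (L : Set G) := fun L hL hy => by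
      have h := Subgroup.mul_mem _ (hL (K.inv_mem hyK)) hy
      rwa [mul_inv_rev, inv_inv, inv_mul_cancel_right] at h
    obtain ⟨P, hP⟩ := hQ.exists_sylow
    have hW := Fusion.isCharPFunctor_kInfLower.{u} q
    set W := inducedFunctor (G := K) kInfLower (P : Subgroup K) with hWdef
    have hWG : inducedFunctor (G := G) kInfLower Q = W.map K.subtype := by
      rw [← hP, Fusion.inducedFunctor_map_of_injOn hW K.subtype K.subtype_injective.injOn P.isPGroup']
    have hyW : y ∈ Subgroup.normalizer ((W.map K.subtype : Subgroup G) : Set G) := by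
      refine mem_normalizer_of_map_conj ?_
      rw [← hWG, ← Fusion.inducedFunctor_map_of_injOn hW (MulAut.conj y).toMonoidHom
        (MulAut.conj y).injective.injOn hQ.isPGroup, map_conj_of_mem hyQ]
    have hPne : Nontrivial (P : Subgroup K) := by
      apply Finite.one_lt_card_iff_nontrivial.1
      rw [P.card_eq_multiplicity]
      exact Nat.one_lt_pow (hq.factorization_pos_of_dvd Nat.card_pos.ne' hqK).ne' hq.one_lt
    have hWne : W ≠ ⊥ := by
      intro h
      rw [hWdef, inducedFunctor, Subgroup.map_eq_bot_iff_of_injective _ (Subgroup.subtype_injective _)] at h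
      exact hW.1 (P : Subgroup K) P.isPGroup' hPne h
    have hWP : W ≤ P := Subgroup.map_subtype_le _
    set Mk := (Subgroup.normalizer (W : Set K)).map K.subtype with hMk
    have hMkK : Mk ≤ K := Subgroup.map_subtype_le _
    by_cases hMe : Mk = K
    · have hKW : K ≤ Subgroup.normalizer ((W.map K.subtype : Subgroup G) : Set G) := fun k hk => by
        obtain ⟨k', hk', rfl⟩ := hMe.ge hk
        exact Subgroup.le_normalizer_map K.subtype ⟨k', hk', rfl⟩
      have hWeq : W.map K.subtype = K := by
        by_contra hne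
        exact hN ⟨_, Subgroup.map_subtype_le W, hKW, hxy _ hKW hyW,
          fun h => hWne ((Subgroup.map_eq_bot_iff_of_injective W K.subtype_injective).1 h), hne⟩
      have hKp : IsPGroup q K := (hQ.isPGroup).to_le (by
        rw [← hWeq, ← hP]; exact Subgroup.map_mono hWP)
      exact IsPGroup.isNilpotent (p := q) hKp
    have hyMk : y ∈ Subgroup.normalizer (Mk : Set G) := by
      have hMeq : Mk = K ⊓ Subgroup.normalizer ((W.map K.subtype : Subgroup G) : Set G) := by
        have h := Fusion.map_normalizer_inf K.subtype K.subtype_injective W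
        rwa [top_inf_eq, Subgroup.range_subtype] at h
      rw [hMeq]
      refine mem_normalizer_of_conj_smul ?_
      rw [Subgroup.smul_inf, conj_smul_of_mem_normalizer hyKn,
        conj_smul_of_mem_normalizer (Subgroup.le_normalizer hyW)]
    have hnil : Group.IsNilpotent (Subgroup.normalizer (W : Set K)) := by
      have := hprop Mk hMkK hMe y hyMk hyK
      exact Group.nilpotent_of_mulEquiv
        (Subgroup.equivMapOfInjective _ K.subtype K.subtype_injective).symm
    have hnpc : HasNormalPComplement q K := S1988.result hq2 P (Or.inl Fusion.hnpc_of_isNilpotent)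
    obtain ⟨C, hCn, hC⟩ := Fusion.hnpc_exists_complement hnpc P
    have hCchar : C = pResidual q K := Fusion.eq_pResidual_of_isComplement' hC
    set R := C.map K.subtype with hR
    have hinv : ∀ g ∈ Subgroup.normalizer (K : Set G), g ∈ Subgroup.normalizer (R : Set G) := by
      intro g hg
      refine mem_normalizer_of_conj_smul (Subgroup.eq_of_le_of_card_ge ?_ (by rw [card_conj_smul]))
      rw [conj_smul_eq_map, hR, hCchar, Subgroup.map_map, pResidual, MonoidHom.map_closure,
        MonoidHom.map_closure]
      refine Subgroup.closure_mono ?_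
      rintro _ ⟨k, hk, rfl⟩
      refine ⟨⟨g * k * g⁻¹, (Subgroup.mem_normalizer_iff.1 hg _).1 k.2⟩, ?_, rfl⟩
      show (orderOf _).Coprime q
      rw [Subgroup.orderOf_mk, ← MulAut.conj_apply, MulEquiv.orderOf_eq, Subgroup.orderOf_coe]
      exact hk
    have hRK : R ≤ K := Subgroup.map_subtype_le C
    by_cases hR0 : R = ⊥
    · rw [hR, Subgroup.map_eq_bot_iff_of_injective _ K.subtype_injective] at hR0
      have hPt : (P : Subgroup K) = ⊤ := by
        have h := hC.sup_eq_top
        rwa [hR0, bot_sup_eq] at h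
      have hKp : IsPGroup q K := IsPGroup.of_card (n := (Nat.card K).factorization q) (by
        rw [← P.card_eq_multiplicity, hPt, Subgroup.card_top])
      exact IsPGroup.isNilpotent (p := q) hKp
    exfalso
    refine hN ⟨R, hRK, fun k hk => hinv k (Subgroup.le_normalizer hk), hinv x hxK, hR0, fun h => ?_⟩
    have h1 : Nat.card C = Nat.card K := by rw [← card_map_subtype C, ← hR, h]
    have h2 := Fusion.coprime_card_of_isComplement' hC
    rw [h1] at h2
    exact hq.ne_one (Nat.eq_one_of_dvd_coprimes h2 hqK dvd_rfl)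

/-- Kegel: a group with a splitting automorphism of prime order is nilpotent. -/
theorem splitting_nilpotent [Finite G] (K : Subgroup G) (x : G) {p : ℕ} (hp : p.Prime)
    (hxK : x ∈ Subgroup.normalizer (K : Set G)) (hsp : ∀ k ∈ K, (k * x) ^ p = 1) :
    Group.IsNilpotent K := splitting_nilpotent_aux _ K x p rfl hp hxK hsp

end Cfsg.Agent.Perm
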