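import Cfsg.Prelude.Def_RootSubgroups
import Cfsg.Agent.Lib.Char.Burnside
import Cfsg.Agent.Lib.Char.PrincipalBlock
import Cfsg.Agent.Lib.Lie.SupSolvable
import Cfsg.Agent.Lib.Solv.Cores

/-!
# Kazarin's theorem: an element with a class of prime power size lies in the solvable radical
-/

set_option autoImplicit false
set_option linter.style.haveILetI false

namespace Cfsg.Agent.Perm.Kazarin

open Cfsg Module
open scoped ComplexConjugate commutatorElement

universe u

section Radical

variable {G : Type u} [Group G]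

theorem le_rad {N : Subgroup G} (hN : N.Normal) (hs : Group.IsSolvable N) :
    N ≤ solvableRadical G := le_sSup ⟨hN, hs⟩

theorem rad_normal : (solvableRadical G).Normal := Subgroup.sSup_normal _ fun _ h => h.1

theorem rad_solvable [Finite G] : Group.IsSolvable (solvableRadical G) := by
  obtain ⟨M, -, hM⟩ := Finite.exists_le_maximal
    (p := fun N : Subgroup G => N.Normal ∧ Group.IsSolvable N) (a := ⊥)
    ⟨inferInstance, inferInstance⟩
  suffices h : solvableRadical G = M by rw [h]; exact hM.1.2
  refine le_antisymm (sSup_le ?_) (le_rad hM.1.1 hM.1.2)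
  rintro N ⟨hN, hNs⟩
  have := hM.1.1
  have h2 : M ⊔ N ≤ M := hM.2 ⟨inferInstance, Lie.isSolvable_sup_of_le_normalizer hM.1.2 hNs
    (le_top.trans_eq (Subgroup.normalizer_eq_top_iff.2 hM.1.1).symm)⟩ le_sup_left
  exact le_sup_right.trans h2

instance rad_characteristic [Finite G] : (solvableRadical G).Characteristic := by
  refine Subgroup.characteristic_iff_map_le.2 fun e => le_rad (rad_normal.map _ e.surjective) ?_
  haveI := rad_solvable (G := G)
  exact Group.isSolvable_of_surjective (f := e.toMonoidHom.subgroupMap _)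
    (e.toMonoidHom.subgroupMap_surjective _)

theorem map_rad_le [Finite G] (M : Subgroup G) [M.Normal] :
    (solvableRadical M).map M.subtype ≤ solvableRadical G := by
  haveI := rad_solvable (G := M)
  refine le_rad inferInstance ?_
  exact Group.isSolvable_of_surjective (f := M.subtype.subgroupMap _)
    (M.subtype.subgroupMap_surjective _)

end Radical

section Basic

variable {G : Type u} [Group G] [Finite G]

/-- The class size in a normal subgroup divides the class size. -/
theorem relIndex_centralizer_dvd (M : Subgroup G) [M.Normal] (x : G) :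
    (Subgroup.centralizer ({x} : Set G)).relIndex M ∣ (Subgroup.centralizer ({x} : Set G)).index := by
  set C := Subgroup.centralizer ({x} : Set G)
  refine (dvd_of_eq ?_).trans (Subgroup.relIndex_dvd_index_of_le (le_sup_left : C ≤ C ⊔ M))
  have h := Solv.card_sup_mul_card_inf M C
  have h1 : Nat.card C * C.relIndex (C ⊔ M) = Nat.card ↥(C ⊔ M) := by
    rw [← Subgroup.relIndex_bot_left, ← Subgroup.relIndex_bot_left]
    exact Subgroup.relIndex_mul_relIndex _ _ _ bot_le le_sup_left
  have h2 : Nat.card ↥(C ⊓ M) * C.relIndex M = Nat.card M := by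
    rw [← Subgroup.inf_relIndex_right, ← Subgroup.relIndex_bot_left, ← Subgroup.relIndex_bot_left]
    exact Subgroup.relIndex_mul_relIndex _ _ _ bot_le inf_le_right
  rw [sup_comm M C, inf_comm M C] at h
  have hne : Nat.card C * Nat.card ↥(C ⊓ M) ≠ 0 :=
    Nat.mul_ne_zero Nat.card_pos.ne' Nat.card_pos.ne'
  refine Nat.eq_of_mul_eq_mul_left (Nat.pos_of_ne_zero hne) ?_
  calc Nat.card C * Nat.card ↥(C ⊓ M) * C.relIndex M
      = Nat.card C * (Nat.card ↥(C ⊓ M) * C.relIndex M) := mul_assoc _ _ _
    _ = Nat.card ↥(C ⊔ M) * Nat.card ↥(C ⊓ M) := by rw [h2, h]; ring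
    _ = _ := by rw [← h1]; ring

/-- An element of `p`-power class size normalising a Sylow `p`-subgroup is in the solvable radical. -/
theorem mem_rad_of_normalizes {p : ℕ} [hp : Fact p.Prime] {a : ℕ} {x : G}
    (hx : (Subgroup.centralizer ({x} : Set G)).index = p ^ a) (P : Sylow p G)
    (hn : x ∈ Subgroup.normalizer ((P : Subgroup G) : Set G)) : x ∈ solvableRadical G := by
  classical
  set C := Subgroup.centralizer ({x} : Set G) with hC
  set Q : Subgroup G := (P : Subgroup G) with hQ
  let f : Q ⧸ C.subgroupOf Q → G ⧸ C := Quotient.map' (fun g => (g : G)) (fun g g' h => by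
    rw [QuotientGroup.leftRel_apply] at h ⊢
    exact h)
  have hf : Function.Injective f := by
    intro u v h
    induction u using Quotient.inductionOn' with | h u =>
    induction v using Quotient.inductionOn' with | h v =>
    have h' : (QuotientGroup.mk (u : G) : G ⧸ C) = QuotientGroup.mk (v : G) := h
    exact QuotientGroup.eq.2 (QuotientGroup.eq.1 h' :)
  obtain ⟨i, hi⟩ := ((P.isPGroup').to_le (inf_le_left : Q ⊓ C ≤ Q)).exists_card_eq
  obtain ⟨v, hv⟩ := P.isPGroup'.exists_card_eq
  rw [← hQ] at hv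
  have hvG : v = (Nat.card G).factorization p := by
    have := P.card_eq_multiplicity
    rw [← hQ, hv] at this
    exact Nat.pow_right_injective hp.out.two_le this
  have hia : i + a ≤ v := by
    have h1 : p ^ i * p ^ a ∣ Nat.card G := by
      rw [← C.card_mul_index, hx, ← hi]
      exact mul_dvd_mul_right (Subgroup.card_dvd_of_le inf_le_right) _
    rw [← pow_add, hp.out.pow_dvd_iff_le_factorization Nat.card_pos.ne'] at h1
    omega
  have hQC : Nat.card ↥(Q ⊓ C) * C.relIndex Q = Nat.card Q := by
    rw [inf_comm, ← Subgroup.inf_relIndex_right, ← Subgroup.relIndex_bot_left,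
      ← Subgroup.relIndex_bot_left]
    exact Subgroup.relIndex_mul_relIndex _ _ _ bot_le inf_le_right
  have hge : p ^ a ≤ C.relIndex Q := by
    rw [hi, hv] at hQC
    refine Nat.le_of_mul_le_mul_left ?_ (pow_pos hp.out.pos i)
    rw [hQC, ← pow_add]
    exact Nat.pow_le_pow_right hp.out.pos hia
  have hcard : Nat.card (Q ⧸ C.subgroupOf Q) = Nat.card (G ⧸ C) := by
    refine le_antisymm (Nat.card_le_card_of_injective f hf) ?_
    rw [← Subgroup.index_eq_card, ← Subgroup.index_eq_card, hx]
    exact hge
  have hbij := (Nat.bijective_iff_injective_and_card f).2 ⟨hf, hcard⟩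
  haveI : Group.IsSolvable Q := by
    haveI : Group.IsNilpotent Q := P.isPGroup'.isNilpotent
    infer_instance
  have hle : Subgroup.zpowers x ≤ Subgroup.normalizer (Q : Set G) := Subgroup.zpowers_le.2 hn
  have hS : Group.IsSolvable ↥(Q ⊔ Subgroup.zpowers x) :=
    Lie.isSolvable_sup_of_le_normalizer inferInstance
      (Group.isSolvable_of_comm fun a b => by
        obtain ⟨_, i, rfl⟩ := a
        obtain ⟨_, j, rfl⟩ := b
        exact Subtype.ext ((Commute.refl x).zpow_zpow i j).eq) hle
  have hconj : Subgroup.normalClosure ({x} : Set G) ≤ Q ⊔ Subgroup.zpowers x := by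
    refine (Subgroup.closure_le _).2 fun y hy => ?_
    obtain ⟨z, hz, hzy⟩ := Group.mem_conjugatesOfSet_iff.1 hy
    rw [Set.mem_singleton_iff] at hz
    subst hz
    obtain ⟨g, rfl⟩ := isConj_iff.1 hzy
    obtain ⟨u, hu⟩ := hbij.2 (QuotientGroup.mk g)
    induction u using Quotient.inductionOn' with | h u =>
    have hu' : (QuotientGroup.mk (u : G) : G ⧸ C) = QuotientGroup.mk g := hu
    rw [QuotientGroup.eq] at hu'
    have hc := Subgroup.mem_centralizer_singleton_iff.1 hu'
    have he : g * z * g⁻¹ = (u : G) * z * (u : G)⁻¹ := by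
      calc g * z * g⁻¹ = (u : G) * (((u : G)⁻¹ * g) * z) * g⁻¹ := by group
        _ = (u : G) * (z * ((u : G)⁻¹ * g)) * g⁻¹ := by rw [hc]
        _ = _ := by group
    rw [SetLike.mem_coe, he]
    have hu2 : (u : G) ∈ Q ⊔ Subgroup.zpowers z := Subgroup.mem_sup_left u.2
    exact mul_mem (mul_mem hu2 (Subgroup.mem_sup_right (Subgroup.mem_zpowers z))) (inv_mem hu2)
  have hNs : Group.IsSolvable ↥(Subgroup.normalClosure ({x} : Set G)) :=
    Group.isSolvable_of_isSolvable_injective (f := Subgroup.inclusion hconj) (Subgroup.inclusion_injective hconj)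
  exact le_rad Subgroup.normalClosure_normal hNs (Subgroup.subset_normalClosure rfl)

end Basic

section Main

open Cfsg.Agent.Char

variable {G : Type u} [Group G] [Finite G]

theorem memLI_sub_one_of_pow {q : ℕ} {M : Ideal AlgInt} (hM : IsPModular q M) {z : ℂ}
    (hz : IsIntegral ℤ z) (n : ℕ) (h : z ^ q ^ n = 1) : MemLocalIdeal M (z - 1) := by
  let y : AlgInt := ⟨z - 1, hz.sub isIntegral_one⟩
  have hy : (y + 1) ^ q ^ n = 1 := by
    refine Subtype.ext ?_
    push_cast
    rw [show (y : ℂ) = z - 1 from rfl, sub_add_cancel, h]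
  obtain ⟨r, hr⟩ := exists_add_pow_prime_pow_eq hM.1 y 1 n
  rw [hy, one_pow, mul_one] at hr
  have hmem : y ^ q ^ n ∈ M := by
    have e : y ^ q ^ n = -((q : AlgInt) * y * r) := by linear_combination -hr
    rw [e]
    exact M.neg_mem (M.mul_mem_right _ (M.mul_mem_right _ hM.2.2))
  exact (memLI_coe_iff (pmod_prime hM) y).2 ((pmod_prime hM).mem_of_pow_mem _ hmem)

/-- The scalar elements of a representation. -/
def scalars {V : Type*} [AddCommGroup V] [Module ℂ V] (ρ : Representation ℂ G V) : Subgroup G where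
  carrier := {x | ∀ y, Commute (ρ x) (ρ y)}
  one_mem' := fun y => by rw [map_one]; exact Commute.one_left _
  mul_mem' := fun {a b} ha hb y => by rw [map_mul]; exact (ha y).mul_left (hb y)
  inv_mem' := fun {a} ha y => by
    have hu : Commute (ρ a) (ρ y) := ha y
    have e1 : ρ a⁻¹ * ρ a = 1 := by rw [← map_mul, inv_mul_cancel, map_one]
    have e2 : ρ a * ρ a⁻¹ = 1 := by rw [← map_mul, mul_inv_cancel, map_one]
    calc ρ a⁻¹ * ρ y = ρ a⁻¹ * (ρ y * ρ a) * ρ a⁻¹ := by
          rw [mul_assoc, mul_assoc, e2, mul_one]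
      _ = ρ y * ρ a⁻¹ := by rw [← hu.eq, ← mul_assoc, e1, one_mul]

theorem scalars_normal {V : Type*} [AddCommGroup V] [Module ℂ V] (ρ : Representation ℂ G V) :
    (scalars ρ).Normal := ⟨fun a ha b y => by
  have h1 : Commute (ρ a) (ρ b⁻¹) := ha b⁻¹
  have e : ρ (b * a * b⁻¹) = ρ a := by
    rw [map_mul, map_mul, mul_assoc, h1.eq, ← mul_assoc, ← map_mul, mul_inv_cancel, map_one,
      one_mul]
  rw [e]; exact ha y⟩

theorem finrank_eq_one_of_scalars_top {V : Type*} [AddCommGroup V] [Module ℂ V]
    [FiniteDimensional ℂ V] {ρ : Representation ℂ G V} (hρ : ρ.IsIrreducible)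
    (h : scalars ρ = ⊤) : finrank ℂ V = 1 := by
  have := Fintype.ofFinite G
  haveI := hρ
  have hs : ∀ g, ∃ ω : ℂ, ρ g = ω • (LinearMap.id : V →ₗ[ℂ] V) := by
    intro g
    have hg : g ∈ scalars ρ := h ▸ Subgroup.mem_top g
    have hcomm : ∀ k v, ρ g (ρ k v) = ρ k (ρ g v) := fun k v => LinearMap.congr_fun (hg k).eq v
    let Ti : ρ.IntertwiningMap ρ :=
      (ρ g).intertwiningMap_of_isIntertwiningMap ρ ρ hcomm
    obtain ⟨c, hc⟩ :=
      (Representation.IsIrreducible.algebraMap_intertwiningMap_bijective_of_isAlgClosed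
        (ρ := ρ) (k := ℂ)).2 Ti
    refine ⟨c, ?_⟩
    ext v
    have := congrArg (fun F : ρ.IntertwiningMap ρ => F v) hc
    rw [show ρ g v = Ti v from rfl, ← this]
    rfl
  have h0 := irr_self (isIrrCharacter_character ρ hρ)
  have hn : ∀ g, ρ.character g * conj (ρ.character g) = ((finrank ℂ V : ℂ) * finrank ℂ V) := by
    intro g
    rw [Complex.mul_conj, Complex.normSq_eq_norm_sq, (eq_scalar_iff ρ g).2 (hs g)]
    push_cast; ring
  simp only [classInner, hn, Finset.sum_const, Finset.card_univ, nsmul_eq_mul,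
    ← Nat.card_eq_fintype_card] at h0
  rw [← mul_assoc, inv_mul_cancel₀ (Nat.cast_ne_zero.mpr (Nat.card_pos (α := G)).ne'), one_mul] at h0
  have : finrank ℂ V * finrank ℂ V = 1 := by exact_mod_cast h0
  exact Nat.eq_one_of_mul_eq_one_left this

/-- A non-linear character of the principal `q`-block has degree divisible by `p`. -/
theorem dvd_deg_of_principal {q p : ℕ} (hp : p.Prime) (hqp : q ≠ p) {M : Ideal AlgInt}
    (hM : IsPModular q M) {x : G} {a : ℕ}
    (hx : (Subgroup.centralizer ({x} : Set G)).index = p ^ a)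
    (hno : ∀ N : Subgroup G, N.Normal → x ∈ N → N = ⊤)
    (χ : IrrCharacter G) (hB : χ ∈ principalBlock M G) (h1 : (χ : G → ℂ) 1 ≠ 1) :
    p ∣ deg (χ : G → ℂ) := by
  by_contra hpd
  obtain ⟨_, n, ρ, hρ, rfl⟩ := χ
  change ρ.character 1 ≠ 1 at h1
  change ¬ p ∣ deg ρ.character at hpd
  rw [deg_character] at hpd
  have hn1 : finrank ℂ (Fin n → ℂ) ≠ 1 := fun h => h1 (by rw [Representation.char_one, h, Nat.cast_one])
  rcases vanish_or_full ρ hρ x
      (by rw [hx]; exact ((hp.coprime_iff_not_dvd.mpr hpd).symm).pow_right a) with h | h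
  · have hh := hB x
    rw [centralChar, centralChar] at hh
    change MemLocalIdeal M (_ - (_ : ℂ) * ρ.character x / _) at hh
    rw [h, mul_zero, zero_div, sub_zero, mul_one, div_one, hx, memLI_natCast_iff hM] at hh
    exact hqp ((Nat.prime_dvd_prime_iff_eq hM.1 hp).1 (hM.1.dvd_of_dvd_pow hh))
  · refine hn1 (finrank_eq_one_of_scalars_top hρ (hno _ (scalars_normal ρ) fun y => ?_))
    obtain ⟨ω, hω⟩ := (eq_scalar_iff ρ x).mp h
    rw [hω, ← Module.End.one_eq_id]
    exact (Commute.one_left _).smul_left ω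

/-- The commutator subgroup has order prime to `q` for a minimal configuration. -/
theorem not_dvd_card_commutator {q p : ℕ} (hq : q.Prime) (hp : p.Prime) (hqp : q ≠ p) {x : G}
    {k a : ℕ} (hxo : orderOf x = q ^ k)
    (hx : (Subgroup.centralizer ({x} : Set G)).index = p ^ a)
    (hno : ∀ N : Subgroup G, N.Normal → x ∈ N → N = ⊤) : ¬ q ∣ Nat.card (commutator G) := by
  classical
  intro hqd
  have := Fintype.ofFinite G
  haveI := Fact.mk hq
  obtain ⟨b, hb⟩ : ∃ b, (commutator G).index = q ^ b := by
    have htop : commutator G ⊔ Subgroup.zpowers x = ⊤ := by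
      refine hno _ ?_ (Subgroup.mem_sup_right (Subgroup.mem_zpowers x))
      exact Subgroup.Normal.of_commutator_le (G := G) le_sup_left
    have hd : (commutator G).index ∣ q ^ k := by
      rw [← hxo, ← Nat.card_zpowers x, ← Subgroup.relIndex_top_right, ← htop, sup_comm,
        Subgroup.relIndex_sup_right]
      exact Subgroup.relIndex_dvd_card _ _
    obtain ⟨b, -, hb⟩ := (Nat.dvd_prime_pow hq).1 hd
    exact ⟨b, hb⟩
  obtain ⟨M, hM⟩ := exists_pModular hq
  obtain ⟨⟨g, hg⟩, hgo⟩ := exists_prime_orderOf_dvd_card' q hqd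
  rw [Subgroup.orderOf_mk] at hgo
  have hlin : ∀ χ : IrrCharacter G, (χ : G → ℂ) 1 = 1 →
      χ ∈ principalBlock M G ∧ (χ : G → ℂ) g = 1 := by
    intro χ h1
    obtain ⟨l, hl⟩ := exists_hom_of_degree_one (irr_isCharacter χ.2) h1
    have hker : ∀ y ∈ commutator G, (l y : ℂ) = 1 := fun y hy => by
      rw [MonoidHom.mem_ker.1 (Abelianization.commutator_subset_ker l hy), Units.val_one]
    refine ⟨fun y => ?_, by rw [hl]; exact hker g hg⟩
    have hy : (l y : ℂ) ^ q ^ b = 1 := by
      rw [← Units.val_pow_eq_pow_val, ← map_pow]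
      exact hker _ (hb ▸ Subgroup.pow_index_mem (commutator G) y)
    have h := memLI_sub_one_of_pow hM
      ((IsIntegral.of_pow (pow_pos hq.pos b) (by rw [hy]; exact isIntegral_one))) b hy
    have h' := memLI_mul_left (pmod_prime hM)
      (memLR_natCast (pmod_prime hM) (Subgroup.centralizer ({y} : Set G)).index) h
    simp only [centralChar, hl, map_one, Units.val_one, mul_one, div_one]
    convert memLI_neg (pmod_prime hM) h' using 1
    ring
  have h := weak_orthogonality hM (isPBlock_principalBlock (G := G) M) (x := (1 : G)) (y := g)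
    (by simp [hq.ne_one]) (by rw [hgo])
  rw [finsum_mem_irr, ← Finset.sum_filter_add_sum_filter_not _ (fun χ : IrrCharacter G => (χ : G → ℂ) 1 = 1)] at h
  have hL : ∑ χ ∈ ((Finset.univ : Finset (IrrCharacter G)).filter
      (fun χ => χ ∈ principalBlock M G)).filter (fun χ : IrrCharacter G => (χ : G → ℂ) 1 = 1),
      (χ : G → ℂ) 1 * conj ((χ : G → ℂ) g) = (q : ℂ) ^ b := by
    rw [Finset.sum_congr rfl (g := fun _ => (1 : ℂ)) (fun χ hχ => by
      have h1 := (Finset.mem_filter.1 hχ).2
      rw [h1, (hlin χ h1).2, map_one, mul_one]), Finset.sum_const, nsmul_eq_mul, mul_one,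
      Finset.filter_filter, show (Finset.univ.filter fun χ : IrrCharacter G =>
        χ ∈ principalBlock M G ∧ (χ : G → ℂ) 1 = 1) =
        Finset.univ.filter (fun χ : IrrCharacter G => (χ : G → ℂ) 1 = 1) from
        Finset.filter_congr fun χ _ => ⟨And.right, fun h1 => ⟨(hlin χ h1).1, h1⟩⟩]
    have := card_linear (G := G)
    rw [Nat.card_eq_fintype_card, Fintype.card_subtype, hb] at this
    rw [this]; push_cast; rfl
  rw [hL] at h
  have hint : IsIntegral ℤ ((((q : ℚ) ^ b / p : ℚ)) : ℂ) := by
    have h2 : IsIntegral ℤ (∑ χ ∈ ((Finset.univ : Finset (IrrCharacter G)).filter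
        (fun χ => χ ∈ principalBlock M G)).filter (fun χ : IrrCharacter G => ¬(χ : G → ℂ) 1 = 1),
        (χ : G → ℂ) 1 * conj ((χ : G → ℂ) g) / (p : ℂ)) := by
      refine IsIntegral.sum _ fun χ hχ => ?_
      rw [Finset.mem_filter, Finset.mem_filter] at hχ
      obtain ⟨c, hc⟩ := dvd_deg_of_principal hp hqp hM hx hno χ hχ.1.2 hχ.2
      rw [char_one_eq_deg (irr_isCharacter χ.2), hc, Nat.cast_mul, mul_assoc,
        mul_div_cancel_left₀ _ (Nat.cast_ne_zero.mpr hp.ne_zero), ← char_inv (irr_isCharacter χ.2)]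
      exact (isIntegral_natCast _).mul (char_isIntegral (irr_isCharacter χ.2) _)
    rw [← Finset.sum_div, eq_neg_of_add_eq_zero_right h, neg_div] at h2
    simpa using h2.neg
  obtain ⟨m, hm⟩ := isIntegral_rat_cast_imp hint
  have hp0 : (p : ℚ) ≠ 0 := Nat.cast_ne_zero.mpr hp.ne_zero
  have hmp : (m : ℚ) * p = (q : ℚ) ^ b := by rw [hm]; field_simp
  have hdvd : (p : ℤ) ∣ (q : ℤ) ^ b := ⟨m, by rw [mul_comm]; exact_mod_cast hmp.symm⟩
  exact hqp ((Nat.prime_dvd_prime_iff_eq hp hq).1 (hp.dvd_of_dvd_pow (by exact_mod_cast hdvd))).symm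

/-- An element of prime power order `q^k` with class of `p`-power size lies in the radical. -/
theorem mem_rad_of_prime_power : ∀ (n : ℕ) {G : Type u} [Group G] [Finite G], Nat.card G = n →
    ∀ {q p k a : ℕ}, q.Prime → p.Prime → q ≠ p → ∀ {x : G}, orderOf x = q ^ k →
      (Subgroup.centralizer ({x} : Set G)).index = p ^ a → x ∈ solvableRadical G := by
  intro n
  induction n using Nat.strong_induction_on with
  | _ n ih =>
    intro G _ _ hn q p k a hq hp hqp x hxo hx
    subst hn
    by_cases hno : ∀ N : Subgroup G, N.Normal → x ∈ N → N = ⊤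
    · haveI := Fact.mk hp
      haveI := Fact.mk hq
      have hnd := not_dvd_card_commutator hq hp hqp hxo hx hno
      have hidx : (commutator G).index = Nat.card (Subgroup.zpowers x) := by
        have htop : commutator G ⊔ Subgroup.zpowers x = ⊤ :=
          hno _ (Subgroup.Normal.of_commutator_le (G := G) le_sup_left)
            (Subgroup.mem_sup_right (Subgroup.mem_zpowers x))
        have h1 := Solv.card_sup_mul_card_inf (commutator G) (Subgroup.zpowers x)
        have h2 : commutator G ⊓ Subgroup.zpowers x = ⊥ := by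
          refine Subgroup.inf_eq_bot_of_coprime ?_
          rw [Nat.card_zpowers, hxo]
          exact ((hq.coprime_iff_not_dvd.2 hnd).symm).pow_right k
        rw [htop, h2, Subgroup.card_top, Subgroup.card_bot, mul_one,
          ← (commutator G).card_mul_index] at h1
        exact Nat.eq_of_mul_eq_mul_left Nat.card_pos h1
      let P0 : Sylow p (commutator G) := default
      set N := Subgroup.normalizer (((P0 : Subgroup (commutator G)).map (commutator G).subtype : Subgroup G) : Set G)
      have hfr : N ⊔ commutator G = ⊤ := Sylow.normalizer_sup_eq_top P0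
      have hqN : q ^ k ∣ Nat.card N := by
        have h1 := Solv.card_sup_mul_card_inf (commutator G) N
        rw [sup_comm, hfr, Subgroup.card_top, ← (commutator G).card_mul_index, mul_assoc] at h1
        have h3 := Nat.eq_of_mul_eq_mul_left Nat.card_pos h1
        exact ⟨_, by rw [← h3, hidx, Nat.card_zpowers, hxo]⟩
      obtain ⟨R, hR⟩ := Sylow.exists_subgroup_card_pow_prime q hqN
      have hzq : IsPGroup q (Subgroup.zpowers x) := IsPGroup.of_card (by rw [Nat.card_zpowers, hxo])
      have hzi : ¬ q ∣ (Subgroup.zpowers x).index := by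
        have h1 := (Subgroup.zpowers x).card_mul_index
        rw [← (commutator G).card_mul_index, hidx, mul_comm] at h1
        rw [Nat.eq_of_mul_eq_mul_right Nat.card_pos h1]
        exact hnd
      let S := hzq.toSylow hzi
      have hR' : IsPGroup q ↥(R.map N.subtype) := (IsPGroup.of_card hR).map _
      obtain ⟨T, hT⟩ := hR'.exists_le_sylow
      have hTeq : (T : Subgroup G) = R.map N.subtype := by
        refine (Subgroup.eq_of_le_of_card_ge hT ?_).symm
        rw [← Nat.card_congr (R.equivMapOfInjective _ N.subtype_injective).toEquiv, hR,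
          T.card_eq_multiplicity, ← S.card_eq_multiplicity, IsPGroup.toSylow_coe, Nat.card_zpowers, hxo]
      obtain ⟨g, hg⟩ := MulAction.exists_smul_eq G S T
      have hxN : g * x * g⁻¹ ∈ N := by
        have h1 : g * x * g⁻¹ ∈ (T : Subgroup G) := by
          rw [← hg, Sylow.coe_subgroup_smul]
          exact Subgroup.smul_mem_pointwise_smul x (MulAut.conj g) _ (Subgroup.mem_zpowers x)
        rw [hTeq] at h1
        obtain ⟨r, -, hr⟩ := h1
        exact hr ▸ r.2
      have hP : ¬ p ∣ ((P0 : Subgroup (commutator G)).map (commutator G).subtype).index := by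
        rw [Subgroup.index_map, Subgroup.ker_subtype, sup_bot_eq, Subgroup.range_subtype,
          hidx, Nat.card_zpowers, hxo]
        intro h
        rcases hp.dvd_mul.1 h with h | h
        · exact P0.not_dvd_index h
        · exact hqp ((Nat.prime_dvd_prime_iff_eq hp hq).1 (hp.dvd_of_dvd_pow h)).symm
      let P := (P0.isPGroup'.map (commutator G).subtype).toSylow hP
      have hmem : g * x * g⁻¹ ∈ solvableRadical G := by
        refine mem_rad_of_normalizes (p := p) (a := a) ?_ P hxN
        rw [← hx, ← Char.card_conjClass_eq_index, ← Char.card_conjClass_eq_index]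
        exact Nat.card_congr (Equiv.subtypeEquivRight fun y =>
          ⟨fun h => (isConj_iff.2 ⟨g, rfl⟩).trans h, fun h => (isConj_iff.2 ⟨g, rfl⟩).symm.trans h⟩)
      have := rad_normal.conj_mem _ hmem g⁻¹
      simpa [mul_assoc] using this
    · obtain ⟨N, hN, hxN, hNt⟩ : ∃ N : Subgroup G, N.Normal ∧ x ∈ N ∧ N ≠ ⊤ := by
        simpa [and_assoc] using hno
      have hlt : Nat.card N < Nat.card G :=
        lt_of_le_of_ne (Subgroup.card_le_card_group N) fun h => hNt (Subgroup.eq_top_of_card_eq N h)
      have hd := relIndex_centralizer_dvd N x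
      rw [hx, Nat.dvd_prime_pow hp] at hd
      obtain ⟨b, -, hb⟩ := hd
      have hc : Subgroup.centralizer ({(⟨x, hxN⟩ : N)} : Set N) =
          (Subgroup.centralizer ({x} : Set G)).subgroupOf N := by
        ext y
        rw [Subgroup.mem_subgroupOf, Subgroup.mem_centralizer_singleton_iff,
          Subgroup.mem_centralizer_singleton_iff, Subtype.ext_iff]
        rfl
      have hi : (Subgroup.centralizer ({(⟨x, hxN⟩ : N)} : Set N)).index = p ^ b := by
        rw [hc]; exact hb
      have hmem := ih _ hlt rfl hq hp hqp (x := (⟨x, hxN⟩ : N))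
        (by rw [Subgroup.orderOf_mk, hxo]) hi
      exact map_rad_le N ⟨_, hmem, rfl⟩

/-- Kazarin's theorem. -/
theorem mem_rad {p : ℕ} [hp : Fact p.Prime] {a : ℕ} {x : G}
    (hx : (Subgroup.centralizer ({x} : Set G)).index = p ^ a) : x ∈ solvableRadical G := by
  classical
  have hpow : ∀ y ∈ Subgroup.zpowers x, ∃ b, (Subgroup.centralizer ({y} : Set G)).index = p ^ b := by
    intro y hy
    have hle : Subgroup.centralizer ({x} : Set G) ≤ Subgroup.centralizer ({y} : Set G) := by
      intro c hc
      obtain ⟨i, rfl⟩ := hy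
      rw [Subgroup.mem_centralizer_singleton_iff] at hc ⊢
      exact ((show Commute c x from hc).zpow_right i).eq
    have := Subgroup.index_dvd_of_le hle
    rw [hx, Nat.dvd_prime_pow hp.out] at this
    obtain ⟨b, -, hb⟩ := this
    exact ⟨b, hb⟩
  have hparts : ∀ y ∈ Subgroup.zpowers x, ∀ {r k : ℕ}, r.Prime → orderOf y = r ^ k →
      y ∈ solvableRadical G := by
    intro y hy r k hr hyo
    obtain ⟨b, hb⟩ := hpow y hy
    by_cases hrp : r = p
    · subst hrp
      obtain ⟨P, hP⟩ := (IsPGroup.of_card (G := Subgroup.zpowers y)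
        (by rw [Nat.card_zpowers, hyo])).exists_le_sylow
      exact mem_rad_of_normalizes hb P (Subgroup.le_normalizer (hP (Subgroup.mem_zpowers y)))
    · exact mem_rad_of_prime_power _ rfl hr hp.out hrp hyo hb
  set K := (solvableRadical G).subgroupOf (Subgroup.zpowers x)
  have hK : Nat.card (Subgroup.zpowers x) ∣ Nat.card K := by
    rw [Nat.card_zpowers]
    refine (Nat.dvd_iff_prime_pow_dvd_dvd _ _).2 fun r k hr hd => ?_
    have hyo : orderOf (x ^ (orderOf x / r ^ k)) = r ^ k := orderOf_pow_orderOf_div (orderOf_pos x).ne' hd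
    have hy : x ^ (orderOf x / r ^ k) ∈ Subgroup.zpowers x := Subgroup.npow_mem_zpowers x _
    have := orderOf_dvd_natCard (⟨⟨_, hy⟩, hparts _ hy hr hyo⟩ : K)
    rwa [← Subgroup.orderOf_coe, ← Subgroup.orderOf_coe, hyo] at this
  have hKtop : K = ⊤ := Subgroup.eq_top_of_card_eq K (le_antisymm (Subgroup.card_le_card_group K)
    (Nat.le_of_dvd Nat.card_pos hK))
  exact (Subgroup.subgroupOf_eq_top.1 hKtop) (Subgroup.mem_zpowers x)

end Main

end Cfsg.Agent.Perm.Kazarin
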