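import Mathlib.GroupTheory.Perm.Cycle.Type
import Mathlib.GroupTheory.Sylow
import Mathlib.GroupTheory.Solvable
import Mathlib.Algebra.Polynomial.HasseDeriv
import Mathlib.Algebra.Polynomial.Taylor
import Mathlib.LinearAlgebra.Lagrange
import Mathlib.GroupTheory.GroupAction.MultipleTransitivity
import Mathlib.Algebra.Field.ZMod

/-!
Permutation groups of prime degree: self-centralizing Sylow subgroup, Müller's lemma and
Burnside's theorem (solvable or doubly transitive).
-/

set_option autoImplicit false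

namespace Cfsg.Agent.Perm

open Polynomial

section Muller

variable {p : ℕ} [Fact p.Prime]

/-- Müller's lemma. -/
theorem muller (f : ZMod p → ZMod p) (U : Finset (ZMod p)) (hU0 : (0 : ZMod p) ∉ U)
    (hUne : U.Nonempty) (hUk : 2 * U.card < p)
    (hdiff : ∀ i, ∀ u ∈ U, f (i + u) - f i ∈ U) (hf : Function.Injective f) :
    ∀ x, f x = (f 1 - f 0) * x + f 0 := by
  classical
  have hp := (Fact.out : p.Prime)
  let F : Polynomial (ZMod p) := Lagrange.interpolate Finset.univ id f
  have hFev : ∀ x, F.eval x = f x := fun x =>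
    Lagrange.eval_interpolate_at_node (v := id) f Function.injective_id.injOn (Finset.mem_univ x)
  have hFdeg : F.degree < p := by
    have := Lagrange.degree_interpolate_lt (v := id) (s := (Finset.univ : Finset (ZMod p))) f Function.injective_id.injOn
    rwa [Finset.card_univ, ZMod.card] at this
  have hFn : F.natDegree < p := by
    by_cases h0 : F = 0
    · rw [h0, natDegree_zero]; exact hp.pos
    · exact (natDegree_lt_iff_degree_lt h0).2 hFdeg
  by_cases hn : F.natDegree ≤ 1
  · intro x
    have hF := eq_X_add_C_of_natDegree_le_one hn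
    have h1 : ∀ y, f y = F.coeff 1 * y + F.coeff 0 := fun y => by
      rw [← hFev, hF]
      simp
    rw [h1 x, h1 1, h1 0]
    ring
  exfalso
  push Not at hn
  set n := F.natDegree with hndef
  let S : ℕ → ZMod p := fun j => ∑ u ∈ U, u ^ j
  have hperm : ∀ i, U.image (fun u => f (i + u) - f i) = U := fun i =>
    Finset.eq_of_subset_of_card_le (fun x hx => by
        obtain ⟨u, hu, rfl⟩ := Finset.mem_image.1 hx
        exact hdiff i u hu)
      (by rw [Finset.card_image_of_injective _ fun u v h => add_left_cancel (hf (sub_left_inj.1 h))])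
  have hw : ∃ w, 1 ≤ w ∧ w ≤ U.card ∧ S w ≠ 0 := by
    by_contra hh
    push Not at hh
    let P : Polynomial (ZMod p) := ∏ v ∈ U, (X - C v)
    have hdeg : P.natDegree = U.card := by
      simp only [P]
      rw [natDegree_prod_of_monic (f := fun v => X - C v) _ fun v _ => monic_X_sub_C v]
      simp
    have h1 : ∑ u ∈ U, P.eval u = 0 := Finset.sum_eq_zero fun u hu => by
      rw [eval_prod]
      exact Finset.prod_eq_zero hu (by simp)
    simp only [eval_eq_sum_range, hdeg] at h1
    rw [Finset.sum_comm, Finset.sum_eq_single 0] at h1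
    · simp only [pow_zero, mul_one, Finset.sum_const, nsmul_eq_mul, coeff_zero_eq_eval_zero] at h1
      rcases mul_eq_zero.1 h1 with h2 | h2
      · rw [CharP.cast_eq_zero_iff (ZMod p) p] at h2
        have := Nat.le_of_dvd hUne.card_pos h2
        omega
      · rw [eval_prod, Finset.prod_eq_zero_iff] at h2
        obtain ⟨v, hv, hv'⟩ := h2
        simp only [eval_sub, eval_X, eval_C, zero_sub, neg_eq_zero] at hv'
        exact hU0 (hv' ▸ hv)
    · intro j hj hj0
      rw [← Finset.mul_sum]
      rw [show ∑ u ∈ U, u ^ j = 0 from hh j (Nat.pos_of_ne_zero hj0)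
        (by rw [Finset.mem_range] at hj; omega), mul_zero]
    · simp
  set w := Nat.find hw with hwdef
  obtain ⟨hw1, hwk, hwS⟩ := Nat.find_spec hw
  have hmin : ∀ j, 1 ≤ j → j < w → S j = 0 := fun j hj1 hj => by
    by_contra hh
    exact Nat.find_min hw hj ⟨hj1, by omega, hh⟩
  set m := w / n + 1 with hmdef
  have hmn1 : w < m * n := by
    rw [hmdef, mul_comm, Nat.mul_succ]
    have := Nat.div_add_mod w n
    have := Nat.mod_lt w (show 0 < n by omega)
    omega
  have hmn2 : m * n ≤ w + n := by
    rw [hmdef, add_one_mul]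
    have := Nat.div_mul_le_self w n
    omega
  have hmw : m ≤ w := by
    rcases Nat.lt_or_ge w n with h | h
    · rw [hmdef, Nat.div_eq_of_lt h]; omega
    · have := Nat.div_lt_self (show 0 < w by omega) (show 1 < n by omega)
      omega
  have hmnp : m * n < p := by
    rcases Nat.lt_or_ge w n with h | h
    · rw [hmdef, Nat.div_eq_of_lt h]; omega
    · omega
  have hm1 : 1 ≤ m := by rw [hmdef]; exact Nat.le_add_left 1 _
  clear_value m
  set g := F ^ m with hgdef
  have hgdeg : g.natDegree = m * n := by rw [hgdef, natDegree_pow]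
  set Q : Polynomial (ZMod p) :=
    (∑ u ∈ U, taylor u g) - C (U.card : ZMod p) * g - C (S m) with hQdef
  have hQdeg : Q.natDegree < p := by
    refine lt_of_le_of_lt ?_ hmnp
    refine (natDegree_sub_le _ _).trans (max_le ((natDegree_sub_le _ _).trans (max_le ?_ ?_)) ?_)
    · exact natDegree_sum_le_of_forall_le _ _ fun u _ => by rw [natDegree_taylor, hgdeg]
    · exact (natDegree_C_mul_le _ _).trans hgdeg.le
    · rw [natDegree_C]
      exact Nat.zero_le _
  have hQ0 : Q = 0 := by
    refine eq_zero_of_natDegree_lt_card_of_eval_eq_zero' Q (Finset.univ) (fun i _ => ?_)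
      (by rw [Finset.card_univ, ZMod.card]; exact hQdeg)
    simp only [hQdef, eval_sub, eval_finsetSum, taylor_eval, eval_mul, eval_C, hgdef, eval_pow,
      hFev]
    have h1 : ∑ u ∈ U, f (i + u) ^ m = ∑ u ∈ U, (f i + u) ^ m := by
      conv_rhs => rw [← hperm i]
      rw [Finset.sum_image (fun u _ v _ h => add_left_cancel (hf (sub_left_inj.1 h)))]
      simp only [add_sub_cancel]
    rw [h1]
    simp only [add_pow, Finset.sum_comm (s := U)]
    rw [Finset.sum_eq_add_of_mem 0 m (Finset.mem_range.2 (by omega))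
      (Finset.mem_range.2 (by omega)) (by omega) ?_]
    · simp [S, mul_comm]
    · intro j hj hjne
      rw [Finset.mem_range] at hj
      rw [← Finset.sum_mul, ← Finset.mul_sum,
        show ∑ u ∈ U, u ^ (m - j) = S (m - j) from rfl,
        hmin (m - j) (by omega) (by omega), mul_zero, zero_mul]
  have hr : 1 ≤ m * n - w := by omega
  have hc := congrArg (fun P : Polynomial (ZMod p) => P.coeff (m * n - w)) hQ0
  have htc : ∀ u : ZMod p, (taylor u g).coeff (m * n - w) =
      ∑ j ∈ Finset.range (w + 1),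
        ((j + (m * n - w)).choose (m * n - w) : ZMod p) * g.coeff (j + (m * n - w)) * u ^ j := by
    intro u
    rw [taylor_coeff, eval_eq_sum_range' (n := w + 1)]
    · simp only [hasseDeriv_coeff]
    · have := natDegree_hasseDeriv_le g (m * n - w)
      omega
  simp only [hQdef, coeff_sub, finsetSum_coeff, coeff_C_mul, coeff_C, coeff_zero,
    if_neg (show m * n - w ≠ 0 by omega), sub_zero, htc] at hc
  rw [Finset.sum_comm, Finset.sum_eq_add_of_mem 0 w (Finset.mem_range.2 (by omega))
    (Finset.mem_range.2 (by omega)) (by omega) ?_] at hc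
  · simp only [zero_add, Nat.choose_self, Nat.cast_one, one_mul, pow_zero, mul_one,
      Finset.sum_const, nsmul_eq_mul, ← Finset.mul_sum] at hc
    rw [show w + (m * n - w) = m * n by omega, add_sub_cancel_left] at hc
    rcases mul_eq_zero.1 hc with h2 | h2
    · rcases mul_eq_zero.1 h2 with h3 | h3
      · rw [CharP.cast_eq_zero_iff (ZMod p) p] at h3
        have h4 : p ∣ (m * n).factorial := by
          rw [← Nat.choose_mul_factorial_mul_factorial (show m * n - w ≤ m * n by omega)]
          exact (h3.mul_right _).mul_right _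
        rw [hp.dvd_factorial] at h4
        omega
      · rw [← hgdeg] at h3
        have hg0 : g ≠ 0 := by
          refine pow_ne_zero _ fun h => ?_
          rw [hndef, h, natDegree_zero] at hn
          omega
        exact hg0 (leadingCoeff_eq_zero.1 h3)
    · exact hwS h2
  · intro j hj hjne
    rw [Finset.mem_range] at hj
    rw [← Finset.mul_sum, show ∑ u ∈ U, u ^ j = S j from rfl,
      hmin j (by omega) (by omega), mul_zero]

end Muller

section Cycle

variable {α : Type*} [Fintype α] [DecidableEq α] {p : ℕ} [Fact p.Prime]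

/-- A transitive group of prime degree `p` has an element acting as a `p`-cycle; its powers are
transitive and it is self-centralizing. -/
theorem exists_cycle_prime_degree (hα : Fintype.card α = p) (G : Subgroup (Equiv.Perm α))
    [MulAction.IsPretransitive G α] :
    ∃ σ ∈ G, orderOf σ = p ∧ (∀ a b : α, ∃ i : ℕ, (σ ^ i) a = b) ∧
      ∀ c : Equiv.Perm α, Commute c σ → c ∈ Subgroup.zpowers σ := by
  classical
  have hp := (Fact.out : p.Prime)
  haveI : Nonempty α := Fintype.card_pos_iff.1 (hα ▸ hp.pos)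
  obtain ⟨a₀⟩ := ‹Nonempty α›
  have hdvd : p ∣ Nat.card G := by
    rw [← hα, ← Nat.card_eq_fintype_card, ← MulAction.index_stabilizer_of_transitive G a₀]
    exact Subgroup.index_dvd_card _
  obtain ⟨σ, hσ⟩ := exists_prime_orderOf_dvd_card' (G := G) p hdvd
  have hσ' : orderOf (σ : Equiv.Perm α) = p := by rw [Subgroup.orderOf_coe, hσ]
  haveI : Fact (Fintype.card α).Prime := ⟨hα ▸ hp⟩
  have hcyc : (σ : Equiv.Perm α).IsCycle :=
    Equiv.Perm.isCycle_of_prime_order'' (hα ▸ hp) (by rw [hσ', hα])
  have hsupp : (σ : Equiv.Perm α).support = Finset.univ := by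
    rw [← Finset.card_eq_iff_eq_univ, ← hcyc.orderOf, hσ', hα]
  have hmove : ∀ a, (σ : Equiv.Perm α) a ≠ a := fun a =>
    Equiv.Perm.mem_support.1 (hsupp ▸ Finset.mem_univ a)
  have htr : ∀ a b : α, ∃ i : ℕ, ((σ : Equiv.Perm α) ^ i) a = b := fun a b => by
    obtain ⟨i, -, hi⟩ := (hcyc.sameCycle (hmove a) (hmove b)).exists_pow_eq'
    exact ⟨i, hi⟩
  refine ⟨σ, σ.2, hσ', htr, fun c hc => ?_⟩
  obtain ⟨i, hi⟩ := htr a₀ (c a₀)
  have : c = (σ : Equiv.Perm α) ^ i := by
    ext x
    obtain ⟨j, rfl⟩ := htr a₀ x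
    have h1 := congrArg (fun f : Equiv.Perm α => f a₀) (hc.pow_right j).eq
    simp only [Equiv.Perm.coe_mul, Function.comp_apply] at h1
    rw [h1, ← hi, ← Equiv.Perm.mul_apply, ← Equiv.Perm.mul_apply, ← pow_add, ← pow_add, add_comm]
  exact this ▸ Subgroup.npow_mem_zpowers _ _

/-- Burnside: a transitive group of prime degree is solvable or doubly transitive. -/
theorem burnside_prime_degree (hα : Fintype.card α = p) (G : Subgroup (Equiv.Perm α))
    [MulAction.IsPretransitive G α] :
    Group.IsSolvable G ∨ MulAction.IsMultiplyPretransitive G α 2 := by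
  classical
  by_cases h2 : MulAction.IsMultiplyPretransitive G α 2
  · exact Or.inr h2
  refine Or.inl ?_
  obtain ⟨σ, hσG, hσ, htr, -⟩ := exists_cycle_prime_degree hα G
  haveI : Nonempty α := Fintype.card_pos_iff.1 (hα ▸ (Fact.out : p.Prime).pos)
  obtain ⟨a₀⟩ := ‹Nonempty α›
  let pw : ZMod p → Equiv.Perm α := fun i => σ ^ i.val
  have hpwadd : ∀ i j, pw (i + j) = pw i * pw j := fun i j => by
    show σ ^ _ = σ ^ _ * σ ^ _
    rw [← pow_add, pow_eq_pow_iff_modEq, hσ, ZMod.val_add]
    exact Nat.mod_modEq _ _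
  have hpwG : ∀ i, pw i ∈ G := fun i => pow_mem hσG _
  have hbij : Function.Bijective fun i : ZMod p => pw i a₀ := by
    rw [Fintype.bijective_iff_surjective_and_card]
    refine ⟨fun b => ?_, by rw [ZMod.card, hα]⟩
    obtain ⟨i, hi⟩ := htr a₀ b
    refine ⟨(i : ZMod p), ?_⟩
    show (σ ^ _) a₀ = b
    rw [← hi, ZMod.val_natCast, show σ ^ (i % p) = σ ^ i from hσ ▸ pow_mod_orderOf σ i]
  let e : ZMod p ≃ α := Equiv.ofBijective _ hbij
  have he : ∀ i j, pw i (e j) = e (i + j) := fun i j => by
    show pw i (pw j a₀) = pw (i + j) a₀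
    rw [hpwadd, Equiv.Perm.mul_apply]
  let U : Finset (ZMod p) := Finset.univ.filter fun u =>
    ∃ g ∈ G, g (e 0) = e 0 ∧ g (e 1) = e u
  have hU0 : (0 : ZMod p) ∉ U := fun h => by
    obtain ⟨g, -, h1, h2⟩ := (Finset.mem_filter.1 h).2
    exact zero_ne_one (e.injective (g.injective (h1.trans h2.symm)))
  have hU1 : (1 : ZMod p) ∈ U := Finset.mem_filter.2 ⟨Finset.mem_univ _, 1, one_mem _, rfl, rfl⟩
  let φ : Equiv.Perm α → ZMod p → ZMod p := fun g i => e.symm (g (e i))
  have hinv : ∀ g ∈ G, ∀ i, ∀ u ∈ U, φ g (i + u) - φ g i ∈ U := by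
    intro g hg i u hu
    obtain ⟨k, hk, k0, k1⟩ := (Finset.mem_filter.1 hu).2
    refine Finset.mem_filter.2 ⟨Finset.mem_univ _, pw (-(φ g i)) * g * pw i * k,
      mul_mem (mul_mem (mul_mem (hpwG _) hg) (hpwG _)) hk, ?_, ?_⟩
    · simp only [Equiv.Perm.coe_mul, Function.comp_apply, k0, he, add_zero]
      rw [show g (e i) = e (φ g i) from (e.apply_symm_apply _).symm, he, neg_add_cancel]
    · simp only [Equiv.Perm.coe_mul, Function.comp_apply, k1, he]
      rw [show g (e (i + u)) = e (φ g (i + u)) from (e.apply_symm_apply _).symm, he]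
      congr 1
      ring
  let V : Finset (ZMod p) := (Finset.univ.erase 0) \ U
  have hinvV : ∀ g ∈ G, ∀ i, ∀ u ∈ V, φ g (i + u) - φ g i ∈ V := by
    intro g hg i u hu
    obtain ⟨hu1, hu2⟩ := Finset.mem_sdiff.1 hu
    refine Finset.mem_sdiff.2 ⟨Finset.mem_erase.2 ⟨fun h => ?_, Finset.mem_univ _⟩, fun h => hu2 ?_⟩
    · exact (Finset.mem_erase.1 hu1).1 (add_eq_left.1
        (e.injective (g.injective (e.symm.injective (sub_eq_zero.1 h)))))
    · have := hinv g⁻¹ (inv_mem hg) (φ g i) _ h
      simpa [φ] using this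
  have hVne : V.Nonempty := by
    by_contra hne
    rw [Finset.not_nonempty_iff_eq_empty, Finset.sdiff_eq_empty_iff_subset] at hne
    apply h2
    rw [MulAction.is_two_pretransitive_iff]
    have hkey : ∀ x y : α, x ≠ y → ∃ g : G, g • e 0 = x ∧ g • e 1 = y := by
      intro x y hxy
      have hu : e.symm y - e.symm x ∈ U := hne (Finset.mem_erase.2
        ⟨fun h => hxy (e.symm.injective (sub_eq_zero.1 h)).symm, Finset.mem_univ _⟩)
      obtain ⟨k, hk, k0, k1⟩ := (Finset.mem_filter.1 hu).2
      refine ⟨⟨pw (e.symm x) * k, mul_mem (hpwG _) hk⟩, ?_, ?_⟩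
      · show pw (e.symm x) (k (e 0)) = x
        rw [k0, he, add_zero, Equiv.apply_symm_apply]
      · show pw (e.symm x) (k (e 1)) = y
        rw [k1, he, add_sub_cancel, Equiv.apply_symm_apply]
    intro a b c d hab hcd
    obtain ⟨g₁, rfl, rfl⟩ := hkey a b hab
    obtain ⟨g₂, rfl, rfl⟩ := hkey c d hcd
    exact ⟨g₂ * g₁⁻¹, by rw [mul_smul, inv_smul_smul], by rw [mul_smul, inv_smul_smul]⟩
  have hsum : U.card + V.card = p - 1 := by
    rw [show U.card + V.card = V.card + U.card from add_comm _ _,
      Finset.card_sdiff_add_card_eq_card (fun u hu => Finset.mem_erase.2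
        ⟨fun h => hU0 (by rw [← h]; exact hu), Finset.mem_univ _⟩),
      Finset.card_erase_of_mem (Finset.mem_univ _), Finset.card_univ, ZMod.card]
  have haff : ∀ g ∈ G, ∀ x, φ g x = (φ g 1 - φ g 0) * x + φ g 0 := by
    intro g hg
    have hinj : Function.Injective (φ g) := fun x y h => e.injective (g.injective (e.symm.injective h))
    have := (Fact.out : p.Prime).two_le
    rcases Nat.lt_or_ge (2 * U.card) p with h | h
    · exact muller _ U hU0 ⟨1, hU1⟩ h (hinv g hg) hinj
    · refine muller _ V (fun h0 => (Finset.mem_erase.1 (Finset.mem_sdiff.1 h0).1).1 rfl) hVne ?_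
        (hinvV g hg) hinj
      omega
  have hmulφ : ∀ g h : G, ∀ x, φ ((g * h : G) : Equiv.Perm α) x = φ g (φ h x) := fun g h x => by
    simp [φ]
  let lin : G →* ZMod p :=
    { toFun := fun g => φ g 1 - φ g 0
      map_one' := by simp [φ]
      map_mul' := fun g h => by
        rw [hmulφ, hmulφ, haff g g.2 (φ h 1), haff g g.2 (φ h 0)]
        ring }
  haveI : IsMulCommutative lin.toHomUnits.ker := by
    refine ⟨⟨fun g h => Subtype.ext (Subtype.ext (Equiv.ext fun x => ?_))⟩⟩
    have hk : ∀ g : lin.toHomUnits.ker, ∀ y, φ (g : G) y = y + φ (g : G) 0 := fun g y => by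
      have h1 : φ (g : G) 1 - φ (g : G) 0 = 1 := by
        have := congrArg (fun u : (ZMod p)ˣ => (u : ZMod p)) (MonoidHom.mem_ker.1 g.2)
        simp only [MonoidHom.coe_toHomUnits, Units.val_one] at this
        exact this
      rw [haff _ (g : G).2, h1, one_mul]
    refine e.symm.injective ?_
    have := congrArg id (show φ ((g : G) * (h : G) : G) (e.symm x) = φ ((h : G) * (g : G) : G) (e.symm x) by
      rw [hmulφ, hmulφ, hk g (φ _ _), hk h (φ _ _), hk g (e.symm x), hk h (e.symm x)]
      abel)
    simpa [φ] using this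
  haveI : Group.IsSolvable lin.toHomUnits.ker :=
    Group.isSolvable_of_comm fun a b => mul_comm' a b
  exact Group.isSolvable_of_ker_le_range lin.toHomUnits.ker.subtype lin.toHomUnits
    (by rw [Subgroup.range_subtype])

end Cycle

end Cfsg.Agent.Perm
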