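import Mathlib.GroupTheory.Sylow
import Mathlib.GroupTheory.Solvable
import Mathlib.GroupTheory.Complement
import Mathlib.GroupTheory.Frattini
import Mathlib.GroupTheory.IsPerfect

/-!
Minimal normal subgroups of finite groups: existence, abelian ones are elementary abelian
`p`-groups, and maximal subgroups not containing an abelian one are complements to it.
-/

set_option autoImplicit false

namespace Cfsg.Agent.Perm

open Subgroup

variable {G : Type*} [Group G]

/-- `N` is a minimal normal subgroup. -/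
def IsMinNormal (N : Subgroup G) : Prop :=
  N.Normal ∧ N ≠ ⊥ ∧ ∀ K : Subgroup G, K.Normal → K ≤ N → K = ⊥ ∨ K = N

theorem exists_isMinNormal_le [Finite G] {K : Subgroup G} (hK : K.Normal) (hK1 : K ≠ ⊥) :
    ∃ N, IsMinNormal N ∧ N ≤ K := by
  obtain ⟨N, hN⟩ := (Set.toFinite {L : Subgroup G | L.Normal ∧ L ≠ ⊥ ∧ L ≤ K}).exists_minimal
    ⟨K, hK, hK1, le_rfl⟩
  refine ⟨N, ⟨hN.1.1, hN.1.2.1, fun L hL hLN => ?_⟩, hN.1.2.2⟩
  by_cases h : L = ⊥
  · exact Or.inl h
  · exact Or.inr (le_antisymm hLN (hN.2 ⟨hL, h, hLN.trans hN.1.2.2⟩ hLN))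

theorem exists_isMinNormal [Finite G] [Nontrivial G] : ∃ N : Subgroup G, IsMinNormal N := by
  obtain ⟨N, hN, -⟩ := exists_isMinNormal_le (K := (⊤ : Subgroup G)) inferInstance top_ne_bot
  exact ⟨N, hN⟩

theorem mulCommutative_iff_commutator_eq_bot {H : Subgroup G} :
    IsMulCommutative H ↔ ⁅H, H⁆ = ⊥ := by
  rw [Subgroup.commutator_eq_bot_iff_le_centralizer, Subgroup.le_centralizer_iff_isMulCommutative]

theorem IsMinNormal.disjoint_or_le {N K : Subgroup G} (hN : IsMinNormal N) (hK : K.Normal) :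
    K ⊓ N = ⊥ ∨ N ≤ K := by
  haveI := hN.1
  rcases hN.2.2 (K ⊓ N) inferInstance inf_le_right with h | h
  · exact Or.inl h
  · exact Or.inr (h ▸ inf_le_left)

theorem IsMinNormal.isMulCommutative [Finite G] {N : Subgroup G} (hN : IsMinNormal N)
    (hs : Group.IsSolvable N) : IsMulCommutative N := by
  haveI := hN.1
  rw [mulCommutative_iff_commutator_eq_bot]
  rcases hN.2.2 ⁅N, N⁆ inferInstance (Subgroup.commutator_le_right N N) with h | h
  · exact h
  · exfalso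
    haveI : Group.IsPerfect N := Subgroup.isPerfect_iff.mpr h
    haveI : Nontrivial N := (Subgroup.nontrivial_iff_ne_bot N).mpr hN.2.1
    exact Group.IsPerfect.not_isSolvable (G := N) hs

theorem IsMinNormal.exists_prime {N : Subgroup G} [Finite G] (hN : IsMinNormal N)
    (hc : IsMulCommutative N) :
    ∃ p : ℕ, p.Prime ∧ (∀ x ∈ N, x ^ p = 1) ∧ IsPGroup p N ∧
      ∃ k, 0 < k ∧ Nat.card N = p ^ k := by
  have h1 : Nat.card N ≠ 1 := fun h => hN.2.1 (Subgroup.card_eq_one.mp h)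
  obtain ⟨p, hp, hpd⟩ := Nat.exists_prime_and_dvd h1
  haveI := Fact.mk hp
  have hcom : ∀ a ∈ N, ∀ b ∈ N, Commute a b := fun a ha b hb => by
    simpa [Commute, SemiconjBy, Subtype.ext_iff] using hc.is_comm.comm (⟨a, ha⟩ : N) ⟨b, hb⟩
  let T : Subgroup G :=
    { carrier := {x | x ∈ N ∧ x ^ p = 1}
      one_mem' := ⟨one_mem N, one_pow p⟩
      mul_mem' := fun {a b} ha hb => ⟨mul_mem ha.1 hb.1, by
        rw [(hcom a ha.1 b hb.1).mul_pow, ha.2, hb.2, mul_one]⟩
      inv_mem' := fun {a} ha => ⟨inv_mem ha.1, by rw [inv_pow, ha.2, inv_one]⟩ }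
  have hTn : T.Normal := ⟨fun x hx g =>
    ⟨hN.1.conj_mem x hx.1 g, by rw [conj_pow, hx.2, mul_one, mul_inv_cancel]⟩⟩
  have hT : T = N := by
    refine (hN.2.2 T hTn fun x hx => hx.1).resolve_left fun h => ?_
    obtain ⟨x, hx⟩ := exists_prime_orderOf_dvd_card' p hpd
    have hmem : (x : G) ∈ T := ⟨x.2, by rw [← Subgroup.coe_pow, ← hx, pow_orderOf_eq_one]; rfl⟩
    rw [h, Subgroup.mem_bot] at hmem
    rw [show x = 1 from Subtype.ext hmem, orderOf_one] at hx
    exact hp.one_lt.ne hx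
  have hpow : ∀ x ∈ N, x ^ p = 1 := fun x hx => ((SetLike.ext_iff.mp hT x).mpr hx).2
  have hpg : IsPGroup p N := fun x => ⟨1, Subtype.ext (by simpa using hpow x x.2)⟩
  obtain ⟨k, hk⟩ := IsPGroup.iff_card.mp hpg
  exact ⟨p, hp, hpow, hpg, k, Nat.pos_of_ne_zero (by rintro rfl; exact h1 hk), hk⟩

theorem IsMinNormal.complement_of_coatom [Finite G] {N M : Subgroup G} (hN : IsMinNormal N)
    (hc : IsMulCommutative N) (hM : IsCoatom M) (hNM : ¬ N ≤ M) :
    N ⊓ M = ⊥ ∧ N ⊔ M = ⊤ ∧ N.IsComplement' M ∧ M.index = Nat.card N := by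
  haveI := hN.1
  have htop : N ⊔ M = ⊤ := hM.2 _ (lt_of_le_of_ne le_sup_right fun h => hNM (h ▸ le_sup_left))
  have hnorm : ∀ g : G, ∀ x ∈ N ⊓ M, g * x * g⁻¹ ∈ N ⊓ M := by
    intro g x hx
    obtain ⟨n, hn, m, hm, rfl⟩ : ∃ n ∈ N, ∃ m ∈ M, n * m = g := by
      have : g ∈ ((N ⊔ M : Subgroup G) : Set G) := by rw [htop]; trivial
      rw [Subgroup.normal_mul] at this
      exact this
    have hy : m * x * m⁻¹ ∈ N ⊓ M :=
      ⟨hN.1.conj_mem x hx.1 m, M.mul_mem (M.mul_mem hm hx.2) (M.inv_mem hm)⟩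
    have hcy : n * (m * x * m⁻¹) = m * x * m⁻¹ * n := by
      simpa [Subtype.ext_iff] using hc.is_comm.comm (⟨n, hn⟩ : N) ⟨_, hy.1⟩
    have : n * m * x * (n * m)⁻¹ = m * x * m⁻¹ := by
      rw [show n * m * x * (n * m)⁻¹ = n * (m * x * m⁻¹) * n⁻¹ by group, hcy, mul_inv_cancel_right]
    rwa [this]
  have hinf : N ⊓ M = ⊥ :=
    (hN.2.2 _ ⟨fun x hx g => hnorm g x hx⟩ inf_le_left).resolve_right
      fun h => hNM (h ▸ inf_le_right)
  have hcompl : N.IsComplement' M :=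
    Subgroup.isComplement'_of_disjoint_and_mul_eq_univ (disjoint_iff.mpr hinf) (by
      rw [← Subgroup.normal_mul, htop]; rfl)
  exact ⟨hinf, htop, hcompl, hcompl.index_eq_card⟩

/-- A normal subgroup mapping injectively has `Nat.card` dividing that of the image group. -/
theorem IsMinNormal.map_eq_bot_or_equiv {H : Type*} [Group H] {N : Subgroup G} (hN : IsMinNormal N)
    (f : G →* H) : N ≤ f.ker ∨ Function.Injective (f.domRestrict N) := by
  rcases hN.disjoint_or_le (f.normal_ker) with h | h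
  · refine Or.inr ((injective_iff_map_eq_one _).mpr fun x hx => Subtype.ext ?_)
    exact Subgroup.mem_bot.mp ((SetLike.ext_iff.mp h (x : G)).mp (Subgroup.mem_inf.mpr ⟨hx, x.2⟩))
  · exact Or.inl h

end Cfsg.Agent.Perm
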