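import Mathlib.GroupTheory.GroupAction.Primitive
import Cfsg.Agent.Lib.Perm.MinNormal

/-!
Faithful primitive actions: nontrivial normal subgroups are transitive, abelian transitive
subgroups are regular and self-centralizing.
-/

set_option autoImplicit false

namespace Cfsg.Agent.Perm

open MulAction

variable {G : Type*} [Group G] {Ω : Type*} [MulAction G Ω] [FaithfulSMul G Ω]

/-- A nontrivial normal subgroup of a faithful primitive group is transitive. -/
theorem normal_isPretransitive [IsPreprimitive G Ω] (N : Subgroup G) [N.Normal] (hN : N ≠ ⊥) :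
    IsPretransitive N Ω := by
  refine IsQuasiPreprimitive.isPretransitive_of_normal fun h => hN ?_
  rw [eq_bot_iff]
  intro n hn
  refine Subgroup.mem_bot.2 (FaithfulSMul.eq_of_smul_eq_smul (α := Ω) fun x => ?_)
  rw [one_smul]
  have : x ∈ fixedPoints N Ω := h ▸ Set.mem_univ x
  exact mem_fixedPoints.1 this ⟨n, hn⟩

/-- An element fixing a point and centralizing a transitive subgroup is trivial. -/
theorem eq_one_of_centralizes {M : Subgroup G} [IsPretransitive M Ω] {c : G}
    (hc : c ∈ Subgroup.centralizer (M : Set G)) {ω : Ω} (hω : c • ω = ω) : c = 1 := by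
  refine FaithfulSMul.eq_of_smul_eq_smul (α := Ω) fun x => ?_
  obtain ⟨m, rfl⟩ := exists_smul_eq M ω x
  rw [one_smul, Subgroup.smul_def, smul_smul, ← Subgroup.mem_centralizer_iff.1 hc m m.2, mul_smul, hω]

theorem stabilizer_eq_bot_of_isMulCommutative {M : Subgroup G} [IsPretransitive M Ω]
    (hc : IsMulCommutative M) (ω : Ω) : stabilizer M ω = ⊥ := by
  rw [eq_bot_iff]
  intro m hm
  refine Subgroup.mem_bot.2 (Subtype.ext ?_)
  refine eq_one_of_centralizes (M := M) (Subgroup.mem_centralizer_iff.2 fun n hn => ?_) hm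
  exact congrArg Subtype.val (hc.is_comm.comm (⟨n, hn⟩ : M) m)

theorem card_eq_of_regular {M : Subgroup G} [IsPretransitive M Ω] (ω : Ω)
    (h : stabilizer M ω = ⊥) : Nat.card Ω = Nat.card M := by
  rw [← index_stabilizer_of_transitive M ω, h, Subgroup.index_bot]

end Cfsg.Agent.Perm
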