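import Mathlib.GroupTheory.GroupAction.MultipleTransitivity
import Mathlib.GroupTheory.GroupAction.SubMulAction.OfFixingSubgroup

/-!
Elementary permutation group facts: permutations commuting with a transitive set are determined
by one value, multiple transitivity from transitive pointwise stabilisers of small sets.
-/

set_option autoImplicit false

namespace Cfsg.Agent.Perm

open MulAction

variable {α : Type*}

/-- Two permutations commuting with a transitive set of permutations and agreeing at one point
are equal. -/
theorem perm_eq_of_commute_transitive {S : Set (Equiv.Perm α)} {a : α}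
    (ht : ∀ x, ∃ s ∈ S, s a = x) {c d : Equiv.Perm α} (hc : ∀ s ∈ S, Commute c s)
    (hd : ∀ s ∈ S, Commute d s) (h : c a = d a) : c = d := by
  ext x
  obtain ⟨s, hs, rfl⟩ := ht x
  have h1 := congrArg (fun f : Equiv.Perm α => f a) (hc s hs).eq
  have h2 := congrArg (fun f : Equiv.Perm α => f a) (hd s hs).eq
  simp only [Equiv.Perm.coe_mul, Function.comp_apply] at h1 h2
  rw [h1, h2, h]

/-- Images of a transitive subgroup of a permutation group move a point everywhere. -/
theorem exists_mem_apply_eq {G : Subgroup (Equiv.Perm α)} (M : Subgroup G)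
    [IsPretransitive M α] (a x : α) : ∃ s ∈ M, (s : Equiv.Perm α) a = x := by
  obtain ⟨m, hm⟩ := exists_smul_eq M a x
  exact ⟨m, m.2, hm⟩

theorem coe_eq_one_iff {G : Subgroup (Equiv.Perm α)} {g : G} :
    g = 1 ↔ ∀ x, (g : Equiv.Perm α) x = x := by
  constructor
  · rintro rfl x; rfl
  · intro h; exact Subtype.ext (Equiv.ext h)

/-- A transitive group all of whose pointwise stabilisers of fewer than `k` points are
transitive on the remaining points is `k`-transitive. -/
theorem isMultiplyPretransitive_of_fixing {G : Type*} [Group G] [MulAction G α] {k : ℕ}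
    (h : ∀ T : Finset α, T.card < k → ∀ x y, x ∉ T → y ∉ T →
      ∃ g : G, (∀ t ∈ T, g • t = t) ∧ g • x = y) :
    IsMultiplyPretransitive G α k := by
  classical
  induction k with
  | zero => exact is_zero_pretransitive
  | succ k ih =>
    haveI := ih fun T hT => h T (Nat.lt_succ_of_lt hT)
    rw [isMultiplyPretransitive_iff]
    intro u v
    obtain ⟨g, hg⟩ := exists_smul_eq G (Fin.castSuccEmb.trans u) (Fin.castSuccEmb.trans v)
    have hg' : ∀ i : Fin k, g • u i.castSucc = v i.castSucc := fun i => by
      have := congrArg (fun e : Fin k ↪ α => e i) hg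
      simpa using this
    let T : Finset α := Finset.univ.image fun i : Fin k => v i.castSucc
    have hT : T.card < k + 1 := by
      refine Nat.lt_succ_of_le (Finset.card_image_le.trans ?_)
      simp
    have hx : g • u (Fin.last k) ∉ T := by
      intro hmem
      obtain ⟨i, -, hi⟩ := Finset.mem_image.1 hmem
      rw [← hg' i] at hi
      exact (Fin.castSucc_lt_last i).ne (u.injective (smul_left_cancel g hi))
    have hy : v (Fin.last k) ∉ T := by
      intro hmem
      obtain ⟨i, -, hi⟩ := Finset.mem_image.1 hmem
      exact (Fin.castSucc_lt_last i).ne (v.injective hi)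
    obtain ⟨g', hg'1, hg'2⟩ := h T hT _ _ hx hy
    refine ⟨g' * g, ?_⟩
    ext i
    rw [Function.Embedding.smul_apply, mul_smul]
    induction i using Fin.lastCases with
    | last => exact hg'2
    | cast i =>
      rw [hg' i]
      exact hg'1 _ (Finset.mem_image.2 ⟨i, Finset.mem_univ _, rfl⟩)

/-- In a `k`-transitive group the pointwise stabiliser of fewer than `k` points is transitive on
the remaining points. -/
theorem exists_fixing_of_isMultiplyPretransitive {G : Type*} [Group G] [MulAction G α] {k : ℕ}
    (hk : IsMultiplyPretransitive G α k) {T : Finset α} (hT : T.card + 1 = k) {x y : α}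
    (hx : x ∉ T) (hy : y ∉ T) : ∃ g : G, (∀ t ∈ T, g • t = t) ∧ g • x = y := by
  classical
  subst hT
  let e : Fin T.card → α := fun i => (T.equivFin.symm i).1
  have he : Function.Injective e := fun i j hij => T.equivFin.symm.injective (Subtype.ext hij)
  have hmk : ∀ z, z ∉ T → ∃ u : Fin (T.card + 1) ↪ α,
      (∀ i : Fin T.card, u i.castSucc = e i) ∧ u (Fin.last _) = z := fun z hz => by
    refine ⟨⟨Fin.snoc e z, Fin.snoc_injective_iff.2 ⟨he, ?_⟩⟩, fun i => ?_, ?_⟩
    · rintro ⟨i, hi⟩; exact hz (hi ▸ (T.equivFin.symm i).2)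
    · exact Fin.snoc_castSucc (α := fun _ => α) z e i
    · exact Fin.snoc_last (α := fun _ => α) z e
  obtain ⟨u, hu1, hu2⟩ := hmk x hx
  obtain ⟨v, hv1, hv2⟩ := hmk y hy
  obtain ⟨g, hg⟩ := exists_smul_eq G u v
  refine ⟨g, fun t ht => ?_, ?_⟩
  · have h1 := congrArg (fun f : Fin (T.card + 1) ↪ α => f (T.equivFin ⟨t, ht⟩).castSucc) hg
    simp only [Function.Embedding.smul_apply, hu1, hv1, e, Equiv.symm_apply_apply] at h1
    exact h1
  · have h1 := congrArg (fun f : Fin (T.card + 1) ↪ α => f (Fin.last _)) hg
    simp only [Function.Embedding.smul_apply, hu2, hv2] at h1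
    exact h1

end Cfsg.Agent.Perm
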