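import Mathlib
import Cfsg.Agent.Lib.Solv.PGroupPhi

/-!
Counting generating tuples of a finite `p`-group, and automorphisms fixing the Frattini quotient.
-/

set_option autoImplicit false

open scoped commutatorElement

namespace Cfsg.Agent.Perm

variable {P : Type*} [Group P]

theorem aut_eq_one_of_gen {ι : Type*} {f : ι → P} (hgen : Subgroup.closure (Set.range f) = ⊤)
    {α : MulAut P} (h : ∀ i, α (f i) = f i) : α = 1 := by
  refine MulEquiv.ext fun x => ?_
  have hx : x ∈ Subgroup.closure (Set.range f) := hgen ▸ Subgroup.mem_top x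
  show α x = x
  induction hx using Subgroup.closure_induction with
  | mem y hy => obtain ⟨i, rfl⟩ := hy; exact h i
  | one => exact map_one α
  | mul y z _ _ hy hz => rw [map_mul, hy, hz]
  | inv y _ hy => rw [map_inv, hy]

/-- A group acting freely on a finite set has order dividing its cardinality. -/
theorem card_dvd_of_free {A X : Type*} [Group A] [Finite A] [MulAction A X] [Finite X]
    (h : ∀ (a : A) (x : X), a • x = x → a = 1) : Nat.card A ∣ Nat.card X := by
  classical
  haveI : Fintype (MulAction.orbitRel.Quotient A X) := Fintype.ofFinite _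
  haveI : ∀ x : X, Finite (MulAction.orbit A x) := fun x => Subtype.finite
  rw [Nat.card_congr (MulAction.selfEquivSigmaOrbits A X), Nat.card_sigma]
  refine Finset.dvd_sum fun ω _ => ?_
  have hs : MulAction.stabilizer A ω.out = ⊥ :=
    (Subgroup.eq_bot_iff_forall _).2 fun a ha => h a _ ha
  rw [Nat.card_congr (MulAction.orbitEquivQuotientStabilizer A ω.out), ← Subgroup.index_eq_card, hs,
    Subgroup.index_bot]

variable [Finite P] {p : ℕ} [hp : Fact p.Prime]

/-- Subgroup generated by a tuple together with the Frattini subgroup. -/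
def spanPhi {i : ℕ} (f : Fin i → P) : Subgroup P := Subgroup.closure (Set.range f) ⊔ frattini P

theorem spanPhi_snoc {i : ℕ} (f : Fin i → P) (x : P) :
    spanPhi (Fin.snoc f x : Fin (i + 1) → P) = spanPhi f ⊔ Subgroup.zpowers x := by
  rw [spanPhi, spanPhi, Fin.range_snoc, Set.insert_eq, Subgroup.closure_union,
    ← Subgroup.zpowers_eq_closure, sup_comm (Subgroup.zpowers x), sup_right_comm]

theorem card_sup_zpowers (hP : IsPGroup p P) {S : Subgroup P} (hS : frattini P ≤ S) {x : P}
    (hx : x ∉ S) : Nat.card ↥(S ⊔ Subgroup.zpowers x) = Nat.card S * p := by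
  haveI hn : S.Normal := ⟨fun y hy g => by
    have h : ⁅g, y⁆ ∈ S := hS (Solv.commutatorElement_mem_frattini hP g y)
    have := S.mul_mem h hy
    rwa [commutatorElement_def, inv_mul_cancel_right] at this⟩
  let π := QuotientGroup.mk' S
  have hord : orderOf (π x) = p := by
    refine orderOf_eq_prime ?_ (fun e => hx ((QuotientGroup.eq_one_iff x).1 e))
    rw [← map_pow]
    exact (QuotientGroup.eq_one_iff _).2 (hS (Solv.pow_mem_frattini hP x))
  have hmap : (S ⊔ Subgroup.zpowers x).map π = Subgroup.zpowers (π x) := by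
    rw [Subgroup.map_sup, MonoidHom.map_zpowers, sup_eq_right, Subgroup.map_le_iff_le_comap]
    intro s hs
    show π s ∈ Subgroup.zpowers (π x)
    rw [(QuotientGroup.eq_one_iff s).2 hs |> (fun e => (show π s = 1 from e))]
    exact one_mem _
  have h := Subgroup.card_eq_card_quotient_mul_card_subgroup (π.comp (S ⊔ Subgroup.zpowers x).subtype).ker
  rw [Nat.card_congr (QuotientGroup.quotientKerEquivRange (π.comp (S ⊔ Subgroup.zpowers x).subtype)).toEquiv,
    MonoidHom.range_comp, Subgroup.range_subtype, hmap, Nat.card_zpowers, hord, ← MonoidHom.comap_ker,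
    QuotientGroup.ker_mk'] at h
  rw [h, mul_comm]
  congr 1
  exact Nat.card_congr (Subgroup.subgroupOfEquivOfLe le_sup_left).toEquiv

theorem spanPhi_card_le (hP : IsPGroup p P) : ∀ (i : ℕ) (f : Fin i → P),
    Nat.card (spanPhi f) ≤ Nat.card (frattini P) * p ^ i
  | 0, f => by simp [spanPhi]
  | i + 1, f => by
    rw [← Fin.snoc_init_self f, spanPhi_snoc]
    have ih := spanPhi_card_le hP i (Fin.init f)
    by_cases hx : f (Fin.last i) ∈ spanPhi (Fin.init f)
    · rw [sup_eq_left.2 (Subgroup.zpowers_le.2 hx)]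
      exact ih.trans (Nat.mul_le_mul_left _ (Nat.pow_le_pow_right hp.out.pos (Nat.le_succ i)))
    · rw [card_sup_zpowers hP (S := spanPhi (Fin.init f)) le_sup_right hx, pow_succ, ← mul_assoc]
      exact Nat.mul_le_mul_right _ ih

/-- The tuples that are independent modulo the Frattini subgroup. -/
abbrev GoodTuple (P : Type*) [Group P] (p i : ℕ) : Type _ :=
  {f : Fin i → P // Nat.card (spanPhi f) = Nat.card (frattini P) * p ^ i}

theorem card_goodTuple (hP : IsPGroup p P) (i : ℕ) :
    Nat.card (GoodTuple P p i) = ∏ j ∈ Finset.range i, (Nat.card P - Nat.card (frattini P) * p ^ j) := by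
  classical
  induction i with
  | zero =>
    haveI : Unique (GoodTuple P p 0) :=
      { default := ⟨fun j => j.elim0, by simp [spanPhi]⟩
        uniq := fun f => Subtype.ext (funext fun j => j.elim0) }
    simp
  | succ i ih =>
    have key : ∀ f : Fin (i + 1) → P, Nat.card (spanPhi f) = Nat.card (frattini P) * p ^ (i + 1) ↔
        Nat.card (spanPhi (Fin.init f)) = Nat.card (frattini P) * p ^ i ∧ f (Fin.last i) ∉ spanPhi (Fin.init f) := by
      intro f
      have hf : spanPhi f = spanPhi (Fin.init f) ⊔ Subgroup.zpowers (f (Fin.last i)) := by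
        conv_lhs => rw [← Fin.snoc_init_self f]
        exact spanPhi_snoc _ _
      have hle := spanPhi_card_le hP i (Fin.init f)
      have hpos : 0 < Nat.card (frattini P) * p ^ i := Nat.mul_pos Nat.card_pos (pow_pos hp.out.pos i)
      by_cases hx : f (Fin.last i) ∈ spanPhi (Fin.init f)
      · rw [hf, sup_eq_left.2 (Subgroup.zpowers_le.2 hx)]
        refine ⟨fun h => ?_, fun h => absurd hx h.2⟩
        rw [h, pow_succ, ← mul_assoc] at hle
        exact absurd hle (not_le.2 ((lt_mul_iff_one_lt_right hpos).2 hp.out.one_lt))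
      · rw [hf, card_sup_zpowers hP (S := spanPhi (Fin.init f)) le_sup_right hx, pow_succ, ← mul_assoc]
        exact ⟨fun h => ⟨Nat.eq_of_mul_eq_mul_right hp.out.pos h, hx⟩, fun h => by rw [h.1]⟩
    let e : GoodTuple P p (i + 1) ≃ Σ g : GoodTuple P p i, {x : P // x ∉ spanPhi g.1} :=
      { toFun := fun f => ⟨⟨Fin.init f.1, ((key f.1).1 f.2).1⟩, ⟨f.1 (Fin.last i), ((key f.1).1 f.2).2⟩⟩
        invFun := fun z => ⟨Fin.snoc z.1.1 z.2.1, (key _).2 ⟨by rw [Fin.init_snoc]; exact z.1.2,
          by rw [Fin.init_snoc, Fin.snoc_last]; exact z.2.2⟩⟩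
        left_inv := fun f => Subtype.ext (Fin.snoc_init_self f.1)
        right_inv := by
          rintro ⟨⟨g, hg⟩, x, hx⟩
          exact Sigma.subtype_ext (Subtype.ext (Fin.init_snoc (α := fun _ => P) x g)) (Fin.snoc_last (α := fun _ => P) x g) }
    haveI : Fintype (GoodTuple P p i) := Fintype.ofFinite _
    haveI : Fintype P := Fintype.ofFinite P
    have hfib : ∀ g : GoodTuple P p i,
        Nat.card {x : P // x ∉ spanPhi g.1} = Nat.card P - Nat.card (frattini P) * p ^ i := by
      intro g
      refine Eq.trans ?_ (congrArg (Nat.card P - ·) g.2)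
      simp only [Nat.card_eq_fintype_card]
      exact Fintype.card_subtype_compl _
    rw [Nat.card_congr e, Nat.card_sigma, Finset.sum_congr rfl (fun g _ => hfib g), Finset.sum_const,
      Finset.card_univ, smul_eq_mul, ← Nat.card_eq_fintype_card, ih, Finset.prod_range_succ]

theorem card_frattini {n r : ℕ} (hP : Nat.card P = p ^ n) (hr : (frattini P).index = p ^ r) :
    r ≤ n ∧ Nat.card (frattini P) = p ^ (n - r) := by
  have hmul := (frattini P).card_mul_index
  rw [hr, hP] at hmul
  have hrn : r ≤ n := (Nat.pow_dvd_pow_iff_le_right hp.out.one_lt).1 (hmul ▸ dvd_mul_left _ _)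
  refine ⟨hrn, Nat.eq_of_mul_eq_mul_right (pow_pos hp.out.pos r) (hmul.trans ?_)⟩
  rw [← pow_add, Nat.sub_add_cancel hrn]

theorem spanPhi_eq_top {i : ℕ} {f : Fin i → P} (h : spanPhi f = ⊤) :
    Subgroup.closure (Set.range f) = ⊤ := frattini_nongenerating h

theorem good_gen {n r : ℕ} (hP : Nat.card P = p ^ n) (hr : (frattini P).index = p ^ r)
    (f : GoodTuple P p r) : Subgroup.closure (Set.range f.1) = ⊤ := by
  obtain ⟨hrn, hc⟩ := card_frattini hP hr
  refine spanPhi_eq_top (Subgroup.eq_top_of_card_eq _ ?_)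
  rw [f.2, hc, hP, ← pow_add, Nat.sub_add_cancel hrn]

theorem prod_eq {n r : ℕ} (hP : Nat.card P = p ^ n) (hr : (frattini P).index = p ^ r) :
    ∏ j ∈ Finset.range r, (Nat.card P - Nat.card (frattini P) * p ^ j) =
      p ^ (r * (n - r)) * ∏ j ∈ Finset.range r, (p ^ r - p ^ j) := by
  obtain ⟨hrn, hc⟩ := card_frattini hP hr
  have h : ∀ j, Nat.card P - Nat.card (frattini P) * p ^ j = p ^ (n - r) * (p ^ r - p ^ j) := by
    intro j
    rw [Nat.mul_sub, hc, hP, ← pow_add _ (n - r) r, Nat.sub_add_cancel hrn]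
  rw [Finset.prod_congr rfl (fun j _ => h j), Finset.prod_mul_distrib, Finset.prod_const,
    Finset.card_range, ← pow_mul, mul_comm (n - r) r]

theorem exists_goodTuple (hP : IsPGroup p P) {n r : ℕ} (hn : Nat.card P = p ^ n)
    (hr : (frattini P).index = p ^ r) : Nonempty (GoodTuple P p r) := by
  refine (Nat.card_pos_iff.1 ?_).1
  rw [card_goodTuple hP, prod_eq hn hr]
  refine Nat.mul_pos (pow_pos hp.out.pos _) (Finset.prod_pos fun j hj => ?_)
  exact Nat.sub_pos_of_lt (Nat.pow_lt_pow_right hp.out.one_lt (Finset.mem_range.1 hj))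

end Cfsg.Agent.Perm
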