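import Cfsg.Agent.Lib.Solv.Coprime
import Cfsg.Agent.Lib.Fusion.NPC
import Cfsg.Agent.Lib.Fusion.AbelianHall
import Cfsg.Agent.Lib.Fusion.NPCFunctor
import Cfsg.Agent.Lib.Local.TypePBasic
import Cfsg.Prelude.Def_HallClasses

/-!
# Wielandt's theorem on Hall subgroups with a nilpotent direct factor
-/

set_option autoImplicit false
set_option linter.style.haveILetI false

namespace Cfsg.Agent.Perm.NilpotentHall

open Cfsg Cfsg.Agent.Fusion

universe u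

variable {G : Type u} [Group G] [Finite G]

theorem exists_sylow_le {p : ℕ} [Fact p.Prime] {H : Subgroup G} (h : ¬ p ∣ H.index) :
    ∃ Q : Sylow p G, (Q : Subgroup G) ≤ H := by
  obtain ⟨Q0⟩ : Nonempty (Sylow p H) := inferInstance
  obtain ⟨Q, hQ⟩ := (Q0.2.map H.subtype).exists_le_sylow
  refine ⟨Q, le_of_eq_of_le (Subgroup.eq_of_le_of_card_ge hQ ?_).symm (Subgroup.map_subtype_le _)⟩
  rw [Subgroup.card_map_of_injective H.subtype_injective, Sylow.card_eq_multiplicity, Sylow.card_eq_multiplicity,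
    ← H.index_mul_card, Nat.factorization_mul Subgroup.index_ne_zero_of_finite Nat.card_pos.ne', Finsupp.add_apply,
    Nat.factorization_eq_zero_of_not_dvd h, zero_add]

theorem conj_into {p : ℕ} [Fact p.Prime] (K : Subgroup G) (Q : Sylow p G) (hQK : (Q : Subgroup G) ≤ K)
    (X : Subgroup G) (hX : IsPGroup p X) (hXK : X ≤ K) :
    ∃ k ∈ K, ∀ x ∈ X, k * x * k⁻¹ ∈ (Q : Subgroup G) := by
  obtain ⟨P, hP⟩ := (hX.of_equiv (Subgroup.subgroupOfEquivOfLe hXK).symm).exists_le_sylow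
  obtain ⟨k, hk⟩ := MulAction.exists_smul_eq K P (Q.subtype hQK)
  refine ⟨k, k.2, fun x hx => ?_⟩
  have h2 : k * ⟨x, hXK hx⟩ * k⁻¹ ∈ ((Q.subtype hQK : Sylow p K) : Subgroup K) := by
    rw [← hk, Sylow.coe_subgroup_smul]
    exact ⟨_, hP (Subgroup.mem_subgroupOf.2 hx), rfl⟩
  exact h2

theorem coprime_of_mem {p q : ℕ} [Fact p.Prime] [Fact q.Prime] (hne : p ≠ q) {X Y : Subgroup G} (hX : IsPGroup p X)
    (hY : IsPGroup q Y) {x y : G} (hx : x ∈ X) (hy : y ∈ Y) : (orderOf x).Coprime (orderOf y) := by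
  obtain ⟨a, ha⟩ := IsPGroup.iff_orderOf.1 hX ⟨x, hx⟩
  obtain ⟨b, hb⟩ := IsPGroup.iff_orderOf.1 hY ⟨y, hy⟩
  rw [Subgroup.orderOf_mk] at ha hb
  rw [ha, hb]
  exact Nat.Coprime.pow a b ((Nat.coprime_primes Fact.out Fact.out).2 hne)

theorem comm_nilpotent {H : Subgroup G} (hH : Group.IsNilpotent H) {x y : G} (hx : x ∈ H) (hy : y ∈ H)
    (h : (orderOf x).Coprime (orderOf y)) : x * y = y * x := by
  have h' : (orderOf (⟨x, hx⟩ : H)).Coprime (orderOf (⟨y, hy⟩ : H)) := by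
    rwa [Subgroup.orderOf_mk, Subgroup.orderOf_mk]
  exact congrArg Subtype.val (Cfsg.Agent.TypePBasic.commute_of_coprime h').eq

/-- A nilpotent subgroup goes into a nilpotent subgroup containing the relevant Sylow subgroups. -/
theorem nilpotent_conj : ∀ (n : ℕ) (S C Hn : Subgroup G), Nat.card S = n → S ≤ C → Hn ≤ C → Group.IsNilpotent Hn →
    Group.IsNilpotent S → (∀ q : ℕ, q.Prime → q ∣ Nat.card S → ¬ q ∣ Hn.index) →
    ∃ c ∈ C, ∀ s ∈ S, c * s * c⁻¹ ∈ Hn := by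
  intro n
  induction n using Nat.strong_induction_on with
  | _ n ih =>
  intro S C Hn hn hSC hHC hHn hS hidx
  rcases eq_or_ne (Nat.card S) 1 with h1 | h1
  · refine ⟨1, C.one_mem, fun s hs => ?_⟩
    rw [Subgroup.eq_bot_of_card_eq _ h1, Subgroup.mem_bot] at hs
    rw [hs, mul_one, mul_inv_cancel]
    exact Hn.one_mem
  obtain ⟨p, hp, hpS⟩ := Nat.exists_prime_and_dvd h1
  haveI : Fact p.Prime := ⟨hp⟩
  haveI := hS
  obtain ⟨P⟩ : Nonempty (Sylow p S) := inferInstance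
  obtain ⟨R, hRn, hRc⟩ := hnpc_exists_complement (hnpc_of_isNilpotent (G := S) (p := p)) P
  haveI := hRn
  have hRcop : (Nat.card R).Coprime p := coprime_card_of_isComplement' hRc
  obtain ⟨Q, hQ⟩ := exists_sylow_le (hidx p hp hpS)
  set P0 := (P : Subgroup S).map S.subtype
  obtain ⟨c1, hc1, hP1⟩ := conj_into C Q (hQ.trans hHC) P0 (P.2.map S.subtype)
    ((Subgroup.map_subtype_le _).trans hSC)
  set P1 := P0.map (MulAut.conj c1).toMonoidHom with hP1def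
  set R1 := (R.map S.subtype).map (MulAut.conj c1).toMonoidHom with hR1def
  have hcardR : Nat.card R1 = Nat.card R := by
    rw [hR1def, Subgroup.card_map_of_injective (MulAut.conj c1).injective, Subgroup.card_map_of_injective S.subtype_injective]
  have hP1p : IsPGroup p P1 := (P.2.map S.subtype).map _
  have hlt : Nat.card R1 < n := by
    rw [hcardR, ← hn, ← hRc.card_mul]
    refine lt_mul_of_one_lt_right Nat.card_pos ?_
    rw [P.card_eq_multiplicity]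
    exact Nat.one_lt_pow (hp.factorization_pos_of_dvd Nat.card_pos.ne' hpS).ne' hp.one_lt
  have hR1 : R1 ≤ C ⊓ Subgroup.centralizer (P1 : Set G) := by
    rintro _ ⟨_, ⟨r, hr, rfl⟩, rfl⟩
    refine Subgroup.mem_inf.2 ⟨C.mul_mem (C.mul_mem hc1 (hSC r.2)) (C.inv_mem hc1), Subgroup.mem_centralizer_iff.2 ?_⟩
    rintro _ ⟨_, ⟨a, ha, rfl⟩, rfl⟩
    show MulAut.conj c1 (a : G) * MulAut.conj c1 (r : G) = MulAut.conj c1 (r : G) * MulAut.conj c1 (a : G)
    rw [← map_mul, ← map_mul]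
    refine congrArg (MulAut.conj c1) (comm_nilpotent hS a.2 r.2 ?_)
    rw [Subgroup.orderOf_coe, Subgroup.orderOf_coe]
    obtain ⟨k, hk⟩ := IsPGroup.iff_orderOf.1 P.2 ⟨a, ha⟩
    rw [Subgroup.orderOf_mk] at hk
    rw [hk]
    refine Nat.Coprime.pow_left k (hRcop.coprime_dvd_left ?_).symm
    rw [← Subgroup.orderOf_mk r hr]
    exact orderOf_dvd_natCard _
  haveI : Group.IsNilpotent R1 := by
    rw [hR1def, Subgroup.map_map]
    exact Group.nilpotent_of_surjective _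
      (((MulAut.conj c1).toMonoidHom.comp S.subtype).subgroupMap_surjective R)
  have hidx' : ∀ q : ℕ, q.Prime → q ∣ Nat.card R1 → ¬ q ∣ (Hn ⊓ Subgroup.centralizer (P1 : Set G)).index := by
    intro q hq hqR hd
    haveI : Fact q.Prime := ⟨hq⟩
    have hqS : q ∣ Nat.card S := (hcardR ▸ hqR).trans (Subgroup.card_subgroup_dvd_card R)
    have hqp : q ≠ p := fun h => by
      rw [h, hcardR] at hqR
      exact hp.ne_one (Nat.eq_one_of_dvd_coprimes hRcop hqR dvd_rfl)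
    obtain ⟨Q', hQ'⟩ := exists_sylow_le (hidx q hq hqS)
    refine Q'.not_dvd_index (hd.trans (Subgroup.index_dvd_of_le (le_inf hQ' fun y hy => ?_)))
    refine Subgroup.mem_centralizer_iff.2 fun a ha => ?_
    obtain ⟨a0, ha0, rfl⟩ := ha
    have haH : (MulAut.conj c1).toMonoidHom a0 ∈ Hn := hQ (hP1 a0 ha0)
    exact comm_nilpotent hHn haH (hQ' hy) (coprime_of_mem hqp.symm hP1p Q'.2 ⟨a0, ha0, rfl⟩ hy)
  obtain ⟨c2, hc2, hR2⟩ := ih _ hlt R1 (C ⊓ Subgroup.centralizer (P1 : Set G))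
    (Hn ⊓ Subgroup.centralizer (P1 : Set G)) rfl hR1 (inf_le_inf_right _ hHC)
    (Group.nilpotent_of_mulEquiv (Subgroup.subgroupOfEquivOfLe inf_le_left)) inferInstance hidx'
  obtain ⟨hc2C, hc2P⟩ := Subgroup.mem_inf.1 hc2
  refine ⟨c2 * c1, C.mul_mem hc2C hc1, fun s hs => ?_⟩
  obtain ⟨r, hr, a, ha, e⟩ := Subgroup.mem_sup_of_normal_left.1
    (hRc.sup_eq_top.ge (Subgroup.mem_top (⟨s, hs⟩ : S)))
  have hs' : s = (r : G) * (a : G) := (congrArg Subtype.val e).symm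
  have hrR : c1 * (r : G) * c1⁻¹ ∈ R1 := ⟨r, ⟨r, hr, rfl⟩, rfl⟩
  have haP : c1 * (a : G) * c1⁻¹ ∈ P1 := ⟨a, ⟨a, ha, rfl⟩, rfl⟩
  have e1 : c2 * c1 * s * (c2 * c1)⁻¹ = (c2 * (c1 * r * c1⁻¹) * c2⁻¹) * (c2 * (c1 * a * c1⁻¹) * c2⁻¹) := by
    rw [hs']; group
  rw [e1]
  refine Hn.mul_mem (Subgroup.mem_inf.1 (hR2 _ hrR)).1 ?_
  rw [← Subgroup.mem_centralizer_iff.1 hc2P _ haP, mul_inv_cancel_right]
  exact hQ (hP1 _ ⟨a, ha, rfl⟩)

/-- `U` is conjugate to a subgroup of `H`. -/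
def Into (U H : Subgroup G) : Prop := ∃ g : G, ∀ u ∈ U, g * u * g⁻¹ ∈ H

theorem Into.sup {X Y H : Subgroup G} {g : G} (hX : ∀ x ∈ X, g * x * g⁻¹ ∈ H) (hY : ∀ y ∈ Y, g * y * g⁻¹ ∈ H) :
    Into (X ⊔ Y) H :=
  ⟨g, fun u hu => (sup_le (fun x hx => hX x hx) fun y hy => hY y hy :
    X ⊔ Y ≤ H.comap (MulAut.conj g).toMonoidHom) hu⟩

/-- Two-prime subgroups. -/
theorem two_part (π : Set ℕ) (H : Subgroup G) (hH : ∀ q : ℕ, q.Prime → q ∈ π → ¬ q ∣ H.index) {a b : ℕ}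
    [Fact a.Prime] [Fact b.Prime] (ha : a ∈ π) (hb : b ∈ π)
    (hcomm : ∀ x ∈ H, ∀ y ∈ H, (∃ k, orderOf x = a ^ k) → (∃ k, orderOf y = b ^ k) → x * y = y * x)
    (X Y : Subgroup G) (hX : IsPGroup a X) (hY : IsPGroup b Y) (hYX : Y ≤ Subgroup.normalizer (X : Set G)) :
    Into (X ⊔ Y) H := by
  obtain ⟨Qa, hQa⟩ := exists_sylow_le (hH a Fact.out ha)
  obtain ⟨Qb, hQb⟩ := exists_sylow_le (hH b Fact.out hb)
  obtain ⟨g, -, hg⟩ := conj_into ⊤ Qa le_top X hX le_top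
  set X' := X.map (MulAut.conj g).toMonoidHom with hX'
  have hX'H : X' ≤ H := by rintro _ ⟨x, hx, rfl⟩; exact hQa (hg x hx)
  have hQbN : (Qb : Subgroup G) ≤ Subgroup.normalizer (X' : Set G) := by
    refine le_trans ?_ (Subgroup.centralizer_le_normalizer _)
    intro y hy
    refine Subgroup.mem_centralizer_iff.2 fun x hx => hcomm x (hX'H hx) y (hQb hy) ?_ ?_
    · obtain ⟨k, hk⟩ := IsPGroup.iff_orderOf.1 (hX.map (MulAut.conj g).toMonoidHom) ⟨x, hx⟩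
      exact ⟨k, by rwa [Subgroup.orderOf_mk] at hk⟩
    · obtain ⟨k, hk⟩ := IsPGroup.iff_orderOf.1 Qb.2 ⟨y, hy⟩
      exact ⟨k, by rwa [Subgroup.orderOf_mk] at hk⟩
  have hY'N : Y.map (MulAut.conj g).toMonoidHom ≤ Subgroup.normalizer (X' : Set G) := by
    rintro _ ⟨y, hy, rfl⟩
    exact Subgroup.le_normalizer_map (H := X) (MulAut.conj g).toMonoidHom ⟨y, hYX hy, rfl⟩
  obtain ⟨k, hk, hkY⟩ := conj_into _ Qb hQbN _ (hY.map _) hY'N
  refine Into.sup (g := k * g) (fun x hx => hX'H ?_) fun y hy => hQb ?_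
  · rw [show k * g * x * (k * g)⁻¹ = k * (g * x * g⁻¹) * k⁻¹ by group]
    exact (Subgroup.mem_normalizer_iff.1 hk _).1 ⟨x, hx, rfl⟩
  · rw [show k * g * y * (k * g)⁻¹ = k * (g * y * g⁻¹) * k⁻¹ by group]
    exact hkY _ ⟨y, hy, rfl⟩

/-- An element of order prime to `p` not centralising can be taken of prime-power order. -/
theorem exists_primePow (p : ℕ) (C : Subgroup G) : ∀ (n : ℕ) (g : G), orderOf g = n → n.Coprime p → g ∉ C →
    ∃ (y : G) (q k : ℕ), q.Prime ∧ q ≠ p ∧ orderOf y = q ^ k ∧ y ∈ Subgroup.zpowers g ∧ y ∉ C := by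
  intro n
  induction n using Nat.strong_induction_on with
  | _ n ih =>
  intro g hg hcop hgC
  have hn1 : n ≠ 1 := fun h => hgC (by rw [orderOf_eq_one_iff.1 (hg.trans h)]; exact C.one_mem)
  have hn0 : n ≠ 0 := hg ▸ (orderOf_pos g).ne'
  obtain ⟨q, hq, hqn⟩ := Nat.exists_prime_and_dvd hn1
  have hqp : q ≠ p := fun h => hq.ne_one (Nat.eq_one_of_dvd_coprimes hcop hqn (h ▸ dvd_rfl))
  obtain ⟨k, m, hm, hkm⟩ := Nat.exists_eq_pow_mul_and_not_dvd hn0 q hq.ne_one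
  have hk0 : k ≠ 0 := fun h => hm (by rw [h, pow_zero, one_mul] at hkm; exact hkm ▸ hqn)
  have hq1 : 1 < q ^ k := Nat.one_lt_pow hk0 hq.one_lt
  have ho1 : orderOf (g ^ m) = q ^ k := by
    rw [orderOf_pow_of_dvd (fun h => hn0 (by rw [hkm, h, mul_zero])) (hg.symm ▸ hkm ▸ dvd_mul_left _ _), hg, hkm,
      Nat.mul_div_cancel _ (Nat.pos_of_ne_zero fun h => hn0 (by rw [hkm, h, mul_zero]))]
  by_cases h1 : g ^ m ∈ C
  swap
  · exact ⟨g ^ m, q, k, hq, hqp, ho1, Subgroup.npow_mem_zpowers g m, h1⟩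
  have ho2 : orderOf (g ^ (q ^ k)) = m := by
    rw [orderOf_pow_of_dvd (by omega) (hg.symm ▸ hkm ▸ dvd_mul_right _ _), hg, hkm,
      Nat.mul_div_cancel_left _ (by omega)]
  have hco : Nat.Coprime m (q ^ k) := Nat.Coprime.pow_right k ((Nat.Prime.coprime_iff_not_dvd hq).2 hm).symm
  have h2 : g ^ (q ^ k) ∉ C := by
    intro h2
    apply hgC
    have e : ((m : ℤ) * Nat.gcdA m (q ^ k) + ((q ^ k : ℕ) : ℤ) * Nat.gcdB m (q ^ k)) = 1 := by
      rw [← Nat.gcd_eq_gcd_ab, hco]; rfl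
    rw [← zpow_one g, ← e, zpow_add, zpow_mul, zpow_mul, zpow_natCast, zpow_natCast]
    exact C.mul_mem (C.zpow_mem h1 _) (C.zpow_mem h2 _)
  obtain ⟨y, q', k', hq', hne', hy, hyz, hyC⟩ := ih m (by
      rw [hkm]; exact lt_mul_of_one_lt_left (Nat.pos_of_ne_zero fun h => hn0 (by rw [hkm, h, mul_zero])) hq1)
    (g ^ (q ^ k)) ho2 (hcop.coprime_dvd_left (hkm ▸ dvd_mul_left _ _)) h2
  exact ⟨y, q', k', hq', hne', hy, (Subgroup.zpowers_le.2 (Subgroup.npow_mem_zpowers g _)) hyz, hyC⟩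

theorem split_mem {σ τ : Set ℕ} (hd : Disjoint σ τ) {H Hs Ht : Subgroup G} (hs : IsPiSubgroup σ Hs)
    (ht : IsPiSubgroup τ Ht) (hjoin : Hs ⊔ Ht = H) (hcomm : ∀ a ∈ Hs, ∀ b ∈ Ht, a * b = b * a) :
    ∀ x ∈ H, ∃ s ∈ Hs, ∃ t ∈ Ht, x = s * t ∧ s ∈ Subgroup.zpowers x ∧ t ∈ Subgroup.zpowers x ∧
      orderOf s ∣ orderOf x ∧ orderOf t ∣ orderOf x := by
  have hcop : (Nat.card Hs).Coprime (Nat.card Ht) := Nat.coprime_of_dvd fun q hq h1 h2 =>
    Set.disjoint_left.1 hd (hs q hq h1) (ht q hq h2)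
  intro x hx
  rw [← hjoin] at hx
  have hn : Ht ≤ Subgroup.normalizer (Hs : Set G) := le_trans
    (fun b hb => Subgroup.mem_centralizer_iff.2 fun a ha => hcomm a ha b hb) (Subgroup.centralizer_le_normalizer _)
  rw [← SetLike.mem_coe, Subgroup.coe_mul_of_right_le_normalizer_left Hs Ht hn, Set.mem_mul] at hx
  obtain ⟨s, hs', t, ht', rfl⟩ := hx
  have hc : Commute s t := hcomm s hs' t ht'
  have hco : (orderOf s).Coprime (orderOf t) :=
    (hcop.coprime_dvd_left (Subgroup.orderOf_dvd_natCard Hs hs')).coprime_dvd_right (Subgroup.orderOf_dvd_natCard Ht ht')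
  have e : ((orderOf s : ℤ) * Nat.gcdA (orderOf s) (orderOf t) + (orderOf t : ℤ) * Nat.gcdB (orderOf s) (orderOf t)) = 1 := by
    rw [← Nat.gcd_eq_gcd_ab, hco]; rfl
  have e1 : s = (s * t) ^ ((orderOf t : ℤ) * Nat.gcdB (orderOf s) (orderOf t)) := by
    rw [hc.mul_zpow, zpow_mul t, zpow_natCast, pow_orderOf_eq_one, one_zpow, mul_one]
    conv_lhs => rw [← zpow_one s, ← e, zpow_add, zpow_mul, zpow_natCast, pow_orderOf_eq_one, one_zpow, one_mul]
  have e2 : t = (s * t) ^ ((orderOf s : ℤ) * Nat.gcdA (orderOf s) (orderOf t)) := by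
    rw [hc.mul_zpow, zpow_mul s, zpow_natCast, pow_orderOf_eq_one, one_zpow, one_mul]
    conv_lhs => rw [← zpow_one t, ← e, add_comm, zpow_add, zpow_mul, zpow_natCast, pow_orderOf_eq_one, one_zpow, one_mul]
  have hsz : s ∈ Subgroup.zpowers (s * t) := Subgroup.mem_zpowers_iff.2 ⟨_, e1.symm⟩
  have htz : t ∈ Subgroup.zpowers (s * t) := Subgroup.mem_zpowers_iff.2 ⟨_, e2.symm⟩
  exact ⟨s, hs', t, ht', rfl, hsz, htz, orderOf_dvd_of_mem_zpowers hsz, orderOf_dvd_of_mem_zpowers htz⟩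

end Cfsg.Agent.Perm.NilpotentHall
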