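import Cfsg.Agent.Lib.Perm.Supersolvable
import Mathlib.GroupTheory.IndexNormal
import Mathlib.LinearAlgebra.Eigenspace.Minpoly
import Mathlib.FieldTheory.Finite.Basic
import Mathlib.GroupTheory.NoncommCoprod
import Mathlib.LinearAlgebra.Dimension.Finite
import Mathlib.Algebra.Module.ZMod
import Mathlib.FieldTheory.Finite.GaloisField
import Mathlib.GroupTheory.Commutator.Basic

/-!
Nilpotence modulo the Frattini subgroup, Huppert's criterion for supersolvability (all maximal
subgroups of prime index), McLain's criterion (converse of Lagrange in all subgroups), and groups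
of order `2 p ^ n`.
-/

set_option autoImplicit false

namespace Cfsg.Agent.Perm

open Subgroup
open scoped Pointwise

universe u

variable {G : Type u} [Group G]

theorem isNilpotent_of_le_frattini [Finite G] (A B : Subgroup G) [hA : A.Normal] [B.Normal]
    (hBA : B ≤ A) (hB : B ≤ frattini G) (h : Group.IsNilpotent (A.map (QuotientGroup.mk' B))) :
    Group.IsNilpotent A := by
  refine ((Group.isNilpotent_of_finite_tfae (G := A)).out 0 3).mpr fun p hp Q => ?_
  haveI : Fact p.Prime := hp
  let π := QuotientGroup.mk' B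
  haveI hAq : (A.map π).Normal := hA.map π (QuotientGroup.mk'_surjective B)
  let f : A →* A.map π := π.subgroupMap A
  have hf : Function.Surjective f := π.subgroupMap_surjective A
  let Qb : Sylow p (A.map π) := Q.mapSurjective hf
  haveI : (Qb : Subgroup (A.map π)).Characteristic := by
    haveI := h
    exact Qb.characteristic_of_normal inferInstance
  let Q' : Subgroup G := (Q : Subgroup A).map A.subtype
  have hmap : ((Qb : Subgroup (A.map π))).map (A.map π).subtype = Q'.map π := by
    rw [show ((Qb : Subgroup (A.map π))) = (Q : Subgroup A).map f from rfl, Subgroup.map_map,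
      Subgroup.map_map]
    rfl
  have hX : (Q' ⊔ B).Normal := by
    have : (Q'.map π).Normal := hmap ▸ inferInstance
    have := this.comap π
    rwa [Subgroup.comap_map_eq, QuotientGroup.ker_mk'] at this
  let X' := (Q' ⊔ B).subgroupOf A
  have hQX : (Q : Subgroup A) ≤ X' := fun x hx =>
    Subgroup.mem_subgroupOf.mpr (mem_sup_left ⟨x, hx, rfl⟩)
  have htop : Subgroup.normalizer (Q' : Set G) ⊔ B = ⊤ := by
    refine top_le_iff.mp fun g _ => ?_
    let α : MulAut A := MulAut.conjNormal g
    have hαX : ((α • Q : Sylow p A) : Subgroup A) ≤ X' := by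
      rintro y ⟨x, hx, rfl⟩
      rw [Subgroup.mem_subgroupOf]
      change (MulAut.conjNormal g x : G) ∈ Q' ⊔ B
      rw [MulAut.conjNormal_apply]
      exact hX.conj_mem _ (mem_sup_left ⟨x, hx, rfl⟩) g
    obtain ⟨a, ha⟩ := MulAction.exists_smul_eq X' ((α • Q).subtype hαX) (Q.subtype hQX)
    have h1 : ((a : A) • (α • Q) : Sylow p A) = Q := by
      refine Sylow.subtype_injective (hP := Sylow.smul_le hαX a) (hQ := hQX) ?_
      exact (Sylow.smul_subtype hαX a).symm.trans ha
    have hm : ((a : A) : G) * g ∈ Subgroup.normalizer (Q' : Set G) := by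
      have h2 : ∀ y, y ∈ Q' → ((a : A) : G) * g * y * (((a : A) : G) * g)⁻¹ ∈ Q' := by
        rintro _ ⟨x, hx, rfl⟩
        refine ⟨(a : A) * α x * (a : A)⁻¹, ?_, ?_⟩
        · have h3 : ((a : A) * α x * (a : A)⁻¹) ∈ ((a : A) • (α • Q) : Sylow p A) :=
            ⟨α x, ⟨x, hx, rfl⟩, rfl⟩
          rwa [h1] at h3
        · simp only [Subgroup.coe_subtype, Subgroup.coe_mul, Subgroup.coe_inv, α,
            MulAut.conjNormal_apply, mul_inv_rev]
          group
      refine Subgroup.mem_normalizer_fintype ?_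
      exact h2
    have hXle : Q' ⊔ B ≤ Subgroup.normalizer (Q' : Set G) ⊔ B :=
      sup_le (Subgroup.le_normalizer.trans le_sup_left) le_sup_right
    have := mul_mem (inv_mem (hXle (Subgroup.mem_subgroupOf.mp a.2))) (mem_sup_left (T := B) hm)
    rwa [inv_mul_cancel_left] at this
  have hN : Subgroup.normalizer (Q' : Set G) = ⊤ := by
    refine frattini_nongenerating (top_le_iff.mp ?_)
    rw [← htop]
    exact sup_le_sup_left hB _
  haveI := Subgroup.normalizer_eq_top_iff.mp hN
  have hc : Q'.comap A.subtype = (Q : Subgroup A) :=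
    Subgroup.comap_map_eq_self_of_injective A.subtype_injective _
  rw [← hc]
  infer_instance

/-- A nilpotent normal subgroup is a `p`-group when every minimal normal subgroup is one. -/
theorem isPGroup_of_nilpotent_normal [Finite G] {p : ℕ} [hp : Fact p.Prime] (C : Subgroup G)
    [C.Normal] (hC : Group.IsNilpotent C) (h : ∀ N : Subgroup G, IsMinNormal N → IsPGroup p N) :
    IsPGroup p C := by
  refine IsPGroup.of_card (n := (Nat.card C).factorization p) ?_
  have hu : ∀ {d : ℕ}, d.Prime → d ∣ Nat.card C → d = p := by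
    intro q hq hqd
    by_contra hne
    haveI := Fact.mk hq
    let S : Sylow q C := default
    have hSc : (S : Subgroup C).Characteristic := S.characteristic_of_normal inferInstance
    haveI hn : ((S : Subgroup C).map C.subtype).Normal := inferInstance
    have hne' : (S : Subgroup C).map C.subtype ≠ ⊥ := fun h0 =>
      S.ne_bot_of_dvd_card hqd ((Subgroup.map_eq_bot_iff_of_injective _ C.subtype_injective).mp h0)
    obtain ⟨N, hN, hNS⟩ := exists_isMinNormal_le hn hne'
    have h1 := IsPGroup.disjoint_of_ne p q (Ne.symm hne) N _ (h N hN) (S.isPGroup'.map C.subtype)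
    exact hN.2.1 (le_bot_iff.mp (h1 le_rfl hNS))
  have := Nat.eq_prime_pow_of_unique_prime_dvd Nat.card_pos.ne' hu
  conv_lhs => rw [this]
  congr 1
  conv_rhs => rw [this, Nat.Prime.factorization_pow hp.out, Finsupp.single_eq_same]

theorem isSupersolvable_of_embedding_quotients (N M : Subgroup G) [N.Normal] [M.Normal]
    (h : N ⊓ M = ⊥) (hN : Cfsg.IsSupersolvable (G ⧸ N)) (hM : Cfsg.IsSupersolvable (G ⧸ M)) :
    Cfsg.IsSupersolvable G := by
  refine isSupersolvable_of_injective (isSupersolvable_prod hN hM)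
    ((QuotientGroup.mk' N).prod (QuotientGroup.mk' M)) ((injective_iff_map_eq_one _).mpr fun x hx => ?_)
  have h1 := congrArg Prod.fst hx
  have h2 := congrArg Prod.snd hx
  simp only [MonoidHom.prod_apply, QuotientGroup.mk'_apply, Prod.fst_one, Prod.snd_one,
    QuotientGroup.eq_one_iff] at h1 h2
  exact Subgroup.mem_bot.mp (h ▸ Subgroup.mem_inf.mpr ⟨h1, h2⟩)

/-- Elements of order prime to `p`, raised to the power `p - 1`, centralise the `p`-subgroups in a
chain with cyclic steps, when the `p`-elements form a subgroup. -/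
theorem SSUpTo.pow_pred_commute [Finite G] {p : ℕ} [hp : Fact p.Prime] {K : Subgroup G}
    (hK : SSUpTo K) (P : Subgroup G) [P.Normal] (hP : IsPGroup p P) (h : G)
    (hh : Nat.Coprime (orderOf h) p) : ∀ y ∈ K, y ∈ P → Commute (h ^ (p - 1)) y := by
  induction hK with
  | bot => intro y hy _; rw [Subgroup.mem_bot] at hy; rw [hy]; exact Commute.one_right _
  | step H g hH hn ih =>
    intro y hy hyP
    haveI := hH.normal
    haveI := hn
    set x := h ^ (p - 1)
    let π := QuotientGroup.mk' H
    let C : Subgroup (G ⧸ H) := (H ⊔ zpowers g).map π ⊓ P.map π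
    have hzeq : (H ⊔ zpowers g).map π = zpowers (π g) := by
      rw [Subgroup.map_sup, QuotientGroup.map_mk'_self, bot_sup_eq, MonoidHom.map_zpowers]
    haveI : ((H ⊔ zpowers g).map π).Normal := hn.map π (QuotientGroup.mk'_surjective H)
    haveI : (P.map π).Normal := Subgroup.Normal.map ‹_› π (QuotientGroup.mk'_surjective H)
    haveI : C.Normal := inferInstance
    haveI : IsCyclic C := by
      have hle : C ≤ zpowers (π g) := inf_le_left.trans hzeq.le
      exact isCyclic_of_injective (Subgroup.inclusion hle) (Subgroup.inclusion_injective hle)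
    have hCp : IsPGroup p C := (hP.map π).to_le inf_le_right
    obtain ⟨k, hk⟩ := IsPGroup.iff_card.mp hCp
    have hφ : (MulAut.conjNormal (π h) : MulAut C) ^ (p - 1) = 1 := by
      rw [← orderOf_dvd_iff_pow_eq_one]
      set φ : MulAut C := MulAut.conjNormal (π h)
      have h1 : orderOf φ ∣ orderOf h :=
        (orderOf_map_dvd (MulAut.conjNormal (G := G ⧸ H) (H := C) : G ⧸ H →* MulAut C) (π h)).trans (orderOf_map_dvd π h)
      have h2 : orderOf φ ∣ Nat.totient (p ^ k) := by
        have := orderOf_dvd_natCard φ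
        rwa [IsCyclic.card_mulAut, hk] at this
      rcases Nat.eq_zero_or_pos k with rfl | hkp
      · rw [pow_zero, Nat.totient_one] at h2
        exact h2.trans (one_dvd _)
      · rw [Nat.totient_prime_pow hp.out hkp] at h2
        exact ((Nat.Coprime.coprime_dvd_left h1 hh).pow_right _).dvd_of_dvd_mul_left h2
    have hyC : π y ∈ C := ⟨Subgroup.mem_map_of_mem π hy, Subgroup.mem_map_of_mem π hyP⟩
    have h3 := congrArg Subtype.val (DFunLike.congr_fun hφ (⟨π y, hyC⟩ : C))
    rw [← map_pow, MulAut.conjNormal_apply, MulAut.one_apply, ← map_pow, ← map_inv, ← map_mul,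
      ← map_mul] at h3
    set c := y⁻¹ * (x * y * x⁻¹) with hc
    have hcH : c ∈ H := by
      have h4 : π c = 1 := by rw [hc, map_mul, map_inv]; exact inv_mul_eq_one.mpr h3.symm
      exact (QuotientGroup.eq_one_iff c).mp h4
    have hcP : c ∈ P :=
      P.mul_mem (P.inv_mem hyP) (Subgroup.Normal.conj_mem ‹P.Normal› y hyP x)
    have hxc : Commute x c := ih c hcH hcP
    have hxy : x * y * x⁻¹ = y * c := by rw [hc]; group
    have hj : ∀ j : ℕ, x ^ j * y * (x ^ j)⁻¹ = y * c ^ j := by
      intro j
      induction j with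
      | zero => simp
      | succ j ihj =>
        calc x ^ (j + 1) * y * (x ^ (j + 1))⁻¹ = x * (x ^ j * y * (x ^ j)⁻¹) * x⁻¹ := by
              rw [pow_succ']; group
          _ = x * y * x⁻¹ * (x * c ^ j * x⁻¹) := by rw [ihj]; group
          _ = y * c ^ (j + 1) := by
              rw [hxy, (hxc.pow_right j).eq, mul_inv_cancel_right, mul_assoc, ← pow_succ']
    have h5 := hj (orderOf x)
    rw [pow_orderOf_eq_one, one_mul, inv_one, mul_one, left_eq_mul] at h5
    obtain ⟨m, hm⟩ := hP ⟨c, hcP⟩
    have h6 : c ^ p ^ m = 1 := by simpa [Subtype.ext_iff] using hm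
    have hcop : Nat.Coprime (p ^ m) (orderOf x) :=
      ((Nat.Coprime.coprime_dvd_left (orderOf_pow_dvd (p - 1)) hh).symm).pow_left m
    have hc1 : c = 1 := orderOf_eq_one_iff.mp (Nat.dvd_one.mp (hcop.gcd_eq_one ▸
      Nat.dvd_gcd (orderOf_dvd_of_pow_eq_one h6) (orderOf_dvd_of_pow_eq_one h5)))
    rw [hc1, mul_one] at hxy
    exact mul_inv_eq_iff_eq_mul.mp hxy

/-- A nontrivial normal subgroup of a finite `p`-group meets the centre. -/
theorem exists_ne_one_center {P : Type*} [Group P] [Finite P] {p : ℕ} [hp : Fact p.Prime]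
    (hP : IsPGroup p P) (M : Subgroup P) [M.Normal] [Nontrivial M] :
    ∃ z, z ∈ M ∧ z ∈ Subgroup.center P ∧ z ≠ 1 := by
  have hd : p ∣ Nat.card M := by
    obtain ⟨k, hk⟩ := IsPGroup.iff_card.mp (hP.to_subgroup M)
    rw [hk]
    refine dvd_pow_self p fun h0 => ?_
    rw [h0, pow_zero] at hk
    have := Finite.one_lt_card (α := M)
    omega
  have hP' : IsPGroup p (ConjAct P) := hP.of_equiv ConjAct.toConjAct
  obtain ⟨z, hz, hz1⟩ := hP'.exists_fixed_point_of_prime_dvd_card_of_fixed_point M hd
    (a := (1 : M)) (fun g => smul_one g)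
  refine ⟨z, z.2, Subgroup.mem_center_iff.mpr fun g => ?_, fun h0 => hz1 (Subtype.ext h0.symm)⟩
  have h1 := congrArg Subtype.val (hz (ConjAct.toConjAct g))
  rw [ConjAct.Subgroup.val_conj_smul, ConjAct.toConjAct_smul] at h1
  exact mul_inv_eq_iff_eq_mul.mp h1

/-- An endomorphism `f` of a finite `ZMod p`-module with `f ^ (p - 1) = 1` has an eigenvector. -/
theorem exists_smul_eigenvector {V : Type*} [AddCommGroup V] {p : ℕ} [hp : Fact p.Prime]
    [Module (ZMod p) V] [Finite V] [Nontrivial V] (f : V →ₗ[ZMod p] V) (hf : ∀ x, f^[p - 1] x = x) :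
    ∃ (x : V) (a : ℕ), x ≠ 0 ∧ f x = a • x := by
  haveI : Module.Finite (ZMod p) V := Module.Finite.of_finite
  have hpow : (f : Module.End (ZMod p) V) ^ (p - 1) = 1 := LinearMap.ext fun x => by
    rw [Module.End.pow_apply, Module.End.one_apply, hf]
  have hroot : ∃ a, (minpoly (ZMod p) (f : Module.End (ZMod p) V)).IsRoot a := by
    have hne := Polynomial.X_pow_sub_C_ne_zero (R := ZMod p)
      (show 0 < p - 1 by have := hp.out.two_le; omega) 1
    have hd : minpoly (ZMod p) (f : Module.End (ZMod p) V) ∣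
        (Polynomial.X ^ (p - 1) - Polynomial.C 1) :=
      minpoly.dvd _ _ (by simp [hpow])
    have hs : (Polynomial.X ^ (p - 1) - Polynomial.C (1 : ZMod p)).Splits := by
      have h0 : (Polynomial.X ^ p - Polynomial.X : Polynomial (ZMod p)).Splits := by
        have := FiniteField.splits_X_pow_card_sub_X (K := ZMod p) p
        simpa using this
      refine h0.of_dvd (FiniteField.X_pow_card_sub_X_ne_zero _ hp.out.one_lt) ⟨Polynomial.X, ?_⟩
      rw [Polynomial.C_1, sub_mul, ← pow_succ, one_mul, Nat.sub_add_cancel hp.out.one_le]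
    exact (hs.of_dvd hne hd).exists_eval_eq_zero
      (minpoly.degree_pos (Algebra.IsIntegral.isIntegral _)).ne'
  obtain ⟨a, ha⟩ := hroot
  obtain ⟨v, hv⟩ := (Module.End.hasEigenvalue_of_isRoot ha).exists_hasEigenvector
  refine ⟨v, a.val, hv.2, ?_⟩
  rw [← Nat.cast_smul_eq_nsmul (ZMod p), ZMod.natCast_zmod_val]
  exact hv.apply_eq_smul

/-- An endomorphism `φ` of an elementary abelian `p`-group with `φ ^ (p - 1) = 1` has an
eigenvector. -/
theorem exists_pow_eigenvector {N : Type*} [CommGroup N] [Finite N] [Nontrivial N] {p : ℕ}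
    [hp : Fact p.Prime] (hN : ∀ x : N, x ^ p = 1) (φ : N →* N) (hφ : ∀ x, φ^[p - 1] x = x) :
    ∃ (x : N) (a : ℕ), x ≠ 1 ∧ φ x = x ^ a := by
  have hz : ∀ x : Additive N, p • x = 0 := fun x => by
    rw [← ofMul_toMul x, ← ofMul_pow, hN, ofMul_one]
  letI : Module (ZMod p) (Additive N) := AddCommGroup.zmodModule hz
  have hi : ∀ (j : ℕ) (y : Additive N),
      (fun z : Additive N => Additive.ofMul (φ (Additive.toMul z)))^[j] y
        = Additive.ofMul (φ^[j] (Additive.toMul y)) := by
    intro j
    induction j with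
    | zero => intro y; rfl
    | succ j ih =>
      intro y
      rw [Function.iterate_succ_apply', Function.iterate_succ_apply', ih]; rfl
  haveI : Finite (Additive N) := ‹Finite N›
  obtain ⟨v, a, hv, hva⟩ := exists_smul_eigenvector ((MonoidHom.toAdditive φ).toZModLinearMap p)
    (fun y => (hi (p - 1) y).trans (congrArg Additive.ofMul (hφ (Additive.toMul y))))
  exact ⟨Additive.toMul v, a, fun h => hv (Additive.toMul.injective h),
    congrArg Additive.toMul hva⟩

/-- The Frattini case of the saturation of supersolvable groups. -/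
theorem isSupersolvable_of_le_frattini [Finite G] {p : ℕ} [hp : Fact p.Prime] (N : Subgroup G)
    [N.Normal] (hN : IsMinNormal N) (huniq : ∀ K : Subgroup G, IsMinNormal K → K = N)
    (hpow : ∀ x ∈ N, x ^ p = 1) (hc : IsMulCommutative N) (hΦ : N ≤ frattini G)
    (hQ : Cfsg.IsSupersolvable (G ⧸ N)) (P : Sylow p G) [hP : (P : Subgroup G).Normal] :
    Cfsg.IsSupersolvable G := by
  have hNp : IsPGroup p N := fun x => ⟨1, Subtype.ext (by simpa using hpow x x.2)⟩
  have hmin : ∀ K : Subgroup G, IsMinNormal K → IsPGroup p K := fun K hK => by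
    rw [huniq K hK]; exact hNp
  have hlift : ∀ A : Subgroup G, A.Normal → N ≤ A →
      Group.IsNilpotent (A.map (QuotientGroup.mk' N)) → A ≤ (P : Subgroup G) := by
    intro A hA hNA hnil
    exact (isPGroup_of_nilpotent_normal A (isNilpotent_of_le_frattini A N hNA hΦ hnil) hmin
      ).le_sylow_of_normal P
  have hcom : _root_.commutator G ≤ (P : Subgroup G) := by
    refine le_sup_left.trans (hlift (_root_.commutator G ⊔ N) inferInstance le_sup_right ?_)
    rw [Subgroup.map_sup, QuotientGroup.map_mk'_self, sup_bot_eq]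
    have hle : (_root_.commutator G).map (QuotientGroup.mk' N) ≤ _root_.commutator (G ⧸ N) := by
      rw [_root_.commutator_def, _root_.commutator_def, Subgroup.map_commutator]
      exact Subgroup.commutator_mono le_top le_top
    haveI := isNilpotent_commutator hQ
    exact Group.nilpotent_of_mulEquiv (Subgroup.subgroupOfEquivOfLe hle)
  -- `G / P` has exponent dividing `p - 1`
  have hexp : ∀ g : G, g ^ (p - 1) ∈ (P : Subgroup G) := by
    intro g
    obtain ⟨a, r, hr, heq⟩ := Nat.exists_eq_pow_mul_and_not_dvd (orderOf_pos g).ne' p hp.out.ne_one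
    set h := g ^ p ^ a
    have hoh : orderOf h = r := by
      rw [orderOf_pow_of_dvd (pow_ne_zero _ hp.out.ne_zero) (heq ▸ dvd_mul_right _ _), heq,
        Nat.mul_div_cancel_left _ (pow_pos hp.out.pos _)]
    have hcop : Nat.Coprime (orderOf h) p := by
      rw [hoh]; exact (hp.out.coprime_iff_not_dvd.mpr hr).symm
    set x := h ^ (p - 1)
    let π := QuotientGroup.mk' N
    haveI : ((P : Subgroup G).map π).Normal := hP.map π (QuotientGroup.mk'_surjective N)
    have hcx : ∀ y ∈ (P : Subgroup G).map π, Commute (π x) y := by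
      intro y hy
      have := (isSupersolvable_iff.mp hQ).pow_pred_commute ((P : Subgroup G).map π)
        (P.isPGroup'.map π) (π h)
        (Nat.Coprime.coprime_dvd_left (orderOf_map_dvd π h) hcop) y (Subgroup.mem_top y) hy
      rwa [← map_pow] at this
    have hDn : ((P : Subgroup G) ⊔ zpowers x).Normal := Subgroup.Normal.of_commutator_le (G := G)
      (hcom.trans le_sup_left)
    have hnil : Group.IsNilpotent (((P : Subgroup G) ⊔ zpowers x).map π) := by
      rw [Subgroup.map_sup, MonoidHom.map_zpowers]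
      have hcomm : ∀ (m : ((P : Subgroup G).map π)) (n : zpowers (π x)),
          Commute (((P : Subgroup G).map π).subtype m) ((zpowers (π x)).subtype n) := by
        rintro ⟨m, hm⟩ ⟨_, k, rfl⟩
        exact ((hcx m hm).zpow_left k).symm
      haveI : Group.IsNilpotent ((P : Subgroup G).map π) := (P.isPGroup'.map π).isNilpotent
      haveI : Group.IsNilpotent (zpowers (π x)) := by
        letI := IsCyclic.commGroup (α := zpowers (π x))
        infer_instance
      let f := MonoidHom.noncommCoprod _ _ hcomm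
      have hr : f.range = (P : Subgroup G).map π ⊔ zpowers (π x) := by
        rw [MonoidHom.noncommCoprod_range, Subgroup.range_subtype, Subgroup.range_subtype]
      rw [← hr]
      exact Group.nilpotent_of_surjective f.rangeRestrict f.rangeRestrict_surjective
    have hNP : N ≤ (P : Subgroup G) := hNp.le_sylow_of_normal P
    have hxP : x ∈ (P : Subgroup G) :=
      hlift _ hDn (hNP.trans le_sup_left) hnil (mem_sup_right (mem_zpowers x))
    have hx1 : x = 1 := by
      obtain ⟨m, hm⟩ := P.isPGroup' ⟨x, hxP⟩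
      have h6 : x ^ p ^ m = 1 := by simpa [Subtype.ext_iff] using hm
      have hcop' : Nat.Coprime (p ^ m) (orderOf x) :=
        ((Nat.Coprime.coprime_dvd_left (orderOf_pow_dvd (p - 1)) hcop).symm).pow_left m
      exact orderOf_eq_one_iff.mp (Nat.dvd_one.mp (hcop'.gcd_eq_one ▸
        Nat.dvd_gcd (orderOf_dvd_of_pow_eq_one h6) dvd_rfl))
    have hrd : r ∣ p - 1 := hoh ▸ orderOf_dvd_of_pow_eq_one hx1
    have hgp : (g ^ r) ∈ (P : Subgroup G) := by
      have hz : IsPGroup p (zpowers (g ^ r)) := by
        refine IsPGroup.of_card (n := a) ?_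
        have hr0 : r ≠ 0 := by rintro rfl; exact hr (dvd_zero p)
        rw [Nat.card_zpowers, orderOf_pow_of_dvd hr0 (heq ▸ dvd_mul_left _ _), heq,
          Nat.mul_div_cancel _ (Nat.pos_of_ne_zero hr0)]
      obtain ⟨S, hS⟩ := hz.exists_le_sylow
      haveI : Subsingleton (Sylow p G) := by
        haveI := P.unique_of_normal hP; infer_instance
      rw [Subsingleton.elim S P] at hS
      exact hS (mem_zpowers _)
    obtain ⟨e, he⟩ := hrd
    rw [he, pow_mul]
    exact pow_mem hgp e
  -- `P` centralises `N`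
  have hPN : ∀ u ∈ (P : Subgroup G), ∀ y ∈ N, u * y = y * u := by
    have hNP : N ≤ (P : Subgroup G) := hNp.le_sylow_of_normal P
    haveI : Group.IsNilpotent (P : Subgroup G) := P.isPGroup'.isNilpotent
    have hz : N ⊓ Subgroup.centralizer ((P : Subgroup G) : Set G) ≠ ⊥ := by
      intro hbot
      haveI : Nontrivial (N.subgroupOf (P : Subgroup G)) := by
        refine (Subgroup.nontrivial_iff_ne_bot _).mpr fun h0 => hN.2.1 ?_
        rw [← inf_eq_left.mpr hNP, ← Subgroup.subgroupOf_eq_bot.mp h0 |>.eq_bot]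
      obtain ⟨z, hzN, hzc, hz1⟩ := exists_ne_one_center P.isPGroup' (N.subgroupOf (P : Subgroup G))
      refine hz1 (Subtype.ext (Subgroup.mem_bot.mp (hbot ▸ Subgroup.mem_inf.mpr
        ⟨Subgroup.mem_subgroupOf.mp hzN, Subgroup.mem_centralizer_iff.mpr fun u hu => ?_⟩)))
      exact congrArg Subtype.val (Subgroup.mem_center_iff.mp hzc ⟨u, hu⟩)
    have := (hN.2.2 _ inferInstance inf_le_left).resolve_left hz
    intro u hu y hy
    exact Subgroup.mem_centralizer_iff.mp (inf_eq_left.mp this hy) u hu
  -- every element of `N` generates a normal subgroup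
  have heig : ∀ g : G, ∃ a : ℕ, ∀ y ∈ N, g * y * g⁻¹ = y ^ a := by
    intro g
    haveI : Nontrivial N := (Subgroup.nontrivial_iff_ne_bot N).mpr hN.2.1
    letI : CommGroup N := { (inferInstance : Group N) with mul_comm := hc.is_comm.comm }
    let φ : N →* N := (MulAut.conjNormal g : MulAut N).toMonoidHom
    have hit : ∀ (j : ℕ) (y : N), ((φ^[j] y : N) : G) = g ^ j * y * (g ^ j)⁻¹ := by
      intro j
      induction j with
      | zero => simp
      | succ j ih =>
        intro y
        rw [Function.iterate_succ_apply', pow_succ']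
        simp only [φ, MulEquiv.toMonoidHom_eq_coe, MonoidHom.coe_coe, MulAut.conjNormal_apply]
        have ih' := ih y
        simp only [φ, MulEquiv.toMonoidHom_eq_coe, MonoidHom.coe_coe] at ih'
        rw [ih']
        group
    obtain ⟨x, a, hx1, hxa⟩ := exists_pow_eigenvector (p := p)
      (fun y : N => Subtype.ext (by simpa using hpow y y.2)) φ (fun y => Subtype.ext (by
        rw [hit, hPN _ (hexp g) y y.2, mul_inv_cancel_right]))
    refine ⟨a, ?_⟩
    have hxa' : g * x * g⁻¹ = (x : G) ^ a := by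
      have := congrArg Subtype.val hxa
      simpa [φ] using this
    let E : Subgroup G :=
      { carrier := {y | y ∈ N ∧ g * y * g⁻¹ = y ^ a}
        one_mem' := ⟨one_mem N, by simp⟩
        mul_mem' := fun {u v} hu hv => ⟨N.mul_mem hu.1 hv.1, by
          rw [show g * (u * v) * g⁻¹ = g * u * g⁻¹ * (g * v * g⁻¹) by group, hu.2, hv.2,
            Commute.mul_pow]
          exact congrArg Subtype.val (hc.is_comm.comm (⟨u, hu.1⟩ : N) ⟨v, hv.1⟩)⟩
        inv_mem' := fun {u} hu => ⟨N.inv_mem hu.1, by
          rw [inv_pow, ← hu.2]; group⟩ }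
    have hEn : E.Normal := by
      refine ⟨fun y hy k => ⟨Subgroup.Normal.conj_mem ‹N.Normal› y hy.1 k, ?_⟩⟩
      have hu := hcom (Subgroup.commutator_mem_commutator (Subgroup.mem_top g) (Subgroup.mem_top k))
      set u := g * k * g⁻¹ * k⁻¹
      have hu' : u ∈ (P : Subgroup G) := hu
      calc g * (k * y * k⁻¹) * g⁻¹ = u * (k * (g * y * g⁻¹) * k⁻¹) * u⁻¹ := by
            simp only [u]; group
        _ = k * (g * y * g⁻¹) * k⁻¹ := by
            rw [hPN u hu' _ (Subgroup.Normal.conj_mem ‹N.Normal› _
              (Subgroup.Normal.conj_mem ‹N.Normal› y hy.1 g) k), mul_inv_cancel_right]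
        _ = (k * y * k⁻¹) ^ a := by rw [hy.2, conj_pow]
    have hEN : E = N := (hN.2.2 E hEn fun y hy => hy.1).resolve_left fun h0 =>
      hx1 (Subtype.ext (Subgroup.mem_bot.mp ((SetLike.ext_iff.mp h0 (x : G)).mp ⟨x.2, hxa'⟩)))
    exact fun y hy => ((SetLike.ext_iff.mp hEN y).mpr hy).2
  obtain ⟨x, hx, hx1⟩ : ∃ x ∈ N, x ≠ 1 := N.ne_bot_iff_exists_ne_one.mp hN.2.1 |>.elim
    fun x hx => ⟨x, x.2, fun h => hx (Subtype.ext h)⟩
  have hzn : (zpowers x).Normal := ⟨by
    rintro _ ⟨k, rfl⟩ g
    obtain ⟨a, ha⟩ := heig g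
    have h9 : g * x ^ k * g⁻¹ = x ^ ((a : ℤ) * k) := by
      rw [← conj_zpow, ha x hx, zpow_mul, zpow_natCast]
    exact h9 ▸ ⟨_, rfl⟩⟩
  have hzN : zpowers x = N := (hN.2.2 _ hzn (zpowers_le.mpr hx)).resolve_left fun h0 =>
    hx1 (Subgroup.mem_bot.mp (h0 ▸ mem_zpowers x))
  haveI : IsCyclic N := hzN ▸ inferInstance
  exact isSupersolvable_of_cyclic_normal N hQ

theorem coatom_index_prime_quotient (N : Subgroup G) [N.Normal]
    (h : ∀ M : Subgroup G, IsCoatom M → M.index.Prime) :
    ∀ M : Subgroup (G ⧸ N), IsCoatom M → M.index.Prime := by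
  intro M hM
  have hπ := QuotientGroup.mk'_surjective N
  rw [← Subgroup.index_comap_of_surjective M hπ]
  refine h _ ⟨fun h0 => hM.1 ?_, fun K hK => ?_⟩
  · rw [← Subgroup.map_comap_eq_self_of_surjective hπ M, h0, Subgroup.map_top_of_surjective _ hπ]
  · have hker : N ≤ K := by
      refine le_trans ?_ hK.le
      intro x hx
      rw [Subgroup.mem_comap, QuotientGroup.mk'_apply, (QuotientGroup.eq_one_iff x).mpr hx]
      exact one_mem M
    have hKc : (K.map (QuotientGroup.mk' N)).comap (QuotientGroup.mk' N) = K := by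
      rw [Subgroup.comap_map_eq, QuotientGroup.ker_mk', sup_eq_left.mpr hker]
    rw [← hKc, hM.2 (K.map (QuotientGroup.mk' N))
      ((Subgroup.comap_lt_comap_of_surjective hπ).mp (hKc.symm ▸ hK)), Subgroup.comap_top]

/-- If all maximal subgroups have prime index, the Sylow subgroup of the largest prime is normal. -/
theorem sylow_normal_of_coatom_index_prime [Finite G]
    (h : ∀ M : Subgroup G, IsCoatom M → M.index.Prime) (p : ℕ) [hp : Fact p.Prime]
    (hmax : ∀ q : ℕ, q.Prime → q ∣ Nat.card G → q ≤ p) (P : Sylow p G) :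
    (P : Subgroup G).Normal := by
  by_contra hnn
  have hne : Subgroup.normalizer ((P : Subgroup G) : Set G) ≠ ⊤ := fun h0 =>
    hnn (Subgroup.normalizer_eq_top_iff.mp h0)
  obtain ⟨M, hM, hle⟩ := (eq_top_or_exists_le_coatom
    (Subgroup.normalizer ((P : Subgroup G) : Set G))).resolve_left hne
  have hPM : (P : Subgroup G) ≤ M := Subgroup.le_normalizer.trans hle
  have hq := h M hM
  have hqp : M.index ≠ p := fun h0 => P.not_dvd_index (by
    have := Subgroup.index_dvd_of_le hPM
    rwa [h0] at this)
  have hlt : M.index < p := lt_of_le_of_ne (hmax _ hq M.index_dvd_card) hqp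
  have hPK : (P : Subgroup G) ≤ M.normalCore := by
    intro x hx
    rw [M.normalCore_eq_ker, MonoidHom.mem_ker, ← orderOf_eq_one_iff]
    obtain ⟨k, hk⟩ := P.isPGroup' ⟨x, hx⟩
    have h1 : orderOf (MulAction.toPermHom G (G ⧸ M) x) ∣ p ^ k :=
      (orderOf_map_dvd _ x).trans
        (orderOf_dvd_of_pow_eq_one (by simpa [Subtype.ext_iff] using hk))
    have h2 : orderOf (MulAction.toPermHom G (G ⧸ M) x) ∣ M.index.factorial := by
      classical
      haveI := Fintype.ofFinite (G ⧸ M)
      have := orderOf_dvd_natCard (MulAction.toPermHom G (G ⧸ M) x)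
      rwa [Nat.card_eq_fintype_card, Fintype.card_perm, ← Nat.card_eq_fintype_card,
        ← Subgroup.index] at this
    have hcop : Nat.Coprime (p ^ k) M.index.factorial :=
      Nat.Coprime.pow_left _ (hp.out.coprime_iff_not_dvd.mpr fun h0 =>
        absurd ((Nat.Prime.dvd_factorial hp.out).mp h0) (by omega))
    exact Nat.dvd_one.mp (hcop.gcd_eq_one ▸ Nat.dvd_gcd h1 h2)
  have htop := Sylow.normalizer_sup_eq_top' P hPK
  exact hM.1 (top_le_iff.mp (htop ▸ sup_le hle M.normalCore_le))

theorem isSolvable_of_coatom_index_prime [Finite G]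
    (h : ∀ M : Subgroup G, IsCoatom M → M.index.Prime) : Group.IsSolvable G := by
  suffices ∀ (n : ℕ) (G : Type u) [Group G] [Finite G], Nat.card G = n →
      (∀ M : Subgroup G, IsCoatom M → M.index.Prime) → Group.IsSolvable G from this _ G rfl h
  intro n
  induction n using Nat.strong_induction_on with
  | _ n ih =>
    intro G _ _ hn h
    rcases subsingleton_or_nontrivial G with hs | hs
    · infer_instance
    obtain ⟨p, hp, hpd, hmax⟩ := exists_max_prime (n := Nat.card G) Finite.one_lt_card
    haveI := Fact.mk hp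
    let P : Sylow p G := default
    haveI := sylow_normal_of_coatom_index_prime h p hmax P
    have hne := P.ne_bot_of_dvd_card hpd
    haveI := ih _ (hn ▸ card_quotient_lt hne) (G ⧸ (P : Subgroup G)) rfl
      (coatom_index_prime_quotient _ h)
    haveI : Group.IsNilpotent (P : Subgroup G) := P.isPGroup'.isNilpotent
    exact Group.isSolvable_of_ker_le_range (P : Subgroup G).subtype (QuotientGroup.mk' (P : Subgroup G))
      (by rw [QuotientGroup.ker_mk', Subgroup.range_subtype])

/-- Huppert's criterion. -/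
theorem isSupersolvable_of_coatom_index_prime [Finite G]
    (h : ∀ M : Subgroup G, IsCoatom M → M.index.Prime) : Cfsg.IsSupersolvable G := by
  suffices ∀ (n : ℕ) (G : Type u) [Group G] [Finite G], Nat.card G = n →
      (∀ M : Subgroup G, IsCoatom M → M.index.Prime) → Cfsg.IsSupersolvable G from this _ G rfl h
  intro n
  induction n using Nat.strong_induction_on with
  | _ n ih =>
    intro G _ _ hn h
    rcases subsingleton_or_nontrivial G with hs | hs
    · exact isSupersolvable_of_subsingleton
    haveI := isSolvable_of_coatom_index_prime h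
    obtain ⟨N, hN⟩ := exists_isMinNormal (G := G)
    haveI := hN.1
    have hQ := ih _ (hn ▸ card_quotient_lt hN.2.1) (G ⧸ N) rfl (coatom_index_prime_quotient N h)
    have hc := hN.isMulCommutative inferInstance
    by_cases hΦ : N ≤ frattini G
    swap
    · obtain ⟨M, hM, hNM⟩ : ∃ M : Subgroup G, IsCoatom M ∧ ¬ N ≤ M := by
        by_contra h0
        push Not at h0
        exact hΦ (le_iInf₂ fun M hM => h0 M hM)
      have hpr : (Nat.card N).Prime := (hN.complement_of_coatom hc hM hNM).2.2.2 ▸ h M hM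
      haveI := Fact.mk hpr
      haveI : IsCyclic N := isCyclic_of_prime_card rfl
      exact isSupersolvable_of_cyclic_normal N hQ
    by_cases huniq : ∀ K : Subgroup G, IsMinNormal K → K = N
    swap
    · push Not at huniq
      obtain ⟨K, hK, hKN⟩ := huniq
      haveI := hK.1
      refine isSupersolvable_of_embedding_quotients N K ?_ hQ
        (ih _ (hn ▸ card_quotient_lt hK.2.1) (G ⧸ K) rfl (coatom_index_prime_quotient K h))
      exact (hK.disjoint_or_le hN.1).resolve_right fun hle =>
        hKN ((hN.2.2 K hK.1 hle).resolve_left hK.2.1)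
    obtain ⟨p, hp, hpd, hmax⟩ := exists_max_prime (n := Nat.card G) Finite.one_lt_card
    haveI := Fact.mk hp
    let P : Sylow p G := default
    haveI := sylow_normal_of_coatom_index_prime h p hmax P
    obtain ⟨K, hK, hKP⟩ := exists_isMinNormal_le (K := (P : Subgroup G)) inferInstance
      (P.ne_bot_of_dvd_card hpd)
    have hNP : N ≤ (P : Subgroup G) := huniq K hK ▸ hKP
    obtain ⟨r, hr, hpow, hpg, k, hk, hcard⟩ := hN.exists_prime hc
    have hrp : r = p := by
      obtain ⟨j, hj⟩ := IsPGroup.iff_card.mp (P.isPGroup'.to_le hNP)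
      refine (Nat.prime_dvd_prime_iff_eq hr hp).mp (hr.dvd_of_dvd_pow (n := j) ?_)
      rw [← hj, hcard]; exact dvd_pow_self r hk.ne'
    exact isSupersolvable_of_le_frattini N hN huniq (hrp ▸ hpow) hc hΦ hQ P

theorem hasSubgroupOfEveryOrder_of_equiv {H : Type*} [Group H] (e : G ≃* H)
    (h : Cfsg.HasSubgroupOfEveryOrder G) : Cfsg.HasSubgroupOfEveryOrder H := by
  intro d hd
  obtain ⟨K, hK⟩ := h d (Nat.card_congr e.toEquiv ▸ hd)
  exact ⟨K.map e.toMonoidHom, by
    rw [← Nat.card_congr (K.equivMapOfInjective e.toMonoidHom e.injective).toEquiv, hK]⟩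

theorem all_hasSubgroupOfEveryOrder_subgroup
    (h : ∀ H : Subgroup G, Cfsg.HasSubgroupOfEveryOrder H) (K : Subgroup G) :
    ∀ H : Subgroup K, Cfsg.HasSubgroupOfEveryOrder H := fun H =>
  hasSubgroupOfEveryOrder_of_equiv (H.equivMapOfInjective K.subtype K.subtype_injective).symm
    (h (H.map K.subtype))

/-- With the converse of Lagrange in all subgroups, the Sylow subgroup of the largest prime is
normal. -/
theorem sylow_normal_of_all_clt [Finite G] (h : ∀ H : Subgroup G, Cfsg.HasSubgroupOfEveryOrder H)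
    (p : ℕ) [hp : Fact p.Prime] (hmax : ∀ q : ℕ, q.Prime → q ∣ Nat.card G → q ≤ p)
    (P : Sylow p G) : (P : Subgroup G).Normal := by
  suffices ∀ (n : ℕ) (G : Type u) [Group G] [Finite G], Nat.card G = n →
      (∀ H : Subgroup G, Cfsg.HasSubgroupOfEveryOrder H) →
      (∀ q : ℕ, q.Prime → q ∣ Nat.card G → q ≤ p) → ∀ P : Sylow p G, (P : Subgroup G).Normal from
    this _ G rfl h hmax P
  intro n
  induction n using Nat.strong_induction_on with
  | _ n ih =>
    intro G _ _ hn h hmax P
    rcases subsingleton_or_nontrivial G with hs | hs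
    · exact ⟨fun x hx g => by rwa [Subsingleton.elim (g * x * g⁻¹) x]⟩
    set q := (Nat.card G).minFac
    have hq : q.Prime := Nat.minFac_prime Finite.one_lt_card.ne'
    have hqd : q ∣ Nat.card G := Nat.minFac_dvd _
    by_cases hqp : q = p
    · have : ∀ {d : ℕ}, d.Prime → d ∣ Nat.card G → d = p := fun {d} hd hdd =>
        le_antisymm (hmax d hd hdd) (hqp ▸ Nat.minFac_le_of_dvd hd.two_le hdd)
      have hG : IsPGroup p G := IsPGroup.of_card
        (Nat.eq_prime_pow_of_unique_prime_dvd Nat.card_pos.ne' this)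
      exact (P.is_maximal' (Q := ⊤) (hG.of_equiv Subgroup.topEquiv.symm) le_top) ▸
        (inferInstance : (⊤ : Subgroup G).Normal)
    obtain ⟨M₀, hM₀⟩ := h ⊤ (Nat.card G / q)
      (by rw [Subgroup.card_top]; exact Nat.div_dvd_of_dvd hqd)
    let M : Subgroup G := M₀.map (⊤ : Subgroup G).subtype
    have hMc : Nat.card M = Nat.card G / q := by
      rw [← Nat.card_congr (M₀.equivMapOfInjective _ (⊤ : Subgroup G).subtype_injective).toEquiv, hM₀]
    have hMi : M.index = q := by
      have h1 := M.index_mul_card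
      rw [hMc] at h1
      have h2 : q * (Nat.card G / q) = Nat.card G := Nat.mul_div_cancel' hqd
      exact Nat.eq_of_mul_eq_mul_right (Nat.div_pos (Nat.le_of_dvd Nat.card_pos hqd) hq.pos)
        (h1.trans h2.symm)
    haveI : M.Normal := Subgroup.normal_of_index_eq_minFac_card hMi
    have hPM : (P : Subgroup G) ≤ M := by
      intro x hx
      obtain ⟨k, hk⟩ := P.isPGroup' ⟨x, hx⟩
      rw [← QuotientGroup.eq_one_iff x, ← orderOf_eq_one_iff]
      have hcop : Nat.Coprime (p ^ k) M.index :=
        Nat.Coprime.pow_left _ (hMi ▸ (Nat.coprime_primes hp.out hq).mpr (Ne.symm hqp))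
      refine Nat.dvd_one.mp (hcop.gcd_eq_one ▸ Nat.dvd_gcd (orderOf_dvd_of_pow_eq_one ?_)
        (orderOf_dvd_natCard _))
      rw [← QuotientGroup.mk_pow, show x ^ p ^ k = 1 by simpa [Subtype.ext_iff] using hk,
        QuotientGroup.mk_one]
    have hlt : Nat.card M < n := by
      rw [hMc, ← hn]; exact Nat.div_lt_self Nat.card_pos hq.one_lt
    haveI hn' := ih _ hlt M rfl (all_hasSubgroupOfEveryOrder_subgroup h M)
      (fun r hr hrd => hmax r hr (hrd.trans M.card_subgroup_dvd_card)) (P.subtype hPM)
    haveI : ((P.subtype hPM : Sylow p M) : Subgroup M).Characteristic :=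
      (P.subtype hPM).characteristic_of_normal hn'
    have heq : ((P.subtype hPM : Sylow p M) : Subgroup M).map M.subtype = P := by
      rw [Sylow.coe_subtype, Subgroup.subgroupOf_map_subtype, inf_eq_left.mpr hPM]
    exact heq ▸ inferInstance

theorem index_eq_relIndex_of_sup_eq_top [Finite G] (M P : Subgroup G) [P.Normal]
    (h : M ⊔ P = ⊤) : M.index = (P ⊓ M).relIndex P := by
  have h1 : P.relIndex M = P.index := by
    rw [← Subgroup.relIndex_sup_right (H := M) (K := P), h, Subgroup.relIndex_top_right]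
  have h2 : (P ⊓ M).relIndex M * M.index = (P ⊓ M).index :=
    Subgroup.relIndex_mul_index inf_le_right
  have h3 : (P ⊓ M).relIndex P * P.index = (P ⊓ M).index :=
    Subgroup.relIndex_mul_index inf_le_left
  rw [Subgroup.inf_relIndex_right, h1, ← h3, mul_comm] at h2
  exact Nat.eq_of_mul_eq_mul_right (Nat.pos_of_ne_zero Subgroup.index_ne_zero_of_finite) h2

/-- McLain's criterion. -/
theorem isSupersolvable_of_all_clt [Finite G]
    (h : ∀ H : Subgroup G, Cfsg.HasSubgroupOfEveryOrder H) : Cfsg.IsSupersolvable G := by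
  suffices ∀ (n : ℕ) (G : Type u) [Group G] [Finite G], Nat.card G = n →
      (∀ H : Subgroup G, Cfsg.HasSubgroupOfEveryOrder H) → Cfsg.IsSupersolvable G from this _ G rfl h
  intro n
  induction n using Nat.strong_induction_on with
  | _ n ih =>
    intro G _ _ hn h
    refine isSupersolvable_of_coatom_index_prime fun M hM => ?_
    haveI : Nontrivial G := by
      by_contra h0
      haveI := not_nontrivial_iff_subsingleton.mp h0
      exact hM.1 (Subsingleton.elim _ _)
    obtain ⟨p, hp, hpd, hmax⟩ := exists_max_prime (n := Nat.card G) Finite.one_lt_card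
    haveI := Fact.mk hp
    let P : Sylow p G := default
    haveI hPn := sylow_normal_of_all_clt h p hmax P
    have hπ := QuotientGroup.mk'_surjective (P : Subgroup G)
    by_cases hPM : (P : Subgroup G) ≤ M
    · -- `G / P` is isomorphic to a proper subgroup
      obtain ⟨H, hH⟩ := Subgroup.exists_right_complement'_of_coprime
        (N := (P : Subgroup G)) P.card_coprime_index
      have hlt : Nat.card H < n := by
        have := hH.card_mul
        have hgt : 1 < Nat.card P :=
          Finite.one_lt_card_iff_nontrivial.mpr ((Subgroup.nontrivial_iff_ne_bot _).mpr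
            (P.ne_bot_of_dvd_card hpd))
        rw [← hn, ← this]
        exact lt_mul_left Nat.card_pos hgt
      have hsH := ih _ hlt H rfl (all_hasSubgroupOfEveryOrder_subgroup h H)
      have hs : Cfsg.IsSupersolvable (G ⧸ (P : Subgroup G)) := by
        refine isSupersolvable_of_surjective hsH ((QuotientGroup.mk' _).comp H.subtype) ?_
        intro y
        obtain ⟨g, rfl⟩ := hπ y
        obtain ⟨u, hu, v, hv, rfl⟩ : ∃ u ∈ (P : Subgroup G), ∃ v ∈ H, u * v = g := by
          have : g ∈ ((P : Subgroup G) : Set G) * (H : Set G) := by rw [hH.mul_eq]; trivial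
          exact this
        exact ⟨⟨v, hv⟩, by simp [(QuotientGroup.eq_one_iff u).mpr hu]⟩
      have hker : (QuotientGroup.mk' (P : Subgroup G)).ker ≤ M := by
        rw [QuotientGroup.ker_mk']; exact hPM
      rw [← Subgroup.index_map_eq _ hπ hker]
      refine coatom_index_prime hs _ ⟨fun h0 => hM.1 ?_, fun K hK => ?_⟩
      · rw [← Subgroup.comap_map_eq_self hker, h0, Subgroup.comap_top]
      · have h1 := (Subgroup.comap_lt_comap_of_surjective hπ).mpr hK
        rw [Subgroup.comap_map_eq_self hker] at h1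
        rw [← Subgroup.map_comap_eq_self_of_surjective hπ K, hM.2 _ h1,
          Subgroup.map_top_of_surjective _ hπ]
    -- now `M * P = G` and `P / (P ⊓ M)` is a chief factor
    have hMP : M ⊔ (P : Subgroup G) = ⊤ := hM.2 _ (lt_of_le_of_ne le_sup_left
      fun h0 => hPM (h0 ▸ le_sup_right))
    set L := (P : Subgroup G) ⊓ M
    have hLP : L ≤ (P : Subgroup G) := inf_le_left
    have hML : M ≤ Subgroup.normalizer (L : Set G) := by
      intro m hm
      refine Subgroup.mem_normalizer_fintype fun x hx => ?_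
      exact ⟨hPn.conj_mem x hx.1 m, M.mul_mem (M.mul_mem hm hx.2) (M.inv_mem hm)⟩
    haveI hLn : L.Normal := by
      rw [← Subgroup.normalizer_eq_top_iff]
      refine hM.2 _ (lt_of_le_of_ne hML fun h0 => ?_)
      haveI : Group.IsNilpotent (P : Subgroup G) := P.isPGroup'.isNilpotent
      have hLt : L.subgroupOf (P : Subgroup G) < ⊤ := lt_top_iff_ne_top.mpr fun h1 =>
        hPM ((Subgroup.subgroupOf_eq_top.mp h1).trans inf_le_right)
      obtain ⟨y, hy, hy'⟩ := SetLike.exists_of_lt
        (Group.normalizerCondition_of_isNilpotent _ hLt)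
      have hyN : (y : G) ∈ Subgroup.normalizer (L : Set G) := by
        refine Subgroup.mem_normalizer_fintype fun x hx => ?_
        exact Subgroup.mem_subgroupOf.mp
          ((Subgroup.mem_normalizer_iff.mp hy ⟨x, hLP hx⟩).mp hx)
      exact hy' (Subgroup.mem_subgroupOf.mpr ⟨y.2, h0 ▸ hyN⟩)
    have hchief : ∀ T : Subgroup G, T.Normal → L ≤ T → T ≤ (P : Subgroup G) →
        T = L ∨ T = (P : Subgroup G) := by
      intro T hT hLT hTP
      by_cases hTM : T ≤ M
      · exact Or.inl (le_antisymm (le_inf hTP hTM) hLT)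
      refine Or.inr (le_antisymm hTP fun x hx => ?_)
      have htop : T ⊔ M = ⊤ :=
        hM.2 _ (lt_of_le_of_ne le_sup_right fun h0 => hTM (h0 ▸ le_sup_left))
      have hx' : x ∈ ((T ⊔ M : Subgroup G) : Set G) := by rw [htop]; trivial
      rw [Subgroup.normal_mul] at hx'
      obtain ⟨t, ht, m, hm, rfl⟩ := hx'
      refine T.mul_mem ht (hLT ⟨?_, hm⟩)
      have hm' := (P : Subgroup G).mul_mem ((P : Subgroup G).inv_mem (hTP ht)) hx
      rwa [inv_mul_cancel_left] at hm'
    have hab : ⁅(P : Subgroup G), (P : Subgroup G)⁆ ≤ L := by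
      rcases hchief (⁅(P : Subgroup G), (P : Subgroup G)⁆ ⊔ L) inferInstance le_sup_right
        (sup_le (Subgroup.commutator_le_self _) hLP) with h0 | h0
      · exact le_sup_left.trans h0.le
      · exfalso
        let L' := L.subgroupOf (P : Subgroup G)
        let ρ := QuotientGroup.mk' L'
        haveI : Nontrivial ((P : Subgroup G) ⧸ L') := QuotientGroup.nontrivial_iff.mpr
          fun h1 => hPM ((Subgroup.subgroupOf_eq_top.mp h1).trans inf_le_right)
        haveI : Group.IsNilpotent (P : Subgroup G) := P.isPGroup'.isNilpotent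
        refine (IsSolvable.commutator_lt_top_of_nontrivial ((P : Subgroup G) ⧸ L')).ne ?_
        refine top_le_iff.mp fun y _ => ?_
        obtain ⟨x, rfl⟩ := QuotientGroup.mk'_surjective L' y
        have hx : (x : G) ∈ ((⁅(P : Subgroup G), (P : Subgroup G)⁆ ⊔ L : Subgroup G) : Set G) := by
          rw [h0]; exact x.2
        rw [Subgroup.mul_normal] at hx
        obtain ⟨c, hc, l, hl, hcl⟩ := hx
        rw [← (P : Subgroup G).map_subtype_commutator] at hc
        obtain ⟨c', hc', rfl⟩ := hc
        have hd : c'⁻¹ * x ∈ L' := by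
          rw [Subgroup.mem_subgroupOf]
          simpa [← hcl] using hl
        have he : ρ c' = ρ x := QuotientGroup.eq.mpr hd
        rw [← he]
        have hle : (_root_.commutator (P : Subgroup G)).map ρ ≤ _root_.commutator _ := by
          rw [_root_.commutator_def, _root_.commutator_def, Subgroup.map_commutator]
          exact Subgroup.commutator_mono le_top le_top
        exact hle ⟨c', hc', rfl⟩
    have hidx : M.index = L.relIndex (P : Subgroup G) :=
      index_eq_relIndex_of_sup_eq_top M P hMP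
    rw [hidx]
    -- a smallest subgroup of `p`-power index covering `P / L`
    obtain ⟨S, hS⟩ := (Set.toFinite {S : Subgroup G | (∃ j, S.index = p ^ j) ∧
      (P : Subgroup G) ≤ (S ⊓ P) ⊔ L}).exists_minimal ⟨⊤, ⟨0, by simp⟩, by simp⟩
    obtain ⟨⟨⟨j, hj⟩, hScov⟩, hSmin⟩ := hS
    have hpS : p ∣ Nat.card S := by
      have hne : S ⊓ (P : Subgroup G) ≠ ⊥ := fun h0 => by
        rw [h0, bot_sup_eq] at hScov; exact hPM (hScov.trans inf_le_right)
      obtain ⟨k, hk⟩ := IsPGroup.iff_card.mp (P.isPGroup'.to_le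
        (inf_le_right : S ⊓ (P : Subgroup G) ≤ P))
      have hk0 : k ≠ 0 := by
        rintro rfl; exact hne (Subgroup.card_eq_one.mp (hk.trans (pow_zero p)))
      exact (dvd_pow_self p hk0).trans (hk ▸ Subgroup.card_dvd_of_le inf_le_left)
    obtain ⟨S₀, hS₀⟩ := h S (Nat.card S / p) (Nat.div_dvd_of_dvd hpS)
    let S' : Subgroup G := S₀.map S.subtype
    have hS'S : S' ≤ S := Subgroup.map_subtype_le _
    have hrel : S'.relIndex S = p := by
      rw [Subgroup.relIndex, Subgroup.subgroupOf,
        Subgroup.comap_map_eq_self_of_injective S.subtype_injective]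
      have h1 := S₀.index_mul_card
      rw [hS₀] at h1
      exact Nat.eq_of_mul_eq_mul_right (Nat.div_pos (Nat.le_of_dvd Nat.card_pos hpS) hp.pos)
        (h1.trans (Nat.mul_div_cancel' hpS).symm)
    have hS'i : S'.index = p ^ (j + 1) := by
      rw [← Subgroup.relIndex_mul_index hS'S, hrel, hj, pow_succ']
    have hnot : ¬ (P : Subgroup G) ≤ (S' ⊓ P) ⊔ L := fun h0 => by
      have := hSmin ⟨⟨j + 1, hS'i⟩, h0⟩ hS'S
      rw [le_antisymm hS'S this] at hrel
      simp at hrel
      exact hp.ne_one hrel.symm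
    have hPS : (P : Subgroup G) ⊔ S' = ⊤ := by
      rw [← Subgroup.index_eq_one]
      refine Nat.dvd_one.mp ?_
      have hcop : Nat.Coprime (p ^ (j + 1)) ((P : Subgroup G).index) :=
        Nat.Coprime.pow_left _ (hp.coprime_iff_not_dvd.mpr P.not_dvd_index)
      exact hcop.gcd_eq_one ▸ Nat.dvd_gcd (hS'i ▸ Subgroup.index_dvd_of_le le_sup_right)
        (Subgroup.index_dvd_of_le le_sup_left)
    have hTn : ((S' ⊓ (P : Subgroup G)) ⊔ L).Normal := by
      rw [← Subgroup.normalizer_eq_top_iff, ← top_le_iff, ← hPS]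
      refine sup_le (fun u hu => ?_) (fun s hs => ?_)
      · refine Subgroup.mem_normalizer_fintype fun x hx => ?_
        have hxP : x ∈ (P : Subgroup G) := sup_le inf_le_right hLP hx
        have := Subgroup.mul_mem _ (mem_sup_right (S := S' ⊓ (P : Subgroup G))
          (hab (Subgroup.commutator_mem_commutator hu hxP))) hx
        rw [commutatorElement_def, inv_mul_cancel_right] at this
        exact this
      · refine Subgroup.mem_normalizer_fintype fun x hx => ?_
        rw [SetLike.mem_coe, ← SetLike.mem_coe, Subgroup.mul_normal] at hx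
        obtain ⟨a, ha, l, hl, rfl⟩ := hx
        rw [SetLike.mem_coe, show s * (a * l) * s⁻¹ = s * a * s⁻¹ * (s * l * s⁻¹) by group]
        exact Subgroup.mul_mem _ (mem_sup_left ⟨S'.mul_mem (S'.mul_mem hs ha.1) (S'.inv_mem hs),
          hPn.conj_mem a ha.2 s⟩) (mem_sup_right (hLn.conj_mem l hl s))
    have hTL : S' ⊓ (P : Subgroup G) ≤ L := by
      rcases hchief _ hTn le_sup_right (sup_le inf_le_right hLP) with h0 | h0
      · exact le_sup_left.trans h0.le
      · exact absurd h0.ge hnot
    have hPeq : (P : Subgroup G) = L ⊔ (S ⊓ P) :=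
      le_antisymm (by rw [sup_comm]; exact hScov) (sup_le hLP inf_le_right)
    have hdvd : L.relIndex (P : Subgroup G) ≤ p := by
      rw [hPeq, sup_comm, Subgroup.relIndex_sup_right]
      calc L.relIndex (S ⊓ P) ≤ (S' ⊓ (P : Subgroup G)).relIndex (S ⊓ P) :=
            Nat.le_of_dvd (Nat.pos_of_ne_zero (Subgroup.index_ne_zero_of_finite (H := (S' ⊓ (P : Subgroup G)).subgroupOf (S ⊓ P))))
              (Subgroup.relIndex_dvd_of_le_left _ hTL)
        _ = S'.relIndex (S ⊓ P) := by
            rw [← Subgroup.inf_relIndex_right (H := S') (K := S ⊓ P),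
              ← Subgroup.inf_relIndex_right (H := S' ⊓ (P : Subgroup G)) (K := S ⊓ P)]
            congr 1
            ext x; simp [Subgroup.mem_inf]; tauto
        _ ≤ S'.relIndex S := Subgroup.relIndex_le_of_le_right inf_le_left
              (by rw [hrel]; exact hp.ne_zero)
        _ = p := hrel
    have hpp : ∃ k, L.relIndex (P : Subgroup G) = p ^ k := by
      obtain ⟨k, -, hk⟩ := (Nat.dvd_prime_pow hp).mp
        ((P.card_eq_multiplicity) ▸ L.relIndex_dvd_card (K := (P : Subgroup G)))
      exact ⟨k, hk⟩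
    obtain ⟨k, hk⟩ := hpp
    have hne1 : L.relIndex (P : Subgroup G) ≠ 1 := fun h0 =>
      hPM ((Subgroup.relIndex_eq_one.mp h0).trans inf_le_right)
    match k, hk with
    | 0, hk => exact absurd (hk.trans (pow_zero p)) hne1
    | 1, hk => rw [hk, pow_one]; exact hp
    | k + 2, hk =>
      rw [hk] at hdvd
      exact absurd hdvd (not_le.mpr (lt_self_pow₀ hp.one_lt (by omega)))

/-- Finite `p`-groups are supersolvable. -/
theorem isSupersolvable_of_isPGroup [Finite G] {p : ℕ} [hp : Fact p.Prime] (hG : IsPGroup p G) :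
    Cfsg.IsSupersolvable G := by
  refine isSupersolvable_of_coatom_index_prime fun M hM => ?_
  haveI : Group.IsNilpotent G := hG.isNilpotent
  haveI : M.Normal := Subgroup.NormalizerCondition.normal_of_coatom M
    Group.normalizerCondition_of_isNilpotent hM
  have hne : M.index ≠ 1 := fun h => hM.1 (Subgroup.index_eq_one.mp h)
  obtain ⟨r, hr, hrd⟩ := Nat.exists_prime_and_dvd hne
  haveI := Fact.mk hr
  rw [Subgroup.index] at hrd hne ⊢
  obtain ⟨z, hz⟩ := exists_prime_orderOf_dvd_card' r hrd
  have hπ := QuotientGroup.mk'_surjective M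
  have htop : zpowers z = ⊤ := by
    have hlt : M < (zpowers z).comap (QuotientGroup.mk' M) := by
      refine lt_of_le_of_ne (fun g hg => ?_) fun h0 => ?_
      · rw [Subgroup.mem_comap, QuotientGroup.mk'_apply, (QuotientGroup.eq_one_iff g).mpr hg]
        exact one_mem _
      · obtain ⟨g, rfl⟩ := hπ z
        have hgM : g ∈ M := by
          rw [h0]; exact Subgroup.mem_comap.mpr (mem_zpowers _)
        rw [QuotientGroup.mk'_apply, (QuotientGroup.eq_one_iff g).mpr hgM, orderOf_one] at hz
        exact hr.ne_one hz.symm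
    rw [← Subgroup.map_comap_eq_self_of_surjective hπ (zpowers z), hM.2 _ hlt,
      Subgroup.map_top_of_surjective _ hπ]
  rw [← Subgroup.card_top, ← htop, Nat.card_zpowers, hz]
  exact hr

/-- Groups of order `2 p ^ n` are supersolvable. -/
theorem isSupersolvable_of_card_two_mul_pow [Finite G] (p n : ℕ) (hp : p.Prime)
    (hG : Nat.card G = 2 * p ^ n) : Cfsg.IsSupersolvable G := by
  haveI := Fact.mk hp
  by_cases hp2 : p = 2
  · subst hp2
    exact isSupersolvable_of_isPGroup (IsPGroup.of_card (p := 2) (n := n + 1) (hG.trans (pow_succ' 2 n).symm))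
  refine isSupersolvable_of_coatom_index_prime fun M hM => ?_
  haveI : Fact (Nat.Prime 2) := ⟨Nat.prime_two⟩
  let P : Sylow p G := default
  have hPc : Nat.card P = p ^ n := by
    rw [P.card_eq_multiplicity, hG, Nat.factorization_mul two_ne_zero (pow_ne_zero _ hp.ne_zero),
      Finsupp.add_apply, Nat.Prime.factorization_pow hp, Finsupp.single_eq_same,
      Nat.factorization_eq_zero_of_not_dvd (n := 2) (fun h =>
        hp2 ((Nat.prime_dvd_prime_iff_eq hp Nat.prime_two).mp h)), Nat.zero_add]
  have hPi : (P : Subgroup G).index = 2 := by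
    have := (P : Subgroup G).index_mul_card
    rw [hPc, hG] at this
    exact Nat.eq_of_mul_eq_mul_right (pow_pos hp.pos n) this
  haveI hPn : (P : Subgroup G).Normal := Subgroup.normal_of_index_eq_two hPi
  by_cases hPM : (P : Subgroup G) ≤ M
  · have := Subgroup.index_dvd_of_le hPM
    rw [hPi] at this
    rcases (Nat.dvd_prime Nat.prime_two).mp this with h | h
    · exact absurd (Subgroup.index_eq_one.mp h) hM.1
    · rw [h]; exact Nat.prime_two
  -- a maximal subgroup with `M P = G`: find a normal subgroup between of prime index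
  set L := (P : Subgroup G) ⊓ M
  have hMP : M ⊔ (P : Subgroup G) = ⊤ := hM.2 _ (lt_of_le_of_ne le_sup_left
    fun h0 => hPM (h0 ▸ le_sup_right))
  have hML : M ≤ Subgroup.normalizer (L : Set G) := by
    intro m hm
    refine Subgroup.mem_normalizer_fintype fun x hx => ?_
    exact ⟨hPn.conj_mem x hx.1 m, M.mul_mem (M.mul_mem hm hx.2) (M.inv_mem hm)⟩
  haveI hLn : L.Normal := by
    rw [← Subgroup.normalizer_eq_top_iff]
    refine hM.2 _ (lt_of_le_of_ne hML fun h0 => ?_)
    haveI : Group.IsNilpotent (P : Subgroup G) := P.isPGroup'.isNilpotent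
    have hLt : L.subgroupOf (P : Subgroup G) < ⊤ := lt_top_iff_ne_top.mpr fun h1 =>
      hPM ((Subgroup.subgroupOf_eq_top.mp h1).trans inf_le_right)
    obtain ⟨y, hy, hy'⟩ := SetLike.exists_of_lt
      (Group.normalizerCondition_of_isNilpotent _ hLt)
    have hyN : (y : G) ∈ Subgroup.normalizer (L : Set G) := by
      refine Subgroup.mem_normalizer_fintype fun x hx => ?_
      exact Subgroup.mem_subgroupOf.mp
        ((Subgroup.mem_normalizer_iff.mp hy ⟨x, (Subgroup.mem_inf.mp hx).1⟩).mp hx)
    exact hy' (Subgroup.mem_subgroupOf.mpr ⟨y.2, h0 ▸ hyN⟩)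
  have hidx : M.index = L.relIndex (P : Subgroup G) :=
    index_eq_relIndex_of_sup_eq_top M P hMP
  -- work in `G / L`
  let π := QuotientGroup.mk' L
  have hπ := QuotientGroup.mk'_surjective L
  let Q := (P : Subgroup G).map π
  haveI : Q.Normal := hPn.map π hπ
  have hQc : Nat.card Q = L.relIndex (P : Subgroup G) := by
    rw [← Subgroup.relIndex_ker, QuotientGroup.ker_mk']
  haveI : Nontrivial Q := (Subgroup.nontrivial_iff_ne_bot Q).mpr fun h0 => hPM (by
    rw [Subgroup.map_eq_bot_iff, QuotientGroup.ker_mk'] at h0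
    exact h0.trans inf_le_right)
  have hQp : IsPGroup p Q := P.isPGroup'.map π
  obtain ⟨z, hz⟩ := exists_prime_orderOf_dvd_card' (G := Subgroup.center Q) p (by
    haveI := hQp.center_nontrivial
    obtain ⟨k, hk⟩ := IsPGroup.iff_card.mp (hQp.to_subgroup (Subgroup.center Q))
    rw [hk]
    refine dvd_pow_self p fun h0 => ?_
    rw [h0, pow_zero] at hk
    have := Finite.one_lt_card (α := Subgroup.center Q)
    omega)
  have hzc : ∀ y ∈ Q, y * ((z : Q) : G ⧸ L) = ((z : Q) : G ⧸ L) * y := fun y hy =>
    congrArg Subtype.val (Subgroup.mem_center_iff.mp z.2 ⟨y, hy⟩)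
  set x : G ⧸ L := ((z : Q) : G ⧸ L) with hx
  have hxQ : x ∈ Q := z.1.2
  have hox : orderOf x = p := by rw [hx, Subgroup.orderOf_coe, Subgroup.orderOf_coe, hz]
  obtain ⟨t, ht⟩ := exists_prime_orderOf_dvd_card' (G := G) 2 (hG ▸ dvd_mul_right 2 _)
  have htP : t ∉ (P : Subgroup G) := fun h0 => by
    have := Subgroup.orderOf_dvd_natCard _ h0
    rw [ht, hPc] at this
    exact hp2 ((Nat.prime_dvd_prime_iff_eq Nat.prime_two hp).mp
      (Nat.prime_two.dvd_of_dvd_pow this)).symm
  have ht2 : π t * π t = 1 := by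
    rw [← map_mul, ← sq, show t ^ 2 = 1 from ht ▸ pow_orderOf_eq_one t, map_one]
  have hxc : ∀ y ∈ Q, y * (π t * x * (π t)⁻¹) = π t * x * (π t)⁻¹ * y := by
    intro y hy
    have := hzc ((π t)⁻¹ * y * π t)
      (by simpa using ‹Q.Normal›.conj_mem y hy (π t)⁻¹)
    calc y * (π t * x * (π t)⁻¹) = π t * ((π t)⁻¹ * y * π t * x) * (π t)⁻¹ := by group
      _ = _ := by rw [this]; group
  -- an element of order `p` in `Z(Q)` generating a normal subgroup
  obtain ⟨w, hwQ, how, hwc, hwn⟩ : ∃ w, w ∈ Q ∧ orderOf w = p ∧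
      (∀ y ∈ Q, y * w = w * y) ∧ π t * w * (π t)⁻¹ ∈ zpowers w := by
    set x' := π t * x * (π t)⁻¹ with hx'
    have hinv : (π t)⁻¹ = π t := inv_eq_of_mul_eq_one_left ht2
    have hx'2 : π t * x' * (π t)⁻¹ = x := by
      rw [hx', hinv]
      calc π t * (π t * x * π t) * π t = (π t * π t) * x * (π t * π t) := by group
        _ = x := by rw [ht2, one_mul, mul_one]
    by_cases h1 : x * x' = 1
    · exact ⟨x, hxQ, hox, hzc, Subgroup.mem_zpowers_iff.mpr
        ⟨-1, by rw [zpow_neg_one]; exact (eq_inv_of_mul_eq_one_right h1).symm ▸ rfl⟩⟩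
    · have hx'Q : x' ∈ Q := ‹Q.Normal›.conj_mem x hxQ _
      have hcomm : Commute x x' := (hzc x' hx'Q).symm
      refine ⟨x * x', Q.mul_mem hxQ hx'Q, ?_, fun y hy => ?_, ?_⟩
      · refine orderOf_eq_prime ?_ h1
        have hxp : x ^ p = 1 := by rw [← hox]; exact pow_orderOf_eq_one x
        rw [hcomm.mul_pow, hxp, one_mul, hx', conj_pow, hxp, mul_one, mul_inv_cancel]
      · rw [← mul_assoc, hzc y hy, mul_assoc, hxc y hy, ← mul_assoc]
      · refine Subgroup.mem_zpowers_iff.mpr ⟨1, ?_⟩
        rw [zpow_one, show π t * (x * x') * (π t)⁻¹ =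
          π t * x * (π t)⁻¹ * (π t * x' * (π t)⁻¹) by group, hx'2, ← hx', hcomm.eq]
  have hzn : (zpowers w).Normal := by
    rw [← Subgroup.normalizer_eq_top_iff, ← top_le_iff]
    have htop : (P : Subgroup G) ⊔ zpowers t = ⊤ := by
      rw [← Subgroup.index_eq_one]
      have hd := Subgroup.index_dvd_of_le (le_sup_left : (P : Subgroup G) ≤ (P : Subgroup G) ⊔ zpowers t)
      rw [hPi] at hd
      rcases (Nat.dvd_prime Nat.prime_two).mp hd with h | h
      · exact h
      · exfalso
        refine htP ((?_ : (P : Subgroup G) ⊔ zpowers t ≤ P) (mem_sup_right (mem_zpowers t)))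
        exact (Subgroup.eq_of_le_of_card_ge le_sup_left (le_of_eq (Nat.eq_of_mul_eq_mul_left
          (show 0 < 2 by norm_num) (by
            have a := Subgroup.index_mul_card ((P : Subgroup G) ⊔ zpowers t)
            have b := Subgroup.index_mul_card (P : Subgroup G)
            rw [h] at a; rw [hPi] at b; rw [a, b])))).ge
    rw [← Subgroup.map_top_of_surjective π hπ, ← htop, Subgroup.map_sup, MonoidHom.map_zpowers]
    refine sup_le (fun y hy => ?_) ?_
    · refine Subgroup.mem_normalizer_fintype fun v hv => ?_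
      obtain ⟨k, rfl⟩ := hv
      have hcw : Commute y (w ^ k) := Commute.zpow_right (hwc y hy) k
      rw [SetLike.mem_coe, hcw.eq, mul_inv_cancel_right]
      exact ⟨k, rfl⟩
    · rw [zpowers_le]
      refine Subgroup.mem_normalizer_fintype fun v hv => ?_
      obtain ⟨k, rfl⟩ := hv
      rw [SetLike.mem_coe, ← conj_zpow]
      exact Subgroup.zpow_mem _ hwn k
  -- maximality forces `Q = zpowers w`
  have hQw : Q = zpowers w := by
    refine le_antisymm (fun y hy => ?_) (zpowers_le.mpr hwQ)
    let T := (zpowers w).comap π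
    have hTP : T ≤ (P : Subgroup G) := fun g hg => by
      have hg' : π g ∈ Q := zpowers_le.mpr hwQ hg
      have : g ∈ ((P : Subgroup G).map π).comap π := hg'
      rwa [Subgroup.comap_map_eq_self (by rw [QuotientGroup.ker_mk']; exact inf_le_left)] at this
    have hTM : ¬ T ≤ M := fun h0 => by
      obtain ⟨g, hg⟩ := hπ w
      have hgT : g ∈ T := by show π g ∈ zpowers w; rw [hg]; exact mem_zpowers w
      have hgL : g ∈ L := ⟨hTP hgT, h0 hgT⟩
      rw [← hg, show π g = 1 from (QuotientGroup.eq_one_iff g).mpr hgL, orderOf_one] at how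
      exact hp.ne_one how.symm
    have htop : T ⊔ M = ⊤ :=
      hM.2 _ (lt_of_le_of_ne le_sup_right fun h0 => hTM (h0 ▸ le_sup_left))
    obtain ⟨g, hgP, rfl⟩ := hy
    haveI : T.Normal := hzn.comap π
    have hg' : g ∈ ((T ⊔ M : Subgroup G) : Set G) := by rw [htop]; trivial
    rw [Subgroup.normal_mul] at hg'
    obtain ⟨a, ha, m, hm, rfl⟩ := hg'
    have hm' := (P : Subgroup G).mul_mem ((P : Subgroup G).inv_mem (hTP ha)) hgP
    rw [inv_mul_cancel_left] at hm'
    have hmL : m ∈ L := ⟨hm', hm⟩
    rw [map_mul, show π m = 1 from (QuotientGroup.eq_one_iff m).mpr hmL, mul_one]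
    exact ha
  rw [hidx, ← hQc, hQw, Nat.card_zpowers, how]
  exact hp

end Cfsg.Agent.Perm
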