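import Mathlib
import Cfsg.Agent.Lib.Lie.AbelianField

/-!
Transitive groups of degree `p + 1` and order `(p + 1) p d` with `d < p`: point stabilisers,
and the semiaffine structure in the presence of a regular normal subgroup.
-/

set_option autoImplicit false
set_option linter.style.haveILetI false

namespace Cfsg.Agent.Perm.DegreePrimeAddOne

open MulAction

universe u w

set_option maxHeartbeats 800000

/-- In a group of order less than `p * p` there is only one subgroup of order `p`. -/
theorem mem_zpowers_of_small {Γ : Type u} [Group Γ] [Finite Γ] {p : ℕ} (hp : p.Prime)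
    (hc : Nat.card Γ < p * p) {u v : Γ} (hu : orderOf u = p) (hv : orderOf v ∣ p) :
    v ∈ Subgroup.zpowers u := by
  rcases (Nat.dvd_prime hp).1 hv with h1 | h1
  · rw [orderOf_eq_one_iff.1 h1]; exact one_mem _
  by_contra hne
  haveI := Fact.mk hp
  have hinf : ∀ a ∈ Subgroup.zpowers u, a ∈ Subgroup.zpowers v → a = 1 := by
    intro a ha hb
    by_contra ha1
    have hvz : Nat.card (Subgroup.zpowers v) = p := by rw [Nat.card_zpowers, h1]
    have h := mem_zpowers_of_prime_card hvz (g := ⟨a, hb⟩) (g' := ⟨v, Subgroup.mem_zpowers v⟩)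
      (fun e => ha1 (congrArg Subtype.val e))
    obtain ⟨i, hi⟩ := Subgroup.mem_zpowers_iff.1 h
    exact hne ((show a ^ i = v from congrArg Subtype.val hi) ▸ zpow_mem ha i)
  have hle := Nat.card_le_card_of_injective
    (fun z : Subgroup.zpowers u × Subgroup.zpowers v => (z.1 : Γ) * z.2) (by
      rintro ⟨a, b⟩ ⟨a', b'⟩ h
      have h' : (a : Γ) * b = a' * b' := h
      have e1 : (a' : Γ)⁻¹ * a = b' * (b : Γ)⁻¹ := by
        rw [eq_mul_inv_iff_mul_eq, mul_assoc, h', inv_mul_cancel_left]
      have e2 : (a' : Γ)⁻¹ * a = 1 := hinf _ (mul_mem (inv_mem a'.2) a.2)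
        (e1 ▸ mul_mem b'.2 (inv_mem b.2))
      refine Prod.ext (Subtype.ext (inv_mul_eq_one.1 e2).symm) (Subtype.ext ?_)
      rw [e2] at e1
      exact mul_inv_eq_one.1 e1.symm |>.symm)
  rw [Nat.card_prod, Nat.card_zpowers, Nat.card_zpowers, hu, h1] at hle
  omega

variable {G : Type u} [Group G] [Finite G] {α : Type w} [Fintype α] [MulAction G α] [FaithfulSMul G α]

/-- What is known about the stabiliser of `x`: a normal subgroup `P` of order `p`, regular on the
other points. -/
structure StabData (p d : ℕ) (x : α) where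
  P : Subgroup G
  le : P ≤ stabilizer G x
  normal : (P.subgroupOf (stabilizer G x)).Normal
  card : Nat.card P = p
  comm : IsMulCommutative P
  regular : ∀ y z : α, y ≠ x → z ≠ x → ∃! v : P, (v : G) • y = z
  three : ∀ g : G, ∀ y z : α, y ≠ x → z ≠ x → y ≠ z → g • x = x → g • y = y → g • z = z → g = 1
  two : ∀ y : α, y ≠ x → Nat.card ↥(stabilizer G x ⊓ stabilizer G y) = d
  dvd : d ∣ p - 1

theorem stabData [IsPretransitive G α] {p d : ℕ} (hp : p.Prime) (hα : Fintype.card α = p + 1)
    (hG : Nat.card G = (p + 1) * p * d) (hd : d < p) (x : α) :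
    Nonempty (StabData (G := G) p d x) := by
  classical
  haveI := Fact.mk hp
  have hd0 : 0 < d := by
    rcases Nat.eq_zero_or_pos d with h | h
    · rw [h, mul_zero] at hG
      exact absurd hG Nat.card_pos.ne'
    · exact h
  have hB : Nat.card (stabilizer G x) = p * d := by
    have h := (stabilizer G x).card_mul_index
    rw [index_stabilizer_of_transitive, Nat.card_eq_fintype_card (α := α), hα, hG] at h
    exact Nat.eq_of_mul_eq_mul_right (m := p + 1) (Nat.succ_pos p) (h.trans (by ring))
  obtain ⟨u, hu⟩ := exists_prime_orderOf_dvd_card' (G := stabilizer G x) p (by rw [hB]; exact dvd_mul_right p d)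
  have hsmall : ∀ v : stabilizer G x, orderOf v ∣ p → v ∈ Subgroup.zpowers u := fun v hv =>
    mem_zpowers_of_small hp (by rw [hB]; exact Nat.mul_lt_mul_of_pos_left hd hp.pos) hu hv
  set P : Subgroup G := Subgroup.zpowers (u : G) with hP
  have hPc : Nat.card P = p := by rw [hP, Nat.card_zpowers, Subgroup.orderOf_coe, hu]
  have hPle : P ≤ stabilizer G x := Subgroup.zpowers_le.2 u.2
  have hconjP : ∀ g ∈ stabilizer G x, ∀ v ∈ P, g * v * g⁻¹ ∈ P := by
    intro g hg v hv
    obtain ⟨i, rfl⟩ := Subgroup.mem_zpowers_iff.1 hv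
    have h := hsmall ⟨g * (u : G) ^ i * g⁻¹, mul_mem (mul_mem hg (zpow_mem u.2 i)) (inv_mem hg)⟩ (by
      refine orderOf_dvd_of_pow_eq_one (Subtype.ext ?_)
      show (g * (u : G) ^ i * g⁻¹) ^ p = 1
      rw [conj_pow, ← zpow_natCast, ← zpow_mul, mul_comm i, zpow_mul, zpow_natCast,
        ← Subgroup.coe_pow, ← hu, pow_orderOf_eq_one, OneMemClass.coe_one, one_zpow, mul_one, mul_inv_cancel])
    obtain ⟨j, hj⟩ := Subgroup.mem_zpowers_iff.1 h
    exact Subgroup.mem_zpowers_iff.2 ⟨j, congrArg Subtype.val hj⟩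
  haveI hcomm : IsMulCommutative P := by rw [hP]; infer_instance
  have hgen : ∀ v : P, (v : G) ≠ 1 → ∀ w : P, ∃ i : ℤ, (w : G) = (v : G) ^ i := fun v hv w => by
    obtain ⟨i, hi⟩ := Subgroup.mem_zpowers_iff.1
      (mem_zpowers_of_prime_card hPc (g := v) (g' := w) fun e => hv (congrArg Subtype.val e))
    exact ⟨i, (congrArg Subtype.val hi).symm⟩
  have hu1 : (u : G) ≠ 1 := fun e => hp.ne_one (by
    rw [← hu, ← Subgroup.orderOf_coe, e, orderOf_one])
  obtain ⟨y₀, hy₀⟩ : ∃ y : α, (u : G) • y ≠ y := by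
    by_contra h
    exact hu1 (FaithfulSMul.eq_of_smul_eq_smul (α := α) fun y => by
      rw [one_smul]; exact not_not.1 fun hy => h ⟨y, hy⟩)
  have hne : ∀ v ∈ P, ∀ y, y ≠ x → v • y ≠ x := fun v hv y hy e =>
    hy (MulAction.injective v (e.trans (hPle hv).symm))
  have hy₀x : y₀ ≠ x := fun e => hy₀ (by rw [e]; exact u.2)
  have hfree₀ : ∀ v ∈ P, v • y₀ = y₀ → v = 1 := by
    intro v hv he
    by_contra hv1
    obtain ⟨i, hi⟩ := hgen ⟨v, hv⟩ hv1 ⟨u, Subgroup.mem_zpowers _⟩
    exact hy₀ (by rw [show (u : G) = v ^ i from hi]; exact (zpow_mem (show v ∈ stabilizer G y₀ from he) i))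
  have hbij₀ : Function.Bijective fun v : P => (⟨(v : G) • y₀, hne v v.2 y₀ hy₀x⟩ : {z // z ≠ x}) := by
    rw [Nat.bijective_iff_injective_and_card]
    refine ⟨fun v v' h => ?_, ?_⟩
    · have h' : (v : G) • y₀ = (v' : G) • y₀ := congrArg Subtype.val h
      exact Subtype.ext (inv_mul_eq_one.1 (hfree₀ _ (mul_mem (inv_mem v'.2) v.2)
        (by rw [mul_smul, h', inv_smul_smul]))).symm
    · rw [hPc, Nat.card_eq_fintype_card, Fintype.card_subtype_compl, Fintype.card_subtype_eq, hα]
      omega
  have hPcomm : ∀ v w : P, (v : G) * w = w * v := fun v w =>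
    congrArg Subtype.val (hcomm.is_comm.comm v w)
  have hfree : ∀ v ∈ P, ∀ y, y ≠ x → v • y = y → v = 1 := by
    intro v hv y hy he
    obtain ⟨w, hw⟩ := hbij₀.2 ⟨y, hy⟩
    have hw' : (w : G) • y₀ = y := congrArg Subtype.val hw
    refine hfree₀ v hv (MulAction.injective (w : G) ?_)
    show (w : G) • v • y₀ = (w : G) • y₀
    rw [← mul_smul, ← hPcomm ⟨v, hv⟩ w, mul_smul]
    show v • (w : G) • y₀ = (w : G) • y₀
    rw [hw', he]
  have hreg : ∀ y z : α, y ≠ x → z ≠ x → ∃! v : P, (v : G) • y = z := by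
    intro y z hy hz
    obtain ⟨a, ha⟩ := hbij₀.2 ⟨y, hy⟩
    obtain ⟨b, hb⟩ := hbij₀.2 ⟨z, hz⟩
    have ha' : (a : G) • y₀ = y := congrArg Subtype.val ha
    have hb' : (b : G) • y₀ = z := congrArg Subtype.val hb
    have hw : ((b * a⁻¹ : P) : G) • y = z := by
      rw [← ha', ← hb', Subgroup.coe_mul, Subgroup.coe_inv, mul_smul, inv_smul_smul]
    refine ⟨b * a⁻¹, hw, fun v hv => Subtype.ext (inv_mul_eq_one.1 (hfree _
      (mul_mem (inv_mem (b * a⁻¹).2) v.2) y hy ?_)).symm⟩
    show (((b * a⁻¹ : P) : G)⁻¹ * (v : G)) • y = y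
    rw [mul_smul, show (v : G) • y = z from hv, inv_smul_eq_iff, hw]
  have hthree : ∀ g : G, ∀ y z : α, y ≠ x → z ≠ x → y ≠ z → g • x = x → g • y = y → g • z = z → g = 1 := by
    intro g y z hy hz hyz hgx hgy hgz
    obtain ⟨v, hv, -⟩ := hreg y z hy hz
    have hv1 : (v : G) ≠ 1 := fun e => hyz (by rw [← hv, e, one_smul])
    have hgv : g * v * g⁻¹ = (v : G) := by
      refine (congrArg Subtype.val ((hreg y z hy hz).unique
        (y₁ := ⟨g * v * g⁻¹, hconjP g hgx v v.2⟩) ?_ hv) :)
      show (g * v * g⁻¹) • y = z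
      rw [mul_smul, mul_smul, inv_smul_eq_iff.2 hgy.symm, hv, hgz]
    have hgc : Commute g (v : G) := mul_inv_eq_iff_eq_mul.1 hgv
    refine FaithfulSMul.eq_of_smul_eq_smul (α := α) fun t => ?_
    rw [one_smul]
    by_cases ht : t = x
    · rw [ht, hgx]
    obtain ⟨w, hw, -⟩ := hreg y t hy ht
    obtain ⟨i, hi⟩ := hgen v hv1 w
    rw [← hw, ← mul_smul, hi, (hgc.zpow_right i).eq, mul_smul, hgy]
  have htwo : ∀ y : α, y ≠ x → Nat.card ↥(stabilizer G x ⊓ stabilizer G y) = d := by
    intro y hy
    have hidx : ((stabilizer G x ⊓ stabilizer G y).subgroupOf (stabilizer G x)).index = p := by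
      rw [show (stabilizer G x ⊓ stabilizer G y).subgroupOf (stabilizer G x) =
        stabilizer (stabilizer G x) y from Subgroup.ext fun g => ⟨fun h => h.2, fun h => ⟨g.2, h⟩⟩,
        index_stabilizer]
      have : orbit (stabilizer G x) y = ({x}ᶜ : Set α) := by
        ext z
        constructor
        · rintro ⟨g, rfl⟩ h
          exact hy (MulAction.injective (g : G) (h.trans g.2.symm))
        · intro hz
          obtain ⟨v, hv, -⟩ := hreg y z hy hz
          exact ⟨⟨v, hPle v.2⟩, hv⟩
      rw [this, Set.ncard_compl, Set.ncard_singleton, Nat.card_eq_fintype_card, hα]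
      rfl
    have h := Subgroup.card_mul_index ((stabilizer G x ⊓ stabilizer G y).subgroupOf (stabilizer G x))
    rw [hidx, hB, Nat.card_congr (Subgroup.subgroupOfEquivOfLe (inf_le_left)).toEquiv, mul_comm p d] at h
    exact Nat.eq_of_mul_eq_mul_right hp.pos h
  have hdvd : d ∣ p - 1 := by
    rw [← htwo y₀ hy₀x]
    let f : ↥(stabilizer G x ⊓ stabilizer G y₀) →* MulAut P :=
      { toFun := fun h =>
          { toFun := fun v => ⟨(h : G) * v * (h : G)⁻¹, hconjP _ h.2.1 v v.2⟩
            invFun := fun v => ⟨(h : G)⁻¹ * v * (h : G)⁻¹⁻¹, hconjP _ (inv_mem h.2.1) v v.2⟩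
            left_inv := fun v => Subtype.ext (by
              show (h : G)⁻¹ * ((h : G) * v * (h : G)⁻¹) * (h : G)⁻¹⁻¹ = (v : G)
              group)
            right_inv := fun v => Subtype.ext (by
              show (h : G) * ((h : G)⁻¹ * v * (h : G)⁻¹⁻¹) * (h : G)⁻¹ = (v : G)
              group)
            map_mul' := fun v v' => Subtype.ext (by
              show (h : G) * ((v : G) * v') * (h : G)⁻¹ =
                (h : G) * v * (h : G)⁻¹ * ((h : G) * v' * (h : G)⁻¹)
              group) }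
        map_one' := MulEquiv.ext fun v => Subtype.ext (by show (1 : G) * v * (1 : G)⁻¹ = v; group)
        map_mul' := fun h h' => MulEquiv.ext fun v => Subtype.ext (by
          show ((h : G) * h') * v * ((h : G) * h')⁻¹ = (h : G) * ((h' : G) * v * (h' : G)⁻¹) * (h : G)⁻¹
          group) }
    have hf : Function.Injective f := by
      rw [injective_iff_map_eq_one]
      intro h hh
      refine Subtype.ext ?_
      refine FaithfulSMul.eq_of_smul_eq_smul (α := α) fun t => ?_
      rw [OneMemClass.coe_one, one_smul]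
      by_cases ht : t = x
      · rw [ht]; exact h.2.1
      obtain ⟨w, hw, -⟩ := hreg y₀ t hy₀x ht
      have hc : (h : G) * w * (h : G)⁻¹ = w :=
        congrArg Subtype.val (DFunLike.congr_fun hh w)
      rw [← hw, ← mul_smul, mul_inv_eq_iff_eq_mul.1 hc, mul_smul, show (h : G) • y₀ = y₀ from h.2.2]
    haveI : IsCyclic P := by rw [hP]; infer_instance
    refine (Subgroup.card_dvd_of_injective f hf).trans ?_
    rw [IsCyclic.card_mulAut, hPc, Nat.totient_prime hp]
  exact ⟨⟨P, hPle, ⟨fun v hv g => by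
    rw [Subgroup.mem_subgroupOf] at hv ⊢
    exact hconjP g g.2 v hv⟩, hPc, hcomm, hreg, hthree, htwo, hdvd⟩⟩

variable [IsPretransitive G α]

/-- With a regular normal subgroup the group is semiaffine on a field of `2 ^ q` elements. -/
theorem affine {p d : ℕ} (hp : p.Prime) (hp2 : p ≠ 2) (hα : Fintype.card α = p + 1) {x : α}
    (D : StabData (G := G) p d x) (N : Subgroup G) [N.Normal]
    (htr : ∀ a b : α, ∃ n ∈ N, n • a = b) (hsemi : ∀ n ∈ N, n • x = x → n = 1) :
    ∃ q : ℕ, q.Prime ∧ p + 1 = 2 ^ q ∧ d ∣ q ∧ ∃ e : α ≃ GaloisField 2 q,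
      ∀ g : G, ∃ a : (GaloisField 2 q)ˣ, ∃ b : GaloisField 2 q, ∃ φ : GaloisField 2 q ≃+* GaloisField 2 q,
        ∀ z, e (g • e.symm z) = (a : GaloisField 2 q) * φ z + b := by
  classical
  haveI := Fact.mk hp
  have hinj : Function.Injective fun n : N => (n : G) • x := fun n m h =>
    Subtype.ext (inv_mul_eq_one.1 (hsemi _ (mul_mem (inv_mem m.2) n.2)
      (by rw [mul_smul, show (n : G) • x = (m : G) • x from h, inv_smul_smul]))).symm
  have hbij : Function.Bijective fun n : N => (n : G) • x :=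
    ⟨hinj, fun a => by obtain ⟨n, hn, h⟩ := htr x a; exact ⟨⟨n, hn⟩, h⟩⟩
  have hNc : Nat.card N = p + 1 := by
    rw [Nat.card_eq_of_bijective _ hbij, Nat.card_eq_fintype_card, hα]
  have hne : ∀ n : N, n ≠ 1 → (n : G) • x ≠ x := fun n hn h => hn (Subtype.ext (hsemi n n.2 h))
  have hconjx : ∀ g ∈ stabilizer G x, ∀ n : G, (g * n * g⁻¹) • x = g • n • x := fun g hg n => by
    rw [mul_smul, mul_smul, show g⁻¹ • x = x from inv_smul_eq_iff.2 (Eq.symm hg)]
  have hconj : ∀ n m : N, n ≠ 1 → m ≠ 1 → ∃ v ∈ D.P, v * (n : G) * v⁻¹ = m := by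
    intro n m hn hm
    obtain ⟨v, hv, -⟩ := D.regular _ _ (hne n hn) (hne m hm)
    refine ⟨v, v.2, congrArg Subtype.val (@hinj ⟨_, Subgroup.Normal.conj_mem ‹N.Normal› n n.2 v⟩ m ?_)⟩
    show ((v : G) * n * (v : G)⁻¹) • x = _
    rw [hconjx _ (D.le v.2), hv]
  haveI := Fact.mk Nat.prime_two
  have hodd : Odd p := hp.odd_of_ne_two hp2
  have heven : 2 ∣ Nat.card N := by rw [hNc]; obtain ⟨i, rfl⟩ := hodd; omega
  obtain ⟨t, ht⟩ := exists_prime_orderOf_dvd_card' (G := N) 2 heven
  have hsq : ∀ n : N, n ^ 2 = 1 := by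
    intro n
    rcases eq_or_ne n 1 with rfl | hn
    · exact one_pow 2
    obtain ⟨v, -, hv⟩ := hconj t n (fun e => by rw [e, orderOf_one] at ht; omega) hn
    refine Subtype.ext ?_
    rw [Subgroup.coe_pow, ← hv, conj_pow, ← Subgroup.coe_pow, ← ht, pow_orderOf_eq_one,
      OneMemClass.coe_one, mul_one, mul_inv_cancel]
  have hpg : IsPGroup 2 N := fun n => ⟨1, by rw [pow_one]; exact hsq n⟩
  obtain ⟨q, hq⟩ := IsPGroup.iff_card.1 hpg
  rw [hNc] at hq
  have hq1 : q ≠ 1 := by rintro rfl; have := hp.two_le; omega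
  have hqp : q.Prime := (Nat.prime_of_pow_sub_one_prime hq1 (by rw [← hq]; exact hp)).2
  letI : CommGroup N :=
    { (inferInstance : Group N) with
      mul_comm := fun a b => by
        have h1 : ∀ c : N, c⁻¹ = c := fun c => inv_eq_of_mul_eq_one_left (by rw [← pow_two]; exact hsq c)
        rw [← h1 (a * b), mul_inv_rev, h1, h1] }
  haveI : Nontrivial (Additive N) := by
    haveI : Nontrivial N := Finite.one_lt_card_iff_nontrivial.1 (by have := hp.two_le; omega)
    infer_instance
  let cj : G → (N →* N) := fun g =>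
    { toFun := fun n => ⟨g * n * g⁻¹, Subgroup.Normal.conj_mem ‹N.Normal› n n.2 g⟩
      map_one' := Subtype.ext (by show g * (1 : G) * g⁻¹ = 1; group)
      map_mul' := fun n m => Subtype.ext (by
        show g * ((n : G) * m) * g⁻¹ = g * n * g⁻¹ * (g * m * g⁻¹)
        group) }
  let T : G → AddMonoid.End (Additive N) := fun g => MonoidHom.toAdditive (cj g)
  have hTa : ∀ g n, T g (Additive.ofMul n) = Additive.ofMul (cj g n) := fun _ _ => rfl
  let ρ : D.P →* AddMonoid.End (Additive N) :=
    { toFun := fun v => T v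
      map_one' := AddMonoidHom.ext fun n => by
        show Additive.ofMul (cj 1 n.toMul) = n
        exact congrArg Additive.ofMul (Subtype.ext (by show (1 : G) * (n.toMul : G) * (1 : G)⁻¹ = (n.toMul : G); group))
      map_mul' := fun v w => AddMonoidHom.ext fun n => by
        show Additive.ofMul (cj (v * w : G) n.toMul) = Additive.ofMul (cj v (cj w n.toMul))
        exact congrArg Additive.ofMul (Subtype.ext (by
          show ((v : G) * w) * (n.toMul : G) * ((v : G) * w)⁻¹ =
            (v : G) * ((w : G) * (n.toMul : G) * (w : G)⁻¹) * (v : G)⁻¹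
          group)) }
  have htrans : ∀ a b : Additive N, a ≠ 0 → b ≠ 0 → ∃ v : D.P, ρ v a = b := by
    intro a b ha hb
    obtain ⟨v, hv, h⟩ := hconj a.toMul b.toMul (fun e => ha (congrArg Additive.ofMul e))
      (fun e => hb (congrArg Additive.ofMul e))
    exact ⟨⟨v, hv⟩, congrArg Additive.ofMul (Subtype.ext h)⟩
  obtain ⟨F, iF, iF', ε₀, μ₀, hμ₀⟩ := Cfsg.Agent.Lie.AbelianField.exists_field ρ
    (fun v w => by
      rw [← map_mul, ← map_mul, D.comm.is_comm.comm v w])
    (fun W hW => by
      by_cases h : W = ⊥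
      · exact Or.inl h
      right
      obtain ⟨a, ha, ha0⟩ := W.bot_or_exists_ne_zero.resolve_left h
      rw [eq_top_iff]
      intro b _
      rcases eq_or_ne b 0 with rfl | hb
      · exact zero_mem W
      · obtain ⟨v, rfl⟩ := htrans a b ha0 hb
        exact hW v a ha)
  have hFc : Fintype.card F = 2 ^ q := by
    rw [← Nat.card_eq_fintype_card, ← Nat.card_congr ε₀.toEquiv, Nat.card_congr Additive.toMul, hNc, hq]
  letI : Fintype (GaloisField 2 q) := Fintype.ofFinite _
  let ψ : F ≃+* GaloisField 2 q := FiniteField.ringEquivOfCardEq (by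
    rw [hFc, ← Nat.card_eq_fintype_card, GaloisField.card 2 q hqp.ne_zero])
  set ε : Additive N ≃+ GaloisField 2 q := ε₀.trans ψ.toAddEquiv with hεdef
  set μ : D.P → GaloisField 2 q := fun v => ψ (μ₀ v) with hμdef
  have hμ : ∀ v a, ε (ρ v a) = μ v * ε a := fun v a => by
    show ψ (ε₀ (ρ v a)) = ψ (μ₀ v) * ψ (ε₀ a)
    rw [hμ₀, map_mul]
  let vx : N ≃ α := Equiv.ofBijective _ hbij
  let e : α ≃ GaloisField 2 q := vx.symm.trans (Additive.ofMul.trans ε.toEquiv)
  have hes : ∀ z, e.symm z = ((ε.symm z).toMul : G) • x := fun z => rfl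
  have he : ∀ n : N, e ((n : G) • x) = ε (Additive.ofMul n) := fun n => by
    show ε (Additive.ofMul (vx.symm ((n : G) • x))) = _
    rw [show vx.symm ((n : G) • x) = n from vx.symm_apply_apply n]
  have he0 : e x = 0 := by
    have := he 1
    rwa [OneMemClass.coe_one, one_smul, ofMul_one, map_zero] at this
  -- the action of a stabiliser element
  set S : G → GaloisField 2 q → GaloisField 2 q := fun g z => e (g • e.symm z) with hSdef
  have hST : ∀ g ∈ stabilizer G x, ∀ z, S g z = ε (T g (ε.symm z)) := by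
    intro g hg z
    show e (g • e.symm z) = _
    rw [hes, ← hconjx g hg]
    exact he (cj g (ε.symm z).toMul)
  have hSinj : ∀ g : G, Function.Injective (S g) := fun g a b h =>
    e.symm.injective (MulAction.injective g (e.injective h))
  have hS0 : ∀ g ∈ stabilizer G x, S g 0 = 0 := fun g hg => by
    show e (g • e.symm 0) = 0
    rw [← he0, e.symm_apply_apply, show g • x = x from hg]
  have hSadd : ∀ g ∈ stabilizer G x, ∀ a b, S g (a + b) = S g a + S g b := fun g hg a b => by
    rw [hST g hg, hST g hg, hST g hg, map_add, map_add, map_add]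
  have hS1 : ∀ g ∈ stabilizer G x, S g 1 ≠ 0 := fun g hg h =>
    one_ne_zero (hSinj g (h.trans (hS0 g hg).symm))
  have hsmul : ∀ g ∈ stabilizer G x, ∀ c z, S g (c * z) * S g 1 = S g c * S g z := by
    intro g hg c z
    rcases eq_or_ne c 0 with rfl | hc
    · rw [zero_mul, hS0 g hg, zero_mul, zero_mul]
    obtain ⟨v, hv⟩ := htrans (ε.symm 1) (ε.symm c)
      (fun h => one_ne_zero (ε.symm.injective (h.trans (map_zero ε.symm).symm)))
      (fun h => hc (ε.symm.injective (h.trans (map_zero ε.symm).symm)))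
    have hcv : μ v = c := by
      have := hμ v (ε.symm 1)
      rw [hv, ε.apply_symm_apply, ε.apply_symm_apply, mul_one] at this
      exact this.symm
    let v' : D.P := ⟨g * v * g⁻¹, by
      have := D.normal.conj_mem ⟨v, D.le v.2⟩ (Subgroup.mem_subgroupOf.2 v.2) ⟨g, hg⟩
      exact Subgroup.mem_subgroupOf.1 this⟩
    have key : ∀ w, S g (c * w) = μ v' * S g w := by
      intro w
      have h1 : ε.symm (c * w) = ρ v (ε.symm w) := ε.injective (by
        rw [ε.apply_symm_apply, hμ, ε.apply_symm_apply, hcv])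
      rw [hST g hg, hST g hg, h1, ← hμ v']
      congr 1
      show Additive.ofMul (cj g (cj v (ε.symm w).toMul)) = Additive.ofMul (cj (g * v * g⁻¹) (cj g (ε.symm w).toMul))
      exact congrArg Additive.ofMul (Subtype.ext (by
        show g * ((v : G) * ((ε.symm w).toMul : G) * (v : G)⁻¹) * g⁻¹ =
          g * v * g⁻¹ * (g * ((ε.symm w).toMul : G) * g⁻¹) * (g * v * g⁻¹)⁻¹
        group))
    have hc1 := key 1
    rw [mul_one] at hc1
    rw [key z, hc1]
    ring
  refine ⟨q, hqp, hq, ?_, e, fun g => ?_⟩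
  · -- the two-point stabiliser embeds in the Galois group
    set y : α := e.symm 1 with hy
    have hyx : y ≠ x := fun h => by
      have := congrArg e h
      rw [hy, e.apply_symm_apply, he0] at this
      exact one_ne_zero this
    have hone : ∀ h : ↥(stabilizer G x ⊓ stabilizer G y), S h 1 = 1 := fun h => by
      show e ((h : G) • e.symm 1) = 1
      rw [← hy, show (h : G) • y = y from h.2.2, hy, e.apply_symm_apply]
    have hmul : ∀ h : ↥(stabilizer G x ⊓ stabilizer G y), ∀ a b, S h (a * b) = S h a * S h b :=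
      fun h a b => by
        have := hsmul h h.2.1 a b
        rwa [hone h, mul_one] at this
    let τ : ↥(stabilizer G x ⊓ stabilizer G y) → (GaloisField 2 q ≃+* GaloisField 2 q) := fun h =>
      RingEquiv.ofBijective
        ({ toFun := S h
           map_one' := hone h
           map_mul' := hmul h
           map_zero' := hS0 h h.2.1
           map_add' := hSadd h h.2.1 } : GaloisField 2 q →+* GaloisField 2 q)
        (Finite.injective_iff_bijective.1 (hSinj h))
    let f : ↥(stabilizer G x ⊓ stabilizer G y) →* (GaloisField 2 q ≃ₐ[ZMod 2] GaloisField 2 q) :=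
      { toFun := fun h => AlgEquiv.ofRingEquiv (f := τ h) (fun c => RingHom.congr_fun
          (Subsingleton.elim ((τ h : GaloisField 2 q →+* GaloisField 2 q).comp (algebraMap (ZMod 2) _))
            (algebraMap (ZMod 2) (GaloisField 2 q))) c)
        map_one' := AlgEquiv.ext fun z => by
          show e ((1 : G) • e.symm z) = z
          rw [one_smul, e.apply_symm_apply]
        map_mul' := fun h h' => AlgEquiv.ext fun z => by
          show e (((h : G) * h') • e.symm z) = e ((h : G) • e.symm (e ((h' : G) • e.symm z)))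
          rw [e.symm_apply_apply, mul_smul] }
    have hf : Function.Injective f := by
      rw [injective_iff_map_eq_one]
      intro h hh
      refine Subtype.ext (FaithfulSMul.eq_of_smul_eq_smul (α := α) fun t => ?_)
      have := AlgEquiv.congr_fun hh (e t)
      change e ((h : G) • e.symm (e t)) = e t at this
      rw [e.symm_apply_apply] at this
      rw [OneMemClass.coe_one, one_smul]
      exact e.injective this
    rw [← D.two y hyx, show q = Nat.card (GaloisField 2 q ≃ₐ[ZMod 2] GaloisField 2 q) by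
      rw [IsGalois.card_aut_eq_finrank, GaloisField.finrank 2 hqp.ne_zero]]
    exact Subgroup.card_dvd_of_injective f hf
  · obtain ⟨n₀, hn₀, hgx⟩ := htr x (g • x)
    set b := n₀⁻¹ * g with hb
    have hbx : b ∈ stabilizer G x := by
      show (n₀⁻¹ * g) • x = x
      rw [mul_smul, inv_smul_eq_iff, hgx]
    let φh : GaloisField 2 q →+* GaloisField 2 q :=
      { toFun := fun z => S b z / S b 1
        map_one' := div_self (hS1 b hbx)
        map_mul' := fun a c => by
          have h1 := hS1 b hbx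
          have h2 := hsmul b hbx a c
          field_simp
          linear_combination h2
        map_zero' := by rw [hS0 b hbx, zero_div]
        map_add' := fun a c => by rw [hSadd b hbx, add_div] }
    refine ⟨Units.mk0 (S b 1) (hS1 b hbx), ε (Additive.ofMul ⟨n₀, hn₀⟩),
      RingEquiv.ofBijective φh (Finite.injective_iff_bijective.1 φh.injective), fun z => ?_⟩
    show _ = S b 1 * (S b z / S b 1) + _
    rw [mul_div_cancel₀ _ (hS1 b hbx), hST b hbx]
    have hg : g • e.symm z = ((⟨n₀, hn₀⟩ * cj b (ε.symm z).toMul : N) : G) • x := by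
      show g • e.symm z = (n₀ * (b * ((ε.symm z).toMul : G) * b⁻¹)) • x
      rw [mul_smul, hconjx b hbx, ← hes, ← mul_smul, hb, mul_inv_cancel_left]
    rw [hg, he, ofMul_mul, map_add, add_comm]
    rfl

end Cfsg.Agent.Perm.DegreePrimeAddOne
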