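import Cfsg.Agent.Lib.Solv.Frobenius
import Mathlib.GroupTheory.GroupAction.MultipleTransitivity
import Mathlib.GroupTheory.Sylow
import Mathlib.GroupTheory.Perm.Cycle.Type

/-!
Finite sharply doubly transitive groups: the regular normal elementary abelian subgroup.
-/

set_option autoImplicit false

namespace Cfsg.Agent.Perm

open MulAction
open scoped Pointwise

variable {G : Type*} [Group G] {Ω : Type*} [MulAction G Ω] [Finite Ω]

/-- The regular normal subgroup of a sharply doubly transitive group. -/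
theorem sharp2_kernel [Finite G] (hn : 2 ≤ Nat.card Ω)
    (htwo : ∀ a b c d : Ω, a ≠ b → c ≠ d → ∃ g : G, g • a = c ∧ g • b = d)
    (hsharp : ∀ a b : Ω, a ≠ b → ∀ g : G, g • a = a → g • b = b → g = 1) :
    ∃ K : Subgroup G, K.Normal ∧
      (∀ g : G, g ∈ K ↔ g = 1 ∨ ∀ a : Ω, g • a ≠ a) ∧
      (∀ a b : Ω, ∃ g ∈ K, g • a = b) ∧
      (∀ x ∈ K, ∀ y ∈ K, x * y = y * x) ∧
      ∃ p j : ℕ, p.Prime ∧ 1 ≤ j ∧ Nat.card Ω = p ^ j ∧ Nat.card K = p ^ j ∧
        Nat.card G = p ^ j * (p ^ j - 1) ∧ ∀ x ∈ K, x ^ p = 1 := by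
  classical
  haveI := Fintype.ofFinite Ω
  haveI : Nontrivial Ω := by
    rw [← Fintype.one_lt_card_iff_nontrivial, ← Nat.card_eq_fintype_card]; omega
  have hpre : IsPretransitive G Ω := ⟨fun x y => by
    by_cases h : x = y
    · exact ⟨1, by rw [one_smul, h]⟩
    · obtain ⟨g, hg, -⟩ := htwo x y y x h (Ne.symm h)
      exact ⟨g, hg⟩⟩
  obtain ⟨a, b, hab⟩ := exists_pair_ne Ω
  have hstab : ∀ c : Ω, Nat.card (stabilizer G c) = Nat.card Ω - 1 := by
    intro c
    obtain ⟨d, hd⟩ := exists_ne c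
    have e : Nat.card (stabilizer G c) = Nat.card {x : Ω // x ≠ c} := by
      refine Nat.card_congr (Equiv.ofBijective (fun g => ⟨(g : G) • d, fun e => hd
        (smul_left_cancel (g : G) (e.trans g.2.symm))⟩) ⟨fun g h e => ?_, fun x => ?_⟩)
      · have e' : (g : G) • d = (h : G) • d := congrArg Subtype.val e
        refine Subtype.ext (inv_mul_eq_one.1 (hsharp c d hd.symm ((h : G)⁻¹ * g) ?_ ?_)).symm
        · rw [mul_smul, show (g : G) • c = c from g.2, inv_smul_eq_iff]
          exact h.2.symm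
        · rw [mul_smul, e', inv_smul_smul]
      · obtain ⟨g, hg, hgd⟩ := htwo c d c x hd.symm x.2.symm
        exact ⟨⟨g, hg⟩, Subtype.ext hgd⟩
    rw [e, Nat.card_eq_fintype_card, Nat.card_eq_fintype_card, Fintype.card_subtype_compl,
      Fintype.card_subtype_eq]
  have hGcard : Nat.card G = Nat.card Ω * (Nat.card Ω - 1) := by
    rw [← (stabilizer G a).index_mul_card, index_stabilizer_of_transitive, hstab]
  obtain ⟨K, hKn, hKmem, hKcard⟩ : ∃ K : Subgroup G, K.Normal ∧
      (∀ g : G, g ∈ K ↔ g = 1 ∨ ∀ c : Ω, g • c ≠ c) ∧ Nat.card K = Nat.card Ω := by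
    rcases Nat.eq_or_lt_of_le hn with h2 | h3
    · refine ⟨⊤, inferInstance, fun g => iff_of_true (Subgroup.mem_top g) ?_, ?_⟩
      · refine (Decidable.em (g = 1)).imp_right fun hg c hc => hg ?_
        have h1 : Nat.card (stabilizer G c) = 1 := by rw [hstab, ← h2]
        rw [Subgroup.card_eq_one] at h1
        have : g ∈ stabilizer G c := hc
        rwa [h1, Subgroup.mem_bot] at this
      · rw [Subgroup.card_top, hGcard, ← h2]
    · have hF : Cfsg.IsFrobeniusComplement (stabilizer G a) := by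
        refine ⟨fun h => ?_, fun h => ?_, fun g hg => ?_⟩
        · have := hstab a
          rw [h, Subgroup.card_bot] at this
          omega
        · have := (stabilizer G a).index_mul_card
          rw [index_stabilizer_of_transitive, h, Subgroup.card_top, hGcard] at this
          have hpos : 0 < Nat.card Ω * (Nat.card Ω - 1) := Nat.mul_pos (by omega) (by omega)
          have := Nat.eq_of_mul_eq_mul_right hpos (this.trans (one_mul _).symm)
          omega
        · rw [Subgroup.eq_bot_iff_forall]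
          intro u hu
          have h2 := Solv.mem_conj_smul.1 hu.2
          rw [mem_stabilizer_iff, mul_smul, mul_smul, inv_smul_eq_iff] at h2
          exact hsharp a (g • a) (fun e => hg e.symm) u hu.1 h2
      obtain ⟨N, hN, hNn, -⟩ := Solv.frobenius_theorem hF
      refine ⟨N, hNn, fun g => ?_, ?_⟩
      · rw [← SetLike.mem_coe, hN]
        refine or_congr Iff.rfl ⟨fun h c hc => ?_, fun h u hu => ?_⟩
        · obtain ⟨u, rfl⟩ := hpre.exists_smul_eq a c
          refine h u ?_
          rw [Solv.mem_conj_smul, mem_stabilizer_iff, mul_smul, mul_smul, hc, inv_smul_smul]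
        · rw [Solv.mem_conj_smul, mem_stabilizer_iff, mul_smul, mul_smul, inv_smul_eq_iff] at hu
          exact h _ hu
      · rw [← index_stabilizer_of_transitive G a, ← Solv.frob_kernel_card hF, ← hN]
        rfl
  have hsemi : ∀ c : Ω, ∀ g ∈ K, g • c = c → g = 1 := fun c g hg h =>
    ((hKmem g).1 hg).resolve_right fun h' => h' c h
  have hbij : ∀ c : Ω, Function.Bijective fun g : K => (g : G) • c := fun c => by
    haveI := Fintype.ofFinite K
    rw [Fintype.bijective_iff_injective_and_card]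
    refine ⟨fun g h e => ?_, by rw [← Nat.card_eq_fintype_card, hKcard, Nat.card_eq_fintype_card]⟩
    refine Subtype.ext (inv_mul_eq_one.1 (hsemi c _ (mul_mem (inv_mem h.2) g.2) ?_)).symm
    simp only at e
    rw [mul_smul, e, inv_smul_smul]
  have htrK : ∀ c d : Ω, ∃ g ∈ K, g • c = d := fun c d => by
    obtain ⟨g, hg⟩ := (hbij c).2 d
    exact ⟨g, g.2, hg⟩
  -- conjugation is transitive on the non-identity elements of `K`
  have hconj : ∀ x ∈ K, ∀ y ∈ K, x ≠ 1 → y ≠ 1 → ∃ g : G, g * x * g⁻¹ = y := by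
    intro x hx y hy hx1 hy1
    have hxa : x • a ≠ a := fun e => hx1 (hsemi a x hx e)
    have hya : y • a ≠ a := fun e => hy1 (hsemi a y hy e)
    obtain ⟨g, hga, hgx⟩ := htwo a (x • a) a (y • a) hxa.symm hya.symm
    refine ⟨g, (inv_mul_eq_one.1 (hsemi a _ (mul_mem (inv_mem hy) (hKn.conj_mem x hx g)) ?_)).symm⟩
    rw [mul_smul, mul_smul, mul_smul, inv_smul_eq_iff.2 hga.symm, hgx, inv_smul_smul]
  have hK1 : Nat.card K ≠ 1 := by rw [hKcard]; omega
  obtain ⟨p, hp, hpd⟩ := Nat.exists_prime_and_dvd hK1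
  haveI := Fact.mk hp
  obtain ⟨x₀, hx₀⟩ := exists_prime_orderOf_dvd_card' (G := K) p hpd
  have hx₀1 : (x₀ : G) ≠ 1 := fun e => by
    rw [show x₀ = 1 from Subtype.ext e, orderOf_one] at hx₀
    exact hp.ne_one hx₀.symm
  have hexp : ∀ x ∈ K, x ^ p = 1 := by
    intro x hx
    rcases eq_or_ne x 1 with rfl | hx1
    · exact one_pow p
    obtain ⟨g, rfl⟩ := hconj x₀ x₀.2 x hx hx₀1 hx1
    rw [conj_pow, ← Subgroup.coe_pow, ← hx₀, pow_orderOf_eq_one, OneMemClass.coe_one, mul_one,
      mul_inv_cancel]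
  have hpg : IsPGroup p K := fun x => ⟨1, Subtype.ext (by
    rw [pow_one]; exact hexp x x.2)⟩
  have hcomm : ∀ x ∈ K, ∀ y ∈ K, x * y = y * x := by
    haveI : Nontrivial K := Finite.one_lt_card_iff_nontrivial.1 (by omega)
    haveI := hpg.center_nontrivial
    obtain ⟨c, hc⟩ := exists_ne (1 : Subgroup.center K)
    intro x hx y hy
    rcases eq_or_ne x 1 with rfl | hx1
    · rw [one_mul, mul_one]
    obtain ⟨g, rfl⟩ := hconj ((c : K) : G) (c : K).2 x hx (fun e => hc (Subtype.ext (Subtype.ext e))) hx1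
    have h1 := Subgroup.mem_center_iff.1 c.2 ⟨g⁻¹ * y * g, by
      simpa using hKn.conj_mem y hy g⁻¹⟩
    have h2 := congrArg (fun z : K => g * (z : G) * g⁻¹) h1
    simp only [Subgroup.coe_mul] at h2
    calc g * ((c : K) : G) * g⁻¹ * y = g * (((c : K) : G) * (g⁻¹ * y * g)) * g⁻¹ := by group
      _ = g * ((g⁻¹ * y * g) * ((c : K) : G)) * g⁻¹ := h2.symm
      _ = y * (g * ((c : K) : G) * g⁻¹) := by group
  obtain ⟨j, hj⟩ := hpg.exists_card_eq
  refine ⟨K, hKn, hKmem, htrK, hcomm, p, j, hp, ?_, ?_, hj, ?_, hexp⟩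
  · rcases Nat.eq_zero_or_pos j with rfl | h
    · exact absurd hj (by simpa using hK1)
    · exact h
  · rw [← hKcard, hj]
  · rw [hGcard, ← hKcard, hj]

end Cfsg.Agent.Perm
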