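import Mathlib

/-!
# The subgroup generated by the derangements: transitivity and rank
-/

set_option autoImplicit false

namespace Cfsg.Agent.Perm.DerangementRank

open MulAction

variable {G Ω : Type*} [Group G] [Finite G] [MulAction G Ω] [Finite Ω]

theorem card_prod_fixedBy (g : G) :
    Nat.card (fixedBy (Ω × Ω) g) = Nat.card (fixedBy Ω g) * Nat.card (fixedBy Ω g) := by
  rw [← Nat.card_prod]
  exact Nat.card_congr
    { toFun := fun z => (⟨z.1.1, (Prod.ext_iff.1 z.2).1⟩, ⟨z.1.2, (Prod.ext_iff.1 z.2).2⟩)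
      invFun := fun z => ⟨(z.1.1, z.2.1), Prod.ext z.1.2 z.2.2⟩
      left_inv := fun _ => rfl
      right_inv := fun _ => rfl }

theorem burnside (K : Type*) [Group K] [Finite K] (X : Type*) [Finite X] [MulAction K X]
    [Fintype K] :
    ∑ k : K, Nat.card (fixedBy X k) = Nat.card (orbitRel.Quotient K X) * Nat.card K := by
  classical
  have := Fintype.ofFinite X
  have := Fintype.ofFinite (orbitRel.Quotient K X)
  simp only [Nat.card_eq_fintype_card]
  exact sum_card_fixedBy_eq_card_orbits_mul_card_group K X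

theorem derangement_counts (htr : IsPretransitive G Ω) :
    IsPretransitive ↥(Subgroup.closure {g : G | ∀ ω : Ω, g • ω ≠ ω}) Ω ∧
    (∀ g : G, Nat.card (fixedBy Ω g) ≠ 1 → g ∈ Subgroup.closure {g : G | ∀ ω : Ω, g • ω ≠ ω}) ∧
    Nat.card (orbitRel.Quotient ↥(Subgroup.closure {g : G | ∀ ω : Ω, g • ω ≠ ω}) (Ω × Ω)) - 1 =
      (Nat.card (orbitRel.Quotient G (Ω × Ω)) - 1) *
        (Subgroup.closure {g : G | ∀ ω : Ω, g • ω ≠ ω}).index := by
  classical
  set D := Subgroup.closure {g : G | ∀ ω : Ω, g • ω ≠ ω} with hD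
  rcases isEmpty_or_nonempty Ω with hΩ | hΩ
  · have : D = ⊤ := by
      rw [eq_top_iff]
      exact fun g _ => Subgroup.subset_closure fun ω => (hΩ.false ω).elim
    refine ⟨⟨fun a => (hΩ.false a).elim⟩, fun g _ => this ▸ Subgroup.mem_top g, ?_⟩
    have e1 : IsEmpty (orbitRel.Quotient D (Ω × Ω)) :=
      ⟨fun q => Quotient.inductionOn q fun z => hΩ.false z.1⟩
    have e2 : IsEmpty (orbitRel.Quotient G (Ω × Ω)) :=
      ⟨fun q => Quotient.inductionOn q fun z => hΩ.false z.1⟩
    rw [Nat.card_of_isEmpty, Nat.card_of_isEmpty]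
    simp
  have := Fintype.ofFinite G
  let f : G → ℕ := fun g => Nat.card (fixedBy Ω g)
  have : Nonempty (orbitRel.Quotient G Ω) := ⟨Quotient.mk _ hΩ.some⟩
  have : Nonempty (orbitRel.Quotient D Ω) := ⟨Quotient.mk _ hΩ.some⟩
  have hout : ∀ g : G, g ∉ D → 1 ≤ f g := by
    intro g hg
    by_contra h
    have h0 : Nat.card (fixedBy Ω g) = 0 := by simp only [f] at h; omega
    refine hg (Subgroup.subset_closure fun ω hω => ?_)
    have : IsEmpty (fixedBy Ω g) := (Nat.card_eq_zero.1 h0).resolve_right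
      (fun h => h.not_finite inferInstance)
    exact this.false ⟨ω, hω⟩
  let s : Finset G := Finset.univ.filter (· ∈ D)
  have hsum : ∀ F : G → ℕ, ∑ g : G, F g = (∑ d : D, F d) + ∑ g ∈ sᶜ, F g := by
    intro F
    rw [← Finset.sum_add_sum_compl s F]
    congr 1
    exact Finset.sum_subtype s (fun g => by simp [s]) F
  have hcard : Nat.card G = Nat.card D + sᶜ.card := by
    have := hsum fun _ => 1
    simpa [Nat.card_eq_fintype_card] using this
  have hG : ∑ g : G, f g = Nat.card G := by
    have := burnside G Ω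
    rw [this]
    have hu : Nat.card (orbitRel.Quotient G Ω) = 1 := Nat.card_eq_one_iff_unique.2
      ⟨(pretransitive_iff_subsingleton_quotient G Ω).1 htr, inferInstance⟩
    rw [hu, one_mul]
  have hDsum : ∑ d : D, f d = Nat.card (orbitRel.Quotient D Ω) * Nat.card D := burnside D Ω
  have hcompl : sᶜ.card ≤ ∑ g ∈ sᶜ, f g := by
    rw [Finset.card_eq_sum_ones]
    exact Finset.sum_le_sum fun g hg => hout g (by simpa [s] using hg)
  have ht : 0 < Nat.card (orbitRel.Quotient D Ω) := Nat.card_pos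
  have hDpos : 0 < Nat.card D := Nat.card_pos
  have key := hsum f
  rw [hG, hDsum] at key
  have ht1 : Nat.card (orbitRel.Quotient D Ω) = 1 := by
    by_contra h
    have : 2 * Nat.card D ≤ Nat.card (orbitRel.Quotient D Ω) * Nat.card D :=
      Nat.mul_le_mul_right _ (by omega)
    omega
  rw [ht1, one_mul] at key
  have heq : ∀ g ∈ sᶜ, f g = 1 := by
    have hle : ∀ g ∈ sᶜ, 1 ≤ f g := fun g hg => hout g (by simpa [s] using hg)
    have h1 : ∑ g ∈ sᶜ, 1 = ∑ g ∈ sᶜ, f g := by
      rw [← Finset.card_eq_sum_ones]; omega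
    exact fun g hg => ((Finset.sum_eq_sum_iff_of_le hle).1 h1 g hg).symm
  refine ⟨?_, ?_, ?_⟩
  · rw [pretransitive_iff_subsingleton_quotient]
    exact (Nat.card_eq_one_iff_unique.1 ht1).1
  · intro g hg
    by_contra h
    exact hg (heq g (by simp [s, h]))
  · have k2 := hsum fun g => Nat.card (fixedBy (Ω × Ω) g)
    have hc : ∑ g ∈ sᶜ, Nat.card (fixedBy (Ω × Ω) g) = sᶜ.card := by
      rw [Finset.card_eq_sum_ones]
      exact Finset.sum_congr rfl fun g hg => by
        rw [card_prod_fixedBy g, show Nat.card (fixedBy Ω g) = 1 from heq g hg]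
    have hDsum2 : ∑ d : D, Nat.card (fixedBy (Ω × Ω) (d : G)) =
        Nat.card (orbitRel.Quotient D (Ω × Ω)) * Nat.card D := burnside D (Ω × Ω)
    rw [burnside G (Ω × Ω), hc, hDsum2] at k2
    generalize Nat.card (orbitRel.Quotient D (Ω × Ω)) = rD at k2 ⊢
    generalize Nat.card (orbitRel.Quotient G (Ω × Ω)) = rG at k2 ⊢
    rw [← D.card_mul_index] at k2 hcard
    have : (rG : ℕ) * (Nat.card D * D.index) + Nat.card D =
        rD * Nat.card D + Nat.card D * D.index := by omega
    have h2 : rG * D.index + 1 = rD + D.index := by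
      apply Nat.eq_of_mul_eq_mul_left hDpos
      linarith
    have hi : 0 < D.index := Nat.pos_of_ne_zero Subgroup.index_ne_zero_of_finite
    rw [Nat.sub_mul, one_mul]
    omega

end Cfsg.Agent.Perm.DerangementRank
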