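import Mathlib
import Cfsg.Prelude.Def_Characters
import Cfsg.Prelude.Def_Perm
import Cfsg.Agent.Lib.Char.Ortho
import Cfsg.Agent.Lib.Char.Central
import Cfsg.Agent.Lib.Perm.DerangementRank

/-!
# Permutation characters of transitive actions

Multiplicities as dimensions of fixed spaces of a point stabiliser, the rank formula, and the
integrality of the traces of the orbital operators, with the divisibility of subdegrees.
-/

set_option autoImplicit false

namespace Cfsg.Agent.Perm.PermChar

open Cfsg Module MulAction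
open scoped ComplexConjugate

universe u v

variable {G : Type u} [Group G] [Fintype G] {Ω : Type v} [Fintype Ω] [MulAction G Ω]

variable (G Ω) in
/-- The permutation character. -/
noncomputable abbrev permChar : G → ℂ := fun g => (Nat.card (fixedBy Ω g) : ℂ)

omit [Fintype G] in
theorem permChar_eq (g : G) : permChar G Ω g = (Cfsg.permRep ℂ G Ω).character g := by
  classical
  rw [Representation.character, LinearMap.trace_eq_matrix_trace ℂ (Pi.basisFun ℂ Ω)]
  simp only [permChar, Matrix.trace, Matrix.diag_apply, LinearMap.toMatrix_apply, Pi.basisFun_apply,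
    Pi.basisFun_repr]
  have h : ∀ i : Ω, Cfsg.permRep ℂ G Ω g (Pi.single i 1) i = if g • i = i then 1 else 0 := by
    intro i
    show (Pi.single i (1 : ℂ) : Ω → ℂ) (g⁻¹ • i) = _
    rw [Pi.single_apply]
    exact if_congr (inv_smul_eq_iff.trans eq_comm) rfl rfl
  rw [Finset.sum_congr rfl fun i _ => h i, Finset.sum_boole, Nat.card_eq_fintype_card,
    ← Fintype.card_subtype]
  rfl

theorem card_ne (H : Subgroup G) : (Nat.card H : ℂ) ≠ 0 := Nat.cast_ne_zero.2 Nat.card_pos.ne'

theorem isCharacter_permChar : IsCharacter G (permChar G Ω) := by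
  have h : permChar G Ω = (Cfsg.permRep ℂ G Ω).character := funext permChar_eq
  rw [h]
  exact Char.isCharacter_character _

omit [Fintype Ω] in
theorem class_shift {f : G → ℂ} (hf : IsClassFunction G f) [Finite Ω] [IsPretransitive G Ω]
    (a : Ω) (x : Ω) [Fintype (stabilizer G x)] [Fintype (stabilizer G a)] :
    ∑ g : stabilizer G x, f g = ∑ h : stabilizer G a, f h := by
  obtain ⟨t, ht⟩ := MulAction.exists_smul_eq G a x
  symm
  refine Fintype.sum_equiv (MulAction.stabilizerEquivStabilizer ht.symm).toEquiv _ _ fun h => ?_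
  rw [← hf (h : G) t]
  rfl

theorem sum_permChar_mul [IsPretransitive G Ω] (a : Ω) [Fintype (stabilizer G a)] {f : G → ℂ}
    (hf : IsClassFunction G f) :
    ∑ g : G, permChar G Ω g * f g = (Fintype.card Ω : ℂ) * ∑ h : stabilizer G a, f h := by
  classical
  have h1 : ∀ g : G, permChar G Ω g * f g = ∑ x : Ω, if g • x = x then f g else 0 := by
    intro g
    show (Nat.card (fixedBy Ω g) : ℂ) * f g = _
    rw [← Finset.sum_filter, Finset.sum_const, nsmul_eq_mul, Nat.card_eq_fintype_card,
      ← Fintype.card_subtype]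
    rfl
  simp only [h1]
  rw [Finset.sum_comm, Finset.sum_congr rfl (g := fun _ => ∑ h : stabilizer G a, f h),
    Finset.sum_const, nsmul_eq_mul, Finset.card_univ]
  intro x _
  rw [← Finset.sum_filter, ← class_shift hf a x]
  exact Finset.sum_subtype _ (by simp) _

theorem sum_char_restrict {V : Type*} [AddCommGroup V] [Module ℂ V] [FiniteDimensional ℂ V]
    (ρ : Representation ℂ G V) (H : Subgroup G) [Fintype H] :
    ∑ h : H, ρ.character h =
      (Nat.card H : ℂ) * (finrank ℂ (Representation.invariants (ρ.comp H.subtype)) : ℂ) := by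
  obtain ⟨i⟩ := Char.invertibleCard (G := H)
  rw [← Representation.card_inv_mul_sum_char_eq_finrank (ρ.comp H.subtype), ← mul_assoc,
    mul_inv_cancel₀ (Nat.cast_ne_zero.2 Nat.card_pos.ne'), one_mul]
  rfl

theorem card_mul_stabilizer [IsPretransitive G Ω] (a : Ω) :
    Fintype.card Ω * Nat.card (stabilizer G a) = Nat.card G := by
  rw [← Nat.card_eq_fintype_card, ← index_stabilizer_of_transitive G a, mul_comm,
    Subgroup.card_mul_index]

theorem inner_permChar [IsPretransitive G Ω] (a : Ω) {f : G → ℂ} (hf : IsClassFunction G f)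
    [Fintype (stabilizer G a)] :
    classInner (permChar G Ω) f =
      (Nat.card (stabilizer G a) : ℂ)⁻¹ * ∑ h : stabilizer G a, conj (f h) := by
  have hne : (Nat.card (stabilizer G a) : ℂ) ≠ 0 := card_ne _
  have hΩ : (Fintype.card Ω : ℂ) ≠ 0 := by
    haveI : Nonempty Ω := ⟨a⟩
    simp
  rw [classInner, sum_permChar_mul a (f := fun g => conj (f g)) (fun g k => by simp [hf g k]),
    ← card_mul_stabilizer (G := G) a]
  push_cast
  field_simp

/-- The multiplicity of a constituent is the dimension of the fixed space of a point stabiliser. -/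
theorem inner_permChar_rep [IsPretransitive G Ω] (a : Ω) {V : Type*} [AddCommGroup V] [Module ℂ V]
    [FiniteDimensional ℂ V] (ρ : Representation ℂ G V) :
    classInner (permChar G Ω) ρ.character =
      (finrank ℂ (Representation.invariants (ρ.comp (stabilizer G a).subtype)) : ℂ) := by
  classical
  haveI := Fintype.ofFinite (stabilizer G a)
  rw [inner_permChar a (Char.isClassFunction_character (Char.isCharacter_character ρ)), ← map_sum,
    sum_char_restrict, map_mul, Complex.conj_natCast, Complex.conj_natCast, ← mul_assoc,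
    inv_mul_cancel₀ (card_ne _), one_mul]

theorem inner_one [IsPretransitive G Ω] (a : Ω) :
    classInner (permChar G Ω) (fun _ => 1) = 1 := by
  classical
  haveI := Fintype.ofFinite (stabilizer G a)
  rw [inner_permChar a (fun _ _ => rfl)]
  rw [Finset.sum_congr rfl (g := fun _ => (1 : ℂ)) (fun x _ => map_one _), Finset.sum_const, Finset.card_univ, ← Nat.card_eq_fintype_card,
    nsmul_one, inv_mul_cancel₀ (card_ne _)]

/-- The rank formula. -/
theorem inner_self [IsPretransitive G Ω] (a : Ω) :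
    classInner (permChar G Ω) (permChar G Ω) =
      (Nat.card (orbitRel.Quotient (stabilizer G a) Ω) : ℂ) := by
  classical
  haveI := Fintype.ofFinite (stabilizer G a)
  rw [inner_permChar a (Char.isClassFunction_character isCharacter_permChar)]
  have h := Cfsg.Agent.Perm.DerangementRank.burnside (stabilizer G a) Ω
  have h' : ∑ h : stabilizer G a, conj (permChar G Ω (h : G)) =
      ((Nat.card (orbitRel.Quotient (stabilizer G a) Ω) * Nat.card (stabilizer G a) : ℕ) : ℂ) := by
    rw [← h, Nat.cast_sum]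
    refine Finset.sum_congr rfl fun k _ => ?_
    rw [Complex.conj_natCast]
    rfl
  rw [h', Nat.cast_mul, mul_comm, mul_inv_cancel_right₀ (card_ne _)]

theorem matrix_eigen_isIntegral {n : Type*} [Fintype n] [DecidableEq n] (M : Matrix n n ℤ) {c : ℂ}
    {w : n → ℂ} (hw : w ≠ 0) (h : (M.map (Int.cast : ℤ → ℂ)).mulVec w = c • w) :
    IsIntegral ℤ c := by
  refine ⟨M.charpoly, M.charpoly_monic, ?_⟩
  rw [← Polynomial.eval_map, ← Matrix.charpoly_map, Matrix.eval_charpoly]
  refine Matrix.exists_mulVec_eq_zero_iff.1 ⟨w, hw, ?_⟩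
  rw [Matrix.sub_mulVec, show (M.map (algebraMap ℤ ℂ)) = M.map (Int.cast : ℤ → ℂ) from rfl, h]
  simp [Matrix.scalar_apply, Matrix.mulVec_diagonal, funext_iff]

theorem trace_isIntegral {V : Type*} [AddCommGroup V] [Module ℂ V] [FiniteDimensional ℂ V]
    (T : V →ₗ[ℂ] V) (h : ∀ (c : ℂ) (v : V), v ≠ 0 → T v = c • v → IsIntegral ℤ c) :
    IsIntegral ℤ (LinearMap.trace ℂ V T) := by
  classical
  let b := finBasis ℂ V
  rw [LinearMap.trace_eq_matrix_trace ℂ b T, Matrix.trace_eq_sum_roots_charpoly]
  refine IsIntegral.multiset_sum fun c hc => ?_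
  rw [LinearMap.charpoly_toMatrix] at hc
  have hev : Module.End.HasEigenvalue T c :=
    (Module.End.hasEigenvalue_iff_isRoot_charpoly T c).2 (Polynomial.isRoot_of_mem_roots hc)
  obtain ⟨v, hv⟩ := hev.exists_hasEigenvector
  exact h c v hv.2 hv.apply_eq_smul

omit [Fintype G] [Fintype Ω] in
theorem smul_mem_orbit_iff {a b : Ω} {h : G} (hh : h ∈ stabilizer G a) (y : Ω) :
    h • y ∈ orbit (stabilizer G a) b ↔ y ∈ orbit (stabilizer G a) b := by
  constructor
  · rintro ⟨k, hk⟩
    refine ⟨⟨h⁻¹, inv_mem hh⟩ * k, ?_⟩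
    show (h⁻¹ * (k : G)) • b = y
    have hk' : (k : G) • b = h • y := hk
    rw [mul_smul, hk', inv_smul_smul]
  · rintro ⟨k, rfl⟩
    exact ⟨⟨h, hh⟩ * k, mul_smul h (k : G) b⟩

open scoped Classical in
/-- The orbital operator attached to a suborbit has integral trace on every representation. -/
theorem orbital_sum [IsPretransitive G Ω] (a b : Ω) {V : Type*} [AddCommGroup V] [Module ℂ V]
    [FiniteDimensional ℂ V] (ρ : Representation ℂ G V) :
    ∃ z : ℂ, IsIntegral ℤ z ∧
      ∑ g ∈ Finset.univ.filter (fun g : G => g • a ∈ orbit (stabilizer G a) b), ρ.character g =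
        (Nat.card (stabilizer G a) : ℂ) * z ∧
      (classInner (permChar G Ω) ρ.character = 0 → z = 0) := by
  set H := stabilizer G a with hH
  haveI := Fintype.ofFinite H
  set O := orbit H b with hO
  set D := Finset.univ.filter (fun g : G => g • a ∈ O) with hD
  let T : V →ₗ[ℂ] V := (Nat.card H : ℂ)⁻¹ • ∑ g ∈ D, ρ g
  have hTfix : ∀ h ∈ H, ∀ v, ρ h (T v) = T v := by
    intro h hh v
    simp only [T, LinearMap.smul_apply, LinearMap.sum_apply, map_smul, map_sum]
    refine congrArg _ (Finset.sum_equiv (Equiv.mulLeft h) (fun g => ?_) fun g _ => ?_)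
    · simp only [hD, Finset.mem_filter, Finset.mem_univ, true_and, Equiv.coe_mulLeft, mul_smul]
      exact (smul_mem_orbit_iff hh _).symm
    · rw [← Module.End.mul_apply, ← map_mul]; rfl
  refine ⟨LinearMap.trace ℂ V T, trace_isIntegral T ?_, ?_, ?_⟩
  · intro c v hv hTv
    rcases eq_or_ne c 0 with rfl | hc
    · exact isIntegral_zero
    have hvfix : ∀ h ∈ H, ρ h v = v := fun h hh => by
      have h1 := hTfix h hh v
      rw [hTv, map_smul] at h1
      exact smul_right_injective V hc h1
    obtain ⟨ℓ, hℓ⟩ : ∃ ℓ : V →ₗ[ℂ] ℂ, ℓ v = 1 := by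
      obtain ⟨i, hi⟩ : ∃ i, (finBasis ℂ V).repr v i ≠ 0 := by
        by_contra hno
        push Not at hno
        exact hv ((finBasis ℂ V).repr.injective (Finsupp.ext fun i => by simp [hno i]))
      exact ⟨((finBasis ℂ V).repr v i)⁻¹ • (finBasis ℂ V).coord i, by simp [hi]⟩
    choose t ht using fun x : Ω => MulAction.exists_smul_eq G a x
    have hF : ∀ g : G, ρ g v = ρ (t (g • a)) v := fun g => by
      have hm : (t (g • a))⁻¹ * g ∈ H := by
        rw [hH, mem_stabilizer_iff, mul_smul, inv_smul_eq_iff, ht]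
      calc ρ g v = ρ (t (g • a) * ((t (g • a))⁻¹ * g)) v := by rw [mul_inv_cancel_left]
        _ = _ := by rw [map_mul, Module.End.mul_apply, hvfix _ hm]
    let M : Matrix Ω Ω ℤ := fun x y => if (t x)⁻¹ • y ∈ O then 1 else 0
    let F : Ω → ℂ := fun x => ℓ (ρ (t x) v)
    refine matrix_eigen_isIntegral M (w := F) (fun h => ?_) ?_
    · have h1 := congrFun h a
      simp only [F, Pi.zero_apply] at h1
      rw [hvfix _ (ht a), hℓ] at h1
      exact one_ne_zero h1
    funext x
    have hc' : c • v = ∑ z ∈ Finset.univ.filter (fun z => z ∈ O), ρ (t z) v := by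
      rw [← hTv]
      simp only [T, LinearMap.smul_apply, LinearMap.sum_apply]
      rw [inv_smul_eq_iff₀ (card_ne _), Finset.smul_sum,
        ← Finset.sum_fiberwise_of_maps_to (g := fun g : G => g • a) (t := Finset.univ.filter fun z => z ∈ O)
          (fun g hg => Finset.mem_filter.2 ⟨Finset.mem_univ _, (Finset.mem_filter.1 hg).2⟩)]
      refine Finset.sum_congr rfl fun z hz => ?_
      rw [Finset.sum_congr rfl (g := fun _ => ρ (t z) v) (fun g hg => by
        rw [hF g, (Finset.mem_filter.1 hg).2]), Finset.sum_const, ← Nat.cast_smul_eq_nsmul ℂ]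
      congr 2
      rw [Nat.card_eq_fintype_card, ← Finset.card_univ]
      refine Finset.card_bij' (fun g hg => (⟨(t z)⁻¹ * g, ?_⟩ : H)) (fun h _ => t z * h)
        (fun _ _ => Finset.mem_univ _) (fun h _ => ?_) (fun g _ => by simp) (fun h _ => Subtype.ext (by simp))
      · rw [hH, mem_stabilizer_iff, mul_smul, inv_smul_eq_iff, ht, (Finset.mem_filter.1 hg).2]
      · have e : (t z * (h : G)) • a = z := by rw [mul_smul, show (h : G) • a = a from h.2, ht]
        simp only [hD, Finset.mem_filter, Finset.mem_univ, true_and, e, and_true]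
        exact (Finset.mem_filter.1 hz).2
    have h2 := congrArg (fun w => ℓ (ρ (t x) w)) hc'
    simp only [map_smul, map_sum, smul_eq_mul] at h2
    show ∑ y, (M.map (Int.cast : ℤ → ℂ)) x y * F y = c * F x
    rw [h2]
    have hM : ∀ y, (M.map (Int.cast : ℤ → ℂ)) x y = if (t x)⁻¹ • y ∈ O then 1 else 0 := fun y => by
      show ((M x y : ℤ) : ℂ) = _
      simp only [M]
      split_ifs <;> simp
    simp only [hM, ite_mul, one_mul, zero_mul, ← Finset.sum_filter]
    refine Finset.sum_equiv (MulAction.toPerm (t x)⁻¹) (fun y => by simp) fun y _ => ?_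
    show ℓ (ρ (t y) v) = ℓ (ρ (t x) (ρ (t ((t x)⁻¹ • y)) v))
    rw [← Module.End.mul_apply, ← map_mul, hF (t x * _), mul_smul, ht, smul_inv_smul]
  · simp only [T, map_smul, map_sum, smul_eq_mul]
    rw [← mul_assoc, mul_inv_cancel₀ (card_ne _), one_mul]
    rfl
  · intro h0
    rw [inner_permChar_rep a, Nat.cast_eq_zero] at h0
    have hbot := Submodule.finrank_eq_zero.1 h0
    have hT : T = 0 := LinearMap.ext fun v => by
      have : T v ∈ Representation.invariants (ρ.comp H.subtype) := fun h => hTfix h h.2 v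
      rw [hbot, Submodule.mem_bot] at this
      rw [this, LinearMap.zero_apply]
    rw [hT, map_zero]

open scoped Classical in
theorem dvd_subdegree [IsPretransitive G Ω] (f : ℕ)
    (hf : ∀ χ : G → ℂ, IsIrrCharacter G χ → χ ≠ (fun _ => 1) →
      classInner (permChar G Ω) χ ≠ 0 → ∃ m : ℕ, χ 1 = (f : ℂ) * m)
    (a b : Ω) (hab : b ≠ a) : f ∣ Nat.card (orbit (stabilizer G a) b) := by
  set H := stabilizer G a with hH
  set O := orbit H b with hO
  set D := Finset.univ.filter (fun g : G => g • a ∈ O) with hD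
  set d := Nat.card O with hd
  have h1D : (1 : G) ∉ D := fun h => by
    obtain ⟨k, hk⟩ := (one_smul G a) ▸ (Finset.mem_filter.1 h).2
    refine hab (MulAction.injective (k : G) ?_)
    show (k : G) • b = (k : G) • a
    rw [show (k : G) • a = a from k.2]
    exact hk
  have hDcard : D.card = d * Nat.card H := by
    choose t ht using fun x : Ω => MulAction.exists_smul_eq G a x
    rw [hd, ← Nat.card_prod, ← Nat.card_eq_finsetCard]
    refine Nat.card_congr
      { toFun := fun g => (⟨(g : G) • a, (Finset.mem_filter.1 g.2).2⟩,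
          ⟨(t ((g : G) • a))⁻¹ * g, by rw [hH, mem_stabilizer_iff, mul_smul, inv_smul_eq_iff, ht]⟩)
        invFun := fun p => ⟨t p.1 * (p.2 : G), Finset.mem_filter.2 ⟨Finset.mem_univ _, by
          rw [mul_smul, show (p.2 : G) • a = a from p.2.2, ht]; exact p.1.2⟩⟩
        left_inv := fun g => Subtype.ext (by simp)
        right_inv := fun p => by
          have e : (t (p.1 : Ω) * (p.2 : G)) • a = p.1 := by
            rw [mul_smul, show (p.2 : G) • a = a from p.2.2, ht]
          refine Prod.ext (Subtype.ext e) (Subtype.ext ?_)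
          show (t ((t (p.1 : Ω) * (p.2 : G)) • a))⁻¹ * (t (p.1 : Ω) * (p.2 : G)) = p.2
          rw [e, inv_mul_cancel_left] }
  let χ₁ : IrrCharacter G := ⟨fun _ => 1, Char.isIrrCharacter_one⟩
  have hsum : ∑ χ : IrrCharacter G, (χ : G → ℂ) 1 * ∑ g ∈ D, (χ : G → ℂ) g = 0 := by
    simp only [Finset.mul_sum]
    rw [Finset.sum_comm]
    refine Finset.sum_eq_zero fun g hg => ?_
    rw [Char.regular_sum, if_neg]
    rintro rfl
    exact h1D hg
  have hne : (Nat.card H : ℂ) ≠ 0 := card_ne _
  have hz : ∀ χ : IrrCharacter G, χ ≠ χ₁ → ∃ w : ℂ, IsIntegral ℤ w ∧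
      (χ : G → ℂ) 1 * ∑ g ∈ D, (χ : G → ℂ) g = (Nat.card H : ℂ) * ((f : ℂ) * w) := by
    intro χ hχ
    obtain ⟨n, ρ, hρ, hρχ⟩ := χ.2
    obtain ⟨z, hz, hs, h0⟩ := orbital_sum (G := G) a b ρ
    rw [hρχ] at hs h0
    by_cases hc : classInner (permChar G Ω) (χ : G → ℂ) = 0
    · refine ⟨0, isIntegral_zero, ?_⟩
      rw [show ∑ g ∈ D, (χ : G → ℂ) g = (Nat.card H : ℂ) * z from hs, h0 hc]
      simp
    · obtain ⟨m, hm⟩ := hf χ χ.2 (fun e => hχ (Subtype.ext e)) hc
      refine ⟨m * z, (isIntegral_natCast m).mul hz, ?_⟩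
      rw [show ∑ g ∈ D, (χ : G → ℂ) g = (Nat.card H : ℂ) * z from hs, hm]
      ring
  choose w hw hw' using hz
  rw [← Finset.add_sum_erase _ _ (Finset.mem_univ χ₁)] at hsum
  have hrest : ∑ χ ∈ Finset.univ.erase χ₁, (χ : G → ℂ) 1 * ∑ g ∈ D, (χ : G → ℂ) g =
      (Nat.card H : ℂ) * ((f : ℂ) *
        ∑ χ ∈ (Finset.univ.erase χ₁).attach, w χ.1 (Finset.ne_of_mem_erase χ.2)) := by
    rw [Finset.mul_sum, Finset.mul_sum, ← Finset.sum_attach]
    exact Finset.sum_congr rfl fun χ _ => hw' χ.1 _
  set W := ∑ χ ∈ (Finset.univ.erase χ₁).attach, w χ.1 (Finset.ne_of_mem_erase χ.2)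
  have hW : IsIntegral ℤ W := IsIntegral.sum _ fun χ _ => hw _ _
  have hfirst : (χ₁ : G → ℂ) 1 * ∑ g ∈ D, (χ₁ : G → ℂ) g = (Nat.card H : ℂ) * d := by
    simp [χ₁, hDcard, mul_comm]
  rw [hrest, hfirst, ← mul_add, mul_eq_zero, or_iff_right hne] at hsum
  rcases Nat.eq_zero_or_pos f with rfl | hfpos
  · simp at hsum ⊢
    exact_mod_cast hsum
  have hWq : W = algebraMap ℚ ℂ (-(d : ℚ) / f) := by
    have hf0 : (f : ℂ) ≠ 0 := by simp [hfpos.ne']
    simp only [eq_ratCast, Rat.cast_div, Rat.cast_neg, Rat.cast_natCast]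
    field_simp
    linear_combination hsum
  rw [hWq, isIntegral_algebraMap_iff (algebraMap ℚ ℂ).injective] at hW
  obtain ⟨k, hk⟩ := IsIntegrallyClosed.isIntegral_iff.1 hW
  simp only [algebraMap_int_eq, eq_intCast] at hk
  have hf0 : (f : ℚ) ≠ 0 := by simp [hfpos.ne']
  have hdk : (d : ℤ) = -k * f := by
    have : (d : ℚ) = -(k : ℚ) * f := by rw [hk]; field_simp
    exact_mod_cast this
  exact Int.natCast_dvd_natCast.1 ⟨-k, by rw [hdk]; ring⟩

end Cfsg.Agent.Perm.PermChar
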