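import Cfsg.Agent.Lib.Perm.HallWielandtOrbit
import Cfsg.Agent.Lib.Local.FS.TateCor
import Cfsg.Agent.Lib.Solv.PGroupPhi
import Cfsg.Agent.Lib.Fusion.Cores
import Cfsg.Agent.S5093
import Cfsg.Agent.S5076
import Cfsg.Prelude.Def_BaumannBlocks

/-!
# The Hall–Wielandt transfer theorem
-/

set_option autoImplicit false
set_option linter.style.haveILetI false

namespace Cfsg.Agent.Perm.HallWielandt

open Cfsg Cfsg.Agent.Fusion

variable {G : Type*} [Group G] [Finite G] {p : ℕ} [Fact p.Prime]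

open scoped Classical in
/-- Every homomorphism of `H` to a group of exponent `p` is trivial on `S ∩ O^p(G)`. -/
theorem hom_eq_one (S : Sylow p G) (H W : Subgroup G) (hSH : (S : Subgroup G) ≤ H) (hWS : W ≤ (S : Subgroup G))
    (hfix : ∀ g : G, (∀ w ∈ W, g⁻¹ * w * g ∈ H) → g ∈ H)
    (hiter : ∀ u ∈ (S : Subgroup G), ∀ z ∈ W, (fun y : G => y⁻¹ * z⁻¹ * y * z)^[p - 1] u = 1)
    {A : Type*} [CommGroup A] (hA : ∀ a : A, a ^ p = 1) (χ : H →* A) :
    ∀ (N : ℕ) (x : G), orderOf x = N → ∀ hx : x ∈ (S : Subgroup G), x ∈ pResidual p G → χ ⟨x, hSH hx⟩ = 1 := by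
  have hp : p.Prime := Fact.out
  let σ : G ⧸ H → G := Quotient.out
  have hσ : ∀ q, (σ q : G ⧸ H) = q := Quotient.out_eq
  have hmem : ∀ (a : G) (q : G ⧸ H), (σ (a • q))⁻¹ * a * σ q ∈ H := fun a q => by
    rw [mul_assoc, ← QuotientGroup.eq, hσ]
    show a • q = a • (σ q : G ⧸ H)
    rw [hσ]
  let c : G → G ⧸ H → A := fun a q => χ ⟨_, hmem a q⟩
  have hc : ∀ a b q, c (a * b) q = c a (b • q) * c b q := fun a b q => by
    show χ _ = χ _ * χ _
    rw [← map_mul]
    congr 1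
    apply Subtype.ext
    simp only [Subgroup.coe_mul, mul_smul]
    group
  letI : Fintype (G ⧸ H) := Fintype.ofFinite _
  let V : G →* A := MonoidHom.mk' (fun a => ∏ q, c a q) fun a b => by
    show ∏ q, c (a * b) q = (∏ q, c a q) * ∏ q, c b q
    rw [Finset.prod_congr rfl (fun q _ => hc a b q), Finset.prod_mul_distrib]
    exact congrArg (· * _) (Equiv.prod_comp (MulAction.toPerm b) (c a))
  have hV : ∀ y ∈ pResidual p G, V y = 1 := by
    intro y hy
    refine MonoidHom.mem_ker.1 ((Subgroup.closure_le V.ker).2 (fun g hg => ?_) hy)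
    refine MonoidHom.mem_ker.2 (orderOf_eq_one_iff.1 ?_)
    exact Nat.eq_one_of_dvd_coprimes (hg : (orderOf g).Coprime p) (orderOf_map_dvd V g)
      (orderOf_dvd_of_pow_eq_one (hA _))
  intro N
  induction N using Nat.strong_induction_on with
  | _ N ih =>
  intro x hN hxS hxR
  set q₀ : G ⧸ H := ((1 : G) : G ⧸ H) with hq₀
  have hσ₀ : σ q₀ ∈ H := by
    have h := QuotientGroup.eq.1 (hσ q₀)
    rw [mul_one] at h
    exact H.inv_mem_iff.1 h
  have hfix0 : ∀ t ∈ H, t • q₀ = q₀ := fun t ht => by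
    show ((t * 1 : G) : G ⧸ H) = ((1 : G) : G ⧸ H)
    rw [mul_one, QuotientGroup.eq, mul_one]
    exact H.inv_mem ht
  have hS' : IsPGroup p (S : Subgroup G) := S.2
  have h0 : c x q₀ = χ ⟨x, hSH hxS⟩ := by
    have e : (⟨_, hmem x q₀⟩ : H) = (⟨σ q₀, hσ₀⟩ : H)⁻¹ * ⟨x, hSH hxS⟩ * ⟨σ q₀, hσ₀⟩ := by
      apply Subtype.ext
      simp only [Subgroup.coe_mul, Subgroup.coe_inv, hfix0 x (hSH hxS)]
    show χ _ = _
    rw [e, map_mul, map_mul, map_inv, mul_comm (χ ⟨σ q₀, hσ₀⟩)⁻¹, inv_mul_cancel_right]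
  have h1 : ∏ q ∈ Finset.univ.erase q₀, c x q = 1 := by
    refine prod_cocycle_avoid hA c hc (S : Subgroup G) W hS' hiter x ?_ _ (S : Subgroup G) rfl le_rfl hWS hxS _ ?_ ?_
    · intro n q hn hq
      rcases eq_or_ne x 1 with rfl | hx1
      · show χ _ = 1
        rw [show (⟨_, hmem ((1 : G) ^ n) q⟩ : H) = 1 from Subtype.ext (by simp), map_one]
      have hyH : (σ q)⁻¹ * x ^ n * σ q ∈ H := by
        have := hmem (x ^ n) q
        rwa [hq] at this
      have hyp : IsPGroup p (Subgroup.zpowers ((⟨_, hyH⟩ : H))) := by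
        obtain ⟨k, hk⟩ := IsPGroup.iff_orderOf.1 hS' ⟨x, hxS⟩
        rw [Subgroup.orderOf_mk] at hk
        have h2 : orderOf ((⟨_, hyH⟩ : H)) ∣ p ^ k := by
          rw [Subgroup.orderOf_mk, show (σ q)⁻¹ * x ^ n * σ q = (σ q)⁻¹ * x ^ n * ((σ q)⁻¹)⁻¹ by rw [inv_inv],
            ← MulAut.conj_apply, MulEquiv.orderOf_eq, ← hk]
          exact orderOf_pow_dvd n
        obtain ⟨j, -, hj⟩ := (Nat.dvd_prime_pow hp).1 h2
        exact IsPGroup.of_card (by rw [Nat.card_zpowers, hj])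
      obtain ⟨P', hP'⟩ := hyp.exists_le_sylow
      obtain ⟨h, hh⟩ := MulAction.exists_smul_eq H P' (S.subtype hSH)
      have hy' : h * ⟨_, hyH⟩ * h⁻¹ ∈ ((S.subtype hSH : Sylow p H) : Subgroup H) := by
        rw [← hh, Sylow.coe_subgroup_smul]
        exact ⟨_, hP' (Subgroup.mem_zpowers _), rfl⟩
      set y : H := h * ⟨_, hyH⟩ * h⁻¹ with hy
      have hyS : (y : G) ∈ (S : Subgroup G) := hy'
      have hlt : orderOf (y : G) < N := by
        rw [← hN, hy, Subgroup.coe_mul, Subgroup.coe_mul, Subgroup.coe_inv, ← MulAut.conj_apply, MulEquiv.orderOf_eq]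
        show orderOf ((σ q)⁻¹ * x ^ n * σ q) < _
        rw [show (σ q)⁻¹ * x ^ n * σ q = (σ q)⁻¹ * x ^ n * ((σ q)⁻¹)⁻¹ by rw [inv_inv],
            ← MulAut.conj_apply, MulEquiv.orderOf_eq]
        obtain ⟨k, hk⟩ := IsPGroup.iff_orderOf.1 hS' ⟨x, hxS⟩
        rw [Subgroup.orderOf_mk] at hk
        rcases k with _ | k
        · exact absurd (orderOf_eq_one_iff.1 (by simpa using hk)) hx1
        obtain ⟨m, rfl⟩ := hn
        calc orderOf (x ^ (p * m)) ≤ orderOf (x ^ p) := Nat.le_of_dvd (orderOf_pos _)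
              (by rw [pow_mul]; exact orderOf_pow_dvd m)
          _ = p ^ k := by
            rw [orderOf_pow_of_dvd hp.ne_zero (hk ▸ dvd_pow_self p (Nat.succ_ne_zero k)), hk, pow_succ,
              Nat.mul_div_cancel _ hp.pos]
          _ < p ^ (k + 1) := Nat.pow_lt_pow_right hp.one_lt (Nat.lt_succ_self k)
          _ = orderOf x := hk.symm
      have hyR : (y : G) ∈ pResidual p G := by
        haveI : (pResidual p G).Normal := Subgroup.normal_of_characteristic _
        rw [hy, Subgroup.coe_mul, Subgroup.coe_mul, Subgroup.coe_inv]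
        refine Subgroup.Normal.conj_mem inferInstance _ ?_ _
        show (σ q)⁻¹ * x ^ n * σ q ∈ _
        have := Subgroup.Normal.conj_mem (inferInstance : (pResidual p G).Normal) _ (pow_mem hxR n) (σ q)⁻¹
        rwa [inv_inv] at this
      have h2 := ih _ hlt (y : G) rfl hyS hyR
      rw [show (⟨(y : G), hSH hyS⟩ : H) = y from rfl, hy, map_mul, map_mul, map_inv, mul_comm (χ h),
        mul_inv_cancel_right] at h2
      show χ _ = 1
      rw [show (⟨_, hmem (x ^ n) q⟩ : H) = ⟨_, hyH⟩ from Subtype.ext (by simp only [hq])]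
      exact h2
    · intro t ht q hq
      refine Finset.mem_erase.2 ⟨fun h => Finset.ne_of_mem_erase hq ?_, Finset.mem_univ _⟩
      rw [← inv_smul_smul t q, h, hfix0 t⁻¹ (H.inv_mem (hSH ht))]
    · intro q hq
      by_contra hall
      push Not at hall
      refine Finset.ne_of_mem_erase hq ?_
      have hg : σ q ∈ H := hfix _ fun w hw => by
        have := hmem w q
        rwa [hall w hw] at this
      rw [← hσ q, hq₀, QuotientGroup.eq, mul_one]
      exact H.inv_mem hg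
  have h2 := hV x hxR
  change ∏ q, c x q = 1 at h2
  rwa [← Finset.mul_prod_erase Finset.univ (fun q => c x q) (Finset.mem_univ q₀), h1, mul_one, h0] at h2

/-- **Hall–Wielandt**. -/
theorem pResidualOf_eq (S : Sylow p G) (H W : Subgroup G) (hSH : (S : Subgroup G) ≤ H) (hWS : W ≤ (S : Subgroup G))
    (hfix : ∀ g : G, (∀ w ∈ W, g⁻¹ * w * g ∈ H) → g ∈ H)
    (hiter : ∀ u ∈ (S : Subgroup G), ∀ z ∈ W, (fun y : G => y⁻¹ * z⁻¹ * y * z)^[p - 1] u = 1) :
    pResidualOf p H = pResidual p G ⊓ H := by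
  classical
  set D := pResidual p ↥H with hD
  haveI : D.Normal := Subgroup.normal_of_characteristic _
  haveI : (pResidual p G).Normal := Subgroup.normal_of_characteristic _
  set S' : Sylow p H := S.subtype hSH with hS'
  have hRle : pResidualOf p H ≤ pResidual p G := by
    rw [pResidualOf, pResidual, MonoidHom.map_closure]
    refine Subgroup.closure_mono ?_
    rintro _ ⟨g, hg, rfl⟩
    show (orderOf (g : G)).Coprime p
    rwa [Subgroup.orderOf_coe]
  let ψ : ↥(S : Subgroup G) →* H ⧸ D := (QuotientGroup.mk' D).comp (Subgroup.inclusion hSH)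
  have hdec : ∀ y : H, ∃ (s : ↥(S : Subgroup G)) (d : H), d ∈ D ∧ y = d * Subgroup.inclusion hSH s := fun y => by
    have htop : (D : Subgroup H) ⊔ (S' : Subgroup H) = ⊤ := pResidual_sup_sylow S'
    obtain ⟨d, hd, s, hs, rfl⟩ := Subgroup.mem_sup_of_normal_left.1 (htop.ge (Subgroup.mem_top y))
    exact ⟨⟨s, hs⟩, d, hd, rfl⟩
  have hψ : Function.Surjective ψ := fun t => by
    obtain ⟨y, rfl⟩ := QuotientGroup.mk_surjective t
    obtain ⟨s, d, hd, rfl⟩ := hdec y
    refine ⟨s, ?_⟩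
    show ((Subgroup.inclusion hSH s : H) : H ⧸ D) = _
    rw [QuotientGroup.mk_mul, (QuotientGroup.eq_one_iff d).2 hd, one_mul]
  have hker : ∀ s : ↥(S : Subgroup G), ψ s = 1 ↔ (s : G) ∈ pResidualOf p H := fun s => by
    refine (QuotientGroup.eq_one_iff _).trans ⟨fun h => ⟨_, h, rfl⟩, ?_⟩
    rintro ⟨d, hd, e⟩
    exact (show Subgroup.inclusion hSH s = d from Subtype.ext e.symm) ▸ hd
  set N' : Subgroup ↥(S : Subgroup G) := ψ.ker ⊔ frattini ↥(S : Subgroup G) with hN'
  haveI : N'.Normal := Subgroup.sup_normal _ _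
  haveI : Group.IsNilpotent ↥(S : Subgroup G) := S.2.isNilpotent
  letI : CommGroup (↥(S : Subgroup G) ⧸ N') :=
    { (inferInstance : Group (↥(S : Subgroup G) ⧸ N')) with
      mul_comm := fun a b => by
        obtain ⟨a, rfl⟩ := QuotientGroup.mk_surjective a
        obtain ⟨b, rfl⟩ := QuotientGroup.mk_surjective b
        rw [← QuotientGroup.mk_mul, ← QuotientGroup.mk_mul, QuotientGroup.eq]
        refine (le_sup_right : frattini ↥(S : Subgroup G) ≤ N') (Cfsg.Agent.Perm.commutator_le_frattini ?_)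
        have := Subgroup.commutator_mem_commutator (Subgroup.mem_top b⁻¹) (Subgroup.mem_top a⁻¹)
        rw [commutatorElement_def, inv_inv, inv_inv] at this
        rw [commutator_def, mul_inv_rev]
        simpa [mul_assoc] using this }
  have hA : ∀ a : ↥(S : Subgroup G) ⧸ N', a ^ p = 1 := fun a => by
    obtain ⟨a, rfl⟩ := QuotientGroup.mk_surjective a
    rw [← QuotientGroup.mk_pow, QuotientGroup.eq_one_iff]
    exact (le_sup_right : frattini ↥(S : Subgroup G) ≤ N') (Cfsg.Agent.Solv.pow_mem_frattini S.2 a)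
  let χ : H →* ↥(S : Subgroup G) ⧸ N' :=
    (ψ.liftOfSurjective hψ ⟨QuotientGroup.mk' N', by rw [QuotientGroup.ker_mk']; exact le_sup_left⟩).comp
      (QuotientGroup.mk' D)
  have hχ : ∀ s : ↥(S : Subgroup G), χ ⟨s, hSH s.2⟩ = (s : ↥(S : Subgroup G) ⧸ N') := fun s =>
    MonoidHom.liftOfRightInverse_comp_apply ψ (Function.surjInv hψ) (Function.rightInverse_surjInv hψ) ⟨QuotientGroup.mk' N', by rw [QuotientGroup.ker_mk']; exact le_sup_left⟩ s
  have hF : (Cfsg.groupFusionSystem (S : Subgroup G)).IsSaturated p := Cfsg.Agent.S5076.result p S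
  have hK := Cfsg.Agent.S5093.result p S
  set L := (S : Subgroup G) ⊓ pResidualOf p H with hL
  have hKL := Cfsg.Agent.Local.FS.hyperfocal_le_of_le_sup S.2 hF (L := L)
    (hK.symm ▸ inf_le_inf_left _ hRle) (fun s hs y hy => by
      refine ⟨Subgroup.mul_mem _ (Subgroup.mul_mem _ hs hy.1) (Subgroup.inv_mem _ hs), ?_⟩
      obtain ⟨d, hd, rfl⟩ := hy.2
      exact ⟨⟨s, hSH hs⟩ * d * ⟨s, hSH hs⟩⁻¹, (inferInstance : D.Normal).conj_mem _ hd _, rfl⟩) (by
      rw [hK]
      rintro y ⟨hyS, hyR⟩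
      have h1 := hom_eq_one S H W hSH hWS hfix hiter hA χ _ y rfl hyS hyR
      rw [show (⟨y, hSH hyS⟩ : H) = ⟨((⟨y, hyS⟩ : ↥(S : Subgroup G)) : G), hSH hyS⟩ from rfl, hχ,
        QuotientGroup.eq_one_iff] at h1
      have h2 : N'.map (S : Subgroup G).subtype ≤ L ⊔ (frattini ↥(S : Subgroup G)).map (S : Subgroup G).subtype := by
        rw [hN', Subgroup.map_sup]
        refine sup_le_sup_right ?_ _
        rintro _ ⟨s, hs, rfl⟩
        exact ⟨s.2, (hker s).1 hs⟩
      exact h2 ⟨⟨y, hyS⟩, h1, rfl⟩)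
  refine le_antisymm (le_inf hRle (Subgroup.map_subtype_le _)) ?_
  rintro y ⟨hyR, hyH⟩
  obtain ⟨s, d, hd, e⟩ := hdec ⟨y, hyH⟩
  have hd' : (d : G) ∈ pResidualOf p H := ⟨d, hd, rfl⟩
  have hy : y = (d : G) * (s : G) := congrArg Subtype.val e
  have hsR : (s : G) ∈ pResidual p G := by
    have := Subgroup.mul_mem _ (Subgroup.inv_mem _ (hRle hd')) hyR
    rwa [hy, inv_mul_cancel_left] at this
  rw [hy]
  exact Subgroup.mul_mem _ hd' (hKL (hK.symm ▸ ⟨s.2, hsR⟩)).2

end Cfsg.Agent.Perm.HallWielandt
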