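import Mathlib
import Cfsg.Agent.Lib.Fusion.Basic
import Cfsg.Agent.Lib.Fusion.Cores
import Cfsg.Agent.Lib.Solv.Subnormal

/-!
# Subnormalizers of p-subgroups
-/

set_option autoImplicit false

open scoped Pointwise

namespace Cfsg.Agent.Perm

universe u

open Cfsg.Agent.Fusion

theorem subnormal_pgroup_le_pCore_aux (p : ℕ) : ∀ (n : ℕ) (G : Type u) [Group G] [Finite G],
    Nat.card G = n → ∀ A : Subgroup G, A.IsSubnormal → IsPGroup p A → A ≤ Cfsg.pCore p G := by
  intro n
  induction n using Nat.strong_induction_on with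
  | _ n IH =>
  intro G _ _ hn A hA hAp
  rcases hA.lt_normal with rfl | ⟨K, hK, hAK, hKlt⟩
  · exact Cfsg.Agent.Fusion.le_pCore hAp
  haveI := hK
  have hlt : Nat.card K < n := hn ▸ lt_of_le_of_ne (Nat.le_of_dvd Nat.card_pos (Subgroup.card_subgroup_dvd_card K))
    fun h => hKlt.ne (Subgroup.eq_top_of_card_eq K h)
  have h1 := IH _ hlt K rfl (A.subgroupOf K) (Cfsg.Agent.Solv.isSubnormal_subgroupOf hA)
    (hAp.comap_of_injective K.subtype K.subtype_injective)
  set C := Cfsg.pCore p K with hC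
  have h2 : C.Characteristic := by
    rw [Subgroup.characteristic_iff_map_le]
    exact fun e => map_pCore_le e
  haveI := h2
  have h3 : C.map K.subtype ≤ Cfsg.pCore p G := Cfsg.Agent.Fusion.le_pCore ((isPGroup_pCore p K).map _)
  intro a ha
  exact h3 ⟨⟨a, hAK ha⟩, h1 ha, rfl⟩

theorem subnormal_pgroup_le_pCore {p : ℕ} {G : Type u} [Group G] [Finite G] {A : Subgroup G}
    (hA : A.IsSubnormal) (hAp : IsPGroup p A) : A ≤ Cfsg.pCore p G :=
  subnormal_pgroup_le_pCore_aux p _ G rfl A hA hAp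

variable {G : Type u} [Group G] [Finite G] {p : ℕ} [Fact p.Prime]

/-- `H` is subnormal in `⟨H, g⟩` exactly when `g` normalizes some `p`-subgroup containing `H`. -/
theorem subnormalizer_iff {H : Subgroup G} (hH : IsPGroup p H) (g : G) :
    (H.subgroupOf (H ⊔ Subgroup.zpowers g)).IsSubnormal ↔
      ∃ R : Subgroup G, H ≤ R ∧ IsPGroup p R ∧ g ∈ Subgroup.normalizer (R : Set G) := by
  set L := H ⊔ Subgroup.zpowers g with hL
  constructor
  · intro h
    have h1 := subnormal_pgroup_le_pCore h (hH.comap_of_injective L.subtype L.subtype_injective)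
    refine ⟨(Cfsg.pCore p L).map L.subtype, fun a ha => ⟨⟨a, le_sup_left (b := Subgroup.zpowers g) ha⟩, h1 ha, rfl⟩,
      (isPGroup_pCore p L).map _, ?_⟩
    haveI : (Cfsg.pCore p L).Normal := by unfold Cfsg.pCore; exact Subgroup.sSup_normal _ fun N hN => hN.1
    have h2 := Subgroup.le_normalizer_map L.subtype
      (Subgroup.mem_map_of_mem L.subtype (show (⟨g, le_sup_right (a := H) (Subgroup.mem_zpowers g)⟩ : L) ∈
        Subgroup.normalizer ((Cfsg.pCore p L : Subgroup L) : Set L) by
          rw [Subgroup.normalizer_eq_top_iff.2 inferInstance]; trivial))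
    exact h2
  · rintro ⟨R, hHR, hRp, hg⟩
    haveI : Group.IsNilpotent (R.subgroupOf L) :=
      (hRp.comap_of_injective L.subtype L.subtype_injective : IsPGroup p (R.subgroupOf L)).isNilpotent
    haveI : (R.subgroupOf L).Normal := by
      refine Subgroup.normal_subgroupOf_of_le_normalizer (sup_le (hHR.trans Subgroup.le_normalizer) ?_)
      rw [Subgroup.zpowers_le]; exact hg
    exact Cfsg.Agent.Solv.isSubnormal_of_le_normal (N := R.subgroupOf L) (Subgroup.comap_mono hHR)
      (Cfsg.Agent.Solv.isSubnormal_of_isNilpotent _)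

/-- A `p`-subgroup normalized by `g` lies in a radical one normalized by `g`. -/
theorem exists_radical_ge {R : Subgroup G} (hR : IsPGroup p R) {g : G}
    (hg : g ∈ Subgroup.normalizer (R : Set G)) :
    ∃ R' : Subgroup G, R ≤ R' ∧ g ∈ Subgroup.normalizer (R' : Set G) ∧
      (Cfsg.pCore p (Subgroup.normalizer (R' : Set G))).map (Subgroup.normalizer (R' : Set G)).subtype = R' := by
  obtain ⟨R', ⟨hle, hp', hg'⟩, hmax⟩ := (Set.toFinite
    {S : Subgroup G | R ≤ S ∧ IsPGroup p S ∧ g ∈ Subgroup.normalizer (S : Set G)}).exists_maximal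
    ⟨R, le_rfl, hR, hg⟩
  refine ⟨R', hle, hg', ?_⟩
  set N := Subgroup.normalizer (R' : Set G) with hN
  have h1 : R' ≤ (Cfsg.pCore p N).map N.subtype := by
    have hn : (R'.subgroupOf N).Normal := Subgroup.normal_subgroupOf_of_le_normalizer le_rfl
    intro a ha
    exact ⟨⟨a, Subgroup.le_normalizer ha⟩, Cfsg.Agent.Fusion.le_pCore (hn := hn) (hp'.comap_of_injective N.subtype N.subtype_injective)
      (show (⟨a, Subgroup.le_normalizer ha⟩ : N) ∈ R'.subgroupOf N from ha), rfl⟩
  refine le_antisymm (hmax ⟨hle.trans h1, (isPGroup_pCore p N).map _, ?_⟩ h1) h1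
  haveI : (Cfsg.pCore p N).Normal := by unfold Cfsg.pCore; exact Subgroup.sSup_normal _ fun N hN => hN.1
  exact Subgroup.le_normalizer_map N.subtype
    (Subgroup.mem_map_of_mem N.subtype (show (⟨g, hg'⟩ : N) ∈
      Subgroup.normalizer ((Cfsg.pCore p N : Subgroup N) : Set N) by
        rw [Subgroup.normalizer_eq_top_iff.2 inferInstance]; trivial))

theorem isPGroup_of_radical {R : Subgroup G}
    (h : (Cfsg.pCore p (Subgroup.normalizer (R : Set G))).map (Subgroup.normalizer (R : Set G)).subtype = R) :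
    IsPGroup p R := h ▸ (isPGroup_pCore p _).map _

/-- A radical `p`-subgroup is the intersection of the Sylow subgroups containing it. -/
theorem sInf_sylow_eq_of_radical {R : Subgroup G}
    (h : (Cfsg.pCore p (Subgroup.normalizer (R : Set G))).map (Subgroup.normalizer (R : Set G)).subtype = R) :
    sInf {K : Subgroup G | ∃ Q : Sylow p G, R ≤ (Q : Subgroup G) ∧ K = (Q : Subgroup G)} = R := by
  set D := sInf {K : Subgroup G | ∃ Q : Sylow p G, R ≤ (Q : Subgroup G) ∧ K = (Q : Subgroup G)} with hD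
  have hRD : R ≤ D := le_sInf (by rintro _ ⟨Q, hQ, rfl⟩; exact hQ)
  have hRp := isPGroup_of_radical h
  by_contra hne
  obtain ⟨Q0, hQ0⟩ := hRp.exists_le_sylow
  have hDp : IsPGroup p D := Q0.2.to_le (sInf_le ⟨Q0, hQ0, rfl⟩)
  have hgrow := SylIn.normalizer_growth (p := p) hRD (Ne.symm hne) hDp
  set N := Subgroup.normalizer (R : Set G) with hN
  refine hgrow.not_ge ?_
  -- D ⊓ N lies in every Sylow subgroup of N
  have hall : ∀ T : Sylow p N, (D ⊓ N).subgroupOf N ≤ (T : Subgroup N) := by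
    intro T
    obtain ⟨S, hS⟩ := (T.2.map N.subtype).exists_le_sylow
    have hRS : R ≤ (S : Subgroup G) := by
      intro a ha
      rw [← h] at ha
      obtain ⟨b, hb, rfl⟩ := ha
      exact hS ⟨b, pCore_le_sylow T hb, rfl⟩
    have hDS : D ≤ (S : Subgroup G) := sInf_le ⟨S, hRS, rfl⟩
    have hTeq : ((S : Subgroup G) ⊓ N).subgroupOf N = (T : Subgroup N) :=
      T.3 (S.2.to_inf_left.comap_of_injective N.subtype N.subtype_injective)
        (fun a ha => ⟨hS ⟨a, ha, rfl⟩, a.2⟩)
    exact (Subgroup.comap_mono (inf_le_inf_right N hDS)).trans hTeq.le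
  set M : Subgroup N := ⨅ T : Sylow p N, (T : Subgroup N) with hM
  haveI : M.Normal := by
    refine ⟨fun x hx g => ?_⟩
    rw [hM, Subgroup.mem_iInf] at hx ⊢
    intro T
    have h2 := hx (g⁻¹ • T)
    rw [Sylow.coe_subgroup_smul, Subgroup.mem_pointwise_smul_iff_inv_smul_mem] at h2
    simpa using h2
  have hMp : IsPGroup p M := (default : Sylow p N).2.to_le (iInf_le _ _)
  intro a ha
  rw [← h]
  exact ⟨⟨a, ha.2⟩, Cfsg.Agent.Fusion.le_pCore hMp (Subgroup.mem_iInf.2 fun T => hall T ha), rfl⟩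

end Cfsg.Agent.Perm
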