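/- Two-groups of sectional rank at most two are metacyclic. -/
import Mathlib
import Cfsg.Prelude.Def_CaseTheorems
import Cfsg.Prelude.Def_OddOrderLocal
import Cfsg.Agent.Lib.Solv.PGroupPhi

set_option autoImplicit false

open scoped commutatorElement

namespace Cfsg.Agent.Perm.SectionalTwo

universe u

theorem pRankLE_congr {p k : ℕ} {X Y : Type*} [Group X] [Group Y] (e : X ≃* Y)
    (h : Cfsg.PRankLE p k X) : Cfsg.PRankLE p k Y := by
  intro B hB hp
  have hc : ∀ x ∈ B, ∀ y ∈ B, x * y = y * x := fun x hx y hy =>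
    congrArg Subtype.val (hB.is_comm.comm ⟨x, hx⟩ ⟨y, hy⟩)
  have hmem : ∀ x, x ∈ B.map e.symm.toMonoidHom → e x ∈ B := by
    rintro x ⟨y, hy, rfl⟩
    simpa using hy
  have h1 := h (B.map e.symm.toMonoidHom) ⟨⟨fun x y => Subtype.ext (e.injective (by
      rw [Subgroup.coe_mul, Subgroup.coe_mul, map_mul, map_mul]
      exact hc _ (hmem _ x.2) _ (hmem _ y.2)))⟩⟩ (fun x hx => e.injective (by
      rw [map_pow, map_one]; exact hp _ (hmem _ hx)))
  rwa [← Nat.card_congr (Subgroup.equivMapOfInjective B _ e.symm.injective).toEquiv] at h1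

theorem sectional_quotient {p k : ℕ} {G : Type*} [Group G] (N : Subgroup G) [N.Normal]
    (h : Cfsg.SectionalPRankLE p k G) : Cfsg.SectionalPRankLE p k (G ⧸ N) := by
  intro H M hM
  let H' := H.comap (QuotientGroup.mk' N)
  let ψ : ↥H' →* ↥H := ((QuotientGroup.mk' N).comp H'.subtype).codRestrict H (fun x => x.2)
  have hψ : Function.Surjective ((QuotientGroup.mk' M).comp ψ) := by
    refine (QuotientGroup.mk'_surjective M).comp fun y => ?_
    obtain ⟨x, hx⟩ := QuotientGroup.mk'_surjective N y.1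
    exact ⟨⟨x, show QuotientGroup.mk' N x ∈ H by rw [hx]; exact y.2⟩, Subtype.ext hx⟩
  exact pRankLE_congr (QuotientGroup.quotientKerEquivOfSurjective _ hψ)
    (h H' ((QuotientGroup.mk' M).comp ψ).ker)

theorem rank_le {p k : ℕ} {G : Type*} [Group G] (h : Cfsg.SectionalPRankLE p k G) :
    Cfsg.PRankLE p k G :=
  pRankLE_congr ((QuotientGroup.quotientBot).trans Subgroup.topEquiv) (h ⊤ ⊥)

theorem sup_zpowers_induction {G : Type*} [Group G] {a b : G}
    (h : Subgroup.zpowers a ⊔ Subgroup.zpowers b = ⊤) (x : G) :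
    x ∈ Subgroup.closure ({a, b} : Set G) := by
  have hle : Subgroup.zpowers a ⊔ Subgroup.zpowers b ≤ Subgroup.closure ({a, b} : Set G) :=
    sup_le ((Subgroup.zpowers_le).2 (Subgroup.subset_closure (Or.inl rfl)))
      ((Subgroup.zpowers_le).2 (Subgroup.subset_closure (Or.inr rfl)))
  exact hle (h ▸ Subgroup.mem_top x)

theorem two_gen {G : Type*} [Group G] [Finite G] (h2 : IsPGroup 2 G)
    (hr : Cfsg.SectionalPRankLE 2 2 G) :
    ∃ a b : G, Subgroup.zpowers a ⊔ Subgroup.zpowers b = ⊤ := by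
  classical
  have hprime : Fact (Nat.Prime 2) := ⟨Nat.prime_two⟩
  let Φ := frattini G
  have hq : Cfsg.PRankLE 2 2 (G ⧸ Φ) := rank_le (sectional_quotient Φ hr)
  have hcomm : ∀ x y : G ⧸ Φ, x * y = y * x := by
    intro x y
    obtain ⟨x, rfl⟩ := QuotientGroup.mk'_surjective Φ x
    obtain ⟨y, rfl⟩ := QuotientGroup.mk'_surjective Φ y
    rw [← commutatorElement_eq_one_iff_mul_comm, ← map_commutatorElement]
    exact (QuotientGroup.eq_one_iff _).2 (Solv.commutatorElement_mem_frattini h2 x y)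
  have hsq : ∀ x : G ⧸ Φ, x ^ 2 = 1 := by
    intro x
    obtain ⟨x, rfl⟩ := QuotientGroup.mk'_surjective Φ x
    rw [← map_pow]
    exact (QuotientGroup.eq_one_iff _).2 (Solv.pow_mem_frattini h2 x)
  have hle : Nat.card (G ⧸ Φ) ≤ 4 := by
    have := hq ⊤ ⟨⟨fun x y => Subtype.ext (hcomm x y)⟩⟩ (fun x _ => hsq x)
    rwa [Subgroup.card_top] at this
  by_contra hcon
  push Not at hcon
  have step : ∀ a b : G, ∃ c, c ∉ Subgroup.zpowers a ⊔ Subgroup.zpowers b ⊔ Φ := by
    intro a b
    by_contra hc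
    push Not at hc
    exact hcon a b (frattini_nongenerating ((Subgroup.eq_top_iff' _).2 hc))
  obtain ⟨a, ha⟩ := step 1 1
  obtain ⟨b, hb⟩ := step a 1
  obtain ⟨c, hc⟩ := step a b
  simp only [Subgroup.zpowers_one_eq_bot, bot_sup_eq, sup_bot_eq] at ha hb
  let v : Fin 5 → G := fun i => if i = 0 then 1 else if i = 1 then a else if i = 2 then b
    else if i = 3 then a * b else c
  let q : Fin 5 → G ⧸ Φ := fun i => QuotientGroup.mk (v i)
  have hinj : Function.Injective q := by
    have hΦ : ∀ u w : G, (QuotientGroup.mk u : G ⧸ Φ) = QuotientGroup.mk w →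
        ∀ S : Subgroup G, Φ ≤ S → u ∈ S → w ∈ S := fun u w e S hS hu => by
      have := hS (QuotientGroup.eq.1 e)
      simpa using mul_mem hu this
    have e1 : Φ ≤ Subgroup.zpowers a ⊔ Φ := le_sup_right
    have m1 : a ∈ Subgroup.zpowers a ⊔ Φ := Subgroup.mem_sup_left (Subgroup.mem_zpowers a)
    have e2 : Φ ≤ Subgroup.zpowers a ⊔ Subgroup.zpowers b ⊔ Φ := le_sup_right
    have ma : a ∈ Subgroup.zpowers a ⊔ Subgroup.zpowers b ⊔ Φ :=
      Subgroup.mem_sup_left (Subgroup.mem_sup_left (Subgroup.mem_zpowers a))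
    have mb : b ∈ Subgroup.zpowers a ⊔ Subgroup.zpowers b ⊔ Φ :=
      Subgroup.mem_sup_left (Subgroup.mem_sup_right (Subgroup.mem_zpowers b))
    have nab : a * b ∉ Subgroup.zpowers a ⊔ Φ := fun h => hb (by
      simpa using mul_mem (inv_mem m1) h)
    have n01 : q 0 ≠ q 1 := fun e => ha (hΦ 1 a e Φ le_rfl (one_mem _))
    have n02 : q 0 ≠ q 2 := fun e => hb (hΦ 1 b e _ e1 (one_mem _))
    have n03 : q 0 ≠ q 3 := fun e => nab (hΦ 1 (a * b) e _ e1 (one_mem _))
    have n04 : q 0 ≠ q 4 := fun e => hc (hΦ 1 c e _ e2 (one_mem _))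
    have n12 : q 1 ≠ q 2 := fun e => hb (hΦ a b e _ e1 m1)
    have n13 : q 1 ≠ q 3 := fun e => nab (hΦ a (a * b) e _ e1 m1)
    have n14 : q 1 ≠ q 4 := fun e => hc (hΦ a c e _ e2 ma)
    have n23 : q 2 ≠ q 3 := by
      intro e
      have h' : (QuotientGroup.mk b : G ⧸ Φ) = QuotientGroup.mk a * QuotientGroup.mk b := e
      have h'' := mul_right_cancel ((one_mul _).trans h')
      exact ha ((QuotientGroup.eq_one_iff a).1 h''.symm)
    have n24 : q 2 ≠ q 4 := fun e => hc (hΦ b c e _ e2 mb)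
    have n34 : q 3 ≠ q 4 := fun e => hc (hΦ (a * b) c e _ e2 (mul_mem ma mb))
    intro i j e
    fin_cases i <;> fin_cases j <;>
      first
        | rfl
        | exact absurd e n01 | exact absurd e n02 | exact absurd e n03 | exact absurd e n04
        | exact absurd e n12 | exact absurd e n13 | exact absurd e n14 | exact absurd e n23
        | exact absurd e n24 | exact absurd e n34
        | exact absurd e.symm n01 | exact absurd e.symm n02 | exact absurd e.symm n03
        | exact absurd e.symm n04 | exact absurd e.symm n12 | exact absurd e.symm n13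
        | exact absurd e.symm n14 | exact absurd e.symm n23 | exact absurd e.symm n24
        | exact absurd e.symm n34
  have := Nat.card_le_card_of_injective q hinj
  rw [Nat.card_eq_fintype_card, Fintype.card_fin] at this
  omega

theorem metacyclic_of_gens {G : Type u} [Group G] (x y : G)
    (h : Subgroup.zpowers x ⊔ Subgroup.zpowers y = ⊤) (hn : (Subgroup.zpowers x).Normal) :
    Cfsg.IsMetacyclic G := by
  refine ⟨Subgroup.zpowers x, hn, inferInstance, ?_⟩
  have := hn
  refine ⟨⟨QuotientGroup.mk y, fun q => ?_⟩⟩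
  obtain ⟨g, rfl⟩ := QuotientGroup.mk'_surjective _ q
  have hle : Subgroup.zpowers x ⊔ Subgroup.zpowers y ≤
      (Subgroup.zpowers (QuotientGroup.mk y : G ⧸ Subgroup.zpowers x)).comap
        (QuotientGroup.mk' (Subgroup.zpowers x)) := by
    refine sup_le (fun z hz => ?_) ((Subgroup.zpowers_le).2 ?_)
    · rw [Subgroup.mem_comap]
      rw [show QuotientGroup.mk' (Subgroup.zpowers x) z = 1 from (QuotientGroup.eq_one_iff (N := Subgroup.zpowers x) z).2 hz]
      exact one_mem _
    · exact Subgroup.mem_zpowers _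
  exact hle (h ▸ Subgroup.mem_top g)

theorem normal_zpowers_of_central_comm {G : Type*} [Group G] {x c : G}
    (hc : c ∈ Subgroup.zpowers x) (hcl : ∀ g : G, g * x * g⁻¹ * x⁻¹ ∈ Subgroup.zpowers c) :
    (Subgroup.zpowers x).Normal := by
  refine ⟨fun z hz g => ?_⟩
  obtain ⟨i, rfl⟩ := Subgroup.mem_zpowers_iff.1 hz
  rw [← conj_zpow]
  refine zpow_mem ?_ i
  have := mul_mem ((Subgroup.zpowers_le.2 hc) (hcl g)) (Subgroup.mem_zpowers x)
  simpa using this

/-- The case of a central derived subgroup of exponent two. -/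
theorem base {G : Type u} [Group G] [Finite G] (h2 : IsPGroup 2 G)
    (hr : Cfsg.SectionalPRankLE 2 2 G)
    (hG : ∀ c ∈ commutator G, c ^ 2 = 1 ∧ ∀ g, g * c = c * g) : Cfsg.IsMetacyclic G := by
  obtain ⟨a₀, b₀, hgen₀⟩ := two_gen h2 hr
  let c := a₀ * b₀ * a₀⁻¹ * b₀⁻¹
  have hcG : c ∈ commutator G := Subgroup.commutator_mem_commutator (Subgroup.mem_top _) (Subgroup.mem_top _)
  have hc2 := (hG c hcG).1
  have hcc := (hG c hcG).2
  let Z := Subgroup.zpowers c
  have hZn : Z.Normal := ⟨fun z hz g => by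
    obtain ⟨i, rfl⟩ := Subgroup.mem_zpowers_iff.1 hz
    rw [← conj_zpow, hcc g, mul_inv_cancel_right]
    exact zpow_mem (Subgroup.mem_zpowers c) i⟩
  let π := QuotientGroup.mk' Z
  have hab : π a₀ * π b₀ = π b₀ * π a₀ := by
    rw [← commutatorElement_eq_one_iff_mul_comm, ← map_commutatorElement]
    exact (QuotientGroup.eq_one_iff _).2 (Subgroup.mem_zpowers c)
  have hcomm : ∀ x y : G, π x * π y = π y * π x := by
    have hin : ∀ x, x ∈ Subgroup.closure ({a₀, b₀} : Set G) := sup_zpowers_induction hgen₀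
    have hgenc : ∀ x : G, Commute (π a₀) (π x) ∧ Commute (π b₀) (π x) := by
      intro x
      induction hin x using Subgroup.closure_induction with
      | mem x hx =>
        rcases hx with rfl | rfl
        · exact ⟨Commute.refl _, hab.symm⟩
        · exact ⟨hab, Commute.refl _⟩
      | one => simp
      | mul x y _ _ hx hy => simp only [map_mul]; exact ⟨hx.1.mul_right hy.1, hx.2.mul_right hy.2⟩
      | inv x _ hx => simp only [map_inv]; exact ⟨hx.1.inv_right, hx.2.inv_right⟩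
    intro x y
    have : Commute (π x) (π y) := by
      induction hin x using Subgroup.closure_induction with
      | mem x hx =>
        rcases hx with rfl | rfl
        · exact (hgenc y).1
        · exact (hgenc y).2
      | one => simp
      | mul u v _ _ hu hv => simp only [map_mul]; exact hu.mul_left hv
      | inv u _ hu => simp only [map_inv]; exact hu.inv_left
    exact this
  have hclos : ∀ x g : G, g * x * g⁻¹ * x⁻¹ ∈ Z := fun x g => by
    rw [← QuotientGroup.eq_one_iff]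
    show π (g * x * g⁻¹ * x⁻¹) = 1
    simp only [map_mul, map_inv, hcomm g x, mul_inv_cancel_right, mul_inv_cancel]
  have hfin : ∀ x y : G, Subgroup.zpowers x ⊔ Subgroup.zpowers y = ⊤ → c ∈ Subgroup.zpowers x →
      Cfsg.IsMetacyclic G := fun x y h hc =>
    metacyclic_of_gens x y h (normal_zpowers_of_central_comm hc (hclos x))
  by_cases hc1 : c = 1
  · exact hfin a₀ b₀ hgen₀ (by rw [hc1]; exact one_mem _)
  have hord : orderOf c = 2 := orderOf_eq_prime hc2 hc1
  have hZc : ∀ z ∈ Z, z = 1 ∨ z = c := by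
    intro z hz
    obtain ⟨i, rfl⟩ := Subgroup.mem_zpowers_iff.1 hz
    rw [← zpow_mod_orderOf c i, hord]
    rcases Int.emod_two_eq_zero_or_one i with e | e <;> simp [e]
  -- choose an independent pair
  obtain ⟨a, b₁, hgen₁, hle⟩ : ∃ a b, Subgroup.zpowers a ⊔ Subgroup.zpowers b = ⊤ ∧
      orderOf (π b) ∣ orderOf (π a) := by
    obtain ⟨i, hi⟩ := (IsPGroup.iff_orderOf.1 (h2.to_quotient Z)) (π a₀)
    obtain ⟨j, hj⟩ := (IsPGroup.iff_orderOf.1 (h2.to_quotient Z)) (π b₀)
    rcases le_total j i with h | h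
    · exact ⟨a₀, b₀, hgen₀, by rw [hi, hj]; exact pow_dvd_pow 2 h⟩
    · exact ⟨b₀, a₀, by rw [sup_comm]; exact hgen₀, by rw [hi, hj]; exact pow_dvd_pow 2 h⟩
  obtain ⟨m, hm⟩ := (IsPGroup.iff_orderOf.1 (h2.to_quotient Z)) (π a)
  obtain ⟨b, n, hgen, hbn, hind, hnm⟩ : ∃ (b : G) (n : ℕ),
      Subgroup.zpowers a ⊔ Subgroup.zpowers b = ⊤ ∧ π b ^ 2 ^ n = 1 ∧
      (∀ k : ℕ, k < n → π b ^ 2 ^ k ∉ Subgroup.zpowers (π a)) ∧ n ≤ m := by
    classical
    have hex : ∃ k, π b₁ ^ 2 ^ k ∈ Subgroup.zpowers (π a) := by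
      refine ⟨m, ?_⟩
      rw [orderOf_dvd_iff_pow_eq_one, hm] at hle
      rw [hle]; exact one_mem _
    have hnm : Nat.find hex ≤ m := Nat.find_min' hex (by
      rw [orderOf_dvd_iff_pow_eq_one, hm] at hle
      rw [hle]; exact one_mem _)
    set n := Nat.find hex with hn
    obtain ⟨i, hi⟩ := Subgroup.mem_zpowers_iff.1 (Nat.find_spec hex)
    obtain ⟨r, hr⟩ := Nat.exists_eq_add_of_le hnm
    have hdiv : ((2 : ℤ) ^ n) ∣ i := by
      have h1 : π b₁ ^ (2 ^ n * 2 ^ r) = 1 := by
        rw [← pow_add, ← hr, ← hm]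
        exact orderOf_dvd_iff_pow_eq_one.1 hle
      rw [pow_mul, ← hn] at *
      rw [← hi, ← zpow_natCast, ← zpow_mul, ← orderOf_dvd_iff_zpow_eq_one, hm, hr] at h1
      push_cast at h1
      rw [pow_add] at h1
      exact Int.dvd_of_mul_dvd_mul_right (pow_ne_zero r two_ne_zero) h1
    obtain ⟨e, rfl⟩ := hdiv
    have key : ∀ k : ℕ, π (b₁ * a ^ (-e)) ^ 2 ^ k = π b₁ ^ 2 ^ k * π a ^ (-e * 2 ^ k) := fun k => by
      rw [map_mul, (show Commute (π b₁) (π (a ^ (-e))) from hcomm _ _).mul_pow, map_zpow,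
        ← zpow_natCast (π a ^ (-e)), ← zpow_mul]
      norm_num
    refine ⟨b₁ * a ^ (-e), n, ?_, ?_, ?_, hnm⟩
    · rw [eq_top_iff, ← hgen₁]
      refine sup_le le_sup_left ((Subgroup.zpowers_le).2 ?_)
      have := mul_mem (Subgroup.mem_sup_right (S := Subgroup.zpowers a)
        (Subgroup.mem_zpowers (b₁ * a ^ (-e))))
        (Subgroup.mem_sup_left (T := Subgroup.zpowers (b₁ * a ^ (-e)))
          (zpow_mem (Subgroup.mem_zpowers a) e))
      simpa [mul_assoc] using this
    · rw [key, hn, ← hi, ← hn, ← zpow_add]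
      convert zpow_zero (π a) using 2
      ring
    · intro k hk hmem
      rw [key] at hmem
      exact Nat.find_min hex hk ((Subgroup.mul_mem_cancel_right _
        (zpow_mem (Subgroup.mem_zpowers _) _)).1 hmem)
  have ha' : a ^ 2 ^ m ∈ Z := by
    rw [← QuotientGroup.eq_one_iff]
    show π (a ^ 2 ^ m) = 1
    rw [map_pow, ← hm, pow_orderOf_eq_one]
  have hb' : b ^ 2 ^ n ∈ Z := by
    rw [← QuotientGroup.eq_one_iff]
    show π (b ^ 2 ^ n) = 1
    rw [map_pow, hbn]
  rcases hZc _ ha' with haC | haC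
  swap
  · exact hfin a b hgen (haC ▸ pow_mem (Subgroup.mem_zpowers a) _)
  rcases hZc _ hb' with hbC | hbC
  swap
  · exact hfin b a (by rw [sup_comm]; exact hgen) (hbC ▸ pow_mem (Subgroup.mem_zpowers b) _)
  -- now both orders are unchanged modulo `⟨c⟩`
  have hcomm' : ∀ x y : G, ∃ z ∈ Z, x * y = z * (y * x) := fun x y =>
    ⟨x * y * x⁻¹ * y⁻¹, hclos y x, by group⟩
  have hnc : ¬ (∀ x y : G, x * y = y * x) := fun h => hc1 (by
    show a₀ * b₀ * a₀⁻¹ * b₀⁻¹ = 1
    rw [h a₀ b₀, mul_inv_cancel_right, mul_inv_cancel])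
  have hnc' : a * b ≠ b * a := fun e => hnc fun x y => by
    have hin := sup_zpowers_induction hgen
    have := Subgroup.isMulCommutative_closure (k := ({a, b} : Set G)) (by
      rintro u (rfl | rfl) w (rfl | rfl)
      · rfl
      · exact e
      · exact e.symm
      · rfl)
    exact congrArg Subtype.val (this.is_comm.comm ⟨x, hin x⟩ ⟨y, hin y⟩)
  have hm0 : m ≠ 0 := fun h => hnc' (by
    rw [h, pow_zero, pow_one] at haC; simp [haC])
  have hn0 : n ≠ 0 := fun h => hnc' (by
    rw [h, pow_zero, pow_one] at hbC; simp [hbC])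
  by_cases h11 : m = 1 ∧ n = 1
  · obtain ⟨rfl, rfl⟩ := h11
    rw [pow_one, pow_two] at haC hbC
    obtain ⟨z, hz, hzab⟩ := hcomm' a b
    have hz' : z = c := (hZc z hz).resolve_left fun h => hnc' (by rw [hzab, h, one_mul])
    refine hfin (a * b) b ?_ ?_
    · rw [eq_top_iff, ← hgen]
      refine sup_le ((Subgroup.zpowers_le).2 ?_) le_sup_right
      simpa using mul_mem (Subgroup.mem_sup_left (T := Subgroup.zpowers b) (Subgroup.mem_zpowers (a * b)))
        (Subgroup.mem_sup_right (S := Subgroup.zpowers (a * b)) (inv_mem (Subgroup.mem_zpowers b)))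
    · have : (a * b) ^ 2 = c := by
        rw [pow_two]
        nth_rewrite 1 [hzab]
        rw [mul_assoc, show b * a * (a * b) = b * (a * a) * b by group, haC, mul_one, hbC, mul_one, hz']
      rw [← this]
      exact pow_mem (Subgroup.mem_zpowers _) _
  -- an elementary abelian subgroup of order eight
  exfalso
  obtain ⟨m', rfl⟩ := Nat.exists_eq_succ_of_ne_zero hm0
  obtain ⟨n', rfl⟩ := Nat.exists_eq_succ_of_ne_zero hn0
  set a' := a ^ 2 ^ m' with ha'd
  set b' := b ^ 2 ^ n' with hb'd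
  have ha2 : a' ^ 2 = 1 := by rw [ha'd, ← pow_mul, ← pow_succ]; exact haC
  have hb2 : b' ^ 2 = 1 := by rw [hb'd, ← pow_mul, ← pow_succ]; exact hbC
  have hsqc : ∀ x y : G, Commute (x ^ 2) y := by
    intro x y
    obtain ⟨z, hz, hxy⟩ := hcomm' x y
    have hzz : z * z = 1 := by
      rcases hZc z hz with rfl | rfl
      · exact one_mul 1
      · rw [← pow_two]; exact hc2
    have hzc : x * z = z * x := by
      rcases hZc z hz with rfl | rfl
      · simp
      · exact hcc x
    show x ^ 2 * y = y * x ^ 2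
    calc x ^ 2 * y = x * (x * y) := by rw [pow_two, mul_assoc]
      _ = x * z * (y * x) := by rw [hxy]; group
      _ = z * (x * y) * x := by rw [hzc]; group
      _ = z * z * (y * x ^ 2) := by rw [hxy, pow_two]; group
      _ = y * x ^ 2 := by rw [hzz, one_mul]
  have hab' : Commute a' b' := by
    by_cases h : m' = 0
    · have hn'' : n' ≠ 0 := fun h' => h11 (by subst h h'; exact ⟨rfl, rfl⟩)
      obtain ⟨k, rfl⟩ := Nat.exists_eq_succ_of_ne_zero hn''
      rw [hb'd, pow_succ, pow_mul]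
      exact (hsqc _ _).symm
    · obtain ⟨k, rfl⟩ := Nat.exists_eq_succ_of_ne_zero h
      rw [ha'd, pow_succ, pow_mul]
      exact hsqc _ _
  let E := Subgroup.closure ({a', b', c} : Set G)
  have hEc : IsMulCommutative ↥E := Subgroup.isMulCommutative_closure (by
    rintro u (rfl | rfl | rfl) w (rfl | rfl | rfl)
    all_goals first | rfl | exact hab' | exact hab'.symm | exact hcc _ | exact (hcc _).symm)
  have hE2 : ∀ x ∈ E, x ^ 2 = 1 := by
    intro x hx
    induction hx using Subgroup.closure_induction with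
    | mem x hx => rcases hx with rfl | rfl | rfl <;> assumption
    | one => simp
    | mul x y hx hy h h' =>
      have hxy : Commute x y := congrArg Subtype.val (hEc.is_comm.comm ⟨x, hx⟩ ⟨y, hy⟩)
      rw [hxy.mul_pow, h, h', one_mul]
    | inv x _ h => rw [inv_pow, h, inv_one]
  have hcard := rank_le hr E hEc hE2
  let f : Fin 2 × Fin 2 × Fin 2 → ↥E := fun t =>
    ⟨a' ^ t.1.val * b' ^ t.2.1.val * c ^ t.2.2.val,
      mul_mem (mul_mem (pow_mem (Subgroup.subset_closure (show a' ∈ ({a', b', c} : Set G) from Or.inl rfl)) _)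
        (pow_mem (Subgroup.subset_closure (show b' ∈ ({a', b', c} : Set G) from Or.inr (Or.inl rfl))) _))
        (pow_mem (Subgroup.subset_closure (show c ∈ ({a', b', c} : Set G) from Or.inr (Or.inr rfl))) _)⟩
  have hπa : π a' ≠ 1 := fun e => by
    rw [ha'd, map_pow, ← orderOf_dvd_iff_pow_eq_one, hm] at e
    have := Nat.le_of_dvd (pow_pos (by norm_num) _) e
    rw [pow_succ] at this
    have : 0 < 2 ^ m' := Nat.two_pow_pos m'
    omega
  have hπb : π b' ∉ Subgroup.zpowers (π a) := by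
    rw [hb'd, map_pow]; exact hind n' (Nat.lt_succ_self n')
  have hinj : Function.Injective f := by
    rintro ⟨i, j, k⟩ ⟨i', j', k'⟩ e
    have e' : a' ^ i.val * b' ^ j.val * c ^ k.val = a' ^ i'.val * b' ^ j'.val * c ^ k'.val :=
      congrArg Subtype.val e
    have eπ := congrArg π e'
    simp only [map_mul, map_pow] at eπ
    rw [show π c = 1 from (QuotientGroup.eq_one_iff c).2 (Subgroup.mem_zpowers c), one_pow, one_pow,
      mul_one, mul_one] at eπ
    have hmemA : ∀ i : ℕ, π a' ^ i ∈ Subgroup.zpowers (π a) := fun i => by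
      rw [ha'd, map_pow, ← pow_mul]; exact pow_mem (Subgroup.mem_zpowers _) _
    have hj : j = j' := by
      fin_cases j <;> fin_cases j' <;> first
        | rfl
        | (exfalso; simp at eπ
           apply hπb
           first
            | (rw [show π b' = (π a' ^ i.val)⁻¹ * π a' ^ i'.val by rw [← eπ]; group]
               exact mul_mem (inv_mem (hmemA _)) (hmemA _))
            | (rw [show π b' = (π a' ^ i'.val)⁻¹ * π a' ^ i.val by rw [eπ]; group]
               exact mul_mem (inv_mem (hmemA _)) (hmemA _)))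
    subst hj
    have hi : i = i' := by
      have := mul_right_cancel eπ
      fin_cases i <;> fin_cases i' <;> first
        | rfl
        | (exfalso; simp at this; first | exact hπa this | exact hπa this.symm)
    subst hi
    have := mul_left_cancel e'
    fin_cases k <;> fin_cases k' <;> first
      | rfl
      | (exfalso; simp at this; first | exact hc1 this | exact hc1 this.symm)
  have := Nat.card_le_card_of_injective f hinj
  simp [Nat.card_eq_fintype_card] at this
  omega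

/-- Lifting from a quotient by a central subgroup deep inside the derived subgroup. -/
theorem lift {G : Type u} [Group G] [Finite G] (h2 : IsPGroup 2 G) (N : Subgroup G) [N.Normal]
    (hNc : N ≤ Subgroup.center G)
    (hN : ∀ K : Subgroup G, K.Normal → (∀ c ∈ commutator G, c ^ 2 ∈ K) →
      ⁅commutator G, (⊤ : Subgroup G)⁆ ≤ K → N ≤ K)
    (hQ : Cfsg.IsMetacyclic (G ⧸ N)) : Cfsg.IsMetacyclic G := by
  obtain ⟨Ab, hAbn, hAbc, hQc⟩ := hQ
  let π := QuotientGroup.mk' N
  obtain ⟨aq, haq⟩ := (Subgroup.isCyclic_iff_exists_zpowers_eq_top _).1 hAbc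
  obtain ⟨q, hq⟩ := hQc.exists_generator
  obtain ⟨bq, rfl⟩ := QuotientGroup.mk'_surjective Ab q
  obtain ⟨a, ha⟩ := QuotientGroup.mk'_surjective N aq
  obtain ⟨b, hb⟩ := QuotientGroup.mk'_surjective N bq
  let A := Ab.comap π
  have hAn : A.Normal := hAbn.comap π
  have hNA : N ≤ A := fun x hx => by
    show π x ∈ Ab
    rw [show π x = 1 from (QuotientGroup.eq_one_iff x).2 hx]; exact one_mem _
  have hmemA : ∀ x ∈ A, ∃ (i : ℤ) (n : G), n ∈ N ∧ x = a ^ i * n := by
    intro x hx
    have : π x ∈ Subgroup.zpowers aq := by rw [haq]; exact hx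
    obtain ⟨i, hi⟩ := Subgroup.mem_zpowers_iff.1 this
    refine ⟨i, (a ^ i)⁻¹ * x, ?_, by group⟩
    rw [← QuotientGroup.eq]
    show π (a ^ i) = π x
    rw [← hi, map_zpow, ha]
  have haA : a ∈ A := by
    show π a ∈ Ab
    rw [show π a = aq from ha, ← haq]; exact Subgroup.mem_zpowers aq
  have hgenb : ∀ x : G, ∃ j : ℤ, (b ^ j)⁻¹ * x ∈ A := by
    intro x
    obtain ⟨j, hj⟩ := Subgroup.mem_zpowers_iff.1 (hq (QuotientGroup.mk' Ab (π x)))
    refine ⟨j, ?_⟩
    show π ((b ^ j)⁻¹ * x) ∈ Ab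
    rw [map_mul, map_inv, map_zpow, ← QuotientGroup.eq]
    rw [show π b = bq from hb]
    exact hj
  have hAcomm : ∀ x ∈ A, ∀ y ∈ A, Commute x y := by
    intro x hx y hy
    obtain ⟨i, n, hn, rfl⟩ := hmemA x hx
    obtain ⟨j, n', hn', rfl⟩ := hmemA y hy
    have c1 : ∀ g, Commute n g := fun g => (Subgroup.mem_center_iff.1 (hNc hn) g).symm
    have c2 : ∀ g, Commute g n' := fun g => Subgroup.mem_center_iff.1 (hNc hn') g
    exact (((Commute.refl a).zpow_zpow i j).mul_right (c2 _)).mul_left (c1 _)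
  let K : Subgroup G :=
    { carrier := {k | ∃ x ∈ A, x ^ 2 = k}
      one_mem' := ⟨1, one_mem _, one_pow 2⟩
      mul_mem' := fun {k l} ⟨x, hx, hxk⟩ ⟨y, hy, hyl⟩ =>
        ⟨x * y, mul_mem hx hy, by rw [(hAcomm x hx y hy).mul_pow, hxk, hyl]⟩
      inv_mem' := fun {k} ⟨x, hx, hxk⟩ => ⟨x⁻¹, inv_mem hx, by rw [inv_pow, hxk]⟩ }
  have hKn : K.Normal := ⟨fun k ⟨x, hx, hxk⟩ g =>
    ⟨g * x * g⁻¹, hAn.conj_mem x hx g, by rw [conj_pow, hxk]⟩⟩
  have hKA : K ≤ A := fun k ⟨x, hx, hxk⟩ => hxk ▸ pow_mem hx 2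
  have hMn : (K ⊔ N).Normal := Subgroup.sup_normal K N
  let μ := QuotientGroup.mk' (K ⊔ N)
  have hμN : ∀ n ∈ N, μ n = 1 := fun n hn => (QuotientGroup.eq_one_iff n).2 (Subgroup.mem_sup_right hn)
  have hμ2 : μ a ^ 2 = 1 := by
    rw [← map_pow]
    exact (QuotientGroup.eq_one_iff _).2 (Subgroup.mem_sup_left ⟨a, haA, rfl⟩)
  have hμab : Commute (μ b) (μ a) := by
    obtain ⟨i, n, hn, hbab⟩ := hmemA _ (hAn.conj_mem a haA b)
    have e : μ b * μ a * (μ b)⁻¹ = μ a ^ i := by
      rw [← map_inv, ← map_mul, ← map_mul, hbab, map_mul, map_zpow, hμN n hn, mul_one]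
    rcases Int.even_or_odd' i with ⟨t, rfl | rfl⟩
    · rw [zpow_mul, show μ a ^ (2 : ℤ) = 1 from (zpow_ofNat _ 2).trans hμ2, one_zpow] at e
      have : μ a = 1 := by simpa using e
      rw [this]; exact Commute.one_right _
    · rw [zpow_add, zpow_mul, show μ a ^ (2 : ℤ) = 1 from (zpow_ofNat _ 2).trans hμ2, one_zpow, one_mul, zpow_one] at e
      exact mul_inv_eq_iff_eq_mul.1 e
  have hμA : ∀ x ∈ A, ∃ i : ℤ, μ x = μ a ^ i := fun x hx => by
    obtain ⟨i, n, hn, rfl⟩ := hmemA x hx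
    exact ⟨i, by rw [map_mul, map_zpow, hμN n hn, mul_one]⟩
  have hG' : commutator G ≤ K ⊔ N := by
    rw [commutator_def, Subgroup.commutator_le]
    intro x _ y _
    obtain ⟨j, hj⟩ := hgenb x
    obtain ⟨j', hj'⟩ := hgenb y
    obtain ⟨i, hi⟩ := hμA _ hj
    obtain ⟨i', hi'⟩ := hμA _ hj'
    rw [← QuotientGroup.eq_one_iff]
    show μ ⁅x, y⁆ = 1
    rw [map_commutatorElement, commutatorElement_eq_one_iff_mul_comm,
      show x = b ^ j * ((b ^ j)⁻¹ * x) by group, show y = b ^ j' * ((b ^ j')⁻¹ * y) by group,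
      map_mul, map_mul μ (b ^ j'), hi, hi', map_zpow, map_zpow]
    exact (((Commute.refl (μ b)).zpow_zpow j j').mul_right (hμab.zpow_zpow j i')).mul_left
      ((hμab.symm.zpow_zpow i j').mul_right ((Commute.refl (μ a)).zpow_zpow i i'))
  have hG'A : commutator G ≤ A := hG'.trans (sup_le hKA hNA)
  have hNK : N ≤ K := hN K hKn (fun c hc => ⟨c, hG'A hc, rfl⟩) (by
    rw [Subgroup.commutator_le]
    intro c hc g _
    rw [← QuotientGroup.eq_one_iff (N := K), ← QuotientGroup.mk'_apply, map_commutatorElement,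
      commutatorElement_eq_one_iff_mul_comm]
    obtain ⟨k, hk, n, hn, rfl⟩ := Subgroup.mem_sup_of_normal_right.1 (hG' hc)
    rw [map_mul, show QuotientGroup.mk' K k = 1 from (QuotientGroup.eq_one_iff k).2 hk, one_mul,
      ← map_mul, ← map_mul, Subgroup.mem_center_iff.1 (hNc hn) g])
  -- so `A` is cyclic
  have hdesc : ∀ t : ℕ, ∀ x ∈ A, ∃ w ∈ Subgroup.zpowers a, ∃ y ∈ A, x = w * y ^ 2 ^ t := by
    intro t
    induction t with
    | zero => exact fun x hx => ⟨1, one_mem _, x, hx, by simp⟩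
    | succ t ih =>
      intro x hx
      obtain ⟨w, hw, y, hy, rfl⟩ := ih x hx
      obtain ⟨i, n, hn, rfl⟩ := hmemA y hy
      obtain ⟨z, hz, hzn⟩ := hNK hn
      refine ⟨w * (a ^ i) ^ 2 ^ t, mul_mem hw (pow_mem (zpow_mem (Subgroup.mem_zpowers a) i) _),
        z, hz, ?_⟩
      rw [← hzn, (hAcomm _ (zpow_mem haA i) _ (pow_mem hz 2)).mul_pow, mul_assoc, ← pow_mul,
        ← pow_succ']
  have hA : A = Subgroup.zpowers a := by
    refine le_antisymm (fun x hx => ?_) ((Subgroup.zpowers_le).2 haA)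
    obtain ⟨T, hT⟩ := (IsPGroup.iff_card (p := 2) (G := G)).1 h2
    obtain ⟨w, hw, y, hy, rfl⟩ := hdesc T x hx
    rw [← hT, pow_card_eq_one', mul_one]; exact hw
  refine metacyclic_of_gens a b ((Subgroup.eq_top_iff' _).2 fun x => ?_) (hA ▸ hAn)
  obtain ⟨j, hj⟩ := hgenb x
  rw [hA] at hj
  rw [show x = b ^ j * ((b ^ j)⁻¹ * x) by group]
  exact mul_mem (Subgroup.mem_sup_right (zpow_mem (Subgroup.mem_zpowers b) j)) (Subgroup.mem_sup_left hj)

theorem metacyclic : ∀ (n : ℕ) (G : Type u) [Group G] [Finite G], Nat.card G = n →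
    IsPGroup 2 G → Cfsg.SectionalPRankLE 2 2 G → Cfsg.IsMetacyclic G := by
  intro n
  induction n using Nat.strong_induction_on with
  | _ n ih =>
  intro G _ _ hn h2 hr
  by_cases hG : ∀ c ∈ commutator G, c ^ 2 = 1 ∧ ∀ g, g * c = c * g
  · exact base h2 hr hG
  have hprime : Fact (Nat.Prime 2) := ⟨Nat.prime_two⟩
  let Q : Subgroup G := Subgroup.normalClosure {x | ∃ c ∈ commutator G, c ^ 2 = x} ⊔
    ⁅commutator G, (⊤ : Subgroup G)⁆
  have hQn : Q.Normal := by
    have := Subgroup.commutator_normal (commutator G) (⊤ : Subgroup G)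
    exact Subgroup.sup_normal _ _
  have hQ1 : Q ≠ ⊥ := by
    intro hQ
    apply hG
    intro c hc
    refine ⟨?_, fun g => ?_⟩
    · have : c ^ 2 ∈ Q := Subgroup.mem_sup_left (Subgroup.subset_normalClosure ⟨c, hc, rfl⟩)
      rwa [hQ, Subgroup.mem_bot] at this
    · have : ⁅c, g⁆ ∈ Q :=
        Subgroup.mem_sup_right (Subgroup.commutator_mem_commutator hc (Subgroup.mem_top g))
      rw [hQ, Subgroup.mem_bot, commutatorElement_eq_one_iff_mul_comm] at this
      exact this.symm
  obtain ⟨z, hz1, hzQ, hzc⟩ : ∃ z, z ≠ 1 ∧ z ∈ Q ∧ z ∈ Subgroup.center G := by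
    have h2' : IsPGroup 2 (ConjAct G) := h2.of_equiv ConjAct.toConjAct
    have hdvd : 2 ∣ Nat.card ↥Q := by
      obtain ⟨k, hk⟩ := (IsPGroup.iff_card (p := 2) (G := ↥Q)).1 (h2.to_subgroup Q)
      rw [hk]
      refine dvd_pow_self 2 fun h => hQ1 (Subgroup.card_eq_one.1 ?_)
      rw [hk, h, pow_zero]
    obtain ⟨z, hz, hz1⟩ := h2'.exists_fixed_point_of_prime_dvd_card_of_fixed_point (α := ↥Q) hdvd
      (a := 1) (fun g => smul_one g)
    refine ⟨z.1, fun h => hz1 (Subtype.ext h).symm, z.2, Subgroup.mem_center_iff.2 fun g => ?_⟩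
    have e : g * z.1 * g⁻¹ = z.1 := congrArg Subtype.val (hz (ConjAct.toConjAct g))
    exact mul_inv_eq_iff_eq_mul.1 e
  let N := Q ⊓ Subgroup.center G
  have hNlt : Nat.card (G ⧸ N) < n := by
    rw [← hn, Subgroup.card_eq_card_quotient_mul_card_subgroup N]
    refine lt_mul_of_one_lt_right Nat.card_pos ?_
    rw [Subgroup.one_lt_card_iff_ne_bot]
    exact fun h => hz1 ((Subgroup.eq_bot_iff_forall _).1 h z ⟨hzQ, hzc⟩)
  refine lift h2 N inf_le_right (fun K hK h1 h2' => ?_)
    (ih _ hNlt (G ⧸ N) rfl (h2.to_quotient N) (sectional_quotient N hr))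
  refine inf_le_left.trans (sup_le (Subgroup.normalClosure_le_normal ?_) h2')
  rintro _ ⟨c, hc, rfl⟩
  exact h1 c hc

end Cfsg.Agent.Perm.SectionalTwo
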