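/- Pairs of normal subgroups with small centre in 2-groups of sectional rank at most four. -/
import Mathlib
import Cfsg.Prelude.Def_CaseTheorems
import Cfsg.Agent.Lib.Solv.PGroupPhi
import Cfsg.Agent.Lib.Perm.SectionalTwo

set_option autoImplicit false

open scoped commutatorElement

namespace Cfsg.Agent.Perm.SectionalFour

variable {S : Type*} [Group S] [Finite S]

/-- `z` is the only non-trivial central element of the non-abelian subgroup `P`. -/
def SmallCentre (P : Subgroup S) (z : S) : Prop :=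
  (∃ x ∈ P, ∃ y ∈ P, x * y ≠ y * x) ∧ z ∈ P ∧ z ≠ 1 ∧ (∀ x ∈ P, x * z = z * x) ∧
    ∀ y ∈ P, (∀ x ∈ P, x * y = y * x) → y = 1 ∨ y = z

theorem smallCentre_of_card (P : Subgroup S) (hP : ¬ IsMulCommutative ↥P)
    (hZ : Nat.card ↥(Subgroup.center ↥P) = 2) :
    ∃ z, SmallCentre P z ∧ (Subgroup.center ↥P).map P.subtype = Subgroup.zpowers z := by
  obtain ⟨u, v, huv, huniv⟩ := Nat.card_eq_two_iff.1 hZ
  obtain ⟨z, hz1, hzeq⟩ : ∃ z : ↥(Subgroup.center ↥P), z ≠ 1 ∧ ∀ w, w = 1 ∨ w = z := by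
    have hmem : ∀ w : ↥(Subgroup.center ↥P), w = u ∨ w = v := fun w => by
      have : w ∈ ({u, v} : Set ↥(Subgroup.center ↥P)) := by rw [huniv]; exact Set.mem_univ w
      simpa using this
    rcases hmem 1 with h | h
    · exact ⟨v, fun e => huv (h.symm.trans e.symm), fun w => h ▸ hmem w⟩
    · exact ⟨u, fun e => huv (e.trans h), fun w => (h ▸ hmem w).symm⟩
  refine ⟨z.1.1, ⟨?_, z.1.2, fun e => hz1 (Subtype.ext (Subtype.ext e)), fun x hx =>
    congrArg Subtype.val (Subgroup.mem_center_iff.1 z.2 ⟨x, hx⟩), fun y hy hc => ?_⟩, ?_⟩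
  · by_contra h
    push Not at h
    exact hP ⟨⟨fun x y => Subtype.ext (h x x.2 y y.2)⟩⟩
  · rcases hzeq ⟨⟨y, hy⟩, Subgroup.mem_center_iff.2 fun x => Subtype.ext (hc x x.2)⟩ with e | e
    · exact Or.inl (congrArg (fun w : ↥(Subgroup.center ↥P) => (w.1.1 : S)) e)
    · exact Or.inr (congrArg (fun w : ↥(Subgroup.center ↥P) => (w.1.1 : S)) e)
  · refine le_antisymm ?_ ((Subgroup.zpowers_le).2 ⟨z.1, z.2, rfl⟩)
    rintro _ ⟨w, hw, rfl⟩
    rcases hzeq ⟨w, hw⟩ with e | e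
    · rw [show w = 1 from congrArg Subtype.val e, map_one]; exact one_mem _
    · rw [show w = z.1 from congrArg Subtype.val e]; exact Subgroup.mem_zpowers _

/-- A non-trivial normal subgroup of a 2-group contains a non-trivial central element. -/
theorem exists_central {X : Type*} [Group X] [Finite X] (h2 : IsPGroup 2 X) (Q : Subgroup X)
    [Q.Normal] (hQ : Q ≠ ⊥) : ∃ z ∈ Q, z ≠ 1 ∧ ∀ g, g * z = z * g := by
  have : Fact (Nat.Prime 2) := ⟨Nat.prime_two⟩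
  have h2' : IsPGroup 2 (ConjAct X) := h2.of_equiv ConjAct.toConjAct
  have hdvd : 2 ∣ Nat.card ↥Q := by
    obtain ⟨k, hk⟩ := (IsPGroup.iff_card (p := 2) (G := ↥Q)).1 (h2.to_subgroup Q)
    rw [hk]
    refine dvd_pow_self 2 fun h => hQ (Subgroup.card_eq_one.1 ?_)
    rw [hk, h, pow_zero]
  obtain ⟨z, hz, hz1⟩ := h2'.exists_fixed_point_of_prime_dvd_card_of_fixed_point (α := ↥Q) hdvd
    (a := 1) (fun g => smul_one g)
  refine ⟨z.1, z.2, fun h => hz1 (Subtype.ext h).symm, fun g => ?_⟩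
  have e : g * z.1 * g⁻¹ = z.1 := congrArg Subtype.val (hz (ConjAct.toConjAct g))
  exact mul_inv_eq_iff_eq_mul.1 e

/-- The Frattini subgroup of a subgroup, inside the group. -/
abbrev Phi (P : Subgroup S) : Subgroup S := (frattini ↥P).map P.subtype

theorem phi_facts (h2 : IsPGroup 2 S) {P : Subgroup S} {z : S} (hP : SmallCentre P z) :
    z ∈ Phi P ∧ 4 * Nat.card ↥(Phi P) ≤ Nat.card ↥P ∧ z ^ 2 = 1 := by
  have : Fact (Nat.Prime 2) := ⟨Nat.prime_two⟩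
  have hp := h2.to_subgroup P
  obtain ⟨⟨x, hx, y, hy, hxy⟩, hz, hz1, hzc, huniq⟩ := hP
  have hne : commutator ↥P ≠ ⊥ := fun h => hxy (by
    have : (⁅(⟨x, hx⟩ : ↥P), ⟨y, hy⟩⁆) ∈ commutator ↥P :=
      Subgroup.commutator_mem_commutator (Subgroup.mem_top _) (Subgroup.mem_top _)
    rw [h, Subgroup.mem_bot, commutatorElement_eq_one_iff_mul_comm] at this
    exact congrArg Subtype.val this)
  obtain ⟨c, hc, hc1, hcc⟩ := exists_central hp (commutator ↥P) hne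
  have hcz : (c : S) = z := (huniq c c.2 fun w hw => congrArg Subtype.val (hcc ⟨w, hw⟩)).resolve_left
    fun e => hc1 (Subtype.ext e)
  refine ⟨⟨c, Solv.commutator_le_frattini_pgroup hp hc, hcz⟩, ?_, ?_⟩
  · rw [← Nat.card_congr (Subgroup.equivMapOfInjective (frattini ↥P) _ P.subtype_injective).toEquiv,
      Subgroup.card_eq_card_quotient_mul_card_subgroup (frattini ↥P)]
    refine Nat.mul_le_mul_right _ ?_
    obtain ⟨k, hk⟩ := (IsPGroup.iff_card (p := 2) (G := ↥P ⧸ frattini ↥P)).1 (hp.to_quotient _)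
    rw [hk]
    by_contra hlt
    have hk2 : k ≤ 1 := by
      by_contra h
      exact hlt ((show 4 = 2 ^ 2 by norm_num) ▸ Nat.pow_le_pow_right (by norm_num) (by omega))
    have hcyc : IsCyclic (↥P ⧸ frattini ↥P) := by
      rcases Nat.le_one_iff_eq_zero_or_eq_one.1 hk2 with rfl | rfl
      · have := (Nat.card_eq_one_iff_unique.1 (hk.trans (pow_zero 2))).1
        exact isCyclic_of_subsingleton
      · exact isCyclic_of_prime_card (p := 2) (hk.trans (pow_one 2))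
    obtain ⟨q, hq⟩ := hcyc.exists_generator
    obtain ⟨g, rfl⟩ := QuotientGroup.mk'_surjective (frattini ↥P) q
    have htop : Subgroup.zpowers g = ⊤ := frattini_nongenerating ((Subgroup.eq_top_iff' _).2 fun w => by
      obtain ⟨j, hj⟩ := Subgroup.mem_zpowers_iff.1 (hq w)
      have hj' : ((g ^ j : ↥P) : ↥P ⧸ frattini ↥P) = w := hj
      rw [QuotientGroup.eq] at hj'
      rw [show w = g ^ j * ((g ^ j)⁻¹ * w) by group]
      exact mul_mem (Subgroup.mem_sup_left (zpow_mem (Subgroup.mem_zpowers g) j))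
        (Subgroup.mem_sup_right hj'))
    obtain ⟨i, hi⟩ := Subgroup.mem_zpowers_iff.1 (htop.ge (Subgroup.mem_top (⟨x, hx⟩ : ↥P)))
    obtain ⟨j, hj⟩ := Subgroup.mem_zpowers_iff.1 (htop.ge (Subgroup.mem_top (⟨y, hy⟩ : ↥P)))
    have := ((Commute.refl g).zpow_zpow i j).eq
    rw [hi, hj] at this
    exact hxy (congrArg Subtype.val this)
  · by_contra h
    rcases huniq (z ^ 2) (pow_mem hz 2) (fun w hw => (Commute.pow_right (hzc w hw) 2).eq) with e | e
    · exact h e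
    · exact hz1 (by
        have : z * z = z * 1 := by rw [mul_one, ← pow_two]; exact e
        exact mul_left_cancel this)

/-- Elementary quotients of subgroups have order at most `2 ^ k`. -/
theorem card_le_of_rank {k : ℕ} (hr : Cfsg.SectionalPRankLE 2 k S) (T N : Subgroup S) (hNT : N ≤ T)
    (hN : ∀ t ∈ T, ∀ n ∈ N, t * n * t⁻¹ ∈ N) (hcomm : ∀ x ∈ T, ∀ y ∈ T, x * y * x⁻¹ * y⁻¹ ∈ N)
    (hsq : ∀ x ∈ T, x ^ 2 ∈ N) : Nat.card ↥T ≤ 2 ^ k * Nat.card ↥N := by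
  have hn : (N.subgroupOf T).Normal := ⟨fun n hn t => hN t t.2 n hn⟩
  have hc : ∀ a b : ↥T, ⁅a, b⁆ ∈ N.subgroupOf T := fun a b => hcomm a a.2 b b.2
  have h := hr T (N.subgroupOf T) ⊤
    ⟨⟨fun a b => Subtype.ext (Solv.quotient_mul_comm _ hc a.1 b.1)⟩⟩ (fun a _ => by
      obtain ⟨a, rfl⟩ := QuotientGroup.mk'_surjective (N.subgroupOf T) a
      rw [← map_pow]
      exact (QuotientGroup.eq_one_iff _).2 (hsq a a.2))
  rw [Subgroup.card_top] at h
  rw [Subgroup.card_eq_card_quotient_mul_card_subgroup (N.subgroupOf T),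
    Nat.card_congr (Subgroup.subgroupOfEquivOfLe hNT).toEquiv]
  exact Nat.mul_le_mul_right _ h

theorem card_sup_of_commute (A B : Subgroup S) (hAB : ∀ a ∈ A, ∀ b ∈ B, a * b = b * a)
    (hdisj : A ⊓ B = ⊥) :
    Nat.card ↥(A ⊔ B) = Nat.card ↥A * Nat.card ↥B ∧
      ∀ x ∈ A ⊔ B, ∃ a ∈ A, ∃ b ∈ B, x = a * b := by
  let f : ↥A × ↥B →* S :=
    MonoidHom.noncommCoprod A.subtype B.subtype (fun a b => hAB a a.2 b b.2)
  have hf : Function.Injective f := by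
    rw [injective_iff_map_eq_one]
    rintro ⟨a, b⟩ e
    have e' : (a : S) * b = 1 := e
    have ha : (a : S) ∈ A ⊓ B := Subgroup.mem_inf.2 ⟨a.2, by rw [eq_inv_of_mul_eq_one_left e']; exact inv_mem b.2⟩
    rw [hdisj, Subgroup.mem_bot] at ha
    rw [ha, one_mul] at e'
    exact Prod.ext (Subtype.ext ha) (Subtype.ext e')
  have hr : f.range = A ⊔ B := by
    refine le_antisymm ?_ (sup_le ?_ ?_)
    · rintro _ ⟨⟨a, b⟩, rfl⟩
      exact mul_mem (Subgroup.mem_sup_left a.2) (Subgroup.mem_sup_right b.2)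
    · intro a ha
      exact ⟨(⟨a, ha⟩, 1), show a * 1 = a from mul_one a⟩
    · intro b hb
      exact ⟨(1, ⟨b, hb⟩), show 1 * b = b from one_mul b⟩
  refine ⟨?_, fun x hx => ?_⟩
  · rw [← hr, ← Nat.card_prod]
    exact Nat.card_congr (MonoidHom.ofInjective hf).toEquiv.symm
  · rw [← hr] at hx
    obtain ⟨⟨a, b⟩, rfl⟩ := hx
    exact ⟨a, a.2, b, b.2, rfl⟩

/-- The main lemma on a pair of subgroups normalised by `T`. -/
theorem pair (h2 : IsPGroup 2 S) (hr : Cfsg.SectionalPRankLE 2 4 S) (T P Q : Subgroup S)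
    (hPT : P ≤ T) (hQT : Q ≤ T) (hPn : ∀ t ∈ T, ∀ x ∈ P, t * x * t⁻¹ ∈ P)
    (hQn : ∀ t ∈ T, ∀ x ∈ Q, t * x * t⁻¹ ∈ Q) {zP zQ : S} (hP : SmallCentre P zP)
    (hQ : SmallCentre Q zQ) (hne : zP ≠ zQ) :
    (∀ x ∈ P, ∀ y ∈ Q, x * y = y * x) ∧ P ⊓ Q = ⊥ ∧
      ∀ x ∈ T, (∀ y ∈ P, x * y = y * x) → (∀ y ∈ Q, x * y = y * x) → x ∈ P ⊔ Q := by
  have hnormP : (((P ⊓ Q) : Subgroup S).subgroupOf P).Normal := ⟨fun n hn g =>
    Subgroup.mem_inf.2 ⟨mul_mem (mul_mem g.2 hn.1) (inv_mem g.2), hQn g (hPT g.2) n hn.2⟩⟩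
  have hnormQ : (((P ⊓ Q) : Subgroup S).subgroupOf Q).Normal := ⟨fun n hn g =>
    Subgroup.mem_inf.2 ⟨hPn g (hQT g.2) n hn.1, mul_mem (mul_mem g.2 hn.2) (inv_mem g.2)⟩⟩
  have hdisj : P ⊓ Q = ⊥ := by
    by_contra hne0
    obtain ⟨w, hw, hw1⟩ := (Subgroup.bot_or_exists_ne_one (P ⊓ Q)).resolve_left hne0
    have hnP : ((P ⊓ Q : Subgroup S).subgroupOf P) ≠ ⊥ := fun e => hw1 (by
      have : (⟨w, hw.1⟩ : ↥P) ∈ (P ⊓ Q : Subgroup S).subgroupOf P := hw
      rw [e, Subgroup.mem_bot] at this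
      exact congrArg Subtype.val this)
    obtain ⟨c, hc, hc1, hcc⟩ := exists_central (h2.to_subgroup P) _ hnP
    have hzPQ : zP ∈ Q := by
      rcases hP.2.2.2.2 c c.2 (fun x hx => congrArg Subtype.val (hcc ⟨x, hx⟩)) with e | e
      · exact absurd (Subtype.ext e) hc1
      · rw [← e]; exact hc.2
    have hzc : ∀ q ∈ Q, q * zP = zP * q := by
      intro q hq
      have hm : q * zP * q⁻¹ ∈ P := hPn q (hQT hq) zP hP.2.1
      have hcent : ∀ x ∈ P, x * (q * zP * q⁻¹) = q * zP * q⁻¹ * x := by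
        intro x hx
        have hx' : q⁻¹ * x * q ∈ P := by
          simpa using hPn q⁻¹ (inv_mem (hQT hq)) x hx
        calc x * (q * zP * q⁻¹) = q * ((q⁻¹ * x * q) * zP) * q⁻¹ := by group
          _ = q * (zP * (q⁻¹ * x * q)) * q⁻¹ := by rw [hP.2.2.2.1 _ hx']
          _ = q * zP * q⁻¹ * x := by group
      rcases hP.2.2.2.2 _ hm hcent with e | e
      · exact absurd (conj_eq_one_iff.1 e) hP.2.2.1
      · exact mul_inv_eq_iff_eq_mul.1 e
    rcases hQ.2.2.2.2 zP hzPQ hzc with e | e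
    · exact hP.2.2.1 e
    · exact hne e
  have hcomm : ∀ x ∈ P, ∀ y ∈ Q, x * y = y * x := by
    intro x hx y hy
    have : x * y * x⁻¹ * y⁻¹ ∈ P ⊓ Q := Subgroup.mem_inf.2 ⟨by
        have := mul_mem hx (hPn y (hQT hy) x⁻¹ (inv_mem hx))
        simpa [mul_assoc] using this,
      mul_mem (hQn x (hPT hx) y hy) (inv_mem hy)⟩
    rw [hdisj, Subgroup.mem_bot, mul_inv_eq_one, mul_inv_eq_iff_eq_mul] at this
    exact this
  refine ⟨hcomm, hdisj, ?_⟩
  by_contra hcon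
  push Not at hcon
  obtain ⟨x₀, hx₀T, hx₀P, hx₀Q, hx₀⟩ := hcon
  -- an element whose square lies in `P ⊔ Q`
  obtain ⟨x, hxP, hxQ, hxPQ, hx2⟩ : ∃ x, (∀ y ∈ P, x * y = y * x) ∧ (∀ y ∈ Q, x * y = y * x) ∧
      x ∉ P ⊔ Q ∧ x ^ 2 ∈ P ⊔ Q := by
    classical
    obtain ⟨k, hk⟩ := h2 x₀
    have hex : ∃ j, x₀ ^ 2 ^ j ∈ P ⊔ Q := ⟨k, hk ▸ one_mem _⟩
    obtain ⟨j, hj⟩ : ∃ j, Nat.find hex = j + 1 := Nat.exists_eq_succ_of_ne_zero fun e => hx₀ (by
      have := Nat.find_spec hex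
      rwa [e, pow_zero, pow_one] at this)
    refine ⟨x₀ ^ 2 ^ j, fun y hy => (Commute.pow_left (hx₀P y hy) _).eq,
      fun y hy => (Commute.pow_left (hx₀Q y hy) _).eq, Nat.find_min hex (by omega), ?_⟩
    rw [← pow_mul, ← pow_succ, ← hj]
    exact Nat.find_spec hex
  obtain ⟨hzPf, hcP, -⟩ := phi_facts h2 hP
  obtain ⟨hzQf, hcQ, -⟩ := phi_facts h2 hQ
  have hΦP : Phi P ≤ P := Subgroup.map_subtype_le _
  have hΦQ : Phi Q ≤ Q := Subgroup.map_subtype_le _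
  obtain ⟨hcardPQ, hmem⟩ := card_sup_of_commute P Q hcomm hdisj
  obtain ⟨hcardΦ, -⟩ := card_sup_of_commute (Phi P) (Phi Q)
    (fun a ha b hb => hcomm a (hΦP ha) b (hΦQ hb))
    (eq_bot_iff.2 (hdisj ▸ inf_le_inf hΦP hΦQ))
  set N := Phi P ⊔ Phi Q with hNdef
  set U := P ⊔ Q ⊔ Subgroup.zpowers x with hUdef
  have hxsq : x ^ 2 ∈ N := by
    obtain ⟨a, ha, b, hb, e⟩ := hmem _ hx2
    have hac : ∀ w ∈ P, w * a = a * w := fun w hw => by
      have h1 : Commute w (x ^ 2) := Commute.pow_right (hxP w hw).symm 2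
      have h2' : Commute w b := hcomm w hw b hb
      have := h1.mul_right h2'.inv_right
      rwa [e, mul_inv_cancel_right] at this
    have hbc : ∀ w ∈ Q, w * b = b * w := fun w hw => by
      have h1 : Commute w (x ^ 2) := Commute.pow_right (hxQ w hw).symm 2
      have h2' : Commute w a := (hcomm a ha w hw : Commute a w).symm
      have := h2'.inv_right.mul_right h1
      rwa [e, inv_mul_cancel_left] at this
    rw [e]
    refine mul_mem (Subgroup.mem_sup_left ?_) (Subgroup.mem_sup_right ?_)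
    · rcases hP.2.2.2.2 a ha hac with rfl | rfl
      · exact one_mem _
      · exact hzPf
    · rcases hQ.2.2.2.2 b hb hbc with rfl | rfl
      · exact one_mem _
      · exact hzQf
  -- every element of `U` is `a * b * x ^ j`
  have hUmem : ∀ u ∈ U, ∃ a ∈ P, ∃ b ∈ Q, ∃ j : ℤ, u = a * b * x ^ j := by
    intro u hu
    let W : Subgroup S :=
      { carrier := {u | ∃ a ∈ P, ∃ b ∈ Q, ∃ j : ℤ, u = a * b * x ^ j}
        one_mem' := ⟨1, one_mem _, 1, one_mem _, 0, by simp⟩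
        mul_mem' := by
          rintro _ _ ⟨a, ha, b, hb, j, rfl⟩ ⟨a', ha', b', hb', j', rfl⟩
          refine ⟨a * a', mul_mem ha ha', b * b', mul_mem hb hb', j + j', ?_⟩
          have c1 : Commute (x ^ j) (a' * b') :=
            (Commute.mul_right (hxP a' ha') (hxQ b' hb') : Commute x (a' * b')).zpow_left j
          have c2 : Commute b a' := (hcomm a' ha' b hb : Commute a' b).symm
          calc a * b * x ^ j * (a' * b' * x ^ j') = a * b * (x ^ j * (a' * b')) * x ^ j' := by group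
            _ = a * (b * a') * b' * (x ^ j * x ^ j') := by rw [c1.eq]; group
            _ = _ := by rw [c2.eq, zpow_add]; group
        inv_mem' := by
          rintro _ ⟨a, ha, b, hb, j, rfl⟩
          refine ⟨a⁻¹, inv_mem ha, b⁻¹, inv_mem hb, -j, ?_⟩
          have c1 : Commute (x ^ (-j)) (b⁻¹ * a⁻¹) := (Commute.mul_right (hxQ _ (inv_mem hb))
            (hxP _ (inv_mem ha)) : Commute x (b⁻¹ * a⁻¹)).zpow_left (-j)
          have c2 : Commute b⁻¹ a⁻¹ := (hcomm _ (inv_mem ha) _ (inv_mem hb) : Commute a⁻¹ b⁻¹).symm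
          rw [mul_inv_rev, mul_inv_rev, ← zpow_neg, c1.eq, c2.eq] }
    have hle : U ≤ W := sup_le (sup_le (fun a ha => ⟨a, ha, 1, one_mem _, 0, by simp⟩)
      (fun b hb => ⟨1, one_mem _, b, hb, 0, by simp⟩))
      ((Subgroup.zpowers_le).2 ⟨1, one_mem _, 1, one_mem _, 1, by simp⟩)
    exact hle hu
  have hp : Fact (Nat.Prime 2) := ⟨Nat.prime_two⟩
  have hsqP : ∀ a ∈ P, a ^ 2 ∈ Phi P := fun a ha =>
    ⟨_, Solv.pow_mem_frattini (h2.to_subgroup P) ⟨a, ha⟩, rfl⟩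
  have hsqQ : ∀ a ∈ Q, a ^ 2 ∈ Phi Q := fun a ha =>
    ⟨_, Solv.pow_mem_frattini (h2.to_subgroup Q) ⟨a, ha⟩, rfl⟩
  have hcP' : ∀ a ∈ P, ∀ b ∈ P, a * b * a⁻¹ * b⁻¹ ∈ Phi P := fun a ha b hb =>
    ⟨_, Solv.commutatorElement_mem_frattini (h2.to_subgroup P) ⟨a, ha⟩ ⟨b, hb⟩, rfl⟩
  have hcQ' : ∀ a ∈ Q, ∀ b ∈ Q, a * b * a⁻¹ * b⁻¹ ∈ Phi Q := fun a ha b hb =>
    ⟨_, Solv.commutatorElement_mem_frattini (h2.to_subgroup Q) ⟨a, ha⟩ ⟨b, hb⟩, rfl⟩
  have hconjP : ∀ g ∈ P, ∀ n ∈ Phi P, g * n * g⁻¹ ∈ Phi P := fun g hg n hn => by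
    obtain ⟨n, hn, rfl⟩ := hn
    exact ⟨_, Subgroup.Normal.conj_mem inferInstance n hn ⟨g, hg⟩, rfl⟩
  have hconjQ : ∀ g ∈ Q, ∀ n ∈ Phi Q, g * n * g⁻¹ ∈ Phi Q := fun g hg n hn => by
    obtain ⟨n, hn, rfl⟩ := hn
    exact ⟨_, Subgroup.Normal.conj_mem inferInstance n hn ⟨g, hg⟩, rfl⟩
  have hfix : ∀ (a b : S), a ∈ P → b ∈ Q → ∀ (j : ℤ) (n : S), n ∈ N →
      a * b * x ^ j * n * (a * b * x ^ j)⁻¹ ∈ N := by
    intro a b ha hb j n hn
    obtain ⟨m, hm, l, hl, rfl⟩ := (card_sup_of_commute (Phi P) (Phi Q)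
      (fun a ha b hb => hcomm a (hΦP ha) b (hΦQ hb))
      (eq_bot_iff.2 (hdisj ▸ inf_le_inf hΦP hΦQ))).2 n hn
    have cx : Commute (x ^ j) (m * l) :=
      (Commute.mul_right (hxP m (hΦP hm)) (hxQ l (hΦQ hl)) : Commute x (m * l)).zpow_left j
    have cb : Commute b m := (hcomm m (hΦP hm) b hb : Commute m b).symm
    have ca : Commute a (b * l * b⁻¹) := hcomm a ha _ (mul_mem (mul_mem hb (hΦQ hl)) (inv_mem hb))
    have e : a * b * x ^ j * (m * l) * (a * b * x ^ j)⁻¹ = (a * m * a⁻¹) * (b * l * b⁻¹) := by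
      calc a * b * x ^ j * (m * l) * (a * b * x ^ j)⁻¹
          = a * b * (x ^ j * (m * l)) * (x ^ j)⁻¹ * b⁻¹ * a⁻¹ := by group
        _ = a * (b * m) * l * b⁻¹ * a⁻¹ := by rw [cx.eq]; group
        _ = a * m * ((b * l * b⁻¹) * a⁻¹) := by rw [cb.eq]; group
        _ = _ := by rw [← ca.inv_left.eq]; group
    rw [e]
    exact mul_mem (Subgroup.mem_sup_left (hconjP a ha m hm)) (Subgroup.mem_sup_right (hconjQ b hb l hl))
  have key := card_le_of_rank hr U N (sup_le (hΦP.trans (le_sup_left.trans le_sup_left))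
    (hΦQ.trans (le_sup_right.trans le_sup_left))) (fun u hu n hn => by
      obtain ⟨a, ha, b, hb, j, rfl⟩ := hUmem u hu
      exact hfix a b ha hb j n hn) (fun u hu v hv => by
      obtain ⟨a, ha, b, hb, j, rfl⟩ := hUmem u hu
      obtain ⟨a', ha', b', hb', j', rfl⟩ := hUmem v hv
      have cx : ∀ (i : ℤ) (a b : S), a ∈ P → b ∈ Q → Commute (x ^ i) (a * b) := fun i a b ha hb =>
        (Commute.mul_right (hxP a ha) (hxQ b hb) : Commute x (a * b)).zpow_left i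
      have cab : Commute b a' := (hcomm a' ha' b hb : Commute a' b).symm
      have cab2 : Commute a⁻¹ (b * b' * b⁻¹) := hcomm _ (inv_mem ha) _ (mul_mem (mul_mem hb hb') (inv_mem hb))
      have cab3 : Commute a'⁻¹ (b * b' * b⁻¹ * b'⁻¹) :=
        hcomm _ (inv_mem ha') _ (mul_mem (mul_mem (mul_mem hb hb') (inv_mem hb)) (inv_mem hb'))
      have e : a * b * x ^ j * (a' * b' * x ^ j') * (a * b * x ^ j)⁻¹ * (a' * b' * x ^ j')⁻¹ =
          (a * a' * a⁻¹ * a'⁻¹) * (b * b' * b⁻¹ * b'⁻¹) := by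
        calc a * b * x ^ j * (a' * b' * x ^ j') * (a * b * x ^ j)⁻¹ * (a' * b' * x ^ j')⁻¹
            = a * b * (x ^ j * (a' * b')) * (x ^ j)⁻¹ * (x ^ j') * (a * b)⁻¹ * (x ^ j')⁻¹ *
              (a' * b')⁻¹ := by group
          _ = a * b * (a' * b') * ((x ^ j') * (a * b)⁻¹) * (x ^ j')⁻¹ * (a' * b')⁻¹ := by
              rw [(cx j a' b' ha' hb').eq]; group
          _ = a * (b * a') * b' * b⁻¹ * a⁻¹ * b'⁻¹ * a'⁻¹ := by
              rw [((cx j' a b ha hb).inv_right).eq]; group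
          _ = a * a' * ((b * b' * b⁻¹) * a⁻¹) * b'⁻¹ * a'⁻¹ := by rw [cab.eq]; group
          _ = a * a' * a⁻¹ * ((b * b' * b⁻¹ * b'⁻¹) * a'⁻¹) := by rw [← cab2.eq]; group
          _ = _ := by rw [← cab3.eq]; group
      rw [e]
      exact mul_mem (Subgroup.mem_sup_left (hcP' a ha a' ha')) (Subgroup.mem_sup_right (hcQ' b hb b' hb'))) (fun u hu => by
      obtain ⟨a, ha, b, hb, j, rfl⟩ := hUmem u hu
      have c1 : Commute (a * b) (x ^ j) :=
        ((Commute.mul_right (hxP a ha) (hxQ b hb) : Commute x (a * b)).zpow_left j).symm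
      rw [c1.mul_pow, Commute.mul_pow (hcomm a ha b hb)]
      refine mul_mem (mul_mem (Subgroup.mem_sup_left (hsqP a ha)) (Subgroup.mem_sup_right (hsqQ b hb))) ?_
      rw [← zpow_natCast, ← zpow_mul, mul_comm, zpow_mul, zpow_natCast]
      exact zpow_mem hxsq j)
  have hlt : P ⊔ Q < U := lt_of_le_of_ne le_sup_left fun e =>
    hxPQ (e ▸ Subgroup.mem_sup_right (Subgroup.mem_zpowers x))
  have h1 : 2 * (Nat.card ↥P * Nat.card ↥Q) ≤ Nat.card ↥U := by
    rw [← hcardPQ]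
    obtain ⟨d, hd⟩ := Subgroup.card_dvd_of_le hlt.le
    rw [hd, mul_comm 2]
    refine Nat.mul_le_mul_left _ ?_
    by_contra h
    rcases (show d = 0 ∨ d = 1 by omega) with rfl | rfl
    · rw [mul_zero] at hd; exact absurd hd Nat.card_pos.ne'
    · exact hlt.ne (Subgroup.eq_of_le_of_card_ge hlt.le (by rw [hd, mul_one]))
  have h2' := Nat.mul_le_mul hcP hcQ
  rw [hNdef, hcardΦ] at key
  have hpos : 0 < Nat.card ↥(Phi P) * Nat.card ↥(Phi Q) := Nat.mul_pos Nat.card_pos Nat.card_pos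
  nlinarith

end Cfsg.Agent.Perm.SectionalFour
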