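import Cfsg.Agent.Lib.Perm.System
import Cfsg.Agent.Lib.Solv.ClassPow
import Cfsg.Agent.Lib.Solv.Parts
import Cfsg.Agent.Lib.Solv.Frobenius

/-!
Groups whose two largest conjugacy class sizes are coprime: the centralizers of the corresponding
elements are abelian and the group is Frobenius modulo its centre.
-/

set_option autoImplicit false

open scoped Pointwise

namespace Cfsg.Agent.Perm.CoprimeSizes

variable {G : Type*} [Group G]

/-- Centralizer of an element. -/
abbrev cent (g : G) : Subgroup G := Subgroup.centralizer ({g} : Set G)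

/-- Size of the class of an element. -/
noncomputable abbrev cls (g : G) : ℕ := (cent g).index

/-- Conjugacy class as a set. -/
abbrev Cl (g : G) : Set G := (ConjClasses.mk g).carrier

theorem mem_cent {g h : G} : h ∈ cent g ↔ h * g = g * h := by
  simp [Subgroup.mem_centralizer_iff, eq_comm]

theorem mem_cent_comm {g h : G} : h ∈ cent g ↔ g ∈ cent h := by
  rw [mem_cent, mem_cent, eq_comm]

theorem self_mem_cent (g : G) : g ∈ cent g := mem_cent.2 rfl

theorem cent_conj_mem {g h k : G} : k ∈ cent (g * h * g⁻¹) ↔ g⁻¹ * k * g ∈ cent h := by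
  rw [mem_cent, mem_cent]
  constructor
  · intro e
    calc g⁻¹ * k * g * h = g⁻¹ * (k * (g * h * g⁻¹)) * g := by group
      _ = h * (g⁻¹ * k * g) := by rw [e]; group
  · intro e
    calc k * (g * h * g⁻¹) = g * (g⁻¹ * k * g * h) * g⁻¹ := by group
      _ = g * h * g⁻¹ * k := by rw [e]; group

theorem mem_Cl {g w : G} : w ∈ Cl g ↔ ∃ h : G, h * g * h⁻¹ = w := by
  rw [ConjClasses.mem_carrier_iff_mk_eq, ConjClasses.mk_eq_mk_iff_isConj, isConj_comm, isConj_iff]

theorem self_mem_Cl (g : G) : g ∈ Cl g := ConjClasses.mem_carrier_mk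

theorem conj_mem_Cl {g w : G} (h : G) (hw : w ∈ Cl g) : h * w * h⁻¹ ∈ Cl g := by
  obtain ⟨k, rfl⟩ := mem_Cl.1 hw
  exact mem_Cl.2 ⟨h * k, by group⟩

section Fin
variable [Finite G]

theorem ncard_Cl (g : G) : (Cl g).ncard = cls g := Solv.class_ncard g

theorem cls_conj (g h : G) : cls (h * g * h⁻¹) = cls g := by
  have e : ConjClasses.mk (h * g * h⁻¹) = ConjClasses.mk g :=
    ConjClasses.mk_eq_mk_iff_isConj.2 (isConj_comm.1 (isConj_iff.2 ⟨h, rfl⟩))
  rw [← ncard_Cl, ← ncard_Cl]
  unfold Cl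
  rw [e]

theorem cls_pos (g : G) : 0 < cls g := Nat.pos_of_ne_zero Subgroup.index_ne_zero_of_finite

theorem cent_eq_of_le {a b : G} (hle : cent a ≤ cent b) (h : cls b = cls a) : cent b = cent a := by
  refine le_antisymm ?_ hle
  have h1 := Subgroup.relIndex_mul_index hle
  rw [show (cent b).index = (cent a).index from h, ← one_mul (cent a).index, ← mul_assoc, mul_one]
    at h1
  exact Subgroup.relIndex_eq_one.1
    (Nat.eq_of_mul_eq_mul_right (cls_pos a) h1)

omit [Finite G] in
theorem cls_eq_one_iff {g : G} : cls g = 1 ↔ g ∈ Subgroup.center G := by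
  rw [Subgroup.index_eq_one, Subgroup.mem_center_iff, eq_top_iff]
  exact ⟨fun h k => mem_cent.1 (h (Subgroup.mem_top k)), fun h k _ => mem_cent.2 (h k)⟩

/-- The left stabilizer of a set. -/
def stab (S : Set G) : Subgroup G where
  carrier := {t | ∀ s ∈ S, t * s ∈ S}
  one_mem' := fun s hs => by rwa [one_mul]
  mul_mem' := fun ha hb s hs => by rw [mul_assoc]; exact ha _ (hb s hs)
  inv_mem' := fun {t} ht s hs => by
    have hk : ∀ k : ℕ, t ^ k * s ∈ S := fun k => by
      induction k with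
      | zero => rwa [pow_zero, one_mul]
      | succ k ih => rw [pow_succ', mul_assoc]; exact ht _ ih
    have e : t⁻¹ = t ^ (orderOf t - 1) := inv_eq_of_mul_eq_one_right (by
      rw [← pow_succ', Nat.sub_add_cancel (orderOf_pos t), pow_orderOf_eq_one])
    rw [e]; exact hk _

theorem mem_stab {S : Set G} {t : G} : t ∈ stab S ↔ ∀ s ∈ S, t * s ∈ S := Iff.rfl

theorem card_stab_dvd (S : Set G) : Nat.card (stab S) ∣ S.ncard := by
  set S' : Set G := (fun s => s⁻¹) '' S
  have hS' : S'.ncard = S.ncard := Set.ncard_image_of_injective S inv_injective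
  have hpre : QuotientGroup.mk ⁻¹' ((QuotientGroup.mk : G → G ⧸ stab S) '' S') = S' := by
    refine Set.Subset.antisymm ?_ (Set.subset_preimage_image _ _)
    rintro a ⟨_, ⟨s, hs, rfl⟩, hb⟩
    rw [QuotientGroup.eq] at hb
    refine ⟨(s⁻¹⁻¹ * a)⁻¹ * s, mem_stab.1 (inv_mem hb) s hs, ?_⟩
    group
  rw [← hS', ← Nat.card_coe_set_eq, ← hpre,
    Nat.card_congr (QuotientGroup.preimageMkEquivSubgroupProdSet _ _), Nat.card_prod]
  exact dvd_mul_right _ _

/-- The left stabilizer of the class of `g`. -/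
abbrev stb (g : G) : Subgroup G := stab (Cl g)

instance stb_normal (g : G) : (stb g).Normal := ⟨fun t ht k s hs => by
  have h1 := conj_mem_Cl k⁻¹ hs
  have h2 := conj_mem_Cl k (mem_stab.1 ht _ h1)
  convert h2 using 1
  group⟩

theorem card_stb_dvd (g : G) : Nat.card (stb g) ∣ cls g :=
  ncard_Cl g ▸ card_stab_dvd (Cl g)

theorem exists_conj_mul {z w : G} (hcop : (cls z).Coprime (cls w)) {z' w' : G} (hz : z' ∈ Cl z)
    (hw : w' ∈ Cl w) : z' * w' ∈ Cl (z * w) := by
  obtain ⟨g, rfl⟩ := mem_Cl.1 hz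
  obtain ⟨h, rfl⟩ := mem_Cl.1 hw
  obtain ⟨a, ha, b, hb, hab⟩ := Perm.mul_of_coprime_index hcop (g⁻¹ * h)
  have h' : h = g * a * b := by rw [mul_assoc, ← hab]; group
  refine mem_Cl.2 ⟨g * a, ?_⟩
  have e1 : a * z = z * a := mem_cent.1 ha
  have e2 : b * w = w * b := mem_cent.1 hb
  rw [h']
  calc g * a * (z * w) * (g * a)⁻¹ = g * (a * z) * w * a⁻¹ * g⁻¹ := by group
    _ = g * z * a * w * a⁻¹ * g⁻¹ := by rw [e1]; group
    _ = g * z * a * (w * b) * b⁻¹ * a⁻¹ * g⁻¹ := by group
    _ = g * z * g⁻¹ * (g * a * b * w * (g * a * b)⁻¹) := by rw [← e2]; group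

theorem cls_mul_dvd {z w : G} (hcop : (cls z).Coprime (cls w)) : cls (z * w) ∣ cls z * cls w := by
  rw [cls, cls, cls, ← Perm.index_inf_of_coprime hcop]
  refine Subgroup.index_dvd_of_le fun a ha => mem_cent.2 ?_
  have e1 : a * z = z * a := mem_cent.1 ha.1
  have e2 : a * w = w * a := mem_cent.1 ha.2
  rw [← mul_assoc, e1, mul_assoc, e2, ← mul_assoc]

theorem le_cls_mul_right {z w : G} (hcop : (cls z).Coprime (cls w)) : cls w ≤ cls (z * w) := by
  rw [← ncard_Cl w, ← ncard_Cl, ← Set.ncard_image_of_injective (Cl w) (mul_right_injective z)]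
  exact Set.ncard_le_ncard (Set.image_subset_iff.2 fun s hs =>
    exists_conj_mul hcop (self_mem_Cl z) hs)

theorem le_cls_mul_left {z w : G} (hcop : (cls z).Coprime (cls w)) : cls z ≤ cls (z * w) := by
  rw [← ncard_Cl z, ← ncard_Cl, ← Set.ncard_image_of_injective (Cl z) (mul_left_injective w)]
  exact Set.ncard_le_ncard (Set.image_subset_iff.2 fun s hs =>
    exists_conj_mul hcop hs (self_mem_Cl w))

theorem mem_stb_of_le {z w : G} (hcop : (cls z).Coprime (cls w)) (hle : cls (z * w) ≤ cls w)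
    (g : G) : z⁻¹ * (g * z * g⁻¹) ∈ stb w := by
  intro s hs
  have hM : (fun t => z * t) '' Cl w = Cl (z * w) := by
    refine Set.eq_of_subset_of_ncard_le (Set.image_subset_iff.2 fun t ht =>
      exists_conj_mul hcop (self_mem_Cl z) ht) ?_
    rw [Set.ncard_image_of_injective _ (mul_right_injective z), ncard_Cl, ncard_Cl]
    exact hle
  have h1 : g * z * g⁻¹ * s ∈ Cl (z * w) :=
    exists_conj_mul hcop (mem_Cl.2 ⟨g, rfl⟩) hs
  rw [← hM] at h1
  obtain ⟨s', hs', e⟩ := h1
  have : z⁻¹ * (g * z * g⁻¹) * s = s' := by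
    rw [mul_assoc, ← e, inv_mul_cancel_left]
  rwa [this]

theorem cent_mul_of_coprime {a b : G} (hab : a * b = b * a) (hco : (orderOf a).Coprime (orderOf b)) :
    cent (a * b) = cent a ⊓ cent b := by
  refine le_antisymm (fun g hg => ?_) fun g hg => mem_cent.2 ?_
  · have hc : Commute g (a * b) := mem_cent.1 hg
    obtain ⟨i, hi⟩ := exists_pow_eq_self_of_coprime hco.symm
    have e : (a * b) ^ orderOf b = a ^ orderOf b := by
      rw [(show Commute a b from hab).mul_pow, pow_orderOf_eq_one, mul_one]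
    have h1 : Commute g a := by
      rw [← hi, ← e]; exact (hc.pow_right _).pow_right _
    refine ⟨mem_cent.2 h1, mem_cent.2 ?_⟩
    have h2 := (h1.inv_right).mul_right hc
    rw [inv_mul_cancel_left] at h2
    exact h2
  · have e1 : g * a = a * g := mem_cent.1 hg.1
    have e2 : g * b = b * g := mem_cent.1 hg.2
    rw [← mul_assoc, e1, mul_assoc, e2, ← mul_assoc]

end Fin

/-- The subgroup generated by the commutators `x⁻¹ * x^g`. -/
def gens (x : G) : Subgroup G := Subgroup.closure (Set.range fun g => x⁻¹ * (g * x * g⁻¹))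

theorem mem_gens (x g : G) : x⁻¹ * (g * x * g⁻¹) ∈ gens x := Subgroup.subset_closure ⟨g, rfl⟩

instance gens_normal (x : G) : (gens x).Normal := ⟨fun t ht k => by
  induction ht using Subgroup.closure_induction with
  | mem t ht =>
    obtain ⟨g, rfl⟩ := ht
    have h := mul_mem (inv_mem (mem_gens x k)) (mem_gens x (k * g))
    convert h using 1
    group
  | one => simp
  | mul a b _ _ ha hb =>
    have h := mul_mem ha hb
    convert h using 1
    group
  | inv a _ ha =>
    have h := inv_mem ha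
    convert h using 1
    group⟩

theorem exists_fixed_mul [Finite G] {x : G} {B Zs N : Subgroup G} [N.Normal] (hN : IsMulCommutative N)
    (hx : ∀ c ∈ B, x⁻¹ * (c * x * c⁻¹) ∈ N) (hZ : ∀ z ∈ Zs, z * x = x * z) (hZB : Zs ≤ B)
    (hcop : (Nat.card N).Coprime (Zs.relIndex B)) : ∃ v ∈ N, ∀ c ∈ B, c * (x * v) = x * v * c := by
  classical
  letI : CommGroup N := { (inferInstance : Group N) with mul_comm := hN.is_comm.comm }
  set Q := B ⧸ Zs.subgroupOf B
  haveI : Fintype Q := Fintype.ofFinite Q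
  let f : B → N := fun c => ⟨x⁻¹ * ((c : G) * x * (c : G)⁻¹), hx c c.2⟩
  let ψ : B → N →* N := fun c => (MulAut.conjNormal (c : G)).toMonoidHom
  have hf : ∀ c d : B, f (c * d) = f c * ψ c (f d) := fun c d => Subtype.ext (by
    simp only [f, ψ, MulEquiv.coe_toMonoidHom, Subgroup.coe_mul, MulAut.conjNormal_apply]
    group)
  let F : Q → N := fun q => f q.out
  have hF : ∀ d : B, F (QuotientGroup.mk d) = f d := fun d => by
    obtain ⟨z, hz⟩ := QuotientGroup.mk_out_eq_mul (Zs.subgroupOf B) d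
    refine Subtype.ext ?_
    simp only [F, f, hz, Subgroup.coe_mul]
    have e : ((z : B) : G) * x = x * ((z : B) : G) := hZ _ z.2
    calc x⁻¹ * ((d : G) * ((z : B) : G) * x * ((d : G) * ((z : B) : G))⁻¹) =
          x⁻¹ * ((d : G) * (((z : B) : G) * x) * ((z : B) : G)⁻¹ * (d : G)⁻¹) := by group
      _ = x⁻¹ * ((d : G) * x * (d : G)⁻¹) := by rw [e]; group
  let P := ∏ q, F q
  have hQ : Fintype.card Q = Zs.relIndex B := (Nat.card_eq_fintype_card).symm
  set e := powCoprime (G := N) hcop
  obtain ⟨r, hr⟩ := e.surjective P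
  have hr' : r ^ Zs.relIndex B = P := hr
  refine ⟨r, r.2, fun c hc => ?_⟩
  set C : B := ⟨c, hc⟩
  have h1 : P = f C ^ Zs.relIndex B * ψ C P := by
    have h2 : ∏ q : Q, F (C • q) = P := Fintype.prod_equiv (MulAction.toPerm C) _ _ fun q => rfl
    have h3 : ∀ q : Q, F (C • q) = f C * ψ C (F q) := fun q => by
      induction q using QuotientGroup.induction_on with
      | H d => rw [show C • (QuotientGroup.mk d : Q) = QuotientGroup.mk (C * d) from rfl, hF, hF, hf]
    rw [Finset.prod_congr rfl fun q _ => h3 q, Finset.prod_mul_distrib, Finset.prod_const,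
      Finset.card_univ, hQ, ← map_prod] at h2
    exact h2.symm
  rw [← hr', map_pow, ← mul_pow] at h1
  have h4 : r = f C * ψ C r := e.injective h1
  have h5 : (r : G) = x⁻¹ * (c * x * c⁻¹) * (c * (r : G) * c⁻¹) := by
    have := congrArg Subtype.val h4
    simpa [f, ψ, C, MulAut.conjNormal_apply] using this
  calc c * (x * (r : G)) = x * (x⁻¹ * (c * x * c⁻¹) * (c * (r : G) * c⁻¹)) * c := by group
    _ = x * (r : G) * c := by rw [← h5]

/-- `x` and `y` have coprime class sizes `n < m`, every other class size being `m` or at most `n`. -/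
structure Hyp (m n : ℕ) (x y : G) : Prop where
  lt : n < m
  one_lt : 1 < n
  cop : m.Coprime n
  top : ∀ g : G, cls g ≤ m
  two : ∀ g : G, cls g = m ∨ cls g ≤ n
  hx : cls x = n
  hy : cls y = m

section Main
variable [Finite G] {m n : ℕ} {x y : G}

theorem Hyp.change (h : Hyp m n x y) {b : G} (hb : cls b = m) : Hyp m n x b := { h with hy := hb }

theorem Hyp.cop' (h : Hyp m n x y) : (cls x).Coprime (cls y) := by
  rw [h.hx, h.hy]; exact h.cop.symm

theorem Hyp.mx (h : Hyp m n x y) (g : G) : x⁻¹ * (g * x * g⁻¹) ∈ stb y :=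
  mem_stb_of_le h.cop' (h.hy.symm ▸ h.top _) g

theorem Hyp.p1 (h : Hyp m n x y) {z : G} (hz : (cls z).Coprime n) : cls z = 1 ∨ cls z = m := by
  rcases h.two z with h1 | h1
  · exact Or.inr h1
  · left
    have hzx : (cls z).Coprime (cls x) := by rw [h.hx]; exact hz
    have hle : cls (z * x) ≤ cls x := by
      rcases h.two (z * x) with h2 | h2
      · exfalso
        have h3 : m ∣ cls z * cls x := h2 ▸ cls_mul_dvd hzx
        rw [h.hx] at h3
        have h4 := Nat.le_of_dvd (cls_pos z) (h.cop.dvd_of_dvd_mul_right h3)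
        have := h.lt
        omega
      · rwa [h.hx]
    rw [cls_eq_one_iff, Subgroup.mem_center_iff]
    intro g
    have ht := mem_stb_of_le hzx hle g
    set t := z⁻¹ * (g * z * g⁻¹) with htdef
    obtain ⟨k, hk⟩ := mem_Cl.1 (mem_stab.1 ht x (self_mem_Cl x))
    have h1 : x⁻¹ * (t * x) ∈ stb y := hk ▸ h.mx k
    have h2 : t ∈ stb y := by
      have := (stb_normal y).conj_mem _ h1 x
      convert this using 1
      group
    have h3 : orderOf t = 1 := by
      refine Nat.eq_one_of_dvd_coprimes h.cop ?_ ?_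
      · exact (Subgroup.orderOf_dvd_natCard _ h2).trans (h.hy ▸ card_stb_dvd y)
      · exact (Subgroup.orderOf_dvd_natCard _ ht).trans (h.hx ▸ card_stb_dvd x)
    rw [orderOf_eq_one_iff, htdef, inv_mul_eq_one] at h3
    calc g * z = g * z * g⁻¹ * g := by group
      _ = z * g := by rw [← h3]

theorem Hyp.stb_le (h : Hyp m n x y) {c : G} (hc : cls c ∣ n) : stb y ≤ cent c := by
  refine Solv.normal_le_of_coprime_index _ _ ?_
  exact Nat.Coprime.coprime_dvd_left (h.hy ▸ card_stb_dvd y) (h.cop.coprime_dvd_right hc)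

theorem Hyp.gens_le (h : Hyp m n x y) : gens x ≤ stb y :=
  (Subgroup.closure_le _).2 (by rintro _ ⟨g, rfl⟩; exact h.mx g)

theorem Hyp.card_gens_dvd (h : Hyp m n x y) : Nat.card (gens x) ∣ m :=
  (Subgroup.card_dvd_of_le h.gens_le).trans (h.hy ▸ card_stb_dvd y)

theorem Hyp.gens_coprime (h : Hyp m n x y) : (Nat.card (gens x)).Coprime n :=
  h.cop.coprime_dvd_left h.card_gens_dvd

theorem Hyp.gens_le_centx (h : Hyp m n x y) : gens x ≤ cent x :=
  h.gens_le.trans (h.stb_le h.hx.dvd)

theorem Hyp.gens_comm (h : Hyp m n x y) : IsMulCommutative (gens x) := by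
  have hx1 : ∀ t ∈ stb y, t * x = x * t := fun t ht => mem_cent.1 (h.stb_le h.hx.dvd ht)
  have hx2 : ∀ t ∈ stb y, ∀ g, t * (g * x * g⁻¹) = g * x * g⁻¹ * t := fun t ht g =>
    mem_cent.1 (cent_conj_mem.2 (h.stb_le h.hx.dvd (by
      have := (stb_normal y).conj_mem t ht g⁻¹
      rwa [inv_inv] at this)))
  have h1 : gens x ≤ Subgroup.centralizer (gens x : Set G) := by
    refine (Subgroup.closure_le _).2 ?_
    rintro _ ⟨g, rfl⟩
    rw [SetLike.mem_coe, Subgroup.mem_centralizer_iff]
    intro t ht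
    have ht' := h.gens_le ht
    calc t * (x⁻¹ * (g * x * g⁻¹)) = x⁻¹ * (x * t) * (x⁻¹ * (g * x * g⁻¹)) := by group
      _ = x⁻¹ * (t * (g * x * g⁻¹)) := by rw [← hx1 t ht']; group
      _ = x⁻¹ * (g * x * g⁻¹) * t := by rw [hx2 t ht' g, ← mul_assoc]
  exact ⟨⟨fun a b => Subtype.ext (Subgroup.mem_centralizer_iff.1 (h1 b.2) _ a.2)⟩⟩

theorem Hyp.gens_ne_bot (h : Hyp m n x y) : gens x ≠ ⊥ := fun hb => by
  have : x ∈ Subgroup.center G := Subgroup.mem_center_iff.2 fun g => by
    have hm := mem_gens x g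
    rw [hb, Subgroup.mem_bot, inv_mul_eq_one] at hm
    calc g * x = g * x * g⁻¹ * g := by group
      _ = x * g := by rw [← hm]
  rw [← cls_eq_one_iff, h.hx] at this
  exact absurd this (by have := h.one_lt; omega)

theorem Hyp.eq_of_le (h : Hyp m n x y) {b : G} (hle : cent y ≤ cent b) (hb : b ∉ Subgroup.center G) :
    cent b = cent y := by
  have hd : cls b ∣ m := h.hy ▸ Subgroup.index_dvd_of_le hle
  rcases h.p1 (h.cop.coprime_dvd_left hd) with h1 | h1
  · exact absurd (cls_eq_one_iff.1 h1) hb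
  · exact cent_eq_of_le hle (h1.trans h.hy.symm)

theorem Hyp.y_not_central (h : Hyp m n x y) : y ∉ Subgroup.center G := fun hc => by
  have := h.hy ▸ cls_eq_one_iff.2 hc
  have := h.lt; have := h.one_lt; omega

theorem center_le_cent (g : G) : Subgroup.center G ≤ cent g := Subgroup.center_le_centralizer _

theorem Hyp.index_inf (h : Hyp m n x y) : (cent x ⊓ cent y).index = n * m := by
  rw [Perm.index_inf_of_coprime h.cop']; exact congrArg₂ (· * ·) h.hx h.hy

theorem Hyp.center_index (h : Hyp m n x y) (hAB : cent x ⊓ cent y = Subgroup.center G) :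
    (Subgroup.center G).relIndex (cent y) = n := by
  have h1 := Subgroup.relIndex_mul_index (center_le_cent y)
  have h2 := h.index_inf
  rw [hAB] at h2
  rw [show (cent y).index = m from h.hy, h2] at h1
  exact Nat.eq_of_mul_eq_mul_right (show 0 < m by have := h.lt; omega) h1

/-- A translate of `x` by a central element lies in the commutator group. -/
theorem Hyp.exists_v (h : Hyp m n x y) (hAB : cent x ⊓ cent y = Subgroup.center G) :
    ∃ v ∈ gens x, x * v ∈ Subgroup.center G := by
  obtain ⟨v, hv, hvc⟩ := exists_fixed_mul (x := x) (B := cent y) (Zs := Subgroup.center G)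
    h.gens_comm (fun c _ => mem_gens x c) (fun z hz => (Subgroup.mem_center_iff.1 hz x).symm)
    (center_le_cent y) (by rw [h.center_index hAB]; exact h.gens_coprime)
  refine ⟨v, hv, hAB.le <| Subgroup.mem_inf.2 ⟨mul_mem (self_mem_cent x) (h.gens_le_centx hv), ?_⟩⟩
  exact mem_cent_comm.1 (mem_cent.2 (hvc y (self_mem_cent y)))

/-- Commuting translates inside one class. -/
theorem eq_one_of_translate {N : Subgroup G} {t b g : G} (ht : t ∈ N) (hcomm : t * b = b * t)
    (hg : g * b * g⁻¹ = t * b) (hco : (orderOf b).Coprime (Nat.card N)) : t = 1 := by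
  have h1 : (t * b) ^ orderOf b = 1 := by rw [← hg, conj_pow, pow_orderOf_eq_one]; group
  rw [(show Commute t b from hcomm).mul_pow, pow_orderOf_eq_one, mul_one] at h1
  exact orderOf_eq_one_iff.1 (Nat.eq_one_of_dvd_coprimes hco (orderOf_dvd_of_pow_eq_one h1)
    (Subgroup.orderOf_dvd_natCard _ ht))

theorem Hyp.fpf (h : Hyp m n x y) (hco : (orderOf y).Coprime (Nat.card (gens x))) {t : G}
    (ht : t ∈ gens x) (hty : t * y = y * t) : t = 1 := by
  obtain ⟨g, hg⟩ := mem_Cl.1 (mem_stab.1 (h.gens_le ht) y (self_mem_Cl y))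
  exact eq_one_of_translate ht hty hg hco

theorem exists_noncentral_part {g : G} (hg : g ∉ Subgroup.center G) :
    ∃ (q : ℕ), q.Prime ∧ ∃ u ∈ Subgroup.zpowers g, (∃ k, orderOf u = q ^ k) ∧
      u ∉ Subgroup.center G := by
  set Z := Subgroup.center G
  have hne : orderOf (QuotientGroup.mk' Z g) ≠ 1 := fun e =>
    hg ((QuotientGroup.eq_one_iff g).1 (orderOf_eq_one_iff.1 e))
  obtain ⟨q, hq, hqd⟩ := Nat.exists_prime_and_dvd hne
  haveI := Fact.mk hq
  obtain ⟨u, v, hu, -, huv, hku, hkv⟩ := Solv.exists_ppart q g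
  refine ⟨q, hq, u, hu, hku, fun huc => ?_⟩
  have e : QuotientGroup.mk' Z g = QuotientGroup.mk' Z v := by
    rw [← huv, map_mul, show QuotientGroup.mk' Z u = 1 from (QuotientGroup.eq_one_iff u).2 huc,
      one_mul]
  rw [e] at hqd
  exact hq.not_dvd_one (hkv.gcd_eq_one ▸ Nat.dvd_gcd (hqd.trans (orderOf_map_dvd _ v)) dvd_rfl)

theorem mem_of_zpowers_mem {H : Subgroup G} {g u : G} (hg : g ∈ H) (hu : u ∈ Subgroup.zpowers g) :
    u ∈ H := Subgroup.zpowers_le.2 hg hu

theorem cent_le_of_mem_zpowers {g u : G} (hu : u ∈ Subgroup.zpowers g) : cent g ≤ cent u := by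
  intro a ha
  obtain ⟨i, rfl⟩ := Subgroup.mem_zpowers_iff.1 hu
  exact mem_cent.2 ((show Commute a g from mem_cent.1 ha).zpow_right i)

theorem comm_of_mem_zpowers {g u v : G} (hu : u ∈ Subgroup.zpowers g) (hv : v ∈ Subgroup.zpowers g) :
    u * v = v * u := by
  obtain ⟨i, rfl⟩ := Subgroup.mem_zpowers_iff.1 hu
  obtain ⟨j, rfl⟩ := Subgroup.mem_zpowers_iff.1 hv
  rw [← zpow_add, ← zpow_add, add_comm]

section QPart
variable {q : ℕ} [Fact q.Prime]

theorem Hyp.abelian_of_part (h : Hyp m n x y) (hy : ∃ k, orderOf y = q ^ k) {b : G}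
    (hb : b ∈ cent y) (hbq : (orderOf b).Coprime q) (hbZ : b ∉ Subgroup.center G) :
    ∀ c ∈ cent y, ∀ d ∈ cent y, c * d = d * c := by
  obtain ⟨k, hk⟩ := hy
  have hle : ∀ e ∈ cent y, (orderOf e).Coprime q → cent y ≤ cent e := by
    intro e he heq
    have hc : cent (y * e) = cent y ⊓ cent e := cent_mul_of_coprime (mem_cent.1 he).symm
      (by rw [hk]; exact (heq.pow_right k).symm)
    have h1 : cls (y * e) = cls y := by
      refine le_antisymm (h.hy ▸ h.top _) (Nat.le_of_dvd (cls_pos _) ?_)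
      exact Subgroup.index_dvd_of_le (hc.le.trans inf_le_left)
    have := cent_eq_of_le (hc.le.trans inf_le_left) h1.symm
    exact this.le.trans (hc.le.trans inf_le_right)
  have hbe : cent b = cent y := h.eq_of_le (hle b hb hbq) hbZ
  have hle' : ∀ e ∈ cent y, (∃ j, orderOf e = q ^ j) → cent y ≤ cent e := by
    rintro e he ⟨j, hj⟩
    have hc : cent (b * e) = cent b ⊓ cent e := cent_mul_of_coprime
      (mem_cent.1 (hbe ▸ he : e ∈ cent b)).symm (by rw [hj]; exact hbq.pow_right j)
    have h1 : cls (b * e) = cls b := by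
      refine le_antisymm ?_ (Nat.le_of_dvd (cls_pos _) (Subgroup.index_dvd_of_le (hc.le.trans inf_le_left)))
      rw [show cls b = m from (congrArg Subgroup.index hbe).trans h.hy]
      exact h.top _
    have := cent_eq_of_le (hc.le.trans inf_le_left) h1.symm
    rw [← hbe]
    exact this.le.trans (hc.le.trans inf_le_right)
  intro c hc d hd
  obtain ⟨u, v, hu, hv, huv, hku, hkv⟩ := Solv.exists_ppart q c
  have hdu : d * u = u * d := mem_cent.1 (hle' u (mem_of_zpowers_mem hc hu) hku hd)
  have hdv : d * v = v * d := mem_cent.1 (hle v (mem_of_zpowers_mem hc hv) hkv hd)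
  rw [← huv]
  exact ((show Commute d u from hdu).mul_right hdv).eq.symm

/-- The situation in which all `q'`-elements of `C(y)` are central. -/
structure QHyp (m n q : ℕ) (x y : G) : Prop extends Hyp m n x y where
  yq : ∃ k, orderOf y = q ^ k
  cen : ∀ b ∈ cent y, (orderOf b).Coprime q → b ∈ Subgroup.center G

theorem QHyp.n_prime (h : QHyp m n q x y) {r : ℕ} (hr : r.Prime) (hrn : r ∣ n) : r = q := by
  by_contra hrq
  haveI := Fact.mk hr
  have hrm : ¬ r ∣ m := fun hd => hr.not_dvd_one (h.cop.gcd_eq_one ▸ Nat.dvd_gcd hd hrn)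
  obtain ⟨P⟩ := (inferInstance : Nonempty (Sylow r (cent y)))
  set P' := (P : Subgroup (cent y)).map (cent y).subtype with hP'
  have hPc : P' ≤ Subgroup.center G := by
    rintro _ ⟨b, hb, rfl⟩
    refine h.cen _ b.2 ?_
    obtain ⟨k, hk⟩ := IsPGroup.iff_orderOf.1 P.isPGroup' ⟨b, hb⟩
    rw [Subgroup.orderOf_mk] at hk
    rw [Subgroup.coe_subtype, Subgroup.orderOf_coe, hk]
    exact Nat.Coprime.pow_left k ((Nat.coprime_primes hr Fact.out).2 hrq)
  have hd : Nat.card P * r ∣ m * Nat.card (cent y) := by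
    rw [← h.hy, mul_comm (cls y), (cent y).card_mul_index, ← (cent x).card_mul_index,
      show (cent x).index = n from h.hx]
    refine mul_dvd_mul ?_ hrn
    have : Nat.card P' = Nat.card P := Subgroup.card_map_of_injective (Subgroup.subtype_injective _)
    rw [← this]
    exact Subgroup.card_dvd_of_le (hPc.trans (center_le_cent x))
  rw [← (P : Subgroup (cent y)).card_mul_index, mul_left_comm] at hd
  have := Nat.dvd_of_mul_dvd_mul_left Nat.card_pos hd
  rcases hr.dvd_mul.1 this with h1 | h1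
  exacts [hrm h1, P.not_dvd_index h1]

theorem QHyp.q_dvd (h : QHyp m n q x y) : q ∣ n := by
  obtain ⟨r, hr, hrn⟩ := Nat.exists_prime_and_dvd (by have := h.one_lt; omega : n ≠ 1)
  exact h.n_prime hr hrn ▸ hrn

theorem QHyp.q_cop (h : QHyp m n q x y) {g : G} (hg : ∃ k, orderOf g = q ^ k) :
    (orderOf g).Coprime (Nat.card (gens x)) := by
  obtain ⟨k, hk⟩ := hg
  rw [hk]
  refine (Nat.Coprime.coprime_dvd_left h.q_dvd ?_).pow_left k
  exact (h.cop.coprime_dvd_left h.toHyp.card_gens_dvd).symm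

theorem QHyp.inf_eq (h : QHyp m n q x y) : cent x ⊓ cent y = Subgroup.center G := by
  refine le_antisymm (fun c hc => ?_) (le_inf (center_le_cent x) (center_le_cent y))
  obtain ⟨u, v, hu, hv, huv, hku, hkv⟩ := Solv.exists_ppart q c
  rw [← huv]
  refine mul_mem ?_ (h.cen v (mem_of_zpowers_mem hc.2 hv) hkv)
  -- replace `x` by its `q'`-part
  obtain ⟨a, b, ha, hb, hab, hka, hkb⟩ := Solv.exists_ppart q x
  have hac : a ∈ Subgroup.center G := by
    rw [Subgroup.mem_center_iff]
    intro g
    obtain ⟨j, rfl⟩ := Subgroup.mem_zpowers_iff.1 ha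
    have ht := mem_gens x g
    set t := x⁻¹ * (g * x * g⁻¹) with htdef
    have htx : t * x = x * t := mem_cent.1 (h.toHyp.gens_le_centx ht)
    have e1 : g * x * g⁻¹ = x * t := by rw [htdef]; group
    have e2 : g * x ^ j * g⁻¹ = t ^ j * x ^ j := by
      rw [← conj_zpow, e1, (show Commute x t from htx.symm).mul_zpow]
      exact ((show Commute x t from htx.symm).zpow_zpow j j).eq
    have e3 := eq_one_of_translate (zpow_mem ht j) ((show Commute t x from htx).zpow_zpow j j).eq e2
      (h.q_cop hka)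
    rw [e3, one_mul] at e2
    calc g * x ^ j = g * x ^ j * g⁻¹ * g := by group
      _ = x ^ j * g := by rw [e2]
  have hbA : cent b = cent x := by
    refine le_antisymm (fun g hg => mem_cent.2 ?_) (cent_le_of_mem_zpowers hb)
    rw [← hab]
    exact ((show Commute g a from Subgroup.mem_center_iff.1 hac g).mul_right (mem_cent.1 hg)).eq
  have huA : u ∈ cent x := mem_of_zpowers_mem hc.1 hu
  obtain ⟨k, hk⟩ := hku
  have hbu : cent (b * u) = cent b ⊓ cent u := cent_mul_of_coprime
    (mem_cent.1 (hbA ▸ huA : u ∈ cent b)).symm (by rw [hk]; exact hkb.pow_right k)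
  have hle1 : cent (b * u) ≤ cent b := hbu.le.trans inf_le_left
  have hd : n ∣ cls (b * u) := by
    rw [← h.hx, cls, ← hbA]; exact Subgroup.index_dvd_of_le hle1
  have hn : cls (b * u) = cls b := by
    rw [show cls b = n by rw [cls, hbA]; exact h.hx]
    rcases h.two (b * u) with h1 | h1
    · exfalso
      have := Nat.eq_one_of_dvd_coprimes h.cop (h1 ▸ hd) dvd_rfl
      have := h.one_lt; omega
    · exact le_antisymm h1 (Nat.le_of_dvd (cls_pos _) hd)
  have hAu : cent x ≤ cent u := by
    rw [← hbA, cent_eq_of_le hle1 hn.symm]; exact hbu.le.trans inf_le_right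
  have hdu : cls u ∣ n := h.hx ▸ Subgroup.index_dvd_of_le hAu
  have hcu : (cls u).Coprime (cls y) := by rw [h.hy]; exact (h.cop.coprime_dvd_right hdu).symm
  rw [Subgroup.mem_center_iff]
  intro g
  have ht := mem_stb_of_le hcu (h.hy.symm ▸ h.top _) g
  set t := u⁻¹ * (g * u * g⁻¹) with htdef
  have htu : t * u = u * t := mem_cent.1 (h.toHyp.stb_le hdu ht)
  have e1 : g * u * g⁻¹ = t * u := by rw [htu, htdef]; group
  have hco : (orderOf u).Coprime (Nat.card (stb y)) := by
    rw [hk]
    refine (Nat.Coprime.coprime_dvd_left h.q_dvd ?_).pow_left k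
    exact (h.cop.coprime_dvd_left (h.hy ▸ card_stb_dvd y)).symm
  rw [eq_one_of_translate ht htu e1 hco, one_mul] at e1
  calc g * u = g * u * g⁻¹ * g := by group
    _ = u * g := by rw [e1]

theorem QHyp.gens_inf_cent (h : QHyp m n q x y) {t : G} (ht : t ∈ gens x) (hty : t ∈ cent y) :
    t = 1 :=
  h.toHyp.fpf (h.q_cop h.yq) ht (mem_cent.1 hty)

theorem QHyp.central_of_small (h : QHyp m n q x y) {b : G} (hb : b ∈ cent y)
    (hbq : ∃ k, orderOf b = q ^ k) (hbm : cls b ≠ m) : cent y ≤ cent b := by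
  classical
  set Z := Subgroup.center G
  set B := cent y
  set N := gens x
  have hBZ : ∀ d : G, d ∈ B → d ∈ cent x → d ∈ Z := fun d h1 h2 => h.inf_eq.le (Subgroup.mem_inf.2 ⟨h2, h1⟩)
  intro e he
  by_contra hne
  have hbZ : b ∉ Z := fun hc => hne (mem_cent.2 (Subgroup.mem_center_iff.1 hc e))
  obtain ⟨v, hv, hxv⟩ := h.toHyp.exists_v h.inf_eq
  letI : CommGroup N := { (inferInstance : Group N) with mul_comm := h.toHyp.gens_comm.is_comm.comm }
  let φ : N →* N := (MulAut.conjNormal b).toMonoidHom * (MonoidHom.id N)⁻¹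
  have hφ : ∀ w : N, ((φ w : N) : G) = b * w * b⁻¹ * (w : G)⁻¹ := fun w => by
    simp [φ, MulAut.conjNormal_apply]
  have hker : ∀ w : N, φ w = 1 ↔ (w : G) * b = b * w := fun w => by
    rw [← Subtype.coe_inj, hφ, OneMemClass.coe_one, mul_inv_eq_one, mul_inv_eq_iff_eq_mul, eq_comm]
  have hdisj : ∀ w : N, φ (φ w) = 1 → φ w = 1 := fun w hw => by
    obtain ⟨k, hk⟩ := hbq
    have hc := (hker _).1 hw
    have hstep : ∀ i : ℕ, b ^ i * (w : G) * (b ^ i)⁻¹ = (φ w : G) ^ i * w := fun i => by
      induction i with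
      | zero => simp
      | succ i ih =>
        have e1 : Commute b ((φ w : N) : G) := (hc).symm
        calc b ^ (i + 1) * (w : G) * (b ^ (i + 1))⁻¹ = b * (b ^ i * (w : G) * (b ^ i)⁻¹) * b⁻¹ := by
              rw [pow_succ']; group
          _ = b * (φ w : G) ^ i * (w : G) * b⁻¹ := by rw [ih]; group
          _ = (φ w : G) ^ i * (b * (w : G) * b⁻¹) := by rw [(e1.pow_right i).eq]; group
          _ = (φ w : G) ^ i * ((φ w : G) * w) := by rw [hφ]; group
          _ = (φ w : G) ^ (i + 1) * w := by rw [pow_succ, mul_assoc]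
    have h1 := hstep (orderOf b)
    rw [pow_orderOf_eq_one, one_mul, inv_one, mul_one, eq_comm, mul_eq_right] at h1
    exact Subtype.ext (orderOf_eq_one_iff.1 (Nat.eq_one_of_dvd_coprimes (h.q_cop ⟨k, hk⟩)
      (orderOf_dvd_of_pow_eq_one h1) (Subgroup.orderOf_dvd_natCard _ (φ w).2)))
  obtain ⟨⟨t0, u0⟩, htu⟩ : ∃ z : φ.ker × φ.range, (z.1 : N) * z.2 = ⟨v, hv⟩ := by
    have hinj : Function.Injective fun z : φ.ker × φ.range => (z.1 : N) * z.2 := by
      rintro ⟨t1, u1⟩ ⟨t2, u2⟩ e
      have e' : ((t1 : N) * (t2 : N)⁻¹) = (u2 : N) * (u1 : N)⁻¹ := by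
        rw [← div_eq_mul_inv, ← div_eq_mul_inv, div_eq_div_iff_mul_eq_mul]
        exact e.trans (mul_comm _ _)
      obtain ⟨w, hw⟩ := (u2 * u1⁻¹).2
      have hw1 : φ w = (t1 : N) * (t2 : N)⁻¹ := by rw [e', hw]; rfl
      have h0 : φ w = 1 := hdisj w (by rw [hw1]; exact (t1 * t2⁻¹).2)
      rw [hw1, mul_inv_eq_one] at h0
      simp only [h0, mul_left_cancel_iff] at e
      exact Prod.ext (Subtype.ext h0) (Subtype.ext e)
    have hcard : Nat.card (φ.ker × φ.range) = Nat.card N := by
      rw [Nat.card_prod, ← Subgroup.index_ker, Subgroup.card_mul_index]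
    exact ((Nat.bijective_iff_injective_and_card _).2 ⟨hinj, hcard⟩).2 ⟨v, hv⟩
  set t : G := ((t0 : N) : G) with ht
  set u : G := ((u0 : N) : G) with hu
  have htb : t * b = b * t := (hker _).1 t0.2
  have hvtu : v = t * u := (congrArg Subtype.val htu).symm
  set s := t * b
  have hs : cent s = cent t ⊓ cent b := cent_mul_of_coprime htb
    ((h.q_cop hbq).symm.coprime_dvd_left (Subgroup.orderOf_dvd_natCard _ (t0 : N).2))
  have hsn : cls s ≤ n := by
    rcases h.two s with h1 | h1
    · exfalso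
      have hd : cls b ∣ m := h1 ▸ Subgroup.index_dvd_of_le (hs.le.trans inf_le_right)
      rcases h.toHyp.p1 (h.cop.coprime_dvd_left hd) with h2 | h2
      exacts [hbZ (cls_eq_one_iff.1 h2), hbm h2]
    · exact h1
  set D := B ⊓ (cent t ⊓ cent b)
  have hwit : ∀ i : φ.range, ∃ w : N, φ w = i := fun i => i.2
  choose w hw using hwit
  let f : φ.range × (B ⧸ D.subgroupOf B) → G ⧸ cent s := fun z =>
    QuotientGroup.mk (((z.2.out : B) : G) * ((w z.1 : N) : G))
  have hf : Function.Injective f := by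
    rintro ⟨i, c⟩ ⟨i', c'⟩ e
    have e1 : (((c.out : B) : G) * ((w i : N) : G))⁻¹ * (((c'.out : B) : G) * ((w i' : N) : G)) ∈ cent s :=
      QuotientGroup.eq.1 e
    set D' : G := ((c.out : B) : G)⁻¹ * ((c'.out : B) : G) with hD'
    have hDB : D' ∈ B := mul_mem (inv_mem (c.out : B).2) (c'.out : B).2
    set W2 : N := (w i)⁻¹ * MulAut.conjNormal D' (w i') with hW2
    have hW2v : (W2 : G) = ((w i : N) : G)⁻¹ * (D' * (w i' : N) * D'⁻¹) := by
      rw [hW2, Subgroup.coe_mul, Subgroup.coe_inv, MulAut.conjNormal_apply]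
    have e2 : (W2 : G) * D' ∈ cent s := by
      convert e1 using 1
      rw [hW2v, hD']; group
    rw [hs] at e2
    -- the `B`-component centralizes `b`
    have e3 : (W2 : G) * D' * b = b * ((W2 : G) * D') := mem_cent.1 e2.2
    have hDb : D' * b = b * D' := by
      have h1 : D' * b * D'⁻¹ * b⁻¹ = (W2 : G)⁻¹ * (b * W2 * b⁻¹) := by
        calc D' * b * D'⁻¹ * b⁻¹ = (W2 : G)⁻¹ * ((W2 : G) * D' * b) * D'⁻¹ * b⁻¹ := by group
          _ = (W2 : G)⁻¹ * (b * W2 * b⁻¹) := by rw [e3]; group
      have h2 : D' * b * D'⁻¹ * b⁻¹ ∈ N := h1 ▸ mul_mem (inv_mem W2.2) ((gens_normal x).conj_mem _ W2.2 b)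
      have h3 : D' * b * D'⁻¹ * b⁻¹ ∈ B := mul_mem (mul_mem (mul_mem hDB hb) (inv_mem hDB)) (inv_mem hb)
      have h4 := h.gens_inf_cent h2 h3
      rwa [mul_inv_eq_one, mul_inv_eq_iff_eq_mul] at h4
    have hWb : (W2 : G) * b = b * W2 := mul_right_cancel (b := D') (by
      calc (W2 : G) * b * D' = (W2 : G) * (D' * b) := by rw [hDb, mul_assoc]
        _ = b * W2 * D' := by rw [← mul_assoc, e3, mul_assoc])
    have hDt : D' * t = t * D' := mul_left_cancel (a := (W2 : G)) (by
      calc (W2 : G) * (D' * t) = (W2 : G) * D' * t := (mul_assoc _ _ _).symm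
        _ = t * ((W2 : G) * D') := mem_cent.1 e2.1
        _ = t * (W2 : G) * D' := (mul_assoc _ _ _).symm
        _ = (W2 : G) * t * D' := by
          rw [show t * (W2 : G) = (W2 : G) * t from congrArg Subtype.val (mul_comm (t0 : N) W2)]
        _ = (W2 : G) * (t * D') := mul_assoc _ _ _)
    have hcc : c = c' := by
      rw [← QuotientGroup.out_eq' c, ← QuotientGroup.out_eq' c']
      exact QuotientGroup.eq.2 (Subgroup.mem_subgroupOf.2
        (Subgroup.mem_inf.2 ⟨hDB, Subgroup.mem_inf.2 ⟨mem_cent.2 hDt, mem_cent.2 hDb⟩⟩))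
    subst hcc
    have hW : W2 = (w i)⁻¹ * w i' := Subtype.ext (by
      rw [hW2v, hD', inv_mul_cancel, Subgroup.coe_mul, Subgroup.coe_inv]; group)
    have h5 : φ W2 = 1 := (hker _).2 hWb
    rw [hW, map_mul, map_inv, hw, hw, inv_mul_eq_one] at h5
    rw [Subtype.ext h5]
  have hcount := Nat.card_le_card_of_injective f hf
  rw [Nat.card_prod] at hcount
  have hDB' : D.relIndex B * Z.relIndex D = n := by
    rw [mul_comm, Subgroup.relIndex_mul_relIndex _ _ _
      (le_inf (center_le_cent y) (le_inf (center_le_cent t) (center_le_cent b))) inf_le_left]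
    exact h.toHyp.center_index h.inf_eq
  have hZD : Z.relIndex D < Nat.card φ.range := by
    have hu1 : (u0 : φ.range) ≠ 1 := by
      intro e
      have hu' : u = 1 := by rw [hu, e]; rfl
      rw [hu', mul_one] at hvtu
      refine hbZ (hBZ b hb ?_)
      have hb1 : b ∈ cent v := by rw [hvtu]; exact mem_cent.2 htb.symm
      have e1 : b * (x * v) = x * v * b := Subgroup.mem_center_iff.1 hxv b
      refine mem_cent.2 ?_
      have := (show Commute b (x * v) from e1).mul_right ((show Commute b v from mem_cent.1 hb1).inv_right)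
      rwa [mul_inv_cancel_right] at this
    let g0 : D → φ.range := fun d => ⟨MulAut.conjNormal (d : G) (u0 : N), by
      obtain ⟨w0, hw0⟩ := u0.2
      refine ⟨MulAut.conjNormal (d : G) w0, Subtype.ext ?_⟩
      have hdb : (d : G) * b = b * d := mem_cent.1 d.2.2.2
      rw [hφ, MulAut.conjNormal_apply, MulAut.conjNormal_apply, ← hw0, hφ]
      calc b * ((d : G) * w0 * (d : G)⁻¹) * b⁻¹ * ((d : G) * (w0 : G) * (d : G)⁻¹)⁻¹ =
            (b * d) * w0 * (b * d)⁻¹ * (d : G) * (w0 : G)⁻¹ * (d : G)⁻¹ := by group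
        _ = (d : G) * (b * w0 * b⁻¹ * (w0 : G)⁻¹) * (d : G)⁻¹ := by rw [← hdb]; group⟩
    let g1 : D ⧸ Z.subgroupOf D → φ.range := fun q => g0 q.out
    have hinj : Function.Injective g1 := by
      intro c c' e
      have e1 : ((c.out : D) : G) * u * ((c.out : D) : G)⁻¹ = ((c'.out : D) : G) * u * ((c'.out : D) : G)⁻¹ := by
        simpa [g1, g0, MulAut.conjNormal_apply] using congrArg (fun i : φ.range => ((i : N) : G)) e
      rw [← QuotientGroup.out_eq' c, ← QuotientGroup.out_eq' c']
      refine QuotientGroup.eq.2 (Subgroup.mem_subgroupOf.2 ?_)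
      set d : D := (c.out)⁻¹ * c'.out with hd
      have hdu : (d : G) * u = u * d := by
        simp only [hd, Subgroup.coe_mul, Subgroup.coe_inv]
        calc ((c.out : D) : G)⁻¹ * (c'.out : D) * u =
              ((c.out : D) : G)⁻¹ * (((c'.out : D) : G) * u * ((c'.out : D) : G)⁻¹) * (c'.out : D) := by group
          _ = u * (((c.out : D) : G)⁻¹ * (c'.out : D)) := by rw [← e1]; group
      refine hBZ _ d.2.1 (mem_cent.2 ?_)
      have hdv : Commute (d : G) v := by
        rw [hvtu]; exact (show Commute (d : G) t from mem_cent.1 d.2.2.1).mul_right hdu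
      have := (show Commute (d : G) (x * v) from Subgroup.mem_center_iff.1 hxv (d : G)).mul_right
        hdv.inv_right
      rwa [mul_inv_cancel_right] at this
    have hns : ¬ Function.Surjective g1 := fun hs' => by
      obtain ⟨c, hc⟩ := hs' 1
      have e1 : MulAut.conjNormal ((c.out : D) : G) (u0 : N) = 1 := congrArg Subtype.val hc
      exact hu1 (Subtype.ext ((MulEquiv.map_eq_one_iff _).1 e1))
    exact lt_of_le_of_ne (Nat.card_le_card_of_injective g1 hinj)
      fun e => hns ((Nat.bijective_iff_injective_and_card g1).2 ⟨hinj, e⟩).2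
  have hpos : 0 < D.relIndex B := Nat.pos_of_ne_zero (by
    intro e; rw [e, zero_mul] at hDB'; have := h.one_lt; omega)
  have h1 : Nat.card φ.range * D.relIndex B ≤ n := hcount.trans hsn
  have h2 := Nat.mul_lt_mul_of_pos_right hZD hpos
  rw [mul_comm (Z.relIndex D), hDB'] at h2
  omega

theorem QHyp.all_m (h : QHyp m n q x y) {c : G} (hc : c ∈ cent y) (hcZ : c ∉ Subgroup.center G) :
    ∀ t ∈ gens x, t * c = c * t → t = 1 := by
  obtain ⟨u, v, hu, hv, huv, hku, hkv⟩ := Solv.exists_ppart q c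
  have hvc := h.cen v (mem_of_zpowers_mem hc hv) hkv
  have huZ : u ∉ Subgroup.center G := fun h1 => hcZ (huv ▸ mul_mem h1 hvc)
  have hum : cls u = m := by
    by_contra hne
    have hle := h.central_of_small (mem_of_zpowers_mem hc hu) hku hne
    exact hne ((congrArg Subgroup.index (h.toHyp.eq_of_le hle huZ)).trans h.hy)
  intro t ht htc
  refine (h.toHyp.change hum).fpf (h.q_cop hku) ht ?_
  exact mem_cent.1 (cent_le_of_mem_zpowers hu (mem_cent.2 htc))

theorem exists_power {Z : Subgroup G} {c : G} (hc : c ∉ Z) (hcq : ∃ k, c ^ (q ^ k) ∈ Z) :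
    ∃ d ∈ Subgroup.zpowers c, d ∉ Z ∧ d ^ q ∈ Z := by
  classical
  have h0 : Nat.find hcq ≠ 0 := fun e => hc (by simpa [e] using Nat.find_spec hcq)
  obtain ⟨k, hk⟩ := Nat.exists_eq_succ_of_ne_zero h0
  refine ⟨c ^ (q ^ k), Subgroup.npow_mem_zpowers c _, Nat.find_min hcq (by omega), ?_⟩
  rw [← pow_mul, ← pow_succ]
  have := Nat.find_spec hcq
  rwa [hk] at this

theorem QHyp.comm (h : QHyp m n q x y) : ∀ c ∈ cent y, ∀ d ∈ cent y, c * d = d * c := by
  classical
  intro c hc d hd
  by_cases hcZ : c ∈ Subgroup.center G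
  · exact (Subgroup.mem_center_iff.1 hcZ d).symm
  have pow_center : ∀ {b : G}, b ∈ cent y → ∃ k, b ^ (q ^ k) ∈ Subgroup.center G := by
    intro b hb
    obtain ⟨u, v, hu, hv, huv, ⟨k, hk⟩, hkv⟩ := Solv.exists_ppart q b
    refine ⟨k, ?_⟩
    rw [← huv, (show Commute u v from comm_of_mem_zpowers hu hv).mul_pow, ← hk, pow_orderOf_eq_one, one_mul]
    exact pow_mem (h.cen v (mem_of_zpowers_mem hb hv) hkv) _
  obtain ⟨y0, hy0, hy0Z, hy0q⟩ := exists_power h.toHyp.y_not_central (pow_center (self_mem_cent y))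
  obtain ⟨c0, hc0, hc0Z, hc0q⟩ := exists_power hcZ (pow_center hc)
  have hy0B : y0 ∈ cent y := mem_of_zpowers_mem (self_mem_cent y) hy0
  have hc0B : c0 ∈ cent y := mem_of_zpowers_mem hc hc0
  have hy0c : cent y0 = cent y := h.toHyp.eq_of_le (cent_le_of_mem_zpowers hy0) hy0Z
  -- `c0` is congruent to a power of `y0`
  obtain ⟨j, hj⟩ : ∃ j : ℕ, c0 * y0 ^ j ∈ Subgroup.center G := by
    by_contra! hno
    refine h.toHyp.gens_ne_bot ((Subgroup.eq_bot_iff_forall _).2 fun w hw => ?_)
    letI : CommGroup (gens x) :=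
      { (inferInstance : Group (gens x)) with mul_comm := h.toHyp.gens_comm.is_comm.comm }
    haveI : NeZero q := ⟨(Fact.out : q.Prime).ne_zero⟩
    let κ : G → gens x →* gens x := fun g => (MulAut.conjNormal g).toMonoidHom
    have κ_mul : ∀ a b : G, ∀ w, κ (a * b) w = κ a (κ b w) := fun a b w => Subtype.ext (by
      simp only [κ, MulEquiv.coe_toMonoidHom, MulAut.conjNormal_apply]; group)
    have κ_one : ∀ w, κ 1 w = w := fun w => Subtype.ext (by
      simp [κ, MulAut.conjNormal_apply])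
    have κ_cen : ∀ z ∈ Subgroup.center G, ∀ w, κ z w = w := fun z hz w => Subtype.ext (by
      simp only [κ, MulEquiv.coe_toMonoidHom, MulAut.conjNormal_apply]
      rw [← Subgroup.mem_center_iff.1 hz (w : G)]; group)
    have κ_mod : ∀ e : G, e ^ q ∈ Subgroup.center G → ∀ a b : ℕ, (a : ZMod q) = b → ∀ w,
        κ (e ^ a) w = κ (e ^ b) w := by
      intro e he a b hab w
      rw [← Nat.mod_add_div a q, ← Nat.mod_add_div b q, (ZMod.natCast_eq_natCast_iff' a b q).1 hab,
        pow_add, pow_add, κ_mul, κ_mul, pow_mul, pow_mul, κ_cen _ (pow_mem he _),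
        κ_cen _ (pow_mem he _)]
    have hnorm : ∀ e ∈ cent y, e ∉ Subgroup.center G → e ^ q ∈ Subgroup.center G →
        ∀ w, ∏ i : ZMod q, κ (e ^ i.val) w = 1 := by
      intro e he heZ heq w
      set P := ∏ i : ZMod q, κ (e ^ i.val) w
      have h1 : κ e P = P := by
        rw [map_prod]
        refine Fintype.prod_equiv (Equiv.addRight 1) _ _ fun i => ?_
        rw [← κ_mul, ← pow_succ']
        exact κ_mod e heq _ _ (by simp) w
      refine Subtype.ext (h.all_m he heZ _ P.2 ?_)
      have h2 := congrArg Subtype.val h1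
      simp only [κ, MulEquiv.coe_toMonoidHom, MulAut.conjNormal_apply, mul_inv_eq_iff_eq_mul] at h2
      exact h2.symm
    have hcy : Commute c0 y0 := mem_cent.1 (hy0c ▸ hc0B : c0 ∈ cent y0)
    set w0 : gens x := ⟨w, hw⟩
    have htot : ∏ j : ZMod q, ∏ i : ZMod q, κ ((c0 * y0 ^ j.val) ^ i.val) w0 = 1 := by
      refine Finset.prod_eq_one fun j _ => hnorm _ (mul_mem hc0B (pow_mem hy0B _)) (hno _) ?_ w0
      rw [(hcy.pow_right _).mul_pow, ← pow_mul, mul_comm j.val, pow_mul]
      exact mul_mem hc0q (pow_mem hy0q _)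
    rw [Finset.prod_comm, Fintype.prod_eq_single (0 : ZMod q) fun i hi => ?_] at htot
    · simp only [ZMod.val_zero, pow_zero, κ_one, Finset.prod_const, Finset.card_univ, ZMod.card] at htot
      have hcop : (Nat.card (gens x)).Coprime q :=
        (h.cop.coprime_dvd_left h.toHyp.card_gens_dvd).coprime_dvd_right h.q_dvd
      exact congrArg Subtype.val ((powCoprime hcop).injective (htot.trans (one_pow q).symm))
    · have h1 : ∀ j : ZMod q, κ ((c0 * y0 ^ j.val) ^ i.val) w0 =
          κ (c0 ^ i.val) (κ (y0 ^ (j * i).val) w0) := fun j => by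
        rw [(hcy.pow_right _).mul_pow, κ_mul, ← pow_mul,
          κ_mod y0 hy0q (j.val * i.val) (j * i).val (by simp) w0]
      rw [Finset.prod_congr rfl fun j _ => h1 j, ← map_prod,
        Fintype.prod_equiv (Equiv.mulRight₀ i hi) (fun j => κ (y0 ^ (j * i).val) w0)
          (fun k => κ (y0 ^ k.val) w0) fun j => rfl,
        hnorm y0 hy0B hy0Z hy0q, map_one]
  have hle : cent y0 ≤ cent c0 := fun a ha => mem_cent.2 (by
    have h1 : Commute a y0 := mem_cent.1 ha
    have h2 := (show Commute a (c0 * y0 ^ j) from Subgroup.mem_center_iff.1 hj a).mul_right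
      (h1.pow_right j).inv_right
    rw [mul_inv_cancel_right] at h2
    exact h2.eq)
  rw [hy0c] at hle
  have hc0c := h.toHyp.eq_of_le hle hc0Z
  have hcle : cent c ≤ cent y := hc0c ▸ cent_le_of_mem_zpowers hc0
  have hcm : cls c = m := le_antisymm (h.top c)
    (h.hy ▸ Nat.le_of_dvd (cls_pos c) (Subgroup.index_dvd_of_le hcle))
  have := cent_eq_of_le hcle (h.hy.trans hcm.symm)
  exact (mem_cent.1 (this ▸ hd : d ∈ cent c)).symm

end QPart

theorem Hyp.comm (h : Hyp m n x y) : ∀ c ∈ cent y, ∀ d ∈ cent y, c * d = d * c := by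
  obtain ⟨q, hq, u, hu, hku, huZ⟩ := exists_noncentral_part h.y_not_central
  haveI := Fact.mk hq
  have hcu := h.eq_of_le (cent_le_of_mem_zpowers hu) huZ
  have h' : Hyp m n x u := h.change ((congrArg Subgroup.index hcu).trans h.hy)
  rw [← hcu]
  by_cases hb : ∃ b ∈ cent u, (orderOf b).Coprime q ∧ b ∉ Subgroup.center G
  · obtain ⟨b, hb, hbq, hbZ⟩ := hb
    exact h'.abelian_of_part hku hb hbq hbZ
  · push_neg at hb
    exact QHyp.comm ⟨h', hku, hb⟩

theorem Hyp.inf_eq (h : Hyp m n x y) : cent x ⊓ cent y = Subgroup.center G := by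
  refine le_antisymm (fun b hb => ?_) (le_inf (center_le_cent x) (center_le_cent y))
  by_contra hbZ
  have hbe := h.eq_of_le (fun a ha => mem_cent.2 (h.comm a ha b hb.2)) hbZ
  have hxy : x ∈ cent y := hbe ▸ mem_cent_comm.1 hb.1
  have hle : cent y ≤ cent x := fun a ha => mem_cent.2 (h.comm a ha x hxy)
  have hd : n ∣ m := h.hx ▸ h.hy ▸ Subgroup.index_dvd_of_le hle
  have := Nat.eq_one_of_dvd_coprimes h.cop hd dvd_rfl
  have := h.one_lt; omega

theorem Hyp.index_center (h : Hyp m n x y) : (Subgroup.center G).index = n * m := by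
  rw [← h.index_inf, h.inf_eq]

theorem Hyp.conj (h : Hyp m n x y) (g : G) : Hyp m n x (g * y * g⁻¹) :=
  h.change ((cls_conj y g).trans h.hy)

theorem Hyp.cls_eq (h : Hyp m n x y) {a : G} (ha : a ∈ cent x) (haZ : a ∉ Subgroup.center G) :
    cls a = n := by
  have hdvd : n ∣ cls a := by
    rw [Nat.dvd_iff_prime_pow_dvd_dvd]
    intro s k hs hsk
    rcases Nat.eq_zero_or_pos k with rfl | hk
    · simp
    haveI := Fact.mk hs
    have hsn : s ∣ n := (dvd_pow_self s hk.ne').trans hsk
    have hsm : ¬ s ∣ m := fun hd => hs.not_dvd_one (h.cop.gcd_eq_one ▸ Nat.dvd_gcd hd hsn)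
    obtain ⟨P⟩ := (inferInstance : Nonempty (Sylow s (cent a)))
    set P' := (P : Subgroup (cent a)).map (cent a).subtype
    have hP'card : Nat.card P' = Nat.card P :=
      Subgroup.card_map_of_injective (Subgroup.subtype_injective _)
    have hP'p : IsPGroup s P' := P.isPGroup'.map _
    have hPc : P' ≤ Subgroup.center G := by
      intro c hc
      by_contra hcZ
      have hcp : IsPGroup s (Subgroup.zpowers c) :=
        hP'p.to_le (Subgroup.zpowers_le.2 hc)
      obtain ⟨p0, hp0⟩ := hcp.nonempty_fixed_point_of_prime_not_dvd_card (α := G ⧸ cent y)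
        (by rw [← Subgroup.index_eq_card, show (cent y).index = m from h.hy]; exact hsm)
      induction p0 using QuotientGroup.induction_on with
      | H g =>
        have e : ((c * g : G) : G ⧸ cent y) = (g : G) := hp0 ⟨c, Subgroup.mem_zpowers c⟩
        have hcg : c ∈ cent (g * y * g⁻¹) := cent_conj_mem.2 (by
          have := QuotientGroup.eq.1 e.symm
          rwa [← mul_assoc] at this)
        have h2 := (h.conj g)
        have hce := h2.eq_of_le (fun z hz => mem_cent.2 (h2.comm z hz c hcg)) hcZ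
        have hca : c ∈ cent a := Subgroup.map_subtype_le _ hc
        exact haZ (h2.inf_eq.le (Subgroup.mem_inf.2 ⟨ha, hce ▸ mem_cent_comm.1 hca⟩))
    have hG : Nat.card (cent a) * cls a = Nat.card (Subgroup.center G) * (n * m) := by
      rw [cls, (cent a).card_mul_index, ← h.inf_eq, ← h.index_inf, Subgroup.card_mul_index]
    have h1 : s ^ k * Nat.card P ∣ Nat.card (cent a) * cls a := by
      rw [hG, mul_comm (s ^ k), ← hP'card]
      exact mul_dvd_mul (Subgroup.card_dvd_of_le hPc) (hsk.trans (dvd_mul_right n m))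
    rw [← (P : Subgroup (cent a)).card_mul_index, mul_comm (s ^ k), mul_assoc] at h1
    exact ((hs.coprime_iff_not_dvd.2 P.not_dvd_index).pow_left k).dvd_of_dvd_mul_left
      (Nat.dvd_of_mul_dvd_mul_left Nat.card_pos h1)
  rcases h.two a with h1 | h1
  · exfalso
    have := Nat.eq_one_of_dvd_coprimes h.cop (h1 ▸ hdvd) dvd_rfl
    have := h.one_lt; omega
  · exact le_antisymm h1 (Nat.le_of_dvd (cls_pos a) hdvd)

theorem Hyp.centx_eq (h : Hyp m n x y) : cent x = Subgroup.centralizer (gens x : Set G) := by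
  refine le_antisymm (fun a ha => ?_) fun g hg => ?_
  · rw [Subgroup.mem_centralizer_iff]
    intro t ht
    by_cases haZ : a ∈ Subgroup.center G
    · exact (Subgroup.mem_center_iff.1 haZ t)
    · have hle : gens x ≤ cent a := Solv.normal_le_of_coprime_index _ _
        (by rw [show (cent a).index = n from h.cls_eq ha haZ]; exact h.gens_coprime)
      exact mem_cent.1 (hle ht)
  · obtain ⟨v, hv, hxv⟩ := h.exists_v h.inf_eq
    have h1 : Commute g v := (Subgroup.mem_centralizer_iff.1 hg v hv).symm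
    have h2 := (show Commute g (x * v) from Subgroup.mem_center_iff.1 hxv g).mul_right h1.inv_right
    rw [mul_inv_cancel_right] at h2
    exact mem_cent.2 h2.eq

theorem Hyp.centx_normal (h : Hyp m n x y) : (cent x).Normal := by
  rw [h.centx_eq]; infer_instance

theorem Hyp.centx_comm (h : Hyp m n x y) : ∀ a ∈ cent x, ∀ b ∈ cent x, a * b = b * a := by
  intro a ha b hb
  by_cases haZ : a ∈ Subgroup.center G
  · exact (Subgroup.mem_center_iff.1 haZ b).symm
  have hle : cent x ≤ cent a := by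
    haveI := h.centx_normal
    rw [← Subgroup.relIndex_eq_one]
    refine Nat.eq_one_of_dvd_coprimes h.cop ?_ ?_
    · have h2 : (Subgroup.center G).relIndex (cent x) = m := by
        have h3 := Subgroup.relIndex_mul_index (center_le_cent x)
        rw [show (cent x).index = n from h.hx, h.index_center, mul_comm n m] at h3
        exact Nat.eq_of_mul_eq_mul_right (show 0 < n by have := h.one_lt; omega) h3
      have h4 := Subgroup.relIndex_dvd_of_le_left (cent x) (center_le_cent a)
      rwa [h2] at h4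
    · have := Solv.relIndex_dvd_index_normal (cent a) (cent x)
      rwa [show (cent a).index = n from h.cls_eq ha haZ] at this
  exact (mem_cent.1 (hle hb)).symm

theorem Hyp.frobenius (h : Hyp m n x y) :
    IsFrobeniusComplement ((cent y).map (QuotientGroup.mk' (Subgroup.center G))) ∧
      frobeniusKernel ((cent y).map (QuotientGroup.mk' (Subgroup.center G))) =
        ((cent x).map (QuotientGroup.mk' (Subgroup.center G)) : Set (G ⧸ Subgroup.center G)) := by
  set Z := Subgroup.center G with hZdef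
  set π := QuotientGroup.mk' Z
  set H := (cent y).map π
  set K := (cent x).map π
  haveI := h.centx_normal
  have hker : π.ker = Z := QuotientGroup.ker_mk' Z
  have hmemH : ∀ g : G, π g ∈ H ↔ g ∈ cent y := fun g => by
    rw [← Subgroup.mem_comap, Subgroup.comap_map_eq, hker, sup_eq_left.2 (center_le_cent y)]
  have hmemK : ∀ g : G, π g ∈ K ↔ g ∈ cent x := fun g => by
    rw [← Subgroup.mem_comap, Subgroup.comap_map_eq, hker, sup_eq_left.2 (center_le_cent x)]
  have hHi : H.index = m := by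
    rw [Subgroup.index_map_eq _ (QuotientGroup.mk'_surjective _) (hker.le.trans (center_le_cent y))]
    exact h.hy
  have hKi : K.index = n := by
    rw [Subgroup.index_map_eq _ (QuotientGroup.mk'_surjective _) (hker.le.trans (center_le_cent x))]
    exact h.hx
  have hQ : Nat.card (G ⧸ Z) = n * m := by
    rw [← Subgroup.index_eq_card, ← h.index_inf, h.inf_eq]
  have hHc : IsFrobeniusComplement H := by
    refine ⟨?_, ?_, ?_⟩
    · intro e
      exact h.y_not_central ((QuotientGroup.eq_one_iff y).1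
        ((Subgroup.eq_bot_iff_forall _).1 e _ ((hmemH y).2 (self_mem_cent y))))
    · intro e
      rw [e, Subgroup.index_top] at hHi
      have := h.lt; have := h.one_lt; omega
    intro q hq
    obtain ⟨g, rfl⟩ := QuotientGroup.mk'_surjective Z q
    rw [Subgroup.eq_bot_iff_forall]
    rintro r ⟨hr1, hr2⟩
    obtain ⟨b, rfl⟩ := QuotientGroup.mk'_surjective Z r
    change π g ∉ H at hq
    by_contra hb1
    have hbZ : b ∉ Z := fun hbz => hb1 ((QuotientGroup.eq_one_iff b).2 hbz)
    have hb : b ∈ cent y := (hmemH b).1 hr1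
    have hb' : g⁻¹ * b * g ∈ cent y := by
      rw [← hmemH]
      have := Solv.mem_conj_smul.1 hr2
      simpa only [π, map_mul, map_inv] using this
    rw [← cent_conj_mem] at hb'
    have h2 := h.conj g
    have e1 := h.eq_of_le (fun z hz => mem_cent.2 (h.comm z hz b hb)) hbZ
    have e2 := h2.eq_of_le (fun z hz => mem_cent.2 (h2.comm z hz b hb')) hbZ
    rw [e1] at e2
    -- `g` normalizes `cent y`
    apply hq
    rw [hmemH]
    obtain ⟨a, ha, b0, hb0, rfl⟩ := Perm.mul_of_coprime_index h.cop' g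
    refine mul_mem ?_ hb0
    have hb0' : a * b0 * y * (a * b0)⁻¹ = a * y * a⁻¹ := by
      have : b0 * y = y * b0 := mem_cent.1 hb0
      calc a * b0 * y * (a * b0)⁻¹ = a * (b0 * y) * b0⁻¹ * a⁻¹ := by group
        _ = a * y * a⁻¹ := by rw [this]; group
    rw [hb0'] at e2
    have hay : a * y * a⁻¹ ∈ cent y := e2 ▸ self_mem_cent _
    set t := a * y * a⁻¹ * y⁻¹ with htdef
    have htA : t ∈ cent x := by
      rw [show t = a * (y * a⁻¹ * y⁻¹) by rw [htdef]; group]
      exact mul_mem ha (h.centx_normal.conj_mem _ (inv_mem ha) y)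
    have htB : t ∈ cent y := mul_mem hay (inv_mem (self_mem_cent y))
    have htZ : t ∈ Z := h.inf_eq.le (Subgroup.mem_inf.2 ⟨htA, htB⟩)
    have htc : ∀ z, Commute t z := fun z => (Subgroup.mem_center_iff.1 htZ z).symm
    have ht1 : t ^ n = 1 := by
      have hyn : y ^ n ∈ Z := by
        haveI : (Z.subgroupOf (cent y)).Normal := inferInstance
        have := Subgroup.pow_index_mem (Z.subgroupOf (cent y)) ⟨y, self_mem_cent y⟩
        rw [show (Z.subgroupOf (cent y)).index = n from h.center_index h.inf_eq] at this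
        exact this
      have e : (t * y) ^ n = a * y ^ n * a⁻¹ := by
        rw [← conj_pow, htdef, inv_mul_cancel_right]
      rw [(htc y).mul_pow, Subgroup.mem_center_iff.1 hyn a, mul_inv_cancel_right] at e
      exact mul_eq_right.1 e
    have ht2 : t ^ m = 1 := by
      have ham : a ^ m ∈ Z := by
        haveI : (Z.subgroupOf (cent x)).Normal := inferInstance
        have h3 := Subgroup.pow_index_mem (Z.subgroupOf (cent x)) ⟨a, ha⟩
        have h2' : (Z.subgroupOf (cent x)).index = m := by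
          have h4 := Subgroup.relIndex_mul_index (center_le_cent x)
          rw [show (cent x).index = n from h.hx, h.index_center, mul_comm n m] at h4
          rw [hZdef, ← Subgroup.relIndex]
          exact Nat.eq_of_mul_eq_mul_right (show 0 < n by have := h.one_lt; omega) h4
        rw [h2'] at h3
        exact h3
      have e0 : y * a⁻¹ * y⁻¹ = a⁻¹ * t := by rw [htdef]; group
      have e : (a⁻¹ * t) ^ m = y * (a⁻¹) ^ m * y⁻¹ := by rw [← e0, conj_pow]
      rw [((htc a⁻¹).symm).mul_pow, inv_pow, Subgroup.mem_center_iff.1 (inv_mem ham) y,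
        mul_inv_cancel_right] at e
      exact mul_eq_left.1 e
    have : t = 1 := orderOf_eq_one_iff.1 (Nat.eq_one_of_dvd_coprimes h.cop
      (orderOf_dvd_of_pow_eq_one ht2) (orderOf_dvd_of_pow_eq_one ht1))
    rw [htdef, mul_inv_eq_one, mul_inv_eq_iff_eq_mul] at this
    exact mem_cent.2 this
  refine ⟨hHc, ?_⟩
  have hsub : (K : Set (G ⧸ Z)) ⊆ frobeniusKernel H := by
    intro r hr
    by_cases h1 : r = 1
    · exact Or.inl h1
    refine Or.inr fun q hq => h1 ?_
    haveI : K.Normal := h.centx_normal.map π (QuotientGroup.mk'_surjective Z)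
    obtain ⟨b, hb⟩ := QuotientGroup.mk'_surjective Z (q⁻¹ * r * q)
    have hK1 : q⁻¹ * r * q ∈ K := by
      have := ‹K.Normal›.conj_mem r hr q⁻¹
      rwa [inv_inv] at this
    have hH1 : q⁻¹ * r * q ∈ H := Solv.mem_conj_smul.1 hq
    rw [← hb] at hK1 hH1
    have : π b = 1 := (QuotientGroup.eq_one_iff b).2
      (h.inf_eq.le (Subgroup.mem_inf.2 ⟨(hmemK b).1 hK1, (hmemH b).1 hH1⟩))
    rw [hb] at this
    calc r = q * (q⁻¹ * r * q) * q⁻¹ := by group
      _ = 1 := by rw [this]; group
  have hKcard : Nat.card K = m := by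
    have := K.card_mul_index
    rw [hKi, hQ, mul_comm n m] at this
    exact Nat.eq_of_mul_eq_mul_right (show 0 < n by have := h.one_lt; omega) this
  refine (Set.eq_of_subset_of_ncard_le hsub ?_).symm
  rw [← Nat.card_coe_set_eq, ← Nat.card_coe_set_eq, Solv.frob_kernel_card hHc, hHi]
  exact hKcard.ge

end Main

end Cfsg.Agent.Perm.CoprimeSizes
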