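import Cfsg.Prelude.Def_HallClasses
import Cfsg.Agent.Lib.Solv.Basic

/-!
Pronormality of the overgroups of a Sylow subgroup relative to a normal subgroup.
-/

set_option autoImplicit false

open scoped Pointwise

namespace Cfsg.Agent.Perm.Pronormal

variable {G : Type*} [Group G]

/-- Conjugate subgroup. -/
abbrev cj (g : G) (H : Subgroup G) : Subgroup G := H.map (MulAut.conj g).toMonoidHom

theorem mem_cj {g : G} {H : Subgroup G} {x : G} : x ∈ cj g H ↔ g⁻¹ * x * g ∈ H := by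
  constructor
  · rintro ⟨h, hh, rfl⟩
    simpa [mul_assoc] using hh
  · intro hh
    exact ⟨_, hh, show g * (g⁻¹ * x * g) * g⁻¹ = x by group⟩

theorem cj_cj (a b : G) (H : Subgroup G) : cj a (cj b H) = cj (a * b) H := by
  ext x
  simp only [mem_cj]
  rw [show (a * b)⁻¹ * x * (a * b) = b⁻¹ * (a⁻¹ * x * a) * b by group]

theorem cj_one (H : Subgroup G) : cj 1 H = H := by
  ext x; simp [mem_cj]

theorem cj_eq_self_iff {g : G} {H : Subgroup G} :
    cj g H = H ↔ g ∈ Subgroup.normalizer (H : Set G) := by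
  constructor
  · intro h
    rw [Subgroup.mem_normalizer_iff]
    intro x
    show x ∈ H ↔ g * x * g⁻¹ ∈ H
    conv_rhs => rw [← h, mem_cj]
    rw [show g⁻¹ * (g * x * g⁻¹) * g = x by group]
  · intro h
    ext x
    rw [mem_cj, Subgroup.mem_normalizer_iff.1 h]
    show g * (g⁻¹ * x * g) * g⁻¹ ∈ H ↔ x ∈ H
    rw [show g * (g⁻¹ * x * g) * g⁻¹ = x by group]

theorem cj_eq_self_of_mem {g : G} {H : Subgroup G} (h : g ∈ H) : cj g H = H :=
  cj_eq_self_iff.2 (Subgroup.le_normalizer h)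

theorem cj_le {g : G} {H K : Subgroup G} (h : H ≤ K) : cj g H ≤ cj g K := Subgroup.map_mono h

theorem cj_sup (g : G) (H K : Subgroup G) : cj g (H ⊔ K) = cj g H ⊔ cj g K := Subgroup.map_sup _ _ _

theorem cj_le_of_mem {g : G} {H K : Subgroup G} (hg : g ∈ K) (h : H ≤ K) : cj g H ≤ K :=
  (cj_le h).trans (cj_eq_self_of_mem hg).le

theorem map_cj {M : Type*} [Group M] (f : G →* M) (g : G) (H : Subgroup G) :
    (cj g H).map f = cj (f g) (H.map f) := by
  ext x
  constructor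
  · rintro ⟨_, ⟨h, hh, rfl⟩, rfl⟩
    exact ⟨f h, ⟨h, hh, rfl⟩, by simp⟩
  · rintro ⟨_, ⟨h, hh, rfl⟩, rfl⟩
    exact ⟨_, ⟨h, hh, rfl⟩, by simp⟩

theorem isPronormal_iff {H : Subgroup G} :
    Cfsg.IsPronormal H ↔ ∀ g : G, ∃ x ∈ H ⊔ cj g H, cj g H = cj x H := Iff.rfl

theorem map {M : Type*} [Group M] (f : G →* M) (hf : Function.Surjective f) {H : Subgroup G}
    (h : Cfsg.IsPronormal H) : Cfsg.IsPronormal (H.map f) := by
  rw [isPronormal_iff] at h ⊢
  intro m
  obtain ⟨g, rfl⟩ := hf m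
  obtain ⟨x, hx, he⟩ := h g
  refine ⟨f x, ?_, ?_⟩
  · rw [← map_cj, ← Subgroup.map_sup]; exact Subgroup.mem_map_of_mem f hx
  · rw [← map_cj, ← map_cj, he]

theorem subgroupOf {H K : Subgroup G} (hHK : H ≤ K) (h : Cfsg.IsPronormal H) :
    Cfsg.IsPronormal (H.subgroupOf K) := by
  rw [isPronormal_iff] at h ⊢
  intro k
  have e : ∀ a : K, (cj a (H.subgroupOf K)).map K.subtype = cj (a : G) H := fun a => by
    rw [map_cj, Subgroup.subgroupOf_map_subtype, inf_eq_left.2 hHK]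
    rfl
  obtain ⟨x, hx, he⟩ := h k
  have hxK : x ∈ K := sup_le hHK (cj_le_of_mem k.2 hHK) hx
  refine ⟨⟨x, hxK⟩, ?_, ?_⟩
  · rw [← Subgroup.mem_map_iff_mem (Subgroup.subtype_injective K) (x := (⟨x, hxK⟩ : K)),
      Subgroup.map_sup, e, Subgroup.subgroupOf_map_subtype, inf_eq_left.2 hHK]
    exact hx
  · exact Subgroup.map_injective (Subgroup.subtype_injective K) (by rw [e, e]; exact he)

theorem of_subgroupOf {H K : Subgroup G} (hHK : H ≤ K) (h : Cfsg.IsPronormal (H.subgroupOf K))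
    {g : G} (hg : g ∈ K) : ∃ x ∈ H ⊔ cj g H, cj g H = cj x H := by
  have e : ∀ a : K, (cj a (H.subgroupOf K)).map K.subtype = cj (a : G) H := fun a => by
    rw [map_cj, Subgroup.subgroupOf_map_subtype, inf_eq_left.2 hHK]
    rfl
  obtain ⟨x, hx, he⟩ := isPronormal_iff.1 h ⟨g, hg⟩
  refine ⟨x, ?_, ?_⟩
  · have h2 := Subgroup.mem_map_of_mem K.subtype hx
    rw [Subgroup.map_sup, e, Subgroup.subgroupOf_map_subtype, inf_eq_left.2 hHK] at h2
    exact h2
  · have h2 := congrArg (Subgroup.map K.subtype) he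
    rw [e, e] at h2
    exact h2

theorem of_map {M : Type*} [Group M] (f : G →* M) (hf : Function.Surjective f) {H : Subgroup G}
    (hker : f.ker ≤ H) (h : Cfsg.IsPronormal (H.map f)) : Cfsg.IsPronormal H := by
  rw [isPronormal_iff] at h ⊢
  intro g
  obtain ⟨m, hm, he⟩ := h (f g)
  rw [← map_cj, ← Subgroup.map_sup] at hm
  obtain ⟨x, hx, rfl⟩ := hm
  refine ⟨x, hx, ?_⟩
  rw [← map_cj, ← map_cj] at he
  have hk : ∀ a : G, f.ker ≤ cj a H := fun a k hk => mem_cj.2 (hker (by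
    have := (inferInstance : f.ker.Normal).conj_mem k hk a⁻¹
    rwa [inv_inv] at this))
  exact Subgroup.map_injective_of_ker_le f (hk g) (hk x) he

/-- Sylow subgroups are pronormal; so conjugating a normal Sylow trace can be corrected. -/
theorem sylow_conj_in [Finite G] {p : ℕ} [Fact p.Prime] (T : Subgroup G) {A K : Subgroup G}
    (hTK : T ≤ K) (hKA : K ≤ A) (hT : IsPGroup p T) (hTA : ¬ p ∣ T.relIndex A)
    {g : G} (hg : cj g T ≤ K) : ∃ k ∈ K, cj g T = cj k T := by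
  have hidx : ∀ U : Subgroup G, U ≤ K → Nat.card U = Nat.card T → ¬ p ∣ (U.subgroupOf K).index := by
    intro U hUK hU
    have e1 : Nat.card U * U.relIndex K = Nat.card K := by
      have := Subgroup.relIndex_mul_relIndex (⊥ : Subgroup G) U K bot_le hUK
      rwa [Subgroup.relIndex_bot_left, Subgroup.relIndex_bot_left] at this
    have e2 : Nat.card T * T.relIndex K = Nat.card K := by
      have := Subgroup.relIndex_mul_relIndex (⊥ : Subgroup G) T K bot_le hTK
      rwa [Subgroup.relIndex_bot_left, Subgroup.relIndex_bot_left] at this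
    intro hd
    apply hTA
    rw [← Subgroup.relIndex_mul_relIndex T K A hTK hKA]
    refine Dvd.dvd.mul_right ?_ _
    have : T.relIndex K = U.relIndex K :=
      Nat.eq_of_mul_eq_mul_left Nat.card_pos (e2.trans (e1.symm.trans (by rw [hU])))
    rw [this]; exact hd
  have hc : Nat.card (cj g T) = Nat.card T :=
    Subgroup.card_map_of_injective (MulAut.conj g).injective
  let S1 : Sylow p K := (hT.comap_subtype (K := K)).toSylow (hidx T hTK rfl)
  let S2 : Sylow p K := ((hT.map (MulAut.conj g).toMonoidHom).comap_subtype (K := K)).toSylow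
    (hidx _ hg hc)
  obtain ⟨k, hk⟩ := MulAction.exists_smul_eq K S1 S2
  refine ⟨k, k.2, ?_⟩
  ext x
  constructor
  · intro hx
    have h2 : (⟨x, hg hx⟩ : K) ∈ (S2 : Subgroup K) := hx
    rw [← hk, Sylow.coe_subgroup_smul, Solv.mem_conj_smul] at h2
    exact mem_cj.2 h2
  · intro hx
    have hxK : x ∈ K := cj_le_of_mem k.2 hTK hx
    have h3 : (k : G)⁻¹ * x * k ∈ T := mem_cj.1 hx
    have h2 : k⁻¹ * (⟨x, hxK⟩ : K) * k ∈ (S1 : Subgroup K) := h3
    rw [← Solv.mem_conj_smul, ← Sylow.coe_subgroup_smul, hk] at h2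
    exact h2

section Main

variable [Finite G] {p : ℕ} [Fact p.Prime]

/-- The crucial step: pronormality inside `H A`. -/
theorem inner {A : Subgroup G} [A.Normal]
    (hA : ∀ K : Subgroup A, (∃ P : Sylow p A, (P : Subgroup A) ≤ K) → Cfsg.IsPronormal K)
    {H : Subgroup G} (P : Sylow p G) (hPH : (P : Subgroup G) ≤ H)
    (hN : ∀ K : Subgroup G, (P : Subgroup G) ≤ K →
      K ≤ Subgroup.normalizer (((P : Subgroup G) ⊓ A : Subgroup G) : Set G) →
      ∀ g ∈ Subgroup.normalizer (((P : Subgroup G) ⊓ A : Subgroup G) : Set G),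
        ∃ x ∈ K ⊔ cj g K, cj g K = cj x K)
    {a : G} (ha : a ∈ A) : ∃ x ∈ H ⊔ cj a H, cj a H = cj x H := by
  set T : Subgroup G := (P : Subgroup G) ⊓ A with hT
  set NT := Subgroup.normalizer (T : Set G)
  set D : Subgroup G := H ⊓ A with hD
  have hTD : T ≤ D := inf_le_inf_right A hPH
  have hDA : D ≤ A := inf_le_right
  have hTA : T ≤ A := inf_le_right
  have hTp : IsPGroup p T := P.isPGroup'.to_le inf_le_left
  have hTi : ¬ p ∣ T.relIndex A := by
    rw [hT, Subgroup.inf_relIndex_right]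
    intro hd
    exact P.not_dvd_index (hd.trans (by
      have h1 := Subgroup.relIndex_dvd_index_of_normal (H := A) (K := (P : Subgroup G))
      have h2 := Solv.card_sup_mul_card_inf A (P : Subgroup G)
      have e1 : Nat.card (P ⊓ A : Subgroup G) * (P : Subgroup G).relIndex A = Nat.card A := by
        have := Subgroup.relIndex_mul_relIndex (⊥ : Subgroup G) ((P : Subgroup G) ⊓ A) A bot_le inf_le_right
        rwa [Subgroup.relIndex_bot_left, Subgroup.relIndex_bot_left, Subgroup.inf_relIndex_right] at this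
      rw [inf_comm] at e1
      have hsup : (A ⊔ P : Subgroup G).index * Nat.card (A ⊔ P : Subgroup G) =
          (P : Subgroup G).index * Nat.card P := by
        rw [Subgroup.index_mul_card, Subgroup.index_mul_card]
      refine ⟨(A ⊔ P : Subgroup G).index, Nat.eq_of_mul_eq_mul_right
        (Nat.mul_pos (Nat.card_pos (α := (P : Subgroup G))) (Nat.card_pos (α := (A ⊓ P : Subgroup G)))) ?_⟩
      calc (P : Subgroup G).index * (Nat.card P * Nat.card (A ⊓ P : Subgroup G))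
          = (A ⊔ P : Subgroup G).index * (Nat.card (A ⊔ P : Subgroup G) * Nat.card (A ⊓ P : Subgroup G)) := by
            rw [← mul_assoc, ← hsup, mul_assoc]
        _ = (A ⊔ P : Subgroup G).index * (Nat.card A * Nat.card P) := by rw [h2]
        _ = _ := by rw [← e1]; ring))
  have hHD : H ≤ Subgroup.normalizer (D : Set G) := fun h hh => cj_eq_self_iff.1 (by
    rw [hD, cj, Subgroup.map_inf _ _ _ (MulAut.conj h).injective]
    change cj h H ⊓ cj h A = H ⊓ A
    rw [cj_eq_self_of_mem hh, cj_eq_self_iff.2]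
    rw [Subgroup.normalizer_eq_top]; exact Subgroup.mem_top h)
  have hTnorm : (P : Subgroup G) ≤ NT := fun q hq => cj_eq_self_iff.1 (by
    rw [hT, cj, Subgroup.map_inf _ _ _ (MulAut.conj q).injective]
    change cj q (P : Subgroup G) ⊓ cj q A = _ ⊓ A
    rw [cj_eq_self_of_mem hq, cj_eq_self_iff.2]
    rw [Subgroup.normalizer_eq_top]; exact Subgroup.mem_top q)
  -- pronormality of overgroups of `T` in `A`
  have hA' : ∀ K : Subgroup G, T ≤ K → K ≤ A → ∀ g ∈ A, ∃ x ∈ K ⊔ cj g K, cj g K = cj x K := by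
    intro K hTK hKA g hg
    refine of_subgroupOf hKA (hA _ ⟨(hTp.comap_subtype (K := A)).toSylow hTi, ?_⟩) hg
    exact Subgroup.comap_mono hTK
  set J := H ⊔ cj a H with hJ
  -- step 1: reduce to the normalizer of `D`
  obtain ⟨y, hy, hye⟩ := hA' D hTD hDA a ha
  have hyJ : y ∈ J := sup_le_sup inf_le_left (cj_le inf_le_left) hy
  have hyA : y ∈ A := sup_le hDA (cj_le_of_mem ha hDA) hy
  set n1 := y⁻¹ * a with hn1
  have hn1D : cj n1 D = D := by
    rw [hn1, ← cj_cj, hye, cj_cj, inv_mul_cancel, cj_one]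
  have hn1A : n1 ∈ A := mul_mem (inv_mem hyA) ha
  -- step 2: reduce to the normalizer of `T`
  obtain ⟨d, hd, hde⟩ := sylow_conj_in T hTD hDA hTp hTi (g := n1)
    ((cj_le hTD).trans hn1D.le)
  set n2 := d⁻¹ * n1 with hn2
  have hn2T : n2 ∈ NT := cj_eq_self_iff.1 (by
    rw [hn2, ← cj_cj, hde, cj_cj, inv_mul_cancel, cj_one])
  have hdA : d ∈ A := hDA hd
  have hn2A : n2 ∈ A := mul_mem (inv_mem hdA) hn1A
  have hdJ : y * d ∈ J := mul_mem hyJ (Subgroup.mem_sup_left hd.1)
  -- step 3: the normalizer of `T`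
  set H0 := H ⊓ NT with hH0
  have hH0H : H0 ≤ H := inf_le_left
  have hPH0 : (P : Subgroup G) ≤ H0 := le_inf hPH hTnorm
  obtain ⟨z, hz, hze⟩ := hN H0 hPH0 inf_le_right n2 hn2T
  have hzHA : z ∈ (A ⊔ H0 : Subgroup G) :=
    sup_le le_sup_right (cj_le_of_mem (Subgroup.mem_sup_left hn2A) le_sup_right) hz
  rw [← SetLike.mem_coe, Subgroup.normal_mul A H0] at hzHA
  obtain ⟨z1, hz1, h0, hh0, rfl⟩ := hzHA
  have ha_eq : a = y * d * n2 := by rw [hn2, hn1]; group
  have hconj : ∀ {L : Subgroup G}, L ≤ H → cj (y * d) L ≤ J ∧ cj (y * d * n2) L ≤ J := fun {L} hL =>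
    ⟨cj_le_of_mem hdJ (hL.trans le_sup_left), ha_eq ▸ (cj_le hL).trans le_sup_right⟩
  have hJc : ∀ {L : Subgroup G} {g : G}, L ≤ H → g ∈ L ⊔ cj n2 L → y * d * g * (y * d)⁻¹ ∈ J := by
    intro L g hL hg
    have h1 : cj (y * d) (L ⊔ cj n2 L) ≤ J := by
      rw [cj_sup, cj_cj]; exact sup_le (hconj hL).1 (hconj hL).2
    exact h1 (mem_cj.2 (by rwa [show (y * d)⁻¹ * (y * d * g * (y * d)⁻¹) * (y * d) = g by group]))
  have hz1e : cj n2 H0 = cj z1 H0 := by rw [hze, ← cj_cj, cj_eq_self_of_mem hh0]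
  have hz1J : y * d * z1 * (y * d)⁻¹ ∈ J := by
    have h1 := hJc hH0H hz
    have h2 := hJc hH0H (Subgroup.mem_sup_left (T := cj n2 H0) hh0)
    have h3 := mul_mem h1 (inv_mem h2)
    rwa [show y * d * (z1 * h0) * (y * d)⁻¹ * (y * d * h0 * (y * d)⁻¹)⁻¹ =
      y * d * z1 * (y * d)⁻¹ by group] at h3
  set n := z1⁻¹ * n2 with hn
  have hnH0 : cj n H0 = H0 := by rw [hn, ← cj_cj, hz1e, cj_cj, inv_mul_cancel, cj_one]
  have hnA : n ∈ A := mul_mem (inv_mem hz1) hn2A
  have hz1T : z1 ∈ NT := by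
    have hz' : z1 * h0 ∈ NT := sup_le inf_le_right (cj_le_of_mem hn2T inf_le_right) hz
    have := mul_mem hz' (inv_mem hh0.2)
    rwa [mul_inv_cancel_right] at this
  have hnT : n ∈ NT := mul_mem (inv_mem hz1T) hn2T
  -- step 4: make the correction normalize `H0`
  set w := y * d * z1 with hw
  have hwJ : w ∈ J := by
    have := mul_mem hz1J hdJ
    rwa [show y * d * z1 * (y * d)⁻¹ * (y * d) = w by rw [hw]; group] at this
  have haw : a = w * n := by rw [hw, hn, ha_eq]; group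
  obtain ⟨u, hu, hue⟩ := hA' D hTD hDA n hnA
  set B := D ⊔ cj n D
  have hBA : B ≤ A := sup_le hDA (cj_le_of_mem hnA hDA)
  obtain ⟨b, hb, hbe⟩ := sylow_conj_in T (le_sup_left.trans' hTD : T ≤ B) hBA hTp hTi (g := u⁻¹)
    ((cj_le (hTD.trans le_sup_left)).trans (cj_le_of_mem (inv_mem hu) le_rfl))
  have hTdisj : ∀ g, cj g T = T → g ∈ NT := fun g hg => cj_eq_self_iff.1 hg
  -- a representative in the normalizer of `T`
  obtain ⟨v, hvB, hvT, hve⟩ : ∃ v ∈ B, v ∈ NT ∧ cj v D = cj n D := by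
    have h1 : cj (u⁻¹ * n) D = D := by rw [← cj_cj, hue, cj_cj, inv_mul_cancel, cj_one]
    obtain ⟨e, he, hee⟩ := sylow_conj_in T hTD hDA hTp hTi (g := u⁻¹ * n) ((cj_le hTD).trans h1.le)
    refine ⟨u * e, mul_mem hu (Subgroup.mem_sup_left he), hTdisj _ ?_, ?_⟩
    · rw [← cj_cj, ← hee, cj_cj, mul_inv_cancel_left]
      exact cj_eq_self_iff.2 hnT
    · rw [← cj_cj, cj_eq_self_of_mem he, hue]
  set X0 : Subgroup G := B ⊓ NT ⊓ Subgroup.normalizer (D : Set G)
  set H2 := H0 ⊔ X0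
  have hH2T : H2 ≤ NT := sup_le inf_le_right (inf_le_left.trans inf_le_right)
  have hfixn : ∀ h ∈ H0, cj h (cj n D) = cj n D := by
    intro h hh
    have h1 : h ∈ cj n H0 := by rw [hnH0]; exact hh
    have h2 := mem_cj.1 h1
    calc cj h (cj n D) = cj n (cj (n⁻¹ * h * n) D) := by
          rw [cj_cj, cj_cj]; congr 1; group
      _ = cj n D := by rw [cj_eq_self_iff.2 (hHD h2.1)]
  have hBinv : ∀ h ∈ H0, cj h B = B := fun h hh => by
    rw [cj_sup, cj_eq_self_iff.2 (hHD hh.1), hfixn h hh]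
  have hcomm : ∀ h ∈ H0, v⁻¹ * h * v ∈ H2 := by
    intro h hh
    have hh1 : h⁻¹ * v⁻¹ * h ∈ B := by
      have : h⁻¹ * v⁻¹ * h ∈ cj h⁻¹ B := mem_cj.2 (by
        rw [show h⁻¹⁻¹ * (h⁻¹ * v⁻¹ * h) * h⁻¹ = v⁻¹ by group]; exact inv_mem hvB)
      rwa [hBinv _ (inv_mem hh)] at this
    have hx : h⁻¹ * v⁻¹ * h * v ∈ X0 := by
      refine Subgroup.mem_inf.2 ⟨Subgroup.mem_inf.2 ⟨mul_mem hh1 hvB, ?_⟩, cj_eq_self_iff.1 ?_⟩
      · exact mul_mem (mul_mem (mul_mem (inv_mem hh.2) (inv_mem hvT)) hh.2) hvT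
      · rw [← cj_cj, hve, ← cj_cj, hfixn h hh, ← hve, cj_cj, inv_mul_cancel_right,
          cj_eq_self_iff.2 (hHD (inv_mem hh.1))]
    have := mul_mem (Subgroup.mem_sup_left (T := X0) hh) (Subgroup.mem_sup_right (S := H0) hx)
    rwa [show h * (h⁻¹ * v⁻¹ * h * v) = v⁻¹ * h * v by group] at this
  have hH2 : cj v⁻¹ H0 ≤ H2 := by
    intro g hg
    rw [mem_cj, inv_inv] at hg
    have := hcomm _ hg
    rwa [show v⁻¹ * (v * g * v⁻¹) * v = g by group] at this
  obtain ⟨e, he, hee⟩ := hN H0 hPH0 inf_le_right v⁻¹ (inv_mem hvT)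
  have he2 : e ∈ H2 := sup_le le_sup_left hH2 he
  have hX0n : H0 ≤ Subgroup.normalizer (X0 : Set G) := fun h hh => cj_eq_self_iff.1 (by
    rw [cj, Subgroup.map_inf _ _ _ (MulAut.conj h).injective,
      Subgroup.map_inf _ _ _ (MulAut.conj h).injective]
    change cj h B ⊓ cj h NT ⊓ cj h (Subgroup.normalizer (D : Set G)) = _
    rw [hBinv h hh, cj_eq_self_of_mem hh.2, cj_eq_self_of_mem (hHD hh.1)])
  have he3 : e ∈ ((X0 ⊔ H0 : Subgroup G) : Set G) := by rw [sup_comm]; exact he2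
  rw [Subgroup.coe_mul_of_right_le_normalizer_left X0 H0 hX0n] at he3
  obtain ⟨e1, he1, e2, he2', rfl⟩ := he3
  rw [← cj_cj e1 e2, cj_eq_self_of_mem he2'] at hee
  set k := v * e1
  have hkH0 : cj k H0 = H0 := by
    rw [← cj_cj, ← hee, cj_cj, mul_inv_cancel, cj_one]
  have hkD : cj k D = cj n D := by rw [← cj_cj, cj_eq_self_iff.2 he1.2, hve]
  have hkB : k ∈ B := mul_mem hvB he1.1.1
  -- Frattini: `H = H0 D`
  have hH : H = H0 ⊔ D := by
    refine le_antisymm (fun h hh => ?_) (sup_le hH0H inf_le_left)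
    obtain ⟨d', hd', hde'⟩ := sylow_conj_in T hTD hDA hTp hTi (g := h)
      ((cj_le hTD).trans (cj_eq_self_iff.2 (hHD hh)).le)
    have h1 : d'⁻¹ * h ∈ H0 := Subgroup.mem_inf.2 ⟨mul_mem (inv_mem hd'.1) hh,
      hTdisj _ (by rw [← cj_cj, hde', cj_cj, inv_mul_cancel, cj_one])⟩
    have := mul_mem (Subgroup.mem_sup_right (S := H0) hd') (Subgroup.mem_sup_left (T := D) h1)
    rwa [mul_inv_cancel_left] at this
  have hnH : cj n H = cj k H := by
    rw [hH, cj_sup, cj_sup, hnH0, hkH0, hkD]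
  refine ⟨w * k, ?_, ?_⟩
  · have h1 : cj w B ≤ J := by
      rw [cj_sup, cj_cj, ← haw]
      exact sup_le (cj_le_of_mem hwJ (inf_le_left.trans le_sup_left)) ((cj_le inf_le_left).trans le_sup_right)
    have h2 := h1 (mem_cj.2 (by rwa [show w⁻¹ * (w * k * w⁻¹) * w = k by group]) : w * k * w⁻¹ ∈ cj w B)
    have := mul_mem h2 hwJ
    rwa [inv_mul_cancel_right] at this
  · rw [haw, ← cj_cj, hnH, cj_cj]

/-- Overgroups of Sylow subgroups are pronormal: reduction to `N_G(T)` and the quotient. -/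
theorem iff_main (A : Subgroup G) [A.Normal]
    (hA : ∀ K : Subgroup A, (∃ P : Sylow p A, (P : Subgroup A) ≤ K) → Cfsg.IsPronormal K)
    (hQ : ∀ K : Subgroup (G ⧸ A), (∃ P : Sylow p (G ⧸ A), (P : Subgroup (G ⧸ A)) ≤ K) → Cfsg.IsPronormal K)
    (T : Subgroup G) (hT : ∃ P : Sylow p A, (P : Subgroup A).map A.subtype = T)
    [(T.subgroupOf (Subgroup.normalizer (T : Set G))).Normal] :
    (∀ K : Subgroup G, (∃ P : Sylow p G, (P : Subgroup G) ≤ K) → Cfsg.IsPronormal K) ↔
      ((∀ K : Subgroup (↥(Subgroup.normalizer (T : Set G)) ⧸ T.subgroupOf (Subgroup.normalizer (T : Set G))),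
          (∃ P : Sylow p (↥(Subgroup.normalizer (T : Set G)) ⧸ T.subgroupOf (Subgroup.normalizer (T : Set G))),
            (P : Subgroup (↥(Subgroup.normalizer (T : Set G)) ⧸ T.subgroupOf (Subgroup.normalizer (T : Set G)))) ≤ K) →
          Cfsg.IsPronormal K) ∧
        ∀ K : Subgroup G, (∃ P : Sylow p G, (P : Subgroup G) ≤ K) →
          (Subgroup.normalizer (K : Set G)).map (QuotientGroup.mk' A) =
            Subgroup.normalizer ((K.map (QuotientGroup.mk' A) : Subgroup (G ⧸ A)) : Set (G ⧸ A))) := by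
  set N := Subgroup.normalizer (T : Set G) with hNdef
  set π := QuotientGroup.mk' (T.subgroupOf N)
  obtain ⟨TA, hTA⟩ := hT
  have hTA' : T ≤ A := hTA ▸ Subgroup.map_subtype_le _
  -- Sylow subgroups of `G` lying in `N`
  have hTp : IsPGroup p T := hTA ▸ TA.isPGroup'.map _
  have hTidx : ¬ p ∣ T.relIndex A := by
    rw [← hTA, Subgroup.relIndex, Subgroup.subgroupOf, Subgroup.comap_map_eq_self_of_injective (Subgroup.subtype_injective A)]
    exact TA.not_dvd_index
  have hPT : ∀ P : Sylow p G, T ≤ (P : Subgroup G) → (P : Subgroup G) ⊓ A = T := by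
    intro P hle
    refine (Subgroup.relIndex_eq_one.1 ?_).antisymm (le_inf hle hTA')
    obtain ⟨i, hi⟩ := IsPGroup.iff_card.1 (P.isPGroup'.to_le (inf_le_left : (P : Subgroup G) ⊓ A ≤ P))
    obtain ⟨j, -, hj⟩ := (Nat.dvd_prime_pow (Fact.out : p.Prime)).1
      (hi ▸ Subgroup.relIndex_dvd_card T ((P : Subgroup G) ⊓ A))
    rcases j with _ | j
    · rwa [pow_zero] at hj
    · refine absurd (show p ∣ T.relIndex ((P : Subgroup G) ⊓ A) by rw [hj]; exact dvd_pow_self p j.succ_ne_zero) fun hd => hTidx ?_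
      refine hd.trans ?_
      exact ⟨_, (Subgroup.relIndex_mul_relIndex T _ A (le_inf hle hTA') inf_le_right).symm⟩
  obtain ⟨P0, hP0⟩ := hTp.exists_le_sylow
  have hPN : ∀ P : Sylow p G, T ≤ (P : Subgroup G) → (P : Subgroup G) ≤ N := by
    intro P hle q hq
    rw [hNdef, ← cj_eq_self_iff, ← hPT P hle, cj, Subgroup.map_inf _ _ _ (MulAut.conj q).injective]
    change cj q (P : Subgroup G) ⊓ cj q A = _
    rw [cj_eq_self_of_mem hq, cj_eq_self_iff.2]
    rw [Subgroup.normalizer_eq_top]; exact Subgroup.mem_top q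
  constructor
  · intro hall
    refine ⟨fun K hK => ?_, fun K hK => ?_⟩
    · obtain ⟨S, hS⟩ := hK
      set K1 := K.comap π
      -- a Sylow subgroup of `G` inside `K1`
      let P0N : Sylow p N := P0.subtype (hPN P0 hP0)
      obtain ⟨q, hq⟩ := MulAction.exists_smul_eq (↥N ⧸ T.subgroupOf N)
        (P0N.mapSurjective (QuotientGroup.mk'_surjective (T.subgroupOf N))) S
      obtain ⟨g, rfl⟩ := QuotientGroup.mk'_surjective (T.subgroupOf N) q
      have hle : ((g : G) • P0 : Sylow p G) ≤ K1.map N.subtype := by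
        intro x hx
        rw [Sylow.coe_subgroup_smul, Solv.mem_conj_smul] at hx
        have hxN : x ∈ N := by
          have h2 := mul_mem (mul_mem g.2 (hPN P0 hP0 hx)) (inv_mem g.2)
          rwa [show (g : G) * ((g : G)⁻¹ * x * g) * (g : G)⁻¹ = x by group] at h2
        refine ⟨⟨x, hxN⟩, hS ?_, rfl⟩
        rw [← hq, Sylow.coe_subgroup_smul, Solv.mem_conj_smul]
        exact ⟨g⁻¹ * ⟨x, hxN⟩ * g, hx, rfl⟩
      have h1 := subgroupOf (K := N) (Subgroup.map_subtype_le K1) (hall _ ⟨_, hle⟩)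
      rw [Subgroup.subgroupOf, Subgroup.comap_map_eq_self_of_injective (Subgroup.subtype_injective N)] at h1
      have h2 := map π (QuotientGroup.mk'_surjective _) h1
      rwa [Subgroup.map_comap_eq_self_of_surjective (QuotientGroup.mk'_surjective _)] at h2
    · refine le_antisymm (Subgroup.le_normalizer_map _) fun q hq => ?_
      obtain ⟨g, rfl⟩ := QuotientGroup.mk'_surjective A q
      obtain ⟨x, hx, he⟩ := isPronormal_iff.1 (hall K hK) g
      have hxn : x⁻¹ * g ∈ Subgroup.normalizer (K : Set G) := cj_eq_self_iff.1 (by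
        rw [← cj_cj, he, cj_cj, inv_mul_cancel, cj_one])
      have hxK : QuotientGroup.mk' A x ∈ K.map (QuotientGroup.mk' A) := by
        have h2 := Subgroup.mem_map_of_mem (QuotientGroup.mk' A) hx
        rwa [Subgroup.map_sup, map_cj, cj_eq_self_iff.2 hq, sup_idem] at h2
      have := mul_mem (Subgroup.map_mono Subgroup.le_normalizer hxK)
        (Subgroup.mem_map_of_mem (QuotientGroup.mk' A) hxn)
      rwa [← map_mul, mul_inv_cancel_left] at this
  · rintro ⟨hi, hii⟩ H ⟨P1, hP1⟩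
    -- move to `T`
    obtain ⟨c, hc⟩ : ∃ c : G, T ≤ ((c • P1 : Sylow p G) : Subgroup G) := by
      obtain ⟨c, hc⟩ := MulAction.exists_smul_eq G P1 P0
      exact ⟨c, hc ▸ hP0⟩
    have hcH : ((c • P1 : Sylow p G) : Subgroup G) ≤ cj c H := by
      intro x hx
      rw [Sylow.coe_subgroup_smul, Solv.mem_conj_smul] at hx
      exact mem_cj.2 (hP1 hx)
    suffices key : Cfsg.IsPronormal (cj c H) by
      have := map (MulAut.conj c⁻¹).toMonoidHom (MulAut.conj c⁻¹).surjective key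
      change Cfsg.IsPronormal (cj c⁻¹ (cj c H)) at this
      rwa [cj_cj, inv_mul_cancel, cj_one] at this
    generalize cj c H = H' at hcH ⊢
    generalize c • P1 = P at hcH hc
    have hP := hcH
    set πA := QuotientGroup.mk' A
    have hN' : ∀ K : Subgroup G, (P : Subgroup G) ≤ K → K ≤ N → ∀ g ∈ N,
        ∃ x ∈ K ⊔ cj g K, cj g K = cj x K := by
      intro K hPK hKN g hg
      refine of_subgroupOf hKN (of_map π (QuotientGroup.mk'_surjective _) ?_ (hi _ ?_)) hg
      · rw [QuotientGroup.ker_mk']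
        exact Subgroup.comap_mono (hc.trans hPK)
      · exact ⟨(P.subtype (hPN P hc)).mapSurjective (QuotientGroup.mk'_surjective _),
          Subgroup.map_mono (Subgroup.comap_mono hPK)⟩
    rw [isPronormal_iff]
    intro g
    obtain ⟨q, hq, hqe⟩ := isPronormal_iff.1 (hQ (H'.map πA)
      ⟨P.mapSurjective (QuotientGroup.mk'_surjective A), Subgroup.map_mono hP⟩) (πA g)
    rw [← map_cj, ← Subgroup.map_sup] at hq
    obtain ⟨x, hx, rfl⟩ := hq
    have hn : πA (x⁻¹ * g) ∈ Subgroup.normalizer ((H'.map πA : Subgroup (G ⧸ A)) : Set (G ⧸ A)) :=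
      cj_eq_self_iff.1 (by rw [map_mul, map_inv, ← cj_cj, hqe, cj_cj, inv_mul_cancel, cj_one])
    rw [← hii H' ⟨P, hP⟩] at hn
    obtain ⟨m, hm, hme⟩ := hn
    set a := x⁻¹ * g * m⁻¹ with hadef
    have haA : a ∈ A := by
      rw [← QuotientGroup.eq_one_iff]
      show πA a = 1
      rw [hadef, map_mul, map_inv, hme, mul_inv_cancel]
    have hTP : (P : Subgroup G) ⊓ A = T := hPT P hc
    obtain ⟨y, hy, hye⟩ := inner hA P hP (by rw [hTP]; exact hN') haA
    have hga : g = x * a * m := by rw [hadef]; group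
    have hgH : cj g H' = cj x (cj a H') := by
      rw [hga, ← cj_cj, cj_eq_self_iff.2 hm, ← cj_cj]
    refine ⟨x * y, ?_, by rw [hgH, hye, cj_cj]⟩
    have h1 : x * y * x⁻¹ ∈ H' ⊔ cj g H' := by
      have h2 : x * y * x⁻¹ ∈ cj x (H' ⊔ cj a H') :=
        mem_cj.2 (by rwa [show x⁻¹ * (x * y * x⁻¹) * x = y by group])
      rw [cj_sup, ← hgH] at h2
      exact sup_le (cj_le_of_mem hx le_sup_left) le_sup_right h2
    have := mul_mem h1 hx
    rwa [inv_mul_cancel_right] at this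

end Main

end Cfsg.Agent.Perm.Pronormal
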