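import Cfsg.Agent.S0713
import Cfsg.Agent.Lib.Perm.Sharp2
import Mathlib.GroupTheory.Transfer
import Mathlib.GroupTheory.SpecificGroups.Alternating
import Mathlib.GroupTheory.SpecificGroups.Alternating.Simple
import Mathlib.GroupTheory.GroupAction.SubMulAction.OfStabilizer

/-!
Alternating groups generated by elements of two large prime orders.
-/

set_option autoImplicit false

namespace Cfsg.Agent.Perm.TwoPrime

open Equiv Equiv.Perm MulAction
open scoped Pointwise

section General

variable {G : Type*} [Group G]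

theorem prime_orbit_le {X : Type*} [MulAction G X] {g : G} {r : ℕ} (hr : r.Prime)
    (hg : orderOf g = r) {z : X} (hz : g • z ≠ z) (s : Set X) (hs : s.Finite)
    (hsub : ∀ i : ℕ, g ^ i • z ∈ s) : r ≤ s.ncard := by
  have hfin : ∀ i < r, g ^ i • z = z → i = 0 := by
    intro i hi e
    by_contra h0
    have h1 : g ^ i ∈ stabilizer G z := e
    have h2 : g ∈ Subgroup.zpowers (g ^ i) := by
      have hco : (orderOf g).Coprime i := by
        rw [hg]; exact Nat.coprime_of_lt_prime h0 hi hr
      obtain ⟨m, hm⟩ := exists_pow_eq_self_of_coprime hco.symm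
      exact ⟨(m : ℤ), (zpow_natCast _ _).trans hm⟩
    exact hz ((Subgroup.zpowers_le.2 h1) h2)
  have key : ∀ i j, i ≤ j → j < r → g ^ i • z = g ^ j • z → i = j := by
    intro i j hij hj e
    obtain ⟨k, rfl⟩ : ∃ k, j = i + k := ⟨j - i, by omega⟩
    rw [pow_add, mul_smul] at e
    have := hfin k (by omega) (smul_left_cancel _ e).symm
    omega
  calc r = ((fun i : ℕ => g ^ i • z) '' (Set.Iio r)).ncard := by
        rw [Set.InjOn.ncard_image, Set.ncard_eq_toFinset_card', Set.toFinset_Iio, Nat.card_Iio]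
        intro i hi j hj e
        rcases le_total i j with h | h
        · exact key i j h hj e
        · exact (key j i h hi e.symm).symm
    _ ≤ s.ncard := Set.ncard_le_ncard (by rintro _ ⟨i, -, rfl⟩; exact hsub i) hs

theorem orderOf_dvd_card' {K : Subgroup G} {x : G} (hx : x ∈ K) : orderOf x ∣ Nat.card K := by
  rw [← Subgroup.orderOf_mk x hx]; exact orderOf_dvd_natCard _

theorem conj_mem_zpowers [Finite G] (K : Subgroup G) {x y : G} (hxK : x ∈ K) (hyK : y ∈ K) {r : ℕ}
    (hr : r.Prime) (hx : orderOf x = r) (hy : orderOf y = r) (h2 : ¬ r ^ 2 ∣ Nat.card K) :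
    ∃ h ∈ K, h * y * h⁻¹ ∈ Subgroup.zpowers x := by
  haveI := Fact.mk hr
  have hfac : (Nat.card K).factorization r = 1 := by
    have h1 : r ∣ Nat.card K := hx ▸ orderOf_dvd_card' hxK
    have h3 := (hr.dvd_iff_one_le_factorization (Nat.card_pos).ne').1 h1
    have h4 : ¬ 2 ≤ (Nat.card K).factorization r := fun h =>
      h2 ((hr.pow_dvd_iff_le_factorization (Nat.card_pos).ne').2 h)
    omega
  let S₁ : Sylow r K := Sylow.ofCard (Subgroup.zpowers ⟨x, hxK⟩) (by
    rw [Nat.card_zpowers, Subgroup.orderOf_mk, hx, hfac, pow_one])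
  let S₂ : Sylow r K := Sylow.ofCard (Subgroup.zpowers ⟨y, hyK⟩) (by
    rw [Nat.card_zpowers, Subgroup.orderOf_mk, hy, hfac, pow_one])
  obtain ⟨h, hh⟩ := MulAction.exists_smul_eq K S₂ S₁
  have h1 : h * ⟨y, hyK⟩ * h⁻¹ ∈ (S₁ : Subgroup K) := by
    rw [← hh, Sylow.coe_subgroup_smul, Subgroup.mem_smul_pointwise_iff_exists]
    exact ⟨⟨y, hyK⟩, Subgroup.mem_zpowers _, by simp⟩
  obtain ⟨i, hi⟩ := h1
  exact ⟨h, h.2, i, congrArg Subtype.val hi⟩

theorem card_dvd_factorial [Finite G] [IsSimpleGroup G] (M : Subgroup G) (hM : M ≠ ⊤) :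
    Nat.card G ∣ M.index.factorial := by
  have hbot : M.normalCore = ⊥ := by
    rcases M.normalCore_normal.eq_bot_or_eq_top with h | h
    · exact h
    · exact absurd (top_le_iff.1 (h ▸ M.normalCore_le)) hM
  let f : G →* Perm (G ⧸ M) := toPermHom G (G ⧸ M)
  have hf : Function.Injective f := by
    rw [← MonoidHom.ker_eq_bot_iff, ← Subgroup.normalCore_eq_ker, hbot]
  have h1 := Subgroup.card_dvd_of_injective f hf
  rwa [Nat.card_perm, ← Subgroup.index_eq_card] at h1

theorem conj_pow_of_conj {x u : G} {k : ℕ} (h : u * x * u⁻¹ = x ^ k) :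
    ∀ n : ℕ, u ^ n * x * (u ^ n)⁻¹ = x ^ (k ^ n) := by
  intro n
  induction n with
  | zero => simp
  | succ n ih =>
    calc u ^ (n + 1) * x * (u ^ (n + 1))⁻¹ = u * (u ^ n * x * (u ^ n)⁻¹) * u⁻¹ := by
          rw [pow_succ']; group
      _ = (u * x * u⁻¹) ^ (k ^ n) := by rw [ih, conj_pow]
      _ = x ^ (k ^ (n + 1)) := by rw [h, ← pow_mul, pow_succ']

theorem conj_pow_cast {x u : G} {r k n : ℕ} (hx : orderOf x = r) (h : u * x * u⁻¹ = x ^ k)
    (hu : u ^ n = 1) : (k : ZMod r) ^ n = 1 := by
  have h1 := conj_pow_of_conj h n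
  rw [hu, one_mul, inv_one, mul_one] at h1
  have h2 : x ^ (k ^ n) = x ^ 1 := by rw [← h1, pow_one]
  rw [pow_eq_pow_iff_modEq, hx, ← ZMod.natCast_eq_natCast_iff] at h2
  exact_mod_cast h2

theorem pow_eq_of_cast {x : G} {r a b : ℕ} (hx : orderOf x = r) (h : (a : ZMod r) = b) :
    x ^ a = x ^ b := by
  rw [pow_eq_pow_iff_modEq, hx, ← ZMod.natCast_eq_natCast_iff]; exact h

theorem exists_conj_pow [Finite G] {x u : G} (h : u * x * u⁻¹ ∈ Subgroup.zpowers x) :
    ∃ k : ℕ, u * x * u⁻¹ = x ^ k := by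
  obtain ⟨k, hk⟩ := mem_powers_iff_mem_zpowers.2 h
  exact ⟨k, hk.symm⟩

/-- An element normalising a prime cyclic group has a power centralising or inverting. -/
theorem exists_two_part [Finite G] {x u : G} {r : ℕ} [Fact r.Prime] (hx : orderOf x = r) {k : ℕ}
    (h : u * x * u⁻¹ = x ^ k) {e : ℕ} (he : (u ^ e) ^ 2 = 1) :
    u ^ e * x * (u ^ e)⁻¹ = x ∨ u ^ e * x * (u ^ e)⁻¹ = x⁻¹ := by
  have h1 := conj_pow_of_conj h e
  have h2 := conj_pow_cast hx h1 he
  rcases sq_eq_one_iff.1 h2 with h3 | h3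
  · left
    rw [h1, pow_eq_of_cast hx (b := 1) (by rw [h3, Nat.cast_one]), pow_one]
  · right
    rw [h1, eq_inv_iff_mul_eq_one, ← pow_succ, ← orderOf_dvd_iff_pow_eq_one, hx,
      ← ZMod.natCast_eq_zero_iff, Nat.cast_succ, h3, neg_add_cancel]

end General

variable {α : Type*} [Fintype α] [DecidableEq α]

theorem three_transitive (H : Subgroup (Perm α)) (hH : IsPreprimitive H α) {x : Perm α} {p : ℕ}
    (hp : p.Prime) (hxH : x ∈ H) (hxc : x.IsCycle) (hxs : x.support.card = p)
    (hd : Fintype.card α = p + 2) :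
    ∀ a b c a' b' c' : α, a ≠ b → a ≠ c → b ≠ c → a' ≠ b' → a' ≠ c' → b' ≠ c' →
      ∃ g ∈ H, g a = a' ∧ g b = b' ∧ g c = c' := by
  classical
  haveI := Fact.mk hp
  set s : Set α := ((x.support : Set α))ᶜ with hsdef
  have hscard : s.ncard = 1 + 1 := by
    rw [hsdef, Set.ncard_compl, Set.ncard_coe_finset, hxs, Nat.card_eq_fintype_card]; omega
  have hmems : ∀ z, z ∈ s ↔ x z = z := fun z => by simp [hsdef]
  have hgs : (⟨x, hxH⟩ : H) ∈ fixingSubgroup H s :=
    (mem_fixingSubgroup_iff H).2 fun z hz => (hmems z).1 hz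
  have hnot : ∀ z : SubMulAction.ofFixingSubgroup H s, x (z : α) ≠ z := fun z =>
    fun e => (SubMulAction.mem_ofFixingSubgroup_iff H).1 z.2 ((hmems _).2 e)
  have hcard : Nat.card (SubMulAction.ofFixingSubgroup H s) = p := by
    have h1 : Nat.card (SubMulAction.ofFixingSubgroup H s) = (sᶜ : Set α).ncard := rfl
    rw [h1, hsdef, compl_compl, Set.ncard_coe_finset, hxs]
  have htr : MulAction.IsPretransitive (fixingSubgroup H s) (SubMulAction.ofFixingSubgroup H s) :=
    ⟨fun z w => by
      obtain ⟨i, -, hi⟩ := (hxc.sameCycle (hnot z) (hnot w)).exists_pow_eq'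
      exact ⟨⟨⟨x, hxH⟩, hgs⟩ ^ i, Subtype.ext hi⟩⟩
  have hprim : MulAction.IsPreprimitive (fixingSubgroup H s) (SubMulAction.ofFixingSubgroup H s) :=
    MulAction.IsPreprimitive.of_prime_card (hcard ▸ hp)
  have hmp := (MulAction.IsPreprimitive.isMultiplyPreprimitive hH hscard
    (by rw [Nat.card_eq_fintype_card]; have := hp.two_le; omega) hprim).isMultiplyPretransitive
  intro a b c a' b' c' h1 h2 h3 h4 h5 h6
  have hinj : ∀ u v w : α, u ≠ v → u ≠ w → v ≠ w → Function.Injective ![u, v, w] := by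
    intro u v w huv huw hvw i j hij
    fin_cases i <;> fin_cases j <;> simp_all
  haveI : IsMultiplyPretransitive H α 3 := hmp
  obtain ⟨g, hg⟩ := MulAction.exists_smul_eq H
    (⟨![a, b, c], hinj a b c h1 h2 h3⟩ : Fin 3 ↪ α) ⟨![a', b', c'], hinj a' b' c' h4 h5 h6⟩
  exact ⟨g, g.2, congrArg (fun e : Fin 3 ↪ α => e 0) hg, congrArg (fun e : Fin 3 ↪ α => e 1) hg,
    congrArg (fun e : Fin 3 ↪ α => e 2) hg⟩

theorem three_dvd_card (H : Subgroup (Perm α)) (h5 : 3 ≤ Fintype.card α)
    (h3 : ∀ a b c a' b' c' : α, a ≠ b → a ≠ c → b ≠ c → a' ≠ b' → a' ≠ c' → b' ≠ c' →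
      ∃ g ∈ H, g a = a' ∧ g b = b' ∧ g c = c') :
    (Fintype.card α).descFactorial 3 ∣ Nat.card H := by
  obtain ⟨e⟩ : Nonempty (Fin 3 ↪ α) :=
    Function.Embedding.nonempty_of_card_le (by rwa [Fintype.card_fin])
  have hpre : ∀ e f : Fin 3 ↪ α, ∃ g : H, g • e = f := fun e f => by
    obtain ⟨g, hg, h0, h1, h2⟩ := h3 (e 0) (e 1) (e 2) (f 0) (f 1) (f 2)
      (e.injective.ne (by decide)) (e.injective.ne (by decide)) (e.injective.ne (by decide))
      (f.injective.ne (by decide)) (f.injective.ne (by decide)) (f.injective.ne (by decide))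
    refine ⟨⟨g, hg⟩, Function.Embedding.ext fun i => ?_⟩
    fin_cases i
    · exact h0
    · exact h1
    · exact h2
  have h := (stabilizer H e).index_dvd_card
  have horb : orbit H e = Set.univ := Set.eq_univ_of_forall fun f => hpre e f
  rw [index_stabilizer] at h
  erw [horb] at h
  rwa [Set.ncard_univ, Nat.card_eq_fintype_card (α := Fin 3 ↪ α),
    Fintype.card_embedding_eq, Fintype.card_fin] at h

theorem pow_of_commute_cycle {x t : Perm α} (hx : x.IsCycle) (hc : Commute t x)
    (hfix : ∀ z, x z = z → t z = z) : ∃ j : ℕ, t = x ^ j := by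
  obtain ⟨z₀, hz₀, -⟩ := id hx
  have hcz : ∀ z, t (x z) = x (t z) := fun z => Equiv.congr_fun hc z
  have ht : x (t z₀) ≠ t z₀ := fun e => hz₀ (t.injective ((hcz z₀).trans e))
  obtain ⟨j, -, hj⟩ := (hx.sameCycle hz₀ ht).exists_pow_eq'
  refine ⟨j, Equiv.ext fun z => ?_⟩
  by_cases hz : x z = z
  · rw [hfix z hz, pow_apply_eq_self_of_apply_eq_self hz]
  · obtain ⟨i, -, rfl⟩ := (hx.sameCycle hz₀ hz).exists_pow_eq'
    have h1 : Commute t (x ^ i) := hc.pow_right i
    calc t ((x ^ i) z₀) = (x ^ i) (t z₀) := Equiv.congr_fun h1 z₀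
      _ = (x ^ i) ((x ^ j) z₀) := by rw [hj]
      _ = (x ^ j) ((x ^ i) z₀) := by rw [← Perm.mul_apply, ← pow_add, add_comm, pow_add]; rfl

theorem involution_sign {v : Perm α} (h : v ^ 2 = 1) :
    ∃ n, v.support.card = 2 * n ∧ sign v = (-1) ^ n := by
  have hall : ∀ n ∈ v.cycleType, n = 2 := by
    intro n hn
    have h1 : n ∣ 2 := (dvd_of_mem_cycleType hn).trans (orderOf_dvd_of_pow_eq_one h)
    have h2 := two_le_of_mem_cycleType hn
    have := Nat.le_of_dvd (by norm_num) h1
    omega
  have hrep := Multiset.eq_replicate_card.2 hall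
  refine ⟨Multiset.card v.cycleType, ?_, ?_⟩
  · rw [← sum_cycleType, hrep, Multiset.sum_replicate, Multiset.card_replicate, smul_eq_mul,
      mul_comm]
  · rw [sign_of_cycleType]
    conv_lhs => rw [hrep, Multiset.sum_replicate, Multiset.card_replicate, smul_eq_mul]
    rw [pow_add, mul_comm _ 2, pow_mul, neg_one_sq, one_pow, one_mul]

/-- An involution inverting a cycle of odd prime length fixes at most one of its points. -/
theorem support_le_of_invert {x v : Perm α} {p : ℕ} (hp : p.Prime) (hp2 : p ≠ 2)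
    (hx : x.IsCycle) (hxo : orderOf x = p) (hinv : v * x * v⁻¹ = x⁻¹) :
    x.support.card ≤ (x.support ∩ v.support).card + 1 := by
  have hfix : (x.support \ v.support).card ≤ 1 := by
    rw [Finset.card_le_one]
    intro a ha b hb
    simp only [Finset.mem_sdiff, mem_support, not_not] at ha hb
    obtain ⟨j, -, rfl⟩ := (hx.sameCycle ha.1 hb.1).exists_pow_eq'
    have h1 : v * x ^ j * v⁻¹ = (x ^ j)⁻¹ := by rw [← conj_pow, hinv, inv_pow]
    have h2 : (x ^ j)⁻¹ a = (x ^ j) a := by
      rw [← h1, Perm.mul_apply, Perm.mul_apply,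
        show v⁻¹ a = a from Perm.inv_eq_iff_eq.2 ha.2.symm, hb.2]
    have h3 : (x ^ (2 * j)) a = a := by
      rw [two_mul, pow_add, Perm.mul_apply, ← h2]; simp
    have h4 : x ^ (2 * j) = 1 := hx.pow_eq_one_iff.2 ⟨a, ha.1, h3⟩
    have h5 : p ∣ 2 * j := hxo ▸ orderOf_dvd_of_pow_eq_one h4
    have h6 : p ∣ j := (hp.dvd_mul.1 h5).resolve_left fun h =>
      hp2 ((Nat.prime_dvd_prime_iff_eq hp Nat.prime_two).1 h)
    obtain ⟨c, rfl⟩ := h6
    rw [pow_mul, ← hxo, pow_orderOf_eq_one, one_pow, Perm.one_apply]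
  have := Finset.card_sdiff_add_card_inter x.support v.support
  omega

theorem exists_normalizer (H : Subgroup (Perm α)) {x g : Perm α} (hx : x ∈ H) (hg : g ∈ H)
    {r : ℕ} (hr : r.Prime) (hxo : orderOf x = r) (h2 : ¬ r ^ 2 ∣ Nat.card H) (s : Set α)
    (hxs : ∀ z ∈ s, x z = z) (hgs : ∀ z ∈ s, g⁻¹ z ∈ s) :
    ∃ u ∈ H, (∀ z ∈ s, g z ∈ s → u z = g z) ∧ u * x * u⁻¹ ∈ Subgroup.zpowers x := by
  set K := H ⊓ fixingSubgroup (Perm α) s with hK
  have hxK : x ∈ K := ⟨hx, (mem_fixingSubgroup_iff _).2 hxs⟩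
  have hyK : g * x * g⁻¹ ∈ K := by
    refine ⟨H.mul_mem (H.mul_mem hg hx) (H.inv_mem hg), (mem_fixingSubgroup_iff _).2 fun z hz => ?_⟩
    show (g * x * g⁻¹) z = z
    rw [Perm.mul_apply, Perm.mul_apply, hxs _ (hgs z hz)]
    simp
  obtain ⟨h, hh, hconj⟩ := conj_mem_zpowers K hxK hyK hr hxo
    (by rw [← MulAut.conj_apply, MulEquiv.orderOf_eq, hxo])
    (fun h => h2 (h.trans (Subgroup.card_dvd_of_le inf_le_left)))
  refine ⟨h * g, H.mul_mem hh.1 hg, fun z hz hgz => ?_, ?_⟩
  · exact (mem_fixingSubgroup_iff _).1 hh.2 _ hgz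
  · convert hconj using 1
    group

set_option maxHeartbeats 1000000 in
/-- The degree seven case. -/
theorem degree_seven (H : Subgroup (Perm α)) (hH : IsPreprimitive H α)
    (hle : H ≤ alternatingGroup α) (hd : Fintype.card α = 7) {x y : Perm α} (hxH : x ∈ H)
    (hyH : y ∈ H) (hxo : orderOf x = 5) (hyo : orderOf y = 7) (hxc : x.IsCycle)
    (hxs : x.support.card = 5) : H = alternatingGroup α := by
  haveI : Fact (Nat.Prime 5) := ⟨by decide⟩
  have h3 := three_transitive H hH (by decide) hxH hxc hxs hd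
  have hdesc := three_dvd_card H (by omega) h3
  rw [hd] at hdesc
  have h5 : 5 ∣ Nat.card H := hxo ▸ orderOf_dvd_card' hxH
  have h7 : 7 ∣ Nat.card H := hyo ▸ orderOf_dvd_card' hyH
  have hHd : Nat.card H ∣ 5040 := by
    have := H.card_subgroup_dvd_card
    rw [Nat.card_perm, Nat.card_eq_fintype_card (α := α), hd] at this
    exact this
  have h25 : ¬ 5 ^ 2 ∣ Nat.card H := fun h => by
    have := h.trans hHd
    norm_num at this
  obtain ⟨a, b, hab, hcompl⟩ : ∃ a b : α, a ≠ b ∧ x.supportᶜ = {a, b} := by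
    refine Finset.card_eq_two.1 ?_
    rw [Finset.card_compl, hxs, hd]
  have hfix : ∀ z, x z = z ↔ z = a ∨ z = b := by
    intro z
    have := congrArg (fun S : Finset α => z ∈ S) hcompl
    simpa [mem_support] using this
  obtain ⟨c, hca, hcb⟩ : ∃ c, c ≠ a ∧ c ≠ b := by
    obtain ⟨c, hc⟩ := Finset.card_pos.1 (show 0 < x.support.card by omega)
    rw [mem_support] at hc
    exact ⟨c, fun e => hc ((hfix c).2 (Or.inl e)), fun e => hc ((hfix c).2 (Or.inr e))⟩
  obtain ⟨g, hgH, hga, hgb, -⟩ := h3 a b c b a c hab hca.symm hcb.symm hab.symm hcb.symm hca.symm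
  obtain ⟨u, huH, hus, hu⟩ := exists_normalizer H hxH hgH (by decide) hxo h25 ({a, b} : Set α)
    (fun z hz => (hfix z).2 hz) (fun z hz => by
      rcases hz with rfl | rfl
      · right; exact Perm.inv_eq_iff_eq.2 hgb.symm
      · left; exact Perm.inv_eq_iff_eq.2 hga.symm)
  have hua : u a = b := by rw [hus a (Or.inl rfl) (by rw [hga]; right; rfl), hga]
  have hub : u b = a := by rw [hus b (Or.inr rfl) (by rw [hgb]; left; rfl), hgb]
  obtain ⟨k, hk⟩ := exists_conj_pow hu
  have heven : ∀ n : ℕ, (Even n → (u ^ n) a = a) ∧ (Odd n → (u ^ n) a = b ∧ (u ^ n) b = a) := by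
    have h2 : ∀ m : ℕ, (u ^ (2 * m)) a = a ∧ (u ^ (2 * m)) b = b := by
      intro m
      induction m with
      | zero => simp
      | succ m ih =>
        rw [Nat.mul_succ, pow_add, Perm.mul_apply, Perm.mul_apply, pow_two, Perm.mul_apply,
          Perm.mul_apply]
        simp [hua, hub, ih]
    intro n
    refine ⟨fun hn => ?_, fun hn => ?_⟩
    · obtain ⟨m, rfl⟩ := hn; rw [← two_mul]; exact (h2 m).1
    · obtain ⟨m, rfl⟩ := hn
      rw [pow_succ', Perm.mul_apply, Perm.mul_apply, (h2 m).1, (h2 m).2]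
      exact ⟨hua, hub⟩
  have h4 : 4 ∣ orderOf u := by
    by_contra h4
    rcases Nat.even_or_odd (orderOf u) with ⟨e, he⟩ | ho
    · have heo : Odd e := by
        rw [← Nat.not_even_iff_odd]
        rintro ⟨f, rfl⟩
        exact h4 ⟨f, by omega⟩
      set v := u ^ e with hv
      have hv2 : v ^ 2 = 1 := by rw [hv, ← pow_mul, mul_two, ← he, pow_orderOf_eq_one]
      obtain ⟨hva, hvb⟩ := (heven e).2 heo
      have hvs : sign v = 1 := hle (H.pow_mem huH e)
      rcases exists_two_part hxo hk hv2 with hc | hinv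
      · have hcomm : Commute v x := by
          rw [Commute, SemiconjBy]; exact mul_inv_eq_iff_eq_mul.1 hc
        have hsw : Commute (Equiv.swap a b) x := by
          refine Perm.Disjoint.commute fun z => ?_
          by_cases hz : x z = z
          · exact Or.inr hz
          · exact Or.inl (Equiv.swap_apply_of_ne_of_ne (fun e => hz ((hfix z).2 (Or.inl e)))
              (fun e => hz ((hfix z).2 (Or.inr e))))
        obtain ⟨j, hj⟩ := pow_of_commute_cycle hxc (hsw.mul_left hcomm) (fun z hz => by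
          rcases (hfix z).1 hz with rfl | rfl
          · rw [Perm.mul_apply, hva, Equiv.swap_apply_right]
          · rw [Perm.mul_apply, hvb, Equiv.swap_apply_left])
        have hs := congrArg sign hj
        rw [map_mul, hvs, mul_one, map_pow, show sign x = 1 from hle hxH, one_pow,
          sign_swap hab] at hs
        exact absurd hs (by decide)
      · obtain ⟨n, hn, hsn⟩ := involution_sign hv2
        have h1 := support_le_of_invert (by decide) (by decide) hxc hxo hinv
        have h2 : (x.support ∩ v.support).card + 2 ≤ v.support.card := by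
          rw [← Finset.card_pair hab, ← Finset.card_union_of_disjoint]
          · refine Finset.card_le_card (Finset.union_subset Finset.inter_subset_right ?_)
            intro z hz
            rw [Finset.mem_insert, Finset.mem_singleton] at hz
            rw [mem_support]
            rcases hz with rfl | rfl
            · rw [hva]; exact hab.symm
            · rw [hvb]; exact hab
          · rw [Finset.disjoint_right]
            intro z hz hz2
            rw [Finset.mem_insert, Finset.mem_singleton] at hz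
            exact (mem_support.1 (Finset.mem_inter.1 hz2).1) ((hfix z).2 hz)
        have h3' : v.support.card ≤ 7 := hd ▸ Finset.card_le_univ _
        rw [← hv] at h1
        have : n = 3 := by omega
        rw [this, hvs] at hsn
        exact absurd hsn (by decide)
    · have := ((heven _).2 ho).1
      rw [pow_orderOf_eq_one] at this
      exact hab this
  have h4' : 4 ∣ Nat.card H := h4.trans (orderOf_dvd_card' huH)
  have h420 : 420 ∣ Nat.card H := by
    have h3' : 3 ∣ Nat.card H := (by decide : 3 ∣ Nat.descFactorial 7 3).trans hdesc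
    exact Nat.Coprime.mul_dvd_of_dvd_of_dvd (by decide : Nat.Coprime 60 7)
      (Nat.Coprime.mul_dvd_of_dvd_of_dvd (by decide : Nat.Coprime 12 5)
        (Nat.Coprime.mul_dvd_of_dvd_of_dvd (by decide : Nat.Coprime 4 3) h4' h3') h5) h7
  haveI : IsSimpleGroup (alternatingGroup α) :=
    alternatingGroup.isSimpleGroup (by rw [Nat.card_eq_fintype_card, hd]; omega)
  haveI : Nontrivial α := Fintype.one_lt_card_iff_nontrivial.1 (by omega)
  have hA : Nat.card (alternatingGroup α) = 2520 := by
    have := two_mul_nat_card_alternatingGroup (α := α)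
    rw [Nat.card_perm, Nat.card_eq_fintype_card (α := α), hd] at this
    rw [show Nat.factorial 7 = 5040 from rfl] at this
    omega
  refine le_antisymm hle (Subgroup.subgroupOf_eq_top.1 ?_)
  by_contra hne
  have h1 := card_dvd_factorial _ hne
  have h2 := (H.subgroupOf (alternatingGroup α)).card_mul_index
  rw [Nat.card_congr (Subgroup.subgroupOfEquivOfLe hle).toEquiv, hA] at h2
  set i := (H.subgroupOf (alternatingGroup α)).index
  have hi : i ≤ 6 := by
    obtain ⟨c, hc⟩ := h420
    rw [hc, mul_assoc] at h2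
    have hci : c * i = 6 := by omega
    exact Nat.le_of_dvd (by norm_num) ⟨c, by rw [mul_comm, hci]⟩
  rw [hA] at h1
  have := Nat.le_of_dvd (Nat.factorial_pos _) h1
  have := Nat.factorial_le hi
  norm_num [Nat.factorial] at *
  omega

/-- The degree six case. -/
theorem degree_six (H : Subgroup (Perm α)) (hH : IsPretransitive H α)
    (hle : H ≤ alternatingGroup α) (hd : Fintype.card α = 6) {x y : Perm α} (hxH : x ∈ H)
    (hyH : y ∈ H) (hxo : orderOf x = 3) (hyo : orderOf y = 5) :
    H = alternatingGroup α ∨ Nonempty (H ≃* alternatingGroup (Fin 5)) := by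
  haveI : Fact (Nat.Prime 2) := ⟨Nat.prime_two⟩
  haveI : Nontrivial α := Fintype.one_lt_card_iff_nontrivial.1 (by omega)
  haveI : IsSimpleGroup (alternatingGroup α) :=
    alternatingGroup.isSimpleGroup (by rw [Nat.card_eq_fintype_card, hd]; omega)
  have hA : Nat.card (alternatingGroup α) = 360 := by
    have := two_mul_nat_card_alternatingGroup (α := α)
    rw [Nat.card_perm, Nat.card_eq_fintype_card (α := α), hd] at this
    rw [show Nat.factorial 6 = 720 from rfl] at this
    omega
  obtain ⟨a⟩ : Nonempty α := inferInstance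
  have h6 : 6 ∣ Nat.card H := by
    have := (stabilizer H a).index_dvd_card
    rwa [index_stabilizer_of_transitive, Nat.card_eq_fintype_card, hd] at this
  have h5 : 5 ∣ Nat.card H := hyo ▸ orderOf_dvd_card' hyH
  have h30 : 30 ∣ Nat.card H := by omega
  set M := H.subgroupOf (alternatingGroup α) with hM
  by_cases htop : M = ⊤
  · exact Or.inl (le_antisymm hle (Subgroup.subgroupOf_eq_top.1 htop))
  have h1 := card_dvd_factorial _ htop
  have h2 := M.card_mul_index
  rw [hM, Nat.card_congr (Subgroup.subgroupOfEquivOfLe hle).toEquiv, hA] at h2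
  rw [hA] at h1
  rw [← hM] at h2
  obtain ⟨c, hc⟩ := h30
  rw [hc, mul_assoc] at h2
  have hci : c * M.index = 12 := by omega
  have hi6 : 6 ≤ M.index := by
    by_contra h
    have := Nat.factorial_le (show M.index ≤ 5 by omega)
    have := Nat.le_of_dvd (Nat.factorial_pos _) h1
    norm_num [Nat.factorial] at *
    omega
  have hc2 : c ≤ 2 := by
    by_contra h
    have := Nat.mul_le_mul (show 3 ≤ c by omega) hi6
    omega
  interval_cases c
  · omega
  · -- order thirty
    exfalso
    obtain ⟨t, ht⟩ := exists_prime_orderOf_dvd_card' 2 (G := H) (by rw [hc]; norm_num)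
    have ht2 : (t : Perm α) ^ 2 = 1 := by
      rw [← Subgroup.coe_pow, ← ht, pow_orderOf_eq_one, Subgroup.coe_one]
    obtain ⟨n, hn, hsn⟩ := involution_sign ht2
    obtain ⟨z, hz⟩ : ∃ z, (t : Perm α) z = z := by
      by_contra hno
      push Not at hno
      have hu : (t : Perm α).support = Finset.univ :=
        Finset.eq_univ_of_forall fun z => mem_support.2 (hno z)
      rw [hu, Finset.card_univ, hd] at hn
      have : n = 3 := by omega
      rw [this, show sign (t : Perm α) = 1 from hle t.2] at hsn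
      exact absurd hsn (by decide)
    have h7 := (stabilizer H z).card_mul_index
    rw [index_stabilizer_of_transitive, Nat.card_eq_fintype_card (α := α), hd, hc] at h7
    have h8 : orderOf t ∣ Nat.card (stabilizer H z) := orderOf_dvd_card' (show t ∈ _ from hz)
    rw [ht] at h8
    omega
  · right
    have hidx : M.index = 6 := by omega
    let z₀ : alternatingGroup α ⧸ M := QuotientGroup.mk 1
    classical
    letI : MulAction (stabilizer (alternatingGroup α) z₀)
        (SubMulAction.ofStabilizer (alternatingGroup α) z₀) := SubMulAction.mulAction _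
    let ψ := MulAction.toPermHom (stabilizer (alternatingGroup α) z₀)
      (SubMulAction.ofStabilizer (alternatingGroup α) z₀)
    have hψ : Function.Injective ψ := by
      rw [← MonoidHom.ker_eq_bot_iff, Subgroup.eq_bot_iff_forall]
      intro g hg
      have hcore : M.normalCore = ⊥ := by
        rcases M.normalCore_normal.eq_bot_or_eq_top with h | h
        · exact h
        · exact absurd (top_le_iff.1 (h ▸ M.normalCore_le)) htop
      have : (g : alternatingGroup α) ∈ M.normalCore := by
        rw [Subgroup.normalCore_eq_ker, MonoidHom.mem_ker]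
        refine Equiv.ext fun w => ?_
        by_cases hw : w = z₀
        · rw [hw]; exact g.2
        · have h9 := congrArg Subtype.val (Equiv.congr_fun (MonoidHom.mem_ker.1 hg)
            ⟨w, (SubMulAction.mem_ofStabilizer_iff _ _).2 hw⟩)
          simp [ψ] at h9
          exact h9
      rw [hcore, Subgroup.mem_bot] at this
      exact Subtype.ext this
    haveI := Fintype.ofFinite (SubMulAction.ofStabilizer (alternatingGroup α) z₀)
    have hΩ : Nat.card (SubMulAction.ofStabilizer (alternatingGroup α) z₀) = 5 := by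
      rw [SubMulAction.nat_card_ofStabilizer_eq, ← Subgroup.index_eq_card, hidx]
    have hst : stabilizer (alternatingGroup α) z₀ = M := MulAction.stabilizer_quotient M
    have hMc : Nat.card M = 60 := by
      rw [hM, Nat.card_congr (Subgroup.subgroupOfEquivOfLe hle).toEquiv, hc]
    have hr : ψ.range = alternatingGroup (SubMulAction.ofStabilizer (alternatingGroup α) z₀) := by
      refine eq_alternatingGroup_of_index_eq_two ?_
      have h3 := ψ.range.card_mul_index
      rw [Nat.card_congr (MonoidHom.ofInjective hψ).toEquiv.symm,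
        Nat.card_congr (MulEquiv.subgroupCongr hst).toEquiv, hMc, Nat.card_perm, hΩ] at h3
      norm_num [Nat.factorial] at h3
      omega
    exact ⟨(Subgroup.subgroupOfEquivOfLe hle).symm.trans ((MulEquiv.subgroupCongr hst.symm).trans
      ((MonoidHom.ofInjective hψ).trans ((MulEquiv.subgroupCongr hr).trans
        (Equiv.altCongrHom (Fintype.equivFinOfCardEq (by rw [← Nat.card_eq_fintype_card, hΩ]))))))⟩

/-- A Sylow 5-subgroup of full order in degree thirteen contains a five-cycle. -/
theorem exists_five_cycle (H : Subgroup (Perm α)) (hd : Fintype.card α = 13)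
    (h : 5 ^ 2 ∣ Nat.card H) : ∃ c ∈ H, c.IsCycle ∧ c.support.card = 5 := by
  haveI : Fact (Nat.Prime 5) := ⟨by decide⟩
  obtain ⟨Q, hQ⟩ := Sylow.exists_subgroup_card_pow_prime 5 (G := H) h
  set Q' := Q.map H.subtype with hQ'
  have hQc : Nat.card Q' = 5 ^ 2 := by
    rw [hQ', Subgroup.card_subtype, hQ]
  have hfac : (Nat.card (Perm α)).factorization 5 = 2 := by
    have h1 : 5 ^ 2 ∣ Nat.card (Perm α) := hQc ▸ Q'.card_subgroup_dvd_card
    have h3 : Nat.card (Perm α) = Nat.factorial 13 := by
      rw [Nat.card_perm, Nat.card_eq_fintype_card, hd]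
    have h2 : ¬ 5 ^ 3 ∣ Nat.card (Perm α) := by
      rw [h3]; norm_num [Nat.factorial]
    rw [(Nat.prime_five.pow_dvd_iff_le_factorization Nat.card_pos.ne')] at h1 h2
    omega
  let S : Sylow 5 (Perm α) := Sylow.ofCard Q' (by rw [hfac, hQc])
  obtain ⟨e⟩ : Nonempty (Fin 5 ↪ α) :=
    Function.Embedding.nonempty_of_card_le (by rw [Fintype.card_fin, hd]; norm_num)
  set c := List.formPerm ((List.finRange 5).map e) with hc
  have hnd : ((List.finRange 5).map e).Nodup := (List.nodup_finRange 5).map e.injective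
  have hlen : 2 ≤ ((List.finRange 5).map e).length := by simp
  have hcc : c.IsCycle := List.isCycle_formPerm hnd hlen
  have hcs : c.support.card = 5 := by
    rw [hc, List.support_formPerm_of_nodup _ hnd (fun x hx => by
      have := congrArg List.length hx; simp at this), List.toFinset_card_of_nodup hnd]
    simp
  have hcp : IsPGroup 5 (Subgroup.zpowers c) := IsPGroup.of_card (n := 1) (by
    rw [Nat.card_zpowers, hcc.orderOf, hcs, pow_one])
  obtain ⟨S', hS'⟩ := hcp.exists_le_sylow
  obtain ⟨g, hg⟩ := MulAction.exists_smul_eq (Perm α) S' S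
  refine ⟨g * c * g⁻¹, ?_, hcc.conj, ?_⟩
  · have h1 : g * c * g⁻¹ ∈ (S : Subgroup (Perm α)) := by
      rw [← hg, Sylow.coe_subgroup_smul, Subgroup.mem_smul_pointwise_iff_exists]
      exact ⟨c, hS' (Subgroup.mem_zpowers c), rfl⟩
    exact Subgroup.map_subtype_le Q h1
  · rw [Equiv.Perm.card_support_conj, hcs]

/-- No sharply 3-transitive group of degree thirteen. -/
theorem not_sharp_thirteen (H : Subgroup (Perm α)) (hd : Fintype.card α = 13) {x : Perm α}
    (hxo : orderOf x = 11) (hxc : x.IsCycle)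
    (h3 : ∀ a b c a' b' c' : α, a ≠ b → a ≠ c → b ≠ c → a' ≠ b' → a' ≠ c' → b' ≠ c' →
      ∃ g ∈ H, g a = a' ∧ g b = b' ∧ g c = c')
    {a b : α} (hab : a ≠ b) (hfix : ∀ z, x z = z ↔ z = a ∨ z = b)
    (hK : ∀ g ∈ H, g a = a → g b = b → g ∈ Subgroup.zpowers x) : False := by
  classical
  haveI : IsPretransitive H α := ⟨fun u v => by
    have hcard : ∀ w : α, ∃ w' w'' : α, w ≠ w' ∧ w ≠ w'' ∧ w' ≠ w'' := fun w => by
      have h2 : 1 < (Finset.univ.erase w).card := by
        rw [Finset.card_erase_of_mem (Finset.mem_univ _), Finset.card_univ, hd]; norm_num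
      obtain ⟨w', hw', w'', hw'', hne⟩ := Finset.one_lt_card.1 h2
      exact ⟨w', w'', (Finset.ne_of_mem_erase hw').symm, (Finset.ne_of_mem_erase hw'').symm, hne⟩
    obtain ⟨u1, u2, h1, h2, h3'⟩ := hcard u
    obtain ⟨v1, v2, k1, k2, k3⟩ := hcard v
    obtain ⟨g, hg, e, -⟩ := h3 u u1 u2 v v1 v2 h1 h2 h3' k1 k2 k3
    exact ⟨⟨g, hg⟩, e⟩⟩
  letI : MulAction (stabilizer H a) (SubMulAction.ofStabilizer H a) := SubMulAction.mulAction _
  have hΩ : Nat.card (SubMulAction.ofStabilizer H a) = 12 := by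
    rw [SubMulAction.nat_card_ofStabilizer_eq, Nat.card_eq_fintype_card, hd]
  have hne : ∀ z : SubMulAction.ofStabilizer H a, (z : α) ≠ a := fun z =>
    (SubMulAction.mem_ofStabilizer_iff _ _).1 z.2
  have hmap : ∀ u v u' v' : SubMulAction.ofStabilizer H a, u ≠ v → u' ≠ v' →
      ∃ g : stabilizer H a, g • u = u' ∧ g • v = v' := by
    intro u v u' v' huv huv'
    obtain ⟨g, hg, e1, e2, e3⟩ := h3 a u v a u' v' (hne u).symm (hne v).symm
      (fun e => huv (Subtype.ext e)) (hne u').symm (hne v').symm (fun e => huv' (Subtype.ext e))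
    exact ⟨⟨⟨g, hg⟩, e1⟩, Subtype.ext e2, Subtype.ext e3⟩
  have hsharp : ∀ u v : SubMulAction.ofStabilizer H a, u ≠ v →
      ∀ g : stabilizer H a, g • u = u → g • v = v → g = 1 := by
    intro u v huv g hgu hgv
    obtain ⟨z, hz⟩ : ∃ z, x z ≠ z := ⟨_, hxc.choose_spec.1⟩
    have hza : z ≠ a := fun e => hz ((hfix z).2 (Or.inl e))
    have hzb : z ≠ b := fun e => hz ((hfix z).2 (Or.inr e))
    obtain ⟨t, ht, e1, e2, e3⟩ := h3 a u v a b z (hne u).symm (hne v).symm
      (fun e => huv (Subtype.ext e)) hab hza.symm hzb.symm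
    set k : Perm α := t * ((g : H) : Perm α) * t⁻¹ with hk
    have hga : ((g : H) : Perm α) a = a := g.2
    have hgu' : ((g : H) : Perm α) u = u := congrArg Subtype.val hgu
    have hgv' : ((g : H) : Perm α) v = v := congrArg Subtype.val hgv
    have hka : k a = a := by
      rw [hk, Perm.mul_apply, Perm.mul_apply,
        show t⁻¹ a = a from Perm.inv_eq_iff_eq.2 e1.symm, hga, e1]
    have hkb : k b = b := by
      rw [hk, Perm.mul_apply, Perm.mul_apply,
        show t⁻¹ b = u from Perm.inv_eq_iff_eq.2 e2.symm, hgu', e2]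
    have hkz : k z = z := by
      rw [hk, Perm.mul_apply, Perm.mul_apply,
        show t⁻¹ z = v from Perm.inv_eq_iff_eq.2 e3.symm, hgv', e3]
    obtain ⟨j, hj⟩ := mem_powers_iff_mem_zpowers.2
      (hK k (H.mul_mem (H.mul_mem ht (g : H).2) (H.inv_mem ht)) hka hkb)
    have hk1 : k = 1 := by
      simp only at hj
      rw [← hj] at hkz ⊢
      exact hxc.pow_eq_one_iff.2 ⟨z, hz, hkz⟩
    refine Subtype.ext (Subtype.ext ?_)
    have : ((g : H) : Perm α) = t⁻¹ * k * t := by rw [hk]; group
    rw [this, hk1]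
    simp
  obtain ⟨-, -, -, -, -, p, j, hp, hj, hpj, -⟩ := sharp2_kernel (G := stabilizer H a)
    (Ω := SubMulAction.ofStabilizer H a) (by rw [hΩ]; norm_num) hmap hsharp
  rw [hΩ] at hpj
  have hp2 : p ∣ 2 ^ 2 * 3 := by
    rw [show (2 : ℕ) ^ 2 * 3 = 12 from rfl, hpj]; exact dvd_pow_self p (by omega)
  have : p = 2 ∨ p = 3 := by
    rcases hp.dvd_mul.1 hp2 with h | h
    · exact Or.inl ((Nat.prime_dvd_prime_iff_eq hp Nat.prime_two).1 (hp.dvd_of_dvd_pow h))
    · exact Or.inr ((Nat.prime_dvd_prime_iff_eq hp Nat.prime_three).1 h)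
  rcases this with rfl | rfl
  · have h1 : 3 ∣ 2 ^ j := hpj ▸ (by norm_num)
    have := Nat.prime_three.dvd_of_dvd_pow h1
    norm_num at this
  · have h1 : 2 ∣ 3 ^ j := hpj ▸ (by norm_num)
    have := Nat.prime_two.dvd_of_dvd_pow h1
    norm_num at this

set_option maxHeartbeats 1000000 in
/-- The degree thirteen case. -/
theorem degree_thirteen (H : Subgroup (Perm α)) (hH : IsPreprimitive H α)
    (hle : H ≤ alternatingGroup α) (hd : Fintype.card α = 13) {x : Perm α} (hxH : x ∈ H)
    (hxo : orderOf x = 11) (hxc : x.IsCycle) (hxs : x.support.card = 11) :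
    H = alternatingGroup α := by
  classical
  haveI : Fact (Nat.Prime 11) := ⟨by decide⟩
  haveI : Fact (Nat.Prime 5) := ⟨by decide⟩
  haveI : Fact (Nat.Prime 3) := ⟨by decide⟩
  refine le_antisymm hle ?_
  by_contra hne
  have hno5 : ∀ c ∈ H, c.IsCycle → c.support.card = 5 → False := fun c hc hcc hcs =>
    hne (Cfsg.Agent.S0713.result H hH (p := 5) (by decide) (by omega) (by omega) hcc hcs hc)
  have h3 := three_transitive H hH (by decide) hxH hxc hxs hd
  obtain ⟨a, b, hab, hcompl⟩ : ∃ a b : α, a ≠ b ∧ x.supportᶜ = {a, b} := by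
    refine Finset.card_eq_two.1 ?_
    rw [Finset.card_compl, hxs, hd]
  have hfix : ∀ z, x z = z ↔ z = a ∨ z = b := by
    intro z
    have := congrArg (fun S : Finset α => z ∈ S) hcompl
    simpa [mem_support] using this
  have hHd : Nat.card H ∣ Nat.factorial 13 := by
    have := H.card_subgroup_dvd_card
    rwa [Nat.card_perm, Nat.card_eq_fintype_card (α := α), hd] at this
  set K := H ⊓ fixingSubgroup (Perm α) ({a, b} : Set α) with hKdef
  have hKmem : ∀ g, g ∈ K ↔ g ∈ H ∧ g a = a ∧ g b = b := fun g => by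
    simp [hKdef, mem_fixingSubgroup_iff]
  have hxK : x ∈ K := (hKmem x).2 ⟨hxH, (hfix a).2 (Or.inl rfl), (hfix b).2 (Or.inr rfl)⟩
  have hKx : ∀ g ∈ K, Commute g x → g ∈ Subgroup.zpowers x := by
    intro g hg hc
    obtain ⟨-, hga, hgb⟩ := (hKmem g).1 hg
    obtain ⟨j, rfl⟩ := pow_of_commute_cycle hxc hc (fun z hz => by
      rcases (hfix z).1 hz with rfl | rfl
      · exact hga
      · exact hgb)
    exact Subgroup.pow_mem _ (Subgroup.mem_zpowers x) j
  have hfac : (Nat.card K).factorization 11 = 1 := by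
    have h1 : 11 ∣ Nat.card K := hxo ▸ orderOf_dvd_card' hxK
    have h2 : ¬ 11 ^ 2 ∣ Nat.card K := fun h => by
      have := (h.trans (Subgroup.card_dvd_of_le inf_le_left)).trans hHd
      norm_num [Nat.factorial] at this
    have h3' := (Nat.Prime.dvd_iff_one_le_factorization (by decide : Nat.Prime 11)
      (Nat.card_pos (α := K)).ne').1 h1
    have h4 : ¬ 2 ≤ (Nat.card K).factorization 11 := fun h =>
      h2 ((Nat.Prime.pow_dvd_iff_le_factorization (by decide : Nat.Prime 11) (Nat.card_pos).ne').2 h)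
    omega
  let P : Sylow 11 K := Sylow.ofCard (Subgroup.zpowers ⟨x, hxK⟩) (by
    rw [Nat.card_zpowers, Subgroup.orderOf_mk, hxo, hfac, pow_one])
  have hPdef : (P : Subgroup K) = Subgroup.zpowers ⟨x, hxK⟩ := rfl
  by_cases hburn : Subgroup.normalizer ((P : Subgroup K) : Set K) ≤
      Subgroup.centralizer ((P : Subgroup K) : Set K)
  · -- normal complement, hence trivial
    set M := (MonoidHom.transferSylow P hburn).ker with hM
    have hMc : ¬ 11 ∣ Nat.card M := MonoidHom.not_dvd_card_ker_transferSylow P hburn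
    let Y : SubMulAction K α :=
      { carrier := {z | x z ≠ z}
        smul_mem' := fun g z hz e => by
          obtain ⟨-, hga, hgb⟩ := (hKmem g).1 g.2
          rcases (hfix _).1 e with h | h
          · exact hz ((hfix z).2 (Or.inl ((g : Perm α).injective (h.trans hga.symm))))
          · exact hz ((hfix z).2 (Or.inr ((g : Perm α).injective (h.trans hgb.symm)))) }
    have hY : Nat.card Y = 11 := by
      have : Nat.card Y = ({z | x z ≠ z} : Set α).ncard := rfl
      rw [this, ← coe_support_eq_set_support, Set.ncard_coe_finset, hxs]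
    haveI : IsPretransitive K Y := ⟨fun u v => by
      obtain ⟨i, -, hi⟩ := (hxc.sameCycle (x := (u : α)) u.2 v.2).exists_pow_eq'
      exact ⟨⟨x, hxK⟩ ^ i, Subtype.ext hi⟩⟩
    have htriv : ∀ m ∈ M, ∀ u : Y, m • u = u := by
      intro m hm u
      have hB : IsBlock K (orbit M u) := IsBlock.orbit_of_normal u
      have hd1 : (orbit M u).ncard ∣ 11 := hY ▸ hB.ncard_dvd_card ⟨u, mem_orbit_self u⟩
      have hd2 : (orbit M u).ncard ∣ Nat.card M := by
        rw [← index_stabilizer]; exact Subgroup.index_dvd_card _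
      have h1 : (orbit M u).ncard = 1 := by
        rcases (Nat.dvd_prime (by decide : Nat.Prime 11)).1 hd1 with h | h
        · exact h
        · exact absurd (h ▸ hd2) hMc
      obtain ⟨w, hw⟩ := Set.ncard_eq_one.1 h1
      have e1 : u = w := by have := mem_orbit_self (M := M) u; rwa [hw] at this
      have e2 : m • u = w := by
        have := mem_orbit u (⟨m, hm⟩ : M)
        rw [hw] at this
        exact this
      exact e2.trans e1.symm
    have hM1 : M = ⊥ := by
      rw [Subgroup.eq_bot_iff_forall]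
      intro m hm
      refine Subtype.ext (Equiv.ext fun z => ?_)
      by_cases hz : x z = z
      · obtain ⟨-, hma, hmb⟩ := (hKmem m).1 m.2
        rcases (hfix z).1 hz with rfl | rfl
        · exact hma
        · exact hmb
      · exact congrArg Subtype.val (htriv m hm ⟨z, hz⟩)
    have hKP : (P : Subgroup K) = ⊤ := by
      have h := MonoidHom.ker_transferSylow_isComplement' P hburn
      rw [← hM, hM1] at h
      exact Subgroup.isComplement'_bot_left.1 h
    refine not_sharp_thirteen H hd hxo hxc h3 hab hfix fun g hg hga hgb => ?_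
    have : (⟨g, (hKmem g).2 ⟨hg, hga, hgb⟩⟩ : K) ∈ Subgroup.zpowers (⟨x, hxK⟩ : K) := by
      rw [← hPdef, hKP]; exact Subgroup.mem_top _
    obtain ⟨i, hi⟩ := this
    exact ⟨i, congrArg Subtype.val hi⟩
  -- an element of order five in `K`
  have h5K : 5 ∣ Nat.card K := by
    by_contra h5
    obtain ⟨v, hvN, hvC⟩ := SetLike.not_le_iff_exists.1 hburn
    have hconj : (v : Perm α) * x * (v : Perm α)⁻¹ ∈ Subgroup.zpowers x := by
      have h1 := (Subgroup.mem_normalizer_iff.1 hvN ⟨x, hxK⟩).1
        (by rw [hPdef]; exact Subgroup.mem_zpowers _)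
      rw [hPdef] at h1
      obtain ⟨i, hi⟩ := h1
      exact ⟨i, congrArg Subtype.val hi⟩
    obtain ⟨k, hk⟩ := exists_conj_pow hconj
    have hk1 : (k : ZMod 11) ≠ 1 := by
      intro e
      refine hvC ?_
      rw [Subgroup.mem_centralizer_iff, hPdef]
      intro w hw
      have hc : Commute (v : Perm α) x := by
        rw [Commute, SemiconjBy]
        refine mul_inv_eq_iff_eq_mul.1 ?_
        rw [hk, pow_eq_of_cast hxo (b := 1) (by rw [e, Nat.cast_one]), pow_one]
      obtain ⟨i, rfl⟩ := mem_powers_iff_mem_zpowers.2 hw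
      exact ((show Commute v ⟨x, hxK⟩ from Subtype.ext hc).pow_right i).symm.eq
    set n := orderOf (v : Perm α) with hn
    have hn5 : ¬ 5 ∣ n := fun h => h5 (h.trans (orderOf_dvd_card' v.2))
    have hkn : (k : ZMod 11) ^ n = 1 := conj_pow_cast hxo hk (pow_orderOf_eq_one _)
    have hk0 : (k : ZMod 11) ≠ 0 := fun e => by
      rw [e, zero_pow (orderOf_pos _).ne'] at hkn
      exact zero_ne_one hkn
    have hk2 : (k : ZMod 11) ^ 2 = 1 := by
      have h10 : orderOf (k : ZMod 11) ∣ 10 :=
        orderOf_dvd_of_pow_eq_one (ZMod.pow_card_sub_one_eq_one hk0)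
      have hn' : orderOf (k : ZMod 11) ∣ n := orderOf_dvd_of_pow_eq_one hkn
      have h2 : orderOf (k : ZMod 11) ∣ 2 := by
        refine Nat.Coprime.dvd_of_dvd_mul_left ?_ (show _ ∣ 5 * 2 from h10)
        exact (Nat.Coprime.coprime_dvd_left hn' ((Nat.Prime.coprime_iff_not_dvd
          (by decide : Nat.Prime 5)).2 hn5).symm)
      exact orderOf_dvd_iff_pow_eq_one.1 h2
    have hkm : (k : ZMod 11) = -1 := (sq_eq_one_iff.1 hk2).resolve_left hk1
    have h11 := conj_pow_of_conj hk 11
    have h2 := conj_pow_of_conj hk 2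
    have hc2 : Commute ((v : Perm α) ^ 2) x := by
      rw [Commute, SemiconjBy]
      refine mul_inv_eq_iff_eq_mul.1 ?_
      rw [h2, pow_eq_of_cast hxo (b := 1) (by push_cast; rw [hkm]; norm_num), pow_one]
    have hv22 : ((v : Perm α) ^ 11) ^ 2 = 1 := by
      obtain ⟨i, hi⟩ := mem_powers_iff_mem_zpowers.2 (hKx _ (K.pow_mem v.2 2) hc2)
      rw [← pow_mul, mul_comm, pow_mul, ← hi]
      show (x ^ i) ^ 11 = 1
      rw [← pow_mul, mul_comm, pow_mul, ← hxo, pow_orderOf_eq_one, one_pow]
    have hinv : (v : Perm α) ^ 11 * x * ((v : Perm α) ^ 11)⁻¹ = x⁻¹ := by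
      rw [h11, eq_inv_iff_mul_eq_one, ← pow_succ, ← orderOf_dvd_iff_pow_eq_one, hxo,
        ← ZMod.natCast_eq_zero_iff]
      push_cast
      rw [hkm, Odd.neg_one_pow ⟨5, by norm_num⟩, neg_add_cancel]
    obtain ⟨m, hm, hsm⟩ := involution_sign hv22
    have hl := support_le_of_invert (by decide) (by decide) hxc hxo hinv
    have hsub : ((v : Perm α) ^ 11).support ⊆ x.support := by
      intro z hz
      rw [mem_support] at hz ⊢
      intro e
      obtain ⟨-, hva, hvb⟩ := (hKmem _).1 (K.pow_mem v.2 11)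
      rcases (hfix z).1 e with rfl | rfl
      · exact hz hva
      · exact hz hvb
    rw [Finset.inter_eq_right.2 hsub, hxs] at hl
    have h13 := Finset.card_le_card hsub
    rw [hxs] at h13
    have : m = 5 := by omega
    rw [this, show sign ((v : Perm α) ^ 11) = 1 from hle (H.pow_mem ((hKmem v).1 v.2).1 11)] at hsm
    exact absurd hsm (by decide)
  obtain ⟨w, hw⟩ := exists_prime_orderOf_dvd_card' 5 h5K
  obtain ⟨hwH, hwa, hwb⟩ := (hKmem w).1 w.2
  have hwo : orderOf (w : Perm α) = 5 := by rw [Subgroup.orderOf_coe, hw]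
  have hwall : ∀ n ∈ (w : Perm α).cycleType, n = 5 := by
    intro n hn
    have h1 : n ∣ 5 := hwo ▸ dvd_of_mem_cycleType hn
    rcases (Nat.dvd_prime (by decide : Nat.Prime 5)).1 h1 with h | h
    · exact absurd h (Nat.ne_of_gt (two_le_of_mem_cycleType hn))
    · exact h
  have hrep := Multiset.eq_replicate_card.2 hwall
  set m := Multiset.card (w : Perm α).cycleType with hm
  have hsum : (w : Perm α).support.card = m * 5 := by
    rw [← sum_cycleType, hrep, Multiset.sum_replicate, smul_eq_mul]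
  have hw2 : (w : Perm α).support.card ≤ 11 := by
    rw [← hxs]
    refine Finset.card_le_card fun z hz => ?_
    rw [mem_support] at hz ⊢
    intro e
    rcases (hfix z).1 e with rfl | rfl
    · exact hz hwa
    · exact hz hwb
  have hm1 : m ≠ 0 := by
    intro e
    rw [e, zero_mul, Finset.card_eq_zero, support_eq_empty_iff] at hsum
    rw [hsum, orderOf_one] at hwo
    norm_num at hwo
  have hm2 : m = 2 := by
    by_contra h
    refine hno5 _ hwH (card_cycleType_eq_one.1 (by omega)) ?_
    omega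
  have h25 : ¬ 5 ^ 2 ∣ Nat.card H := fun h => by
    obtain ⟨c, hc, hcc, hcs⟩ := exists_five_cycle H hd h
    exact hno5 c hc hcc hcs
  obtain ⟨A, B, C, hAB, hAC, hBC, hwfix⟩ : ∃ A B C : α, A ≠ B ∧ A ≠ C ∧ B ≠ C ∧
      ∀ z, (w : Perm α) z = z ↔ z = A ∨ z = B ∨ z = C := by
    obtain ⟨A, B, C, h1, h2, h3', hS⟩ := Finset.card_eq_three.1
      (show (w : Perm α).supportᶜ.card = 3 by rw [Finset.card_compl, hsum, hm2, hd])
    refine ⟨A, B, C, h1, h2, h3', fun z => ?_⟩
    have := congrArg (fun S : Finset α => z ∈ S) hS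
    simpa [mem_support] using this
  obtain ⟨g, hgH, hgA, hgB, hgC⟩ := h3 A B C B C A hAB hAC hBC hBC hAB.symm hAC.symm
  obtain ⟨u, huH, hus, hu⟩ := exists_normalizer H hwH hgH (by decide) hwo h25 ({A, B, C} : Set α)
    (fun z hz => (hwfix z).2 hz) (fun z hz => by
      rcases hz with rfl | rfl | rfl
      · exact Or.inr (Or.inr (Perm.inv_eq_iff_eq.2 hgC.symm))
      · exact Or.inl (Perm.inv_eq_iff_eq.2 hgA.symm)
      · exact Or.inr (Or.inl (Perm.inv_eq_iff_eq.2 hgB.symm)))
  have huA : u A = B := by rw [hus A (by simp) (by rw [hgA]; simp), hgA]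
  have huB : u B = C := by rw [hus B (by simp) (by rw [hgB]; simp), hgB]
  have huC : u C = A := by rw [hus C (by simp) (by rw [hgC]; simp), hgC]
  have h3o : 3 ∣ orderOf u := by
    have hcyc : ∀ q : ℕ, (u ^ (3 * q)) A = A := by
      intro q
      induction q with
      | zero => simp
      | succ q ih => rw [Nat.mul_succ, pow_add, Perm.mul_apply, show (u ^ 3) A = A by
          simp [pow_succ, huA, huB, huC], ih]
    by_contra h
    have h1 := congrArg (fun t : Perm α => t A) (pow_orderOf_eq_one u)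
    simp only [Perm.one_apply] at h1
    rw [← Nat.div_add_mod (orderOf u) 3, add_comm, pow_add, Perm.mul_apply, hcyc] at h1
    have hlt := Nat.mod_lt (orderOf u) (show 0 < 3 by norm_num)
    rcases (show orderOf u % 3 = 1 ∨ orderOf u % 3 = 2 by omega) with e | e
    · rw [e, pow_one, huA] at h1; exact hAB h1.symm
    · rw [e, pow_two, Perm.mul_apply, huA, huB] at h1; exact hAC h1.symm
  obtain ⟨k, hk⟩ := exists_conj_pow hu
  set v := u ^ (orderOf u / 3) with hv
  have hvo : orderOf v = 3 := orderOf_pow_orderOf_div (orderOf_pos u).ne' h3o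
  have hvw : Commute v (w : Perm α) := by
    have h1 := conj_pow_of_conj hk (orderOf u / 3)
    rw [← hv] at h1
    have h3k := conj_pow_cast hwo h1 (n := 3) (by rw [← hvo, pow_orderOf_eq_one])
    set K5 : ZMod 5 := ((k ^ (orderOf u / 3) : ℕ) : ZMod 5) with hK5
    have hK0 : K5 ≠ 0 := fun e => by rw [e] at h3k; simp at h3k
    have h4 : K5 ^ 4 = 1 := ZMod.pow_card_sub_one_eq_one hK0
    rw [pow_succ, h3k, one_mul] at h4
    rw [Commute, SemiconjBy]
    refine mul_inv_eq_iff_eq_mul.1 ?_
    rw [h1, pow_eq_of_cast hwo (b := 1) (by rw [← hK5, h4, Nat.cast_one]), pow_one]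
  set τ := Equiv.swap A B * Equiv.swap A C with hτ
  have hτ3 : τ.IsThreeCycle := Equiv.Perm.isThreeCycle_swap_mul_swap_same hAB hAC hBC
  have hτw : Commute τ (w : Perm α) := by
    refine Perm.Disjoint.commute fun z => ?_
    by_cases hz : (w : Perm α) z = z
    · exact Or.inr hz
    · refine Or.inl ?_
      have hzA : z ≠ A := fun e => hz ((hwfix z).2 (Or.inl e))
      have hzB : z ≠ B := fun e => hz ((hwfix z).2 (Or.inr (Or.inl e)))
      have hzC : z ≠ C := fun e => hz ((hwfix z).2 (Or.inr (Or.inr e)))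
      simp [hτ, Equiv.swap_apply_of_ne_of_ne, hzA, hzB, hzC]
  set Z := Subgroup.centralizer ({(w : Perm α)} : Set (Perm α)) with hZ
  have hZmem : ∀ t : Perm α, Commute t (w : Perm α) → t ∈ Z := fun t ht =>
    Subgroup.mem_centralizer_singleton_iff.2 ht.eq
  have hZc : Nat.card Z = 300 := by
    rw [hZ, Equiv.Perm.nat_card_centralizer, hrep, hm2, hd]
    simp [Multiset.sum_replicate, Multiset.prod_replicate, Multiset.toFinset_replicate,
      Multiset.count_replicate_self, Nat.factorial]
  obtain ⟨t, -, ht⟩ := conj_mem_zpowers Z (hZmem τ hτw) (hZmem v hvw) Nat.prime_three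
    hτ3.orderOf hvo (by rw [hZc]; norm_num)
  obtain ⟨i, hi⟩ := mem_powers_iff_mem_zpowers.2 ht
  have hτe : t * v * t⁻¹ = τ ∨ t * v * t⁻¹ = τ * τ := by
    simp only at hi
    have hmod : τ ^ i = τ ^ (i % 3) := (pow_mod_orderOf τ i).symm.trans (by rw [hτ3.orderOf])
    rcases (show i % 3 = 0 ∨ i % 3 = 1 ∨ i % 3 = 2 by omega) with e | e | e
    · exfalso
      rw [hmod, e, pow_zero, eq_comm, conj_eq_one_iff] at hi
      rw [hi, orderOf_one] at hvo
      norm_num at hvo
    · left; rw [← hi, hmod, e, pow_one]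
    · right; rw [← hi, hmod, e, pow_two]
  have hv3 : v.IsThreeCycle := by
    have : (t * v * t⁻¹).IsThreeCycle := by
      rcases hτe with e | e <;> rw [e]
      · exact hτ3
      · exact hτ3.isThreeCycle_sq
    rwa [Equiv.Perm.IsThreeCycle, Equiv.Perm.cycleType_conj] at this
  exact hne (alternatingGroup_le_of_isPreprimitive_of_isThreeCycle_mem hH hv3 (H.pow_mem huH _))

theorem transitive_and_primitive (H : Subgroup (Perm α)) {x y : Perm α} (hxH : x ∈ H)
    (hyH : y ∈ H) {p q : ℕ} (hp : p.Prime) (hq : q.Prime) (hpq : p < q)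
    (hd : Fintype.card α ≤ 2 * p) (hxo : orderOf x = p) (hyo : orderOf y = q)
    (hmoved : ∀ z, x z = z → y z ≠ z) (hyc : y.IsCycle) (hys : y.support.card = q) :
    IsPreprimitive H α := by
  classical
  obtain ⟨c₀, hc₀, -⟩ := id hyc
  have hy' : ∀ z, y z ≠ z → ∃ g : H, g • c₀ = z := fun z hz => by
    obtain ⟨i, -, hi⟩ := (hyc.sameCycle hc₀ hz).exists_pow_eq'
    exact ⟨⟨y, hyH⟩ ^ i, hi⟩
  have hto : ∀ z, ∃ g : H, g • c₀ = z := by
    intro z
    by_cases hz : y z = z
    · have hxz : (⟨x, hxH⟩ : H) • z ≠ z := fun e => hmoved z e hz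
      obtain ⟨i, hi⟩ : ∃ i : ℕ, y ((x ^ i) z) ≠ (x ^ i) z := by
        by_contra hno
        push Not at hno
        have h := prime_orbit_le hp (g := (⟨x, hxH⟩ : H)) (by rw [← Subgroup.orderOf_coe, hxo]) hxz
          ((y.supportᶜ : Finset α) : Set α) (Finset.finite_toSet _) (fun i => by
            simpa [mem_support, Subgroup.smul_def] using hno i)
        rw [Set.ncard_coe_finset, Finset.card_compl, hys] at h
        have := hp.two_le
        omega
      obtain ⟨g, hg⟩ := hy' _ hi
      refine ⟨(⟨x, hxH⟩ ^ i)⁻¹ * g, ?_⟩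
      rw [mul_smul, hg, inv_smul_eq_iff]
      rfl
    · exact hy' z hz
  haveI hpt : IsPretransitive H α := ⟨fun u v => by
    obtain ⟨g, hg⟩ := hto u
    obtain ⟨g', hg'⟩ := hto v
    exact ⟨g' * g⁻¹, by rw [mul_smul, ← hg, inv_smul_smul, hg']⟩⟩
  refine { isTrivialBlock_of_isBlock := fun {B} hB => ?_ }
  by_contra hnt
  simp only [IsTrivialBlock, not_or] at hnt
  obtain ⟨hns, hnu⟩ := hnt
  rw [Set.not_subsingleton_iff] at hns
  obtain ⟨u, hu⟩ := hns.nonempty
  obtain ⟨g, hg⟩ : ∃ g : H, g • u = c₀ := MulAction.exists_smul_eq H u c₀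
  have hc : c₀ ∈ g • B := hg ▸ Set.smul_mem_smul_set hu
  have hB' : IsBlock H (g • B) := hB.translate g
  have h2 : 2 ≤ (g • B).ncard := by
    rw [Set.ncard_smul_set]
    exact Set.one_lt_ncard_iff_nontrivial.2 hns
  have hmul := hB'.ncard_block_mul_ncard_orbit_eq ⟨c₀, hc⟩
  rw [Nat.card_eq_fintype_card] at hmul
  have hinv : (⟨y, hyH⟩ : H) • (g • B) = g • B := by
    by_contra hne
    have h := prime_orbit_le hq (g := (⟨y, hyH⟩ : H)) (by rw [← Subgroup.orderOf_coe, hyo]) hne
      (orbit H (g • B)) (Set.toFinite _) (fun i => mem_orbit _ _)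
    have := Nat.mul_le_mul h2 h
    omega
  have hsub : q ≤ (g • B).ncard := by
    refine prime_orbit_le hq (g := (⟨y, hyH⟩ : H)) (by rw [← Subgroup.orderOf_coe, hyo])
      (z := c₀) hc₀ _ (Set.toFinite _) (fun i => ?_)
    have hst : (⟨y, hyH⟩ : H) ^ i • (g • B) = g • B :=
      (stabilizer H (g • B)).pow_mem (show (⟨y, hyH⟩ : H) ∈ stabilizer H (g • B) from hinv) i
    rw [← hst]
    exact Set.smul_mem_smul_set hc
  have horb : (orbit H (g • B)).ncard = 1 := by
    have hpos : 0 < (orbit H (g • B)).ncard := (Set.ncard_pos (Set.toFinite _)).2 ⟨_, mem_orbit_self _⟩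
    by_contra h
    have := Nat.mul_le_mul hsub (show 2 ≤ (orbit H (g • B)).ncard by omega)
    omega
  rw [horb, mul_one] at hmul
  refine hnu (Set.eq_of_subset_of_ncard_le (Set.subset_univ _) ?_ (Set.toFinite _))
  rw [Set.ncard_univ, Nat.card_eq_fintype_card, ← hmul, Set.ncard_smul_set]

/-- The prime pairs used. -/
def Good (d p q : ℕ) : Prop :=
  (d < 2 * p ∧ p + 3 ≤ q) ∨ (p = 3 ∧ q = 5) ∨ (p = 5 ∧ q = 7) ∨ (p = 7 ∧ q = 11) ∨
    (p = 11 ∧ q = 13 ∧ d ≤ 16)

/-- Two even permutations of large prime orders generate an alternating group. -/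
theorem closure_alternating (x y : Perm α) {p q : ℕ} (hp : p.Prime) (hq : q.Prime)
    (hd : Fintype.card α ≤ 2 * p) (hgood : Good (Fintype.card α) p q) (hxo : orderOf x = p)
    (hyo : orderOf y = q) (hx : sign x = 1) (hy : sign y = 1)
    (hmoved : ∀ z, x z = z → y z ≠ z) :
    ∃ d, 5 ≤ d ∧ Nonempty (Subgroup.closure ({x, y} : Set (Perm α)) ≃* alternatingGroup (Fin d)) := by
  classical
  have hp2 : 3 ≤ p := by
    rcases hgood with h | h | h | h | h
    · rcases hp.eq_two_or_odd with rfl | h'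
      · exfalso
        have := hq.two_le
        have h4 : q ≤ Fintype.card α := by
          have h5 : q ∣ Nat.factorial (Fintype.card α) := by
            rw [← hyo, ← Fintype.card_perm, ← Nat.card_eq_fintype_card]
            exact orderOf_dvd_natCard y
          exact hq.dvd_factorial.1 h5
        omega
      · have := hp.two_le; omega
    all_goals omega
  have hpq : p < q := by rcases hgood with h | h | h | h | h <;> omega
  set H := Subgroup.closure ({x, y} : Set (Perm α)) with hH
  have hxH : x ∈ H := Subgroup.subset_closure (by simp)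
  have hyH : y ∈ H := Subgroup.subset_closure (by simp)
  have hle : H ≤ alternatingGroup α := by
    rw [hH, Subgroup.closure_le]
    rintro z (rfl | rfl)
    · exact hx
    · exact hy
  have hyc : y.IsCycle := isCycle_of_prime_order' (hyo ▸ hq) (by rw [hyo]; omega)
  have hys : y.support.card = q := hyc.orderOf.symm.trans hyo
  have hqd : q ≤ Fintype.card α := hys ▸ Finset.card_le_univ _
  have hq5 : 5 ≤ q := hq.five_le_of_ne_two_of_ne_three (by omega) (by omega)
  have hprim := transitive_and_primitive H hxH hyH hp hq hpq hd hxo hyo hmoved hyc hys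
  have fin : H = alternatingGroup α → ∃ d, 5 ≤ d ∧
      Nonempty (H ≃* alternatingGroup (Fin d)) := fun e =>
    ⟨Fintype.card α, by omega, ⟨(MulEquiv.subgroupCongr e).trans
      (Equiv.altCongrHom (Fintype.equivFin α))⟩⟩
  by_cases hq3 : q + 3 ≤ Fintype.card α
  · exact fin (le_antisymm hle
      (Cfsg.Agent.S0713.result H hprim hq (by omega) hq3 hyc hys hyH))
  by_cases h2p : Fintype.card α = 2 * p
  · obtain ⟨rfl, rfl⟩ : p = 3 ∧ q = 5 := by
      rcases hgood with h | h | h | h | h <;> omega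
    rcases degree_six H hprim.toIsPretransitive hle (by omega) hxH hyH hxo hyo with h | h
    · exact fin h
    · exact ⟨5, le_rfl, h⟩
  have hxc : x.IsCycle := isCycle_of_prime_order' (hxo ▸ hp) (by rw [hxo]; omega)
  have hxs : x.support.card = p := hxc.orderOf.symm.trans hxo
  rcases Nat.eq_or_lt_of_le hp2 with rfl | hp5
  · exact fin (le_antisymm hle (alternatingGroup_le_of_isPreprimitive_of_isThreeCycle_mem hprim
      (card_support_eq_three_iff.1 hxs) hxH))
  by_cases hp3 : p + 3 ≤ Fintype.card α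
  · exact fin (le_antisymm hle
      (Cfsg.Agent.S0713.result H hprim hp (by omega) hp3 hxc hxs hxH))
  rcases hgood with h | h | ⟨rfl, rfl⟩ | h | ⟨rfl, rfl, -⟩
  · omega
  · omega
  · exact fin (degree_seven H hprim hle (by omega) hxH hyH hxo hyo hxc hxs)
  · omega
  · exact fin (degree_thirteen H hprim hle (by omega) hxH hxo hxc hxs)

end Cfsg.Agent.Perm.TwoPrime
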