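import Cfsg.Agent.Lib.Perm.Basic
import Mathlib.Data.Finset.Card

/-!
A counting trick for multiple transitivity: if the pointwise stabiliser orbits outside every
`K`-set all have size divisible by `d > 1`, the group is `K`-transitive.
-/

set_option autoImplicit false

namespace Cfsg.Agent.Perm

open MulAction

variable {α : Type*} [Fintype α] [DecidableEq α] {G : Type*} [Group G] [MulAction G α]

/-- If for every `K`-subset `s` every `G_s`-invariant set disjoint from `s` has cardinality
divisible by `d > 1`, and `K < card α`, then `G` is `K`-transitive. -/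
theorem isMultiplyPretransitive_of_dvd {K d : ℕ} (hd : 1 < d) (hK : K < Fintype.card α)
    (h : ∀ s : Finset α, s.card = K → ∀ B : Finset α,
      (∀ g : G, (∀ t ∈ s, g • t = t) → ∀ x ∈ B, g • x ∈ B) → Disjoint B s → d ∣ B.card) :
    IsMultiplyPretransitive G α K := by
  classical
  refine isMultiplyPretransitive_of_fixing fun T hT x y hx hy => ?_
  by_contra hno
  push Not at hno
  let O : Finset α := Finset.univ.filter fun z => ∃ g : G, (∀ t ∈ T, g • t = t) ∧ g • x = z
  have hxO : x ∈ O := Finset.mem_filter.2 ⟨Finset.mem_univ _, 1, fun t _ => one_smul G t, one_smul G x⟩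
  have hyO : y ∉ O := fun hh => by
    obtain ⟨g, hg1, hg2⟩ := (Finset.mem_filter.1 hh).2
    exact hno g hg1 hg2
  have hOT : ∀ z ∈ O, z ∉ T := fun z hz hzT => by
    obtain ⟨g, hg1, hg2⟩ := (Finset.mem_filter.1 hz).2
    have := hg1 z hzT
    exact hx (smul_left_cancel g (this.trans hg2.symm) ▸ hzT)
  have hmain : ∀ s : Finset α, T ⊆ s → s.card = K → d ∣ (O \ s).card := by
    intro s hTs hs
    refine h s hs (O \ s) (fun g hg z hz => ?_) Finset.sdiff_disjoint
    rw [Finset.mem_sdiff] at hz ⊢
    refine ⟨?_, fun hh => hz.2 ?_⟩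
    · obtain ⟨u, hu1, hu2⟩ := (Finset.mem_filter.1 hz.1).2
      refine Finset.mem_filter.2 ⟨Finset.mem_univ _, g * u, fun t ht => ?_, by rw [mul_smul, hu2]⟩
      rw [mul_smul, hu1 t ht, hg t (hTs ht)]
    · have := hg _ hh
      rw [smul_left_cancel g this] at hh
      exact hh
  obtain ⟨R, hTR, hR, hRc⟩ : ∃ R, T ⊆ R ∧ R ⊆ (Finset.univ.erase x).erase y ∧ R.card = K - 1 := by
    refine Finset.exists_subsuperset_card_eq (fun t ht => ?_) (by omega) ?_
    · simp only [Finset.mem_erase, Finset.mem_univ, and_true]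
      exact ⟨fun hh => hy (hh ▸ ht), fun hh => hx (hh ▸ ht)⟩
    · have hxy : y ∈ Finset.univ.erase x :=
        Finset.mem_erase.2 ⟨fun hh => hyO (hh ▸ hxO), Finset.mem_univ _⟩
      rw [Finset.card_erase_of_mem hxy, Finset.card_erase_of_mem (Finset.mem_univ _),
        Finset.card_univ]
      omega
  have hxR : x ∉ R := fun hh => by simpa using (Finset.mem_erase.1 (Finset.mem_of_mem_erase (hR hh))).1
  have hyR : y ∉ R := fun hh => (Finset.mem_erase.1 (hR hh)).1 rfl
  have h1 := hmain (insert x R) (hTR.trans (Finset.subset_insert _ _))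
    (by rw [Finset.card_insert_of_notMem hxR]; omega)
  have h2 := hmain (insert y R) (hTR.trans (Finset.subset_insert _ _))
    (by rw [Finset.card_insert_of_notMem hyR]; omega)
  have e1 : O \ insert x R = (O \ R).erase x := Finset.sdiff_insert _ _ _
  have e2 : O \ insert y R = O \ R := by
    ext z
    simp only [Finset.mem_sdiff, Finset.mem_insert, not_or]
    exact ⟨fun hh => ⟨hh.1, hh.2.2⟩, fun hh => ⟨hh.1, fun hzy => hyO (hzy ▸ hh.1), hh.2⟩⟩
  rw [e1, Finset.card_erase_of_mem (Finset.mem_sdiff.2 ⟨hxO, hxR⟩)] at h1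
  rw [e2] at h2
  have hpos : 0 < (O \ R).card := Finset.card_pos.2 ⟨x, Finset.mem_sdiff.2 ⟨hxO, hxR⟩⟩
  have := Nat.dvd_sub h2 h1
  rw [show (O \ R).card - ((O \ R).card - 1) = 1 by omega, Nat.dvd_one] at this
  omega

omit [Fintype α] in
/-- An invariant finite set all whose orbits have size divisible by `d` has size divisible by
`d`. -/
theorem dvd_card_of_invariant [Finite α] {d : ℕ} (B : Finset α)
    (hB : ∀ g : G, ∀ x ∈ B, g • x ∈ B) (h : ∀ x ∈ B, d ∣ Nat.card (orbit G x)) : d ∣ B.card := by
  classical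
  haveI := Fintype.ofFinite α
  induction B using Finset.strongInduction with
  | _ B ih =>
    rcases B.eq_empty_or_nonempty with rfl | ⟨x, hx⟩
    · simp
    · let O : Finset α := (orbit G x).toFinset
      have hOB : O ⊆ B := fun z hz => by
        obtain ⟨g, rfl⟩ := Set.mem_toFinset.1 hz
        exact hB g x hx
      have hxO : x ∈ O := Set.mem_toFinset.2 (mem_orbit_self x)
      have h2 : d ∣ O.card := by
        have := h x hx
        rwa [Nat.card_eq_card_toFinset] at this
      have h3 : d ∣ (B \ O).card := by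
        refine ih _ (Finset.sdiff_ssubset hOB ⟨x, hxO⟩) (fun g z hz => ?_)
          fun z hz => h z (Finset.mem_sdiff.1 hz).1
        rw [Finset.mem_sdiff] at hz ⊢
        refine ⟨hB g z hz.1, fun hh => hz.2 ?_⟩
        rw [Set.mem_toFinset] at hh ⊢
        exact (mem_orbit_of_mem_orbit g⁻¹ hh) |> fun hm => by rwa [inv_smul_smul] at hm
      have := Finset.card_sdiff_add_card_eq_card hOB
      rw [← this]
      exact dvd_add h3 h2

end Cfsg.Agent.Perm
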