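import Cfsg.Agent.Lib.Perm.HallFourFinite
import Cfsg.Agent.S4219
import Cfsg.Agent.S0743

/-!
# A `(k+1)`-set on which a `k`-transitive group induces the alternating group
-/

set_option autoImplicit false
open Cfsg.Agent.Perm.HallFour
open scoped Pointwise

namespace Cfsg.Agent.Perm.JordanSetSym

universe u v

/-- An involution commuting with `z` which interchanges two fixed points of `z` and fixes a pair of
`z` pointwise. -/
theorem exists_U {G : Type u} [Group G] {Ω : Type v} [MulAction G Ω] (h : H4 G Ω) {z : G}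
    (hz : z * z = 1) {a c d : Ω} (ha : z • a ≠ a) (hc : z • c = c) (hd : z • d = d) (hcd : c ≠ d) :
    ∃ u : G, u * u = 1 ∧ Commute z u ∧ u • c = d ∧ u • d = c ∧ u • a = a ∧
      u • (z • a) = z • a := by
  have hzz := smul_smul_of_mul_self (Ω := Ω) hz
  have hn : [c, d, a, z • a].Nodup := nodup4 hcd (fun e => ha (e ▸ hc))
    (fun e => ha ((MulAction.injective z) (show z • z • a = z • a by rw [← e]; exact hc)))
    (fun e => ha (e ▸ hd))
    (fun e => ha ((MulAction.injective z) (show z • z • a = z • a by rw [← e]; exact hd)))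
    (Ne.symm ha)
  obtain ⟨t, ht, t1, t2, t3, t4⟩ := exists_refl h hn
  set q := t * (z * t * z) with hq
  have q1 : q • c = c := by simp only [hq, mul_smul, hc, t1, hd, t2]
  have q2 : q • d = d := by simp only [hq, mul_smul, hd, t2, hc, t1]
  have q3 : q • a = a := by simp only [hq, mul_smul, t4, hzz, t3]
  have q4 : q • (z • a) = z • a := by simp only [hq, mul_smul, hzz, t3, t4]
  obtain ⟨k, hk1, hk2⟩ := adjust hz ht (h.odd q _ _ _ _ hn q1 q2 q3 q4)
  refine ⟨_, hk1, hk2, ?_, ?_, ?_, ?_⟩
  all_goals rw [← hq, mul_smul]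
  · rw [pow_smul_eq_self q1, t1]
  · rw [pow_smul_eq_self q2, t2]
  · rw [pow_smul_eq_self q3, t3]
  · rw [pow_smul_eq_self q4, t4]

variable {β : Type v} [Fintype β] [DecidableEq β]

/-- An involution of `X` exchanging `a` and `b` and fixing `s`, of cardinality `f`. -/
structure Good (X : Subgroup (Equiv.Perm β)) (f : ℕ) (t : Equiv.Perm β) (a b : β) (s : Finset β) :
    Prop where
  mem : t ∈ X
  sq : t * t = 1
  ta : t a = b
  ne : a ≠ b
  ha : a ∉ s
  hb : b ∉ s
  fix : ∀ x ∈ s, t x = x
  card : s.card = f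

omit [Fintype β] [DecidableEq β] in
theorem Good.tb {X : Subgroup (Equiv.Perm β)} {f : ℕ} {t : Equiv.Perm β} {a b : β} {s : Finset β}
    (h : Good X f t a b s) : t b = a := by
  have := Equiv.ext_iff.1 h.sq a
  rwa [Equiv.Perm.mul_apply, h.ta, Equiv.Perm.one_apply] at this

omit [Fintype β] in
/-- From one such involution, and the step to disjoint pairs, all permutations are induced. -/
theorem engine {X : Subgroup (Equiv.Perm β)} {f : ℕ} (hf : 3 ≤ f)
    (step : ∀ (t : Equiv.Perm β) (a b : β) (s : Finset β), Good X f t a b s → ∀ c ∈ s, ∀ d ∈ s,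
      c ≠ d → ∃ u, Good X f u c d (insert a (insert b ((s.erase c).erase d))))
    {t : Equiv.Perm β} {a b : β} {s : Finset β} (h : Good X f t a b s) :
    (insert a (insert b s)).card = f + 2 ∧
      ∀ σ : Equiv.Perm ↥(insert a (insert b s)), ∃ g ∈ X, ∀ x : ↥(insert a (insert b s)), g (x : β) = σ x := by
  classical
  set D := insert a (insert b s) with hD
  have hcard : D.card = f + 2 := by
    rw [hD, Finset.card_insert_of_notMem (by simp [h.ne, h.ha]),
      Finset.card_insert_of_notMem h.hb, h.card]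
  refine ⟨hcard, ?_⟩
  let Has : β → β → Prop := fun x y => ∃ u, Good X f u x y ((D.erase x).erase y)
  have hab : Has a b := by
    refine ⟨t, ?_⟩
    have e : (D.erase a).erase b = s := by
      rw [hD, Finset.erase_insert (by simp [h.ne, h.ha]), Finset.erase_insert h.hb]
    rw [e]; exact h
  have hsymm : ∀ x y, Has x y → Has y x := fun x y ⟨u, hu⟩ => by
    refine ⟨u, hu.mem, hu.sq, hu.tb, Ne.symm hu.ne, ?_, ?_, ?_, ?_⟩
    all_goals rw [Finset.erase_right_comm]
    exacts [hu.hb, hu.ha, hu.fix, hu.card]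
  have hstep : ∀ x y c d, Has x y → x ∈ D → y ∈ D → c ∈ D → d ∈ D → c ≠ d → c ≠ x → c ≠ y →
      d ≠ x → d ≠ y → Has c d := by
    rintro x y c d ⟨u, hu⟩ hx hy hc hd hcd hcx hcy hdx hdy
    obtain ⟨u', hu'⟩ := step u x y _ hu c (by simp [hc, hcx, hcy]) d (by simp [hd, hdx, hdy]) hcd
    refine ⟨u', ?_⟩
    have e : (D.erase c).erase d = insert x (insert y ((((D.erase x).erase y).erase c).erase d)) := by
      ext w
      simp only [Finset.mem_erase, Finset.mem_insert]
      constructor
      · rintro ⟨h1, h2, h3⟩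
        by_cases k1 : w = x
        · exact Or.inl k1
        by_cases k2 : w = y
        · exact Or.inr (Or.inl k2)
        exact Or.inr (Or.inr ⟨h1, h2, k2, k1, h3⟩)
      · rintro (rfl | rfl | ⟨h1, h2, -, -, h5⟩)
        · exact ⟨Ne.symm hdx, Ne.symm hcx, hx⟩
        · exact ⟨Ne.symm hdy, Ne.symm hcy, hy⟩
        · exact ⟨h1, h2, h5⟩
    rw [e]; exact hu'
  have haD : a ∈ D := by simp [hD]
  have hbD : b ∈ D := by simp [hD]
  have hax : ∀ x y, Has x y → x ∈ D → y ∈ D → ∀ z ∈ D, z ≠ x → z ≠ y → Has x z := by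
    intro x y hxy hx hy z hz hzx hzy
    have h2 : 2 ≤ (((D.erase x).erase y).erase z).card := by
      have h1 := Finset.card_erase_add_one hx
      have h1' := Finset.card_erase_add_one (show y ∈ D.erase x from Finset.mem_erase.2 ⟨fun e => by
        obtain ⟨u, hu⟩ := hxy; exact hu.ne e.symm, hy⟩)
      have h1'' := Finset.card_erase_add_one (show z ∈ (D.erase x).erase y by simp [hzx, hzy, hz])
      omega
    obtain ⟨c, hc, d, hd, hcd⟩ := Finset.one_lt_card.1 h2
    simp only [Finset.mem_erase] at hc hd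
    obtain ⟨hcz, hcy, hcx, hc⟩ := hc
    obtain ⟨hdz, hdy, hdx, hd⟩ := hd
    exact hstep c d x z (hstep x y c d hxy hx hy hc hd hcd hcx hcy hdx hdy) hc hd hx hz
      (Ne.symm hzx) (Ne.symm hcx) (Ne.symm hdx) (Ne.symm hcz) (Ne.symm hdz)
  have hall : ∀ x ∈ D, ∀ y ∈ D, x ≠ y → Has x y := by
    intro x hx y hy hxy
    by_cases hxa : x = a
    · subst hxa
      by_cases hyb : y = b
      · subst hyb; exact hab
      · exact hax x b hab haD hbD y hy (Ne.symm hxy) hyb
    by_cases hxb : x = b
    · subst hxb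
      by_cases hya : y = a
      · subst hya; exact hsymm _ _ hab
      · exact hax x a (hsymm _ _ hab) hbD haD y hy (Ne.symm hxy) hya
    by_cases hya : y = a
    · subst hya
      exact hsymm _ _ (hax y b hab haD hbD x hx hxy hxb)
    by_cases hyb : y = b
    · subst hyb
      exact hsymm _ _ (hax y a (hsymm _ _ hab) hbD haD x hx hxy hxa)
    exact hstep a b x y hab haD hbD hx hy hxy hxa hxb hya hyb
  intro σ
  induction σ using Equiv.Perm.swap_induction_on with
  | one => exact ⟨1, X.one_mem, fun x => rfl⟩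
  | swap_mul σ x y hxy ih =>
    obtain ⟨g, hg, hgσ⟩ := ih
    obtain ⟨u, hu⟩ := hall x x.2 y y.2 (fun e => hxy (Subtype.ext e))
    refine ⟨u * g, X.mul_mem hu.mem hg, fun w => ?_⟩
    rw [Equiv.Perm.mul_apply, hgσ, Equiv.Perm.mul_apply]
    generalize σ w = w'
    by_cases h1 : w' = x
    · rw [h1, Equiv.swap_apply_left]; exact hu.ta
    by_cases h2 : w' = y
    · rw [h2, Equiv.swap_apply_right]; exact hu.tb
    rw [Equiv.swap_apply_of_ne_of_ne h1 h2]
    exact hu.fix _ (Finset.mem_erase.2 ⟨fun e => h2 (Subtype.ext e),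
      Finset.mem_erase.2 ⟨fun e => h1 (Subtype.ext e), w'.2⟩⟩)

omit [Fintype β] [DecidableEq β] in
theorem trans_list {G : Type u} [Group G] [MulAction G β] {k : ℕ}
    (hG : MulAction.IsMultiplyPretransitive G β k) (l l' : List β) (hl : l.Nodup) (hl' : l'.Nodup)
    (h : l.length = k) (h' : l'.length = k) : ∃ g : G, l.map (g • ·) = l' := by
  let x : Fin k ↪ β := ⟨fun i => l.get (i.cast h.symm), fun i j e =>
    Fin.cast_injective _ (List.nodup_iff_injective_get.1 hl e)⟩
  let y : Fin k ↪ β := ⟨fun i => l'.get (i.cast h'.symm), fun i j e =>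
    Fin.cast_injective _ (List.nodup_iff_injective_get.1 hl' e)⟩
  obtain ⟨g, hg⟩ := hG.exists_smul_eq x y
  refine ⟨g, List.ext_get (by simp [h, h']) fun i hi hi' => ?_⟩
  have e := DFunLike.congr_fun hg ⟨i, h' ▸ hi'⟩
  rw [Function.Embedding.smul_apply] at e
  simpa [x, y] using e

variable {X : Subgroup (Equiv.Perm β)} {k : ℕ}

/-- The four-transitive action of a pointwise stabiliser of `k - 4` points. -/
theorem h4_fixing (hk : 4 ≤ k) (hX : MulAction.IsMultiplyPretransitive X β k)
    (hodd : ∀ g : X, ∀ s : Finset β, s.card = k → (∀ x ∈ s, g • x = x) → Odd (orderOf g))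
    (R : Finset β) (hR : R.card = k - 4) :
    H4 (fixingSubgroup X (R : Set β)) (SubMulAction.ofFixingSubgroup X (R : Set β)) := by
  classical
  refine ⟨fun g hg => ?_, fun a b c d a' b' c' d' hn hn' => ?_, fun g a b c d hn ha hb hc hd => ?_⟩
  · refine Subtype.ext (Subtype.ext (Equiv.ext fun x => ?_))
    by_cases hx : x ∈ R
    · exact (mem_fixingSubgroup_iff X).1 g.2 x hx
    · exact congrArg Subtype.val (hg ⟨x, hx⟩)
  · have key : ∀ a b c d : SubMulAction.ofFixingSubgroup X (R : Set β), [a, b, c, d].Nodup →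
        ([(a : β), b, c, d] ++ R.toList).Nodup ∧ ([(a : β), b, c, d] ++ R.toList).length = k := by
      intro a b c d hn
      refine ⟨List.nodup_append.2 ⟨hn.map Subtype.val_injective, R.nodup_toList, ?_⟩,
        by simp [hR]; omega⟩
      intro x hx y hy e
      simp only [List.mem_cons, List.not_mem_nil, or_false] at hx
      rw [Finset.mem_toList] at hy
      rcases hx with rfl | rfl | rfl | rfl
      exacts [a.2 (e ▸ hy), b.2 (e ▸ hy), c.2 (e ▸ hy), d.2 (e ▸ hy)]
    obtain ⟨g, hg⟩ := trans_list hX _ _ (key a b c d hn).1 (key a' b' c' d' hn').1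
      (key a b c d hn).2 (key a' b' c' d' hn').2
    rw [List.map_append] at hg
    obtain ⟨h1, h2⟩ := List.append_inj hg (by simp)
    have hR' : ∀ x ∈ R, g • x = x := fun x hx => by
      have h3 : R.toList.map (g • ·) = R.toList.map id := by rw [List.map_id]; exact h2
      exact List.map_inj_left.1 h3 x (Finset.mem_toList.2 hx)
    simp only [List.map_cons, List.map_nil, List.cons.injEq, and_true] at h1
    obtain ⟨e1, e2, e3, e4⟩ := h1
    exact ⟨⟨g, (mem_fixingSubgroup_iff X).2 hR'⟩, Subtype.ext e1, Subtype.ext e2, Subtype.ext e3,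
      Subtype.ext e4⟩
  · rw [← Subgroup.orderOf_coe]
    refine hodd g ((([a, b, c, d].map Subtype.val).toFinset) ∪ R) ?_ ?_
    · rw [Finset.card_union_of_disjoint, List.toFinset_card_of_nodup (hn.map Subtype.val_injective),
        hR]
      · simp; omega
      · rw [Finset.disjoint_left]
        intro x hx hxR
        rw [List.mem_toFinset, List.mem_map] at hx
        obtain ⟨y, -, rfl⟩ := hx
        exact y.2 hxR
    · intro x hx
      rcases Finset.mem_union.1 hx with h | h
      · rw [List.mem_toFinset, List.mem_map] at h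
        obtain ⟨y, hy, rfl⟩ := h
        simp only [List.mem_cons, List.not_mem_nil, or_false] at hy
        rcases hy with rfl | rfl | rfl | rfl
        exacts [congrArg Subtype.val ha, congrArg Subtype.val hb, congrArg Subtype.val hc,
          congrArg Subtype.val hd]
      · exact (mem_fixingSubgroup_iff X).1 g.2 x h

/-- All `k`-point stabilisers are of odd order. -/
theorem case_odd (hk : 4 ≤ k) (hkn : k < Fintype.card β)
    (hX : MulAction.IsMultiplyPretransitive X β k)
    (hodd : ∀ g : X, ∀ s : Finset β, s.card = k → (∀ x ∈ s, g • x = x) → Odd (orderOf g)) :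
    ∃ D : Finset β, D.card = k + 1 ∧
      ∀ σ : Equiv.Perm ↥D, σ ∈ alternatingGroup ↥D → ∃ g ∈ X, ∀ x : ↥D, g (x : β) = σ x := by
  classical
  obtain ⟨R₀, -, hR₀⟩ := Finset.exists_subset_card_eq (s := (Finset.univ : Finset β)) (n := k - 4)
    (by rw [Finset.card_univ]; omega)
  have hcardΩ : ∀ R : Finset β, R.card = k - 4 →
      Nat.card (SubMulAction.ofFixingSubgroup X (R : Set β)) + (k - 4) = Fintype.card β := by
    intro R hR
    have e : Nat.card (SubMulAction.ofFixingSubgroup X (R : Set β)) = Fintype.card {x // x ∉ R} := by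
      rw [← Nat.card_eq_fintype_card]; rfl
    rw [e, Fintype.card_subtype_compl, Fintype.card_coe, hR]
    omega
  have h := h4_fixing hk hX hodd R₀ hR₀
  have hn := hcardΩ R₀ hR₀
  rcases Nat.mod_two_eq_zero_or_one (Nat.card (SubMulAction.ofFixingSubgroup X (R₀ : Set β))) with
    heven | hoddn
  · have := degree h (by omega)
    have hn2 : Fintype.card β = k + 2 := by omega
    obtain ⟨D, -, hD⟩ := Finset.exists_subset_card_eq (s := (Finset.univ : Finset β)) (n := k + 1)
      (by rw [Finset.card_univ]; omega)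
    have hle : alternatingGroup β ≤ X := IsMultiplyPretransitive.alternatingGroup_le β X (by
      rw [Nat.card_eq_fintype_card, hn2, Nat.add_sub_cancel]; exact hX)
    refine ⟨D, hD, fun σ hσ => ⟨Equiv.Perm.ofSubtype σ, hle ?_, fun x =>
      Equiv.Perm.ofSubtype_apply_coe σ x⟩⟩
    rw [Equiv.Perm.mem_alternatingGroup, Equiv.Perm.sign_ofSubtype]
    exact Equiv.Perm.mem_alternatingGroup.1 hσ
  have hle : ∀ g : X, g * g = 1 → g ≠ 1 → ∀ s : Finset β, (∀ x ∈ s, g • x = x) → s.card < k := by
    intro g hg hg1 s hs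
    by_contra hlt
    obtain ⟨u, hu, huk⟩ := Finset.exists_subset_card_eq (s := s) (n := k) (by omega)
    have ho := hodd g u huk fun x hx => hs x (hu hx)
    rw [orderOf_eq_prime (by rw [pow_two, hg]) hg1] at ho
    exact absurd ho (by decide)
  have step : ∀ (t : Equiv.Perm β) (a b : β) (s : Finset β), Good X (k - 1) t a b s → ∀ c ∈ s,
      ∀ d ∈ s, c ≠ d → ∃ u, Good X (k - 1) u c d (insert a (insert b ((s.erase c).erase d))) := by
    intro t a b s ht c hc d hd hcd
    have hscard := ht.card
    have hc1 := Finset.card_erase_add_one hc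
    have hd' : d ∈ s.erase c := Finset.mem_erase.2 ⟨Ne.symm hcd, hd⟩
    have hd1 := Finset.card_erase_add_one hd'
    obtain ⟨e, he⟩ : ((s.erase c).erase d).Nonempty := Finset.card_pos.1 (by omega)
    set R := ((s.erase c).erase d).erase e with hRdef
    have he1 := Finset.card_erase_add_one he
    have hR : R.card = k - 4 := by rw [hRdef]; omega
    have hRs : R ⊆ s := ((Finset.erase_subset _ _).trans (Finset.erase_subset _ _)).trans
      (Finset.erase_subset _ _)
    simp only [Finset.mem_erase] at he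
    obtain ⟨hed, hec, hes⟩ := he
    have hH := h4_fixing hk hX hodd R hR
    let T : fixingSubgroup X (R : Set β) :=
      ⟨⟨t, ht.mem⟩, (mem_fixingSubgroup_iff X).2 fun x hx => ht.fix x (hRs hx)⟩
    have hT : T * T = 1 := Subtype.ext (Subtype.ext ht.sq)
    let a' : SubMulAction.ofFixingSubgroup X (R : Set β) := ⟨a, fun hx => ht.ha (hRs hx)⟩
    let c' : SubMulAction.ofFixingSubgroup X (R : Set β) := ⟨c, fun hx => by simp [hRdef] at hx⟩
    let d' : SubMulAction.ofFixingSubgroup X (R : Set β) := ⟨d, fun hx => by simp [hRdef] at hx⟩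
    have hTa : T • a' ≠ a' := fun k' => ht.ne (ht.ta ▸ (congrArg Subtype.val k').symm)
    obtain ⟨u, hu, hcu, u1, u2, u3, u4⟩ := exists_U hH hT hTa
      (Subtype.ext (ht.fix c hc)) (Subtype.ext (ht.fix d hd)) (fun k' : c' = d' => hcd (congrArg Subtype.val k'))
    let g : X := (u : X)
    have hg : ∀ x : SubMulAction.ofFixingSubgroup X (R : Set β), g • (x : β) = ((u • x : _) : β) :=
      fun x => rfl
    have hua : g • a = a := by rw [show a = (a' : β) from rfl, hg, u3]
    have hub : g • b = b := by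
      have k' : g • ((T • a' : _) : β) = ((T • a' : _) : β) := by rw [hg, u4]
      rwa [show ((T • a' : _) : β) = b from ht.ta] at k'
    have huc : g • c = d := by rw [show c = (c' : β) from rfl, hg, u1]
    have hud : g • d = c := by rw [show d = (d' : β) from rfl, hg, u2]
    have hgR : ∀ x ∈ R, g • x = x := fun x hx => (mem_fixingSubgroup_iff X).1 u.2 x hx
    have hue : g • e = e := by
      have htX : (⟨t, ht.mem⟩ : X) * g = g * ⟨t, ht.mem⟩ := congrArg Subtype.val hcu.eq
      have hfix : (⟨t, ht.mem⟩ : X) • (g • e) = g • e := by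
        rw [smul_smul, htX, mul_smul, show (⟨t, ht.mem⟩ : X) • e = e from ht.fix e hes]
      have hmem : g • e ∈ s := by
        by_contra hns
        have := hle ⟨t, ht.mem⟩ (Subtype.ext ht.sq)
          (fun k' => ht.ne (by have := congrArg (fun v : X => (v : Equiv.Perm β) a) k'; simp at this; rw [ht.ta] at this; exact this.symm))
          (insert (g • e) s) (fun x hx => by
            rcases Finset.mem_insert.1 hx with rfl | hx
            exacts [hfix, ht.fix x hx])
        rw [Finset.card_insert_of_notMem hns] at this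
        omega
      by_contra hne
      have h1 : g • e ≠ c := fun k' => hed ((MulAction.injective g) (k'.trans hud.symm))
      have h2 : g • e ≠ d := fun k' => hec ((MulAction.injective g) (k'.trans huc.symm))
      have h3 : g • e ∈ R := by simp [hRdef, hne, h1, h2, hmem]
      exact hne ((MulAction.injective g) ((hgR _ h3)))
    refine ⟨(g : Equiv.Perm β), g.2, congrArg (fun v : fixingSubgroup X (R : Set β) => ((v : X) : Equiv.Perm β)) hu,
      huc, hcd, ?_, ?_, ?_, ?_⟩
    · simp only [Finset.mem_insert, Finset.mem_erase, not_or]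
      exact ⟨fun k' => ht.ha (k' ▸ hc), fun k' => ht.hb (k' ▸ hc), fun k' => k'.2.1 rfl⟩
    · simp only [Finset.mem_insert, Finset.mem_erase, not_or]
      exact ⟨fun k' => ht.ha (k' ▸ hd), fun k' => ht.hb (k' ▸ hd), fun k' => k'.1 rfl⟩
    · intro x hx
      simp only [Finset.mem_insert, Finset.mem_erase] at hx
      rcases hx with rfl | rfl | ⟨hxd, hxc, hxs⟩
      · exact hua
      · exact hub
      · by_cases hxe : x = e
        · rw [hxe]; exact hue
        · exact hgR x (by simp [hRdef, hxe, hxd, hxc, hxs])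
    · rw [Finset.card_insert_of_notMem, Finset.card_insert_of_notMem]
      · omega
      · exact fun k' => ht.hb (Finset.mem_of_mem_erase (Finset.mem_of_mem_erase k'))
      · rw [Finset.mem_insert, not_or]
        exact ⟨ht.ne, fun k' => ht.ha (Finset.mem_of_mem_erase (Finset.mem_of_mem_erase k'))⟩
  -- the initial involution
  obtain ⟨p, q, r, w, hnd⟩ := four_points h (by omega)
  obtain ⟨t, ht, t1, -, t3, t4⟩ := exists_inv2 h p q r w hnd
  have hpq : p ≠ q := fun e => by simp [e] at hnd
  have hfin : (Fx t (SubMulAction.ofFixingSubgroup X (R₀ : Set β))).Finite := Set.toFinite _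
  have hf := f_eq h ht
  rw [hoddn, Set.ncard_eq_toFinset_card _ hfin] at hf
  set s := R₀ ∪ hfin.toFinset.map ⟨Subtype.val, Subtype.val_injective⟩ with hs
  have hgood : Good X (k - 1) ((t : X) : Equiv.Perm β) p q s := by
    refine ⟨(t : X).2, congrArg (fun v : fixingSubgroup X (R₀ : Set β) => ((v : X) : Equiv.Perm β)) ht.sq,
      congrArg Subtype.val t1, fun e => hpq (Subtype.ext e), ?_, ?_, ?_, ?_⟩
    · rw [hs, Finset.mem_union, not_or]
      refine ⟨p.2, fun hm => ?_⟩
      obtain ⟨v, hv, hvp⟩ := Finset.mem_map.1 hm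
      have hv' : t • v = v := (Set.Finite.mem_toFinset hfin).1 hv
      have : v = p := Subtype.ext hvp
      rw [this, t1] at hv'
      exact hpq hv'.symm
    · rw [hs, Finset.mem_union, not_or]
      refine ⟨q.2, fun hm => ?_⟩
      obtain ⟨v, hv, hvp⟩ := Finset.mem_map.1 hm
      have hv' : t • v = v := (Set.Finite.mem_toFinset hfin).1 hv
      have e' : v = q := Subtype.ext hvp
      rw [e', ← t1, smul_smul_of_mul_self ht.sq, t1] at hv'
      exact hpq hv'
    · intro x hx
      rcases Finset.mem_union.1 hx with hx | hx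
      · exact (mem_fixingSubgroup_iff X).1 t.2 x hx
      · obtain ⟨v, hv, rfl⟩ := Finset.mem_map.1 hx
        exact congrArg Subtype.val ((Set.Finite.mem_toFinset hfin).1 hv)
    · rw [hs, Finset.card_union_of_disjoint, Finset.card_map, hR₀, hf]
      · omega
      · rw [Finset.disjoint_left]
        intro x hx hm
        obtain ⟨v, -, rfl⟩ := Finset.mem_map.1 hm
        exact v.2 hx
  obtain ⟨hcard, hσ⟩ := engine (by omega) step hgood
  exact ⟨_, by omega, fun σ _ => hσ σ⟩

/-- Stabilisers of `k + 1` points are of odd order, those of `k` points are not. -/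
theorem case_even (hk : 4 ≤ k) (hkn : k < Fintype.card β)
    (hX : MulAction.IsMultiplyPretransitive X β k)
    (hodd : ∀ g : X, ∀ s : Finset β, s.card = k + 1 → (∀ x ∈ s, g • x = x) → Odd (orderOf g))
    (hev : ∃ g : X, ∃ s : Finset β, s.card = k ∧ (∀ x ∈ s, g • x = x) ∧ Even (orderOf g)) :
    ∃ D : Finset β, D.card = k + 1 ∧
      ∀ σ : Equiv.Perm ↥D, σ ∈ alternatingGroup ↥D → ∃ g ∈ X, ∀ x : ↥D, g (x : β) = σ x := by
  classical
  have : Fact (Nat.Prime 2) := ⟨Nat.prime_two⟩
  have hle : ∀ g : X, g * g = 1 → g ≠ 1 → ∀ s : Finset β, (∀ x ∈ s, g • x = x) → s.card ≤ k := by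
    intro g hg hg1 s hs
    by_contra hlt
    obtain ⟨u, hu, huk⟩ := Finset.exists_subset_card_eq (s := s) (n := k + 1) (by omega)
    have ho := hodd g u huk fun x hx => hs x (hu hx)
    rw [orderOf_eq_prime (by rw [pow_two, hg]) hg1] at ho
    exact absurd ho (by decide)
  obtain ⟨g₀, s₀, hs₀, hfix₀, heven⟩ := hev
  -- every `k`-set is fixed by an involution
  have hinv : ∀ s : Finset β, s.card = k → ∃ t : X, t * t = 1 ∧ t ≠ 1 ∧ ∀ x ∈ s, t • x = x := by
    intro s hs
    obtain ⟨c, hc⟩ := trans_list hX s₀.toList s.toList s₀.nodup_toList s.nodup_toList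
      (by simpa using hs₀) (by simpa using hs)
    obtain ⟨j, hj⟩ := even_iff_two_dvd.1 heven
    have hpos := orderOf_pos g₀
    set t := g₀ ^ j with htdef
    have ht2 : t * t = 1 := by rw [htdef, ← pow_add, show j + j = orderOf g₀ by omega, pow_orderOf_eq_one]
    have ht1 : t ≠ 1 := fun e => by
      have := Nat.le_of_dvd (by omega) (orderOf_dvd_of_pow_eq_one e)
      omega
    refine ⟨c * t * c⁻¹, ?_, fun e => ht1 (conj_eq_one_iff.1 e), fun x hx => ?_⟩
    · rw [show c * t * c⁻¹ * (c * t * c⁻¹) = c * (t * t) * c⁻¹ by group, ht2, mul_one, mul_inv_cancel]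
    · have : x ∈ s₀.toList.map (c • ·) := by rw [hc]; exact Finset.mem_toList.2 hx
      obtain ⟨w, hw, rfl⟩ := List.mem_map.1 this
      rw [mul_smul, mul_smul, inv_smul_smul,
        pow_smul_eq_self (hfix₀ w (Finset.mem_toList.1 hw))]
  have step : ∀ (t : Equiv.Perm β) (a b : β) (s : Finset β), Good X k t a b s → ∀ c ∈ s,
      ∀ d ∈ s, c ≠ d → ∃ u, Good X k u c d (insert a (insert b ((s.erase c).erase d))) := by
    intro t a b s ht c hc d hd hcd
    set T : X := ⟨t, ht.mem⟩ with hTdef
    set s' := insert a (insert b ((s.erase c).erase d)) with hs'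
    have hc1 := Finset.card_erase_add_one hc
    have hd1 := Finset.card_erase_add_one (show d ∈ s.erase c from Finset.mem_erase.2 ⟨Ne.symm hcd, hd⟩)
    have hscard := ht.card
    have hs'c : s'.card = k := by
      rw [hs', Finset.card_insert_of_notMem, Finset.card_insert_of_notMem]
      · omega
      · exact fun k' => ht.hb (Finset.mem_of_mem_erase (Finset.mem_of_mem_erase k'))
      · rw [Finset.mem_insert, not_or]
        exact ⟨ht.ne, fun k' => ht.ha (Finset.mem_of_mem_erase (Finset.mem_of_mem_erase k'))⟩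
    have hTs' : ∀ x ∈ s', T • x ∈ s' := by
      intro x hx
      rw [hs', Finset.mem_insert, Finset.mem_insert] at hx ⊢
      rcases hx with rfl | rfl | hx
      · exact Or.inr (Or.inl ht.ta)
      · exact Or.inl ht.tb
      · refine Or.inr (Or.inr ?_)
        have e : T • x = x := ht.fix x (Finset.mem_of_mem_erase (Finset.mem_of_mem_erase hx))
        rwa [e]
    have hT2 : T * T = 1 := Subtype.ext ht.sq
    have hTi : T⁻¹ = T := inv_eq_of_mul_eq_one_left hT2
    let K : Subgroup X := fixingSubgroup X (s' : Set β)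
    have hKconj : ∀ v ∈ K, T * v * T⁻¹ ∈ K := by
      intro v hv
      refine (mem_fixingSubgroup_iff X).2 fun x hx => ?_
      rw [hTi, mul_smul, mul_smul, (mem_fixingSubgroup_iff X).1 hv _ (hTs' x hx),
        smul_smul_of_mul_self hT2]
    obtain ⟨t', ht'2, ht'1, ht'fix⟩ := hinv s' hs'c
    have hKev : Even (Nat.card K) := by
      have hm : t' ∈ K := (mem_fixingSubgroup_iff X).2 ht'fix
      have := Subgroup.orderOf_dvd_natCard _ hm
      rw [orderOf_eq_prime (by rw [pow_two, ht'2]) ht'1] at this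
      exact even_iff_two_dvd.2 this
    let σ : Function.End K := fun v => ⟨T * v * T⁻¹, hKconj v v.2⟩
    have hσ : σ ^ 2 ^ 1 = 1 := by
      rw [pow_one, pow_two]
      funext v
      refine Subtype.ext ?_
      show T * (T * (v : X) * T⁻¹) * T⁻¹ = v
      rw [hTi]
      calc T * (T * (v : X) * T) * T = T * T * v * (T * T) := by group
        _ = v := by rw [hT2, one_mul, mul_one]
    have hC : Even (Nat.card ↥(K ⊓ Subgroup.centralizer {T})) := by
      have e : Nat.card ↥(K ⊓ Subgroup.centralizer {T}) = Nat.card (Function.fixedPoints σ) :=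
        Nat.card_congr
          { toFun := fun v => ⟨⟨v.1, (Subgroup.mem_inf.1 v.2).1⟩, Subtype.ext (by
              show T * (v : X) * T⁻¹ = v
              rw [mul_inv_eq_iff_eq_mul]
              exact (Subgroup.mem_centralizer_singleton_iff.1 (Subgroup.mem_inf.1 v.2).2).symm)⟩
            invFun := fun v => ⟨(v.1 : X), Subgroup.mem_inf.2 ⟨v.1.2,
              Subgroup.mem_centralizer_singleton_iff.2 (mul_inv_eq_iff_eq_mul.1
                (congrArg Subtype.val (v.2 : σ v.1 = v.1))).symm⟩⟩
            left_inv := fun v => rfl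
            right_inv := fun v => rfl }
      have := Fintype.ofFinite K
      have := Equiv.Perm.card_fixedPoints_modEq hσ
      rw [← Nat.card_eq_fintype_card, ← Nat.card_eq_fintype_card] at this
      rw [e, Nat.even_iff, ← this]
      exact Nat.even_iff.1 hKev
    obtain ⟨u, hu⟩ := exists_prime_orderOf_dvd_card' 2 (even_iff_two_dvd.1 hC)
    obtain ⟨hu1, hu2⟩ := Subgroup.mem_inf.1 u.2
    have hu' : orderOf (u : X) = 2 := by rw [Subgroup.orderOf_coe]; exact hu
    have huu : (u : X) * u = 1 := by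
      have := pow_orderOf_eq_one (u : X)
      rwa [hu', pow_two] at this
    have hune : (u : X) ≠ 1 := fun e => by rw [e, orderOf_one] at hu'; omega
    have hufix : ∀ x ∈ s', (u : X) • x = x := (mem_fixingSubgroup_iff X).1 hu1
    have hcT : (u : X) * T = T * u := Subgroup.mem_centralizer_singleton_iff.1 hu2
    have hcs' : c ∉ s' := by
      simp only [hs', Finset.mem_insert, Finset.mem_erase, not_or]
      exact ⟨fun k' => ht.ha (k' ▸ hc), fun k' => ht.hb (k' ▸ hc), fun k' => k'.2.1 rfl⟩
    have hds' : d ∉ s' := by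
      simp only [hs', Finset.mem_insert, Finset.mem_erase, not_or]
      exact ⟨fun k' => ht.ha (k' ▸ hd), fun k' => ht.hb (k' ▸ hd), fun k' => k'.1 rfl⟩
    have hucd : (u : X) • c = d := by
      have hfix : T • ((u : X) • c) = (u : X) • c := by
        rw [smul_smul, ← hcT, mul_smul, show T • c = c from ht.fix c hc]
      have hmem : (u : X) • c ∈ s := by
        by_contra hns
        have := hle T hT2 (fun k' => ht.ne (by
          have := congrArg (fun v : X => (v : Equiv.Perm β) a) k'
          simp only [hTdef, ht.ta] at this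
          simpa using this.symm)) (insert ((u : X) • c) s) (fun x hx => by
            rcases Finset.mem_insert.1 hx with rfl | hx
            exacts [hfix, ht.fix x hx])
        rw [Finset.card_insert_of_notMem hns] at this
        omega
      have hne : (u : X) • c ≠ c := by
        intro e
        have := hle (u : X) huu hune (insert c s') (fun x hx => by
          rcases Finset.mem_insert.1 hx with rfl | hx
          exacts [e, hufix x hx])
        rw [Finset.card_insert_of_notMem hcs', hs'c] at this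
        omega
      by_contra hd'
      have hm : (u : X) • c ∈ s' := by simp [hs', hne, hd', hmem]
      exact hne ((MulAction.injective (u : X)) (hufix _ hm))
    exact ⟨((u : X) : Equiv.Perm β), (u : X).2, congrArg Subtype.val huu, hucd, hcd, hcs', hds',
      hufix, hs'c⟩
  obtain ⟨t, ht2, ht1, hfix⟩ := hinv s₀ hs₀
  obtain ⟨a, ha⟩ : ∃ a : β, t • a ≠ a := by
    by_contra hcon
    push Not at hcon
    exact ht1 (Subtype.ext (Equiv.ext hcon))
  have hgood : Good X k (t : Equiv.Perm β) a (t • a) s₀ :=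
    ⟨t.2, congrArg Subtype.val ht2, rfl, Ne.symm ha, fun h => ha (hfix a h),
      fun h => ha ((MulAction.injective t) (hfix _ h)), hfix, hs₀⟩
  obtain ⟨hcard, hσ⟩ := engine (by omega) step hgood
  set D' := insert a (insert (t • a) s₀) with hD'
  obtain ⟨D, hDsub, hD⟩ := Finset.exists_subset_card_eq (s := D') (n := k + 1) (by omega)
  refine ⟨D, hD, fun σ _ => ?_⟩
  let ι : ↥D ≃ {x : ↥D' // (x : β) ∈ D} :=
    { toFun := fun x => ⟨⟨x, hDsub x.2⟩, x.2⟩
      invFun := fun x => ⟨(x : ↥D'), x.2⟩
      left_inv := fun x => rfl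
      right_inv := fun x => rfl }
  obtain ⟨g, hg, hgs⟩ := hσ (Equiv.Perm.ofSubtype (ι.permCongr σ))
  refine ⟨g, hg, fun x => ?_⟩
  rw [show (x : β) = ((⟨x, hDsub x.2⟩ : ↥D') : β) from rfl, hgs,
    Equiv.Perm.ofSubtype_apply_of_mem (p := fun v : ↥D' => (v : β) ∈ D) (a := ⟨x, hDsub x.2⟩) _ x.2,
    Equiv.permCongr_apply]
  rfl

/-- In a `k`-transitive group, `4 ≤ k < n`, some `(k+1)`-set has all its even permutations
induced. -/
theorem exists_set (G : Subgroup (Equiv.Perm β)) (hk : 4 ≤ k) (hkn : k < Fintype.card β)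
    (hG : MulAction.IsMultiplyPretransitive G β k) :
    ∃ D : Finset β, D.card = k + 1 ∧
      ∀ σ : Equiv.Perm ↥D, σ ∈ alternatingGroup ↥D → ∃ g ∈ G, ∀ x : ↥D, g (x : β) = σ x := by
  classical
  have : Fact (Nat.Prime 2) := ⟨Nat.prime_two⟩
  let good : Subgroup G → Prop := fun P => IsPGroup 2 P ∧ k + 1 ≤ (MulAction.fixedPoints P β).ncard
  obtain ⟨P, hP, hmax⟩ := Set.exists_max_image {P : Subgroup G | good P} (fun P => Nat.card P)
    (Set.toFinite _) ⟨⊥, IsPGroup.of_bot, by
      have : MulAction.fixedPoints (⊥ : Subgroup G) β = Set.univ :=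
        Set.eq_univ_iff_forall.2 fun x g => by rw [Subsingleton.elim g 1, one_smul]
      rw [this, Set.ncard_univ, Nat.card_eq_fintype_card]; omega⟩
  obtain ⟨hP2, hPF⟩ := hP
  set F : Set β := MulAction.fixedPoints P β with hF
  let N : Subgroup G := Subgroup.normalizer (P : Set G)
  have hNF : ∀ g ∈ N, ∀ x ∈ F, g • x ∈ F := by
    intro g hg x hx p
    have hp : g⁻¹ * (p : G) * g ∈ P := (Subgroup.mem_normalizer_iff''.1 hg _).1 p.2
    have := hx ⟨_, hp⟩
    rw [Subgroup.smul_def, Subtype.coe_mk] at this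
    calc p • g • x = (p : G) • g • x := rfl
      _ = g • ((g⁻¹ * (p : G) * g) • x) := by rw [smul_smul, smul_smul]; congr 1; group
      _ = g • x := by rw [this]
  let ρ : N →* Equiv.Perm F :=
    { toFun := fun g =>
        { toFun := fun x => ⟨(g : G) • (x : β), hNF g g.2 x x.2⟩
          invFun := fun x => ⟨((g⁻¹ : N) : G) • (x : β), hNF _ (g⁻¹).2 x x.2⟩
          left_inv := fun x => Subtype.ext (by simp)
          right_inv := fun x => Subtype.ext (by simp) }
      map_one' := Equiv.ext fun x => Subtype.ext (by simp)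
      map_mul' := fun g h => Equiv.ext fun x => Subtype.ext (by simp [mul_smul]) }
  set X := ρ.range with hXdef
  have hFcard : k < Fintype.card F := by
    rw [← Nat.card_eq_fintype_card, Nat.card_coe_set_eq]; omega
  have hup : ∀ Q : Subgroup G, IsPGroup 2 Q → P ≤ Q →
      k + 1 ≤ (MulAction.fixedPoints Q β).ncard → Q = P := fun Q hQ hPQ hQF =>
    (Subgroup.eq_of_le_of_card_ge hPQ (hmax Q ⟨hQ, hQF⟩)).symm
  have hX : MulAction.IsMultiplyPretransitive X F k := by
    by_cases hsyl : ∃ Γ : Finset β, Γ.card = k ∧ (∀ x ∈ Γ, x ∈ F) ∧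
        ∀ Q : Subgroup G, IsPGroup 2 Q → P ≤ Q → (∀ x ∈ Γ, x ∈ MulAction.fixedPoints Q β) → Q = P
    · obtain ⟨Γ, hΓ, hΓF, hΓQ⟩ := hsyl
      let x : Fin k ↪ β := (Fin.castOrderIso hΓ.symm).toEquiv.toEmbedding.trans
        ((Γ.equivFin.symm).toEmbedding.trans ⟨Subtype.val, Subtype.val_injective⟩)
      have hxΓ : ∀ y, y ∈ Γ ↔ ∃ i, x i = y := fun y => ⟨fun hy => ⟨(Γ.equivFin ⟨y, hy⟩).cast hΓ, by
        simp [x]⟩, fun ⟨i, hi⟩ => hi ▸ Subtype.coe_prop _⟩
      have hPx : P ≤ MulAction.stabilizer G x := fun p hp => by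
        refine MulAction.mem_stabilizer_iff.2 (Function.Embedding.ext fun i => ?_)
        exact hΓF (x i) ((hxΓ _).2 ⟨i, rfl⟩) ⟨p, hp⟩
      obtain ⟨S, hS⟩ := (hP2.of_equiv (Subgroup.subgroupOfEquivOfLe hPx).symm).exists_le_sylow
      have hSP : (S : Subgroup (MulAction.stabilizer G x)).map (MulAction.stabilizer G x).subtype = P := by
        refine hΓQ _ (S.2.map _) ?_ ?_
        · rw [← Subgroup.map_subgroupOf_eq_of_le hPx]
          exact Subgroup.map_mono hS
        · rintro y hy ⟨g, hg⟩
          obtain ⟨i, rfl⟩ := (hxΓ y).1 hy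
          obtain ⟨g', -, rfl⟩ := hg
          exact DFunLike.congr_fun (g'.2 : (g' : G) • x = x) i
      rw [MulAction.isMultiplyPretransitive_iff]
      intro a b
      obtain ⟨g, hg, hgab⟩ := Cfsg.Agent.S4219.result hG x S
        (a.trans ⟨Subtype.val, Subtype.val_injective⟩) (b.trans ⟨Subtype.val, Subtype.val_injective⟩)
        (fun i => hSP ▸ (a i).2) (fun i => hSP ▸ (b i).2)
      replace hg : g ∈ N := by convert hg using 3 <;> exact hSP.symm
      refine ⟨⟨ρ ⟨g, hg⟩, ⟨g, hg⟩, rfl⟩, Function.Embedding.ext fun i => Subtype.ext ?_⟩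
      exact DFunLike.congr_fun hgab i
    · push Not at hsyl
      refine Cfsg.Agent.S0743.result X Nat.prime_two (by omega) hFcard fun Γ hΓ => ?_
      obtain ⟨Q, hQ, hPQ, hQΓ, hQne⟩ := hsyl (Γ.map ⟨Subtype.val, Subtype.val_injective⟩)
        (by rw [Finset.card_map, hΓ])
        (fun x hx => by obtain ⟨v, -, rfl⟩ := Finset.mem_map.1 hx; exact v.2)
      obtain ⟨g, hgQ, hgP, hgN⟩ : ∃ g, g ∈ Q ∧ g ∉ P ∧ g ∈ N := by
        have hnil : Group.IsNilpotent Q := hQ.isNilpotent
        have hlt : P.subgroupOf Q < ⊤ :=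
          lt_top_iff_ne_top.2 fun e => hQne (le_antisymm (Subgroup.subgroupOf_eq_top.1 e) hPQ)
        obtain ⟨g, hg, hgn⟩ := Set.exists_of_ssubset (Group.normalizerCondition_of_isNilpotent (G := Q) _ hlt)
        refine ⟨g, g.2, hgn, Subgroup.mem_normalizer_iff.2 fun v => ⟨fun hv => ?_, fun hv => ?_⟩⟩
        · exact (Subgroup.mem_normalizer_iff.1 hg ⟨v, hPQ hv⟩).1 hv
        · have hvQ : v ∈ Q := by
            have := mul_mem (mul_mem (inv_mem g.2) (hPQ hv)) g.2
            simpa [mul_assoc] using this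
          exact (Subgroup.mem_normalizer_iff.1 hg ⟨v, hvQ⟩).2 hv
      refine ⟨Subgroup.zpowers (⟨ρ ⟨g, hgN⟩, ⟨g, hgN⟩, rfl⟩ : X), ?_, ?_⟩
      · obtain ⟨e, he⟩ := hQ ⟨g, hgQ⟩
        obtain ⟨j, -, hj⟩ := (Nat.dvd_prime_pow Nat.prime_two).1
          (orderOf_dvd_of_pow_eq_one (x := (⟨ρ ⟨g, hgN⟩, ⟨g, hgN⟩, rfl⟩ : X)) (n := 2 ^ e) (by
            refine Subtype.ext ?_
            show ρ ⟨g, hgN⟩ ^ 2 ^ e = 1
            rw [← map_pow, show (⟨g, hgN⟩ : N) ^ 2 ^ e = 1 from
              Subtype.ext (congrArg (fun v : Q => (v : G)) he), map_one]))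
        exact IsPGroup.of_card (n := j) (by rw [Nat.card_zpowers, hj])
      · ext v
        rw [MulAction.mem_fixedPoints, Finset.mem_coe]
        constructor
        · intro hv
          by_contra hvΓ
          have hgv : g • (v : β) = v :=
            congrArg Subtype.val (hv ⟨_, Subgroup.mem_zpowers _⟩)
          have hQ' : IsPGroup 2 ↥(P ⊔ Subgroup.zpowers g) :=
            hQ.to_le (sup_le hPQ ((Subgroup.zpowers_le).2 hgQ))
          refine hgP ?_
          rw [← hup _ hQ' le_sup_left ?_]
          · exact le_sup_right (a := P) (Subgroup.mem_zpowers g)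
          · have hsub : ((Γ.map ⟨Subtype.val, Subtype.val_injective⟩ : Finset β) : Set β) ∪ {(v : β)} ⊆
                MulAction.fixedPoints ↥(P ⊔ Subgroup.zpowers g) β := by
              intro y hy p
              have hst : P ⊔ Subgroup.zpowers g ≤ MulAction.stabilizer G y := by
                refine sup_le (fun q hq => ?_) (Subgroup.zpowers_le.2 ?_)
                · rcases hy with hy | rfl
                  · obtain ⟨w, -, rfl⟩ := Finset.mem_map.1 (Finset.mem_coe.1 hy)
                    exact w.2 ⟨q, hq⟩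
                  · exact v.2 ⟨q, hq⟩
                · rcases hy with hy | rfl
                  · exact hQΓ y (Finset.mem_coe.1 hy) ⟨g, hgQ⟩
                  · exact hgv
              exact hst p.2
            refine le_trans ?_ (Set.ncard_le_ncard hsub)
            rw [Set.union_singleton, Set.ncard_insert_of_notMem, Set.ncard_coe_finset,
              Finset.card_map, hΓ]
            rw [Finset.mem_coe, Finset.mem_map]
            rintro ⟨w, hw, hwv⟩
            exact hvΓ (Subtype.ext hwv ▸ hw)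
        · intro hv p
          have hgv : g • (v : β) = v :=
            hQΓ _ (Finset.mem_map.2 ⟨v, hv, rfl⟩) ⟨g, hgQ⟩
          obtain ⟨m, hm⟩ := p.2
          have hst : (⟨ρ ⟨g, hgN⟩, ⟨g, hgN⟩, rfl⟩ : X) ∈ MulAction.stabilizer X v := Subtype.ext hgv
          show (p : X) • v = v
          rw [← hm]
          exact Subgroup.zpow_mem _ hst m
  have hodd1 : ∀ g : X, ∀ s : Finset F, s.card = k + 1 → (∀ x ∈ s, g • x = x) → Odd (orderOf g) := by
    rintro ⟨_, g, rfl⟩ s hs hfix
    by_contra hev
    rw [Nat.not_odd_iff_even] at hev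
    obtain ⟨j, hj⟩ := even_iff_two_dvd.1 hev
    set gX : X := ⟨ρ g, g, rfl⟩ with hgX
    have hpos := orderOf_pos gX
    obtain ⟨e, m, hm, hem⟩ := Nat.exists_eq_two_pow_mul_odd (orderOf_pos (g ^ j)).ne'
    set h₂ := (g ^ j) ^ m with hh₂
    have himg : ρ h₂ = ((gX ^ j : X) : Equiv.Perm F) := by
      obtain ⟨i, hi⟩ := hm
      have h2 : (gX ^ j) ^ 2 = 1 := by rw [← pow_mul, show j * 2 = orderOf gX by omega, pow_orderOf_eq_one]
      have e2 : (gX ^ j) ^ m = gX ^ j := by rw [hi, pow_succ, pow_mul, h2, one_pow, one_mul]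
      conv_rhs => rw [← e2]
      rw [hh₂, map_pow, map_pow, SubmonoidClass.coe_pow, SubmonoidClass.coe_pow]
    have hne : ρ h₂ ≠ 1 := by
      rw [himg]
      intro k'
      have h1 : gX ^ j = 1 := Subtype.ext k'
      have := Nat.le_of_dvd (by omega) (orderOf_dvd_of_pow_eq_one h1)
      omega
    have hp : IsPGroup 2 (Subgroup.zpowers (h₂ : G)) := by
      have h1 : (h₂ : G) ^ 2 ^ e = 1 := by
        rw [← SubmonoidClass.coe_pow, hh₂, ← pow_mul, mul_comm, ← hem, pow_orderOf_eq_one]
        rfl
      obtain ⟨j', -, hj'⟩ := (Nat.dvd_prime_pow Nat.prime_two).1 (orderOf_dvd_of_pow_eq_one h1)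
      exact IsPGroup.of_card (n := j') (by rw [Nat.card_zpowers, hj'])
    have hQ : IsPGroup 2 ↥(Subgroup.zpowers (h₂ : G) ⊔ P) :=
      hp.to_sup_of_normal_right' hP2 (Subgroup.zpowers_le.2 h₂.2)
    refine hne (Equiv.ext fun v => Subtype.ext ?_)
    have hmem : (h₂ : G) ∈ P := by
      rw [← hup _ hQ le_sup_right ?_]
      · exact le_sup_left (b := P) (Subgroup.mem_zpowers (h₂ : G))
      · have hsub : ((s.map ⟨Subtype.val, Subtype.val_injective⟩ : Finset β) : Set β) ⊆
            MulAction.fixedPoints ↥(Subgroup.zpowers (h₂ : G) ⊔ P) β := by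
          intro y hy p
          obtain ⟨w, hw, rfl⟩ := Finset.mem_map.1 (Finset.mem_coe.1 hy)
          have hst : Subgroup.zpowers (h₂ : G) ⊔ P ≤ MulAction.stabilizer G (w : β) := by
            refine sup_le (Subgroup.zpowers_le.2 ?_) fun q hq => w.2 ⟨q, hq⟩
            show (h₂ : G) • (w : β) = w
            have h1 : ((gX ^ j : X) : Equiv.Perm F) w = w := pow_smul_eq_self (hfix w hw) j
            rw [← himg] at h1
            exact congrArg Subtype.val h1
          exact hst p.2
        refine le_trans ?_ (Set.ncard_le_ncard hsub)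
        rw [Set.ncard_coe_finset, Finset.card_map, hs]
    exact v.2 ⟨_, hmem⟩
  obtain ⟨D, hD, hσ⟩ : ∃ D : Finset F, D.card = k + 1 ∧
      ∀ σ : Equiv.Perm ↥D, σ ∈ alternatingGroup ↥D → ∃ g ∈ X, ∀ x : ↥D, g (x : F) = σ x := by
    by_cases hev : ∃ g : X, ∃ s : Finset F, s.card = k ∧ (∀ x ∈ s, g • x = x) ∧ Even (orderOf g)
    · exact case_even hk hFcard hX hodd1 hev
    · push Not at hev
      exact case_odd hk hFcard hX fun g s hs hfix => Nat.not_even_iff_odd.1 (hev g s hs hfix)
  set D' := D.map ⟨Subtype.val, Subtype.val_injective⟩ with hD'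
  refine ⟨D', by rw [hD', Finset.card_map, hD], fun σ hσ' => ?_⟩
  let ι : ↥D ≃ ↥D' := Equiv.ofBijective (fun x => ⟨((x : F) : β), Finset.mem_map.2 ⟨x, x.2, rfl⟩⟩)
    ⟨fun x y e => Subtype.ext (Subtype.ext (congrArg (fun v : ↥D' => (v : β)) e)), fun y => by
      obtain ⟨w, hw, e⟩ := Finset.mem_map.1 y.2
      exact ⟨⟨w, hw⟩, Subtype.ext e⟩⟩
  obtain ⟨g, ⟨g', rfl⟩, hg⟩ := hσ (ι.symm.permCongr σ) (by
    rw [Equiv.Perm.mem_alternatingGroup, Equiv.Perm.sign_permCongr]
    exact Equiv.Perm.mem_alternatingGroup.1 hσ')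
  refine ⟨((g' : G) : Equiv.Perm β), (g' : G).2, fun y => ?_⟩
  obtain ⟨x, rfl⟩ := ι.surjective y
  have e := congrArg Subtype.val (hg x)
  rw [Equiv.permCongr_apply, Equiv.symm_symm] at e
  calc ((g' : G) : Equiv.Perm β) ((x : F) : β) = ((ι.symm (σ (ι x)) : ↥D) : F).val := e
    _ = ((σ (ι x) : ↥D') : β) := congrArg (fun v : ↥D' => (v : β)) (ι.apply_symm_apply (σ (ι x)))

end Cfsg.Agent.Perm.JordanSetSym
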