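import Cfsg.Agent.Lib.Perm.System
import Cfsg.Agent.Lib.Perm.Schmidt
import Cfsg.Agent.Lib.Solv.Hall
import Mathlib.GroupTheory.Solvable
import Mathlib.Tactic.Group

/-!
Carter subgroups of finite solvable groups: existence, conjugacy, images in quotients, and their
relation to system normalizers.
-/

set_option autoImplicit false

open scoped Pointwise commutatorElement

namespace Cfsg.Agent.Perm

universe u

variable {G : Type u} [Group G]

theorem eq_top_of_isNilpotent_map [Finite G] {Q : Type*} [Group Q] {C : Subgroup Q}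
    [Finite Q] (hQ : Group.IsNilpotent Q) (h : Subgroup.normalizer (C : Set Q) = C) : C = ⊤ := by
  by_contra hne
  have := Group.normalizerCondition_of_isNilpotent (G := Q) C (lt_top_iff_ne_top.2 hne)
  rw [h] at this
  exact lt_irrefl C this

theorem isNilpotent_top_iff : Group.IsNilpotent (⊤ : Subgroup G) ↔ Group.IsNilpotent G :=
  ⟨fun _ => Group.nilpotent_of_mulEquiv Subgroup.topEquiv,
    fun _ => Group.nilpotent_of_mulEquiv Subgroup.topEquiv.symm⟩

theorem IsCarterSubgroup.eq_top [Finite G] {C : Subgroup G} (hC : Cfsg.IsCarterSubgroup C)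
    (hG : Group.IsNilpotent G) : C = ⊤ :=
  eq_top_of_isNilpotent_map (G := G) hG hC.2

theorem isCarterSubgroup_subgroupOf [Finite G] {C L : Subgroup G} (hC : Cfsg.IsCarterSubgroup C)
    (hCL : C ≤ L) : Cfsg.IsCarterSubgroup (C.subgroupOf L) := by
  haveI := hC.1
  refine ⟨Group.nilpotent_of_mulEquiv (Subgroup.subgroupOfEquivOfLe hCL).symm, ?_⟩
  refine le_antisymm (fun x hx => ?_) Subgroup.le_normalizer
  have := Subgroup.le_normalizer_map L.subtype (Subgroup.mem_map_of_mem L.subtype hx)
  rw [Subgroup.map_subgroupOf_eq_of_le hCL, hC.2] at this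
  exact this

theorem isCarterSubgroup_conj [Finite G] {C : Subgroup G} (hC : Cfsg.IsCarterSubgroup C) (g : G) :
    Cfsg.IsCarterSubgroup (MulAut.conj g • C) := by
  haveI := hC.1
  refine ⟨Group.nilpotent_of_mulEquiv (Subgroup.equivSMul (MulAut.conj g) C), ?_⟩
  refine le_antisymm (fun x hx => ?_) Subgroup.le_normalizer
  rw [Cfsg.Agent.Solv.mem_conj_smul, ← SetLike.mem_coe, ← hC.2]
  refine Cfsg.Agent.Solv.mem_normalizer_of_conj_smul ?_
  rw [← Cfsg.Agent.Solv.conj_smul_conj, ← Cfsg.Agent.Solv.conj_smul_conj g⁻¹ x,
    Cfsg.Agent.Solv.conj_smul_of_mem_normalizer hx, Cfsg.Agent.Solv.conj_smul_conj, inv_mul_cancel,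
    Cfsg.Agent.Solv.conj_one_smul]

theorem carter_map_of_conj [Finite G] {C : Subgroup G} (hC : Cfsg.IsCarterSubgroup C)
    (N : Subgroup G) [N.Normal]
    (hconj : C ⊔ N = ⊤ ∨ ∀ D : Subgroup (C ⊔ N : Subgroup G), Cfsg.IsCarterSubgroup D →
      ∃ l : (C ⊔ N : Subgroup G), MulAut.conj l • C.subgroupOf (C ⊔ N) = D) :
    Cfsg.IsCarterSubgroup (C.map (QuotientGroup.mk' N)) := by
  set f := QuotientGroup.mk' N
  haveI := hC.1
  refine ⟨Group.nilpotent_of_surjective _ (f.subgroupMap_surjective C), ?_⟩
  refine le_antisymm (fun y hy => ?_) Subgroup.le_normalizer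
  obtain ⟨g, rfl⟩ := QuotientGroup.mk'_surjective N y
  set L := C ⊔ N
  have hcm : (C.map f).comap f = L := by rw [Subgroup.comap_map_eq, QuotientGroup.ker_mk']
  suffices g ∈ L by
    have h : g ∈ (C.map f).comap f := by rw [hcm]; exact this
    exact h
  rcases hconj with htop | hconj
  · rw [show L = ⊤ from htop]; trivial
  have hle : MulAut.conj g • C ≤ L := by
    rw [← hcm, ← Subgroup.map_le_iff_le_comap, Cfsg.Agent.Solv.map_conj_smul,
      Cfsg.Agent.Solv.conj_smul_of_mem_normalizer hy]
  obtain ⟨⟨l, hl⟩, h⟩ := hconj _ (isCarterSubgroup_subgroupOf (isCarterSubgroup_conj hC g) hle)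
  have h2 := congrArg (Subgroup.map L.subtype) h
  rw [Cfsg.Agent.Solv.map_conj_smul, Subgroup.map_subgroupOf_eq_of_le le_sup_left,
    Subgroup.map_subgroupOf_eq_of_le hle] at h2
  change MulAut.conj l • C = MulAut.conj g • C at h2
  have h3 : g⁻¹ * l ∈ C := by
    rw [← SetLike.mem_coe, ← hC.2]
    refine Cfsg.Agent.Solv.mem_normalizer_of_conj_smul ?_
    rw [← Cfsg.Agent.Solv.conj_smul_conj, h2, Cfsg.Agent.Solv.conj_smul_conj, inv_mul_cancel,
      Cfsg.Agent.Solv.conj_one_smul]
  have : g = l * (g⁻¹ * l)⁻¹ := by group
  rw [this]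
  exact L.mul_mem hl (L.inv_mem (Subgroup.mem_sup_left h3))

/-- A Carter subgroup complementing an abelian minimal normal `p`-subgroup is the normalizer of any
of its Hall `p'`-subgroups. -/
theorem eq_normalizer_of_complement [Finite G] {p : ℕ} [Fact p.Prime] {N C H : Subgroup G}
    (hN : IsMinNormal N) (hc : IsMulCommutative N) (hNp : IsPGroup p N)
    (hC : Cfsg.IsCarterSubgroup C) (hG : ¬ Group.IsNilpotent G) (hsup : C ⊔ N = ⊤) (hHC : H ≤ C)
    (hH : ¬ p ∣ Nat.card H) (hidx : ∃ k, H.relIndex C = p ^ k) :
    Subgroup.normalizer (H : Set G) = C ∧ ∃ k, H.index = p ^ k := by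
  haveI := hN.1
  obtain ⟨k, hk⟩ := hidx
  obtain ⟨j, hj⟩ := IsPGroup.iff_card.1 hNp
  have hCN : N ⊓ C = ⊥ := by
    have hn : (N ⊓ C).Normal := by
      rw [← Subgroup.normalizer_eq_top_iff, eq_top_iff, ← hsup]
      refine sup_le (fun x hx => ?_) (le_trans (fun x hx => ?_) (Subgroup.centralizer_le_normalizer _))
      · refine Cfsg.Agent.Solv.mem_normalizer_of_conj_smul ?_
        rw [Subgroup.smul_inf, Subgroup.Normal.conj_smul_eq_self x N, Subgroup.conj_smul_eq_self_of_mem hx]
      · rw [Subgroup.mem_centralizer_iff]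
        exact fun y hy => congrArg Subtype.val (hc.is_comm.comm (⟨y, hy.1⟩ : N) ⟨x, hx⟩)
    refine (hN.2.2 _ hn inf_le_left).resolve_right fun h => hG ?_
    have hNC : N ≤ C := h ▸ inf_le_right
    rw [sup_eq_left.2 hNC] at hsup
    exact isNilpotent_top_iff.1 (hsup ▸ hC.1)
  have hco : C.index = p ^ j := by
    have := Cfsg.Agent.Solv.card_sup_of_inf_eq_bot N C hCN
    rw [sup_comm, hsup, Subgroup.card_top, ← C.card_mul_index, mul_comm (Nat.card N)] at this
    rw [← hj]
    exact Nat.eq_of_mul_eq_mul_left Nat.card_pos this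
  haveI := hC.1
  -- `H` is normal in `C` and centralized by `p`-subgroups of `C`
  have hcomm : ∀ P : Subgroup G, P ≤ C → IsPGroup p P → P ≤ Subgroup.centralizer (H : Set G) := by
    intro P hPC hP
    rw [Subgroup.le_centralizer_iff]
    have hsylc : ∀ r : ℕ, ∀ _ : Fact r.Prime, ∃ R : Sylow r H, ((R : Subgroup H).map H.subtype) ≤ Subgroup.centralizer (P : Set G) := by
      intro r hr
      obtain ⟨R⟩ : Nonempty (Sylow r H) := inferInstance
      refine ⟨R, ?_⟩
      rcases eq_or_ne r p with rfl | hne
      · have : (R : Subgroup H) = ⊥ := by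
          rw [← Subgroup.card_eq_one]
          obtain ⟨i, hi⟩ := IsPGroup.iff_card.1 R.2
          rcases Nat.eq_zero_or_pos i with h0 | h0
          · rw [hi, h0, pow_zero]
          · exact absurd ((dvd_pow_self r h0.ne').trans (hi ▸ Subgroup.card_subgroup_dvd_card _)) hH
        rw [this, Subgroup.map_bot]; exact bot_le
      · exact commute_of_le_nilpotent hC.1 hne (R.2.map _) hP ((Subgroup.map_subtype_le _).trans hHC) hPC
    have h2 : (Subgroup.centralizer (P : Set G)).subgroupOf H = ⊤ := by
      refine Cfsg.Agent.Solv.eq_top_of_forall_sylow_le _ fun r hr => ?_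
      haveI : Fact r.Prime := hr
      obtain ⟨R, hR⟩ := hsylc r inferInstance
      exact ⟨R, fun x hx => hR ⟨x, hx, rfl⟩⟩
    exact Subgroup.subgroupOf_eq_top.1 h2
  have hCn : C ≤ Subgroup.normalizer (H : Set G) := by
    obtain ⟨P⟩ : Nonempty (Sylow p C) := inferInstance
    set J := H ⊔ (P : Subgroup C).map C.subtype
    have hJ : C ≤ J := by
      rw [← Subgroup.relIndex_eq_one]
      refine Nat.eq_one_of_dvd_coprimes
        (((Fact.out : p.Prime).coprime_iff_not_dvd.2 P.not_dvd_index).pow_left k)
        (hk ▸ Subgroup.relIndex_dvd_of_le_left C le_sup_left) ?_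
      have : ((P : Subgroup C).map C.subtype).relIndex C = (P : Subgroup C).index := by
        rw [Subgroup.relIndex, Subgroup.subgroupOf,
          Subgroup.comap_map_eq_self_of_injective C.subtype_injective]
      rw [← this]
      exact Subgroup.relIndex_dvd_of_le_left C le_sup_right
    exact hJ.trans (sup_le Subgroup.le_normalizer
      ((hcomm _ (Subgroup.map_subtype_le _) (P.2.map _)).trans (Subgroup.centralizer_le_normalizer _)))
  refine ⟨?_, k + j, by rw [← Subgroup.relIndex_mul_index hHC, hk, hco, pow_add]⟩
  have hnle : ¬ N ≤ C := fun h => hN.2.1 (by rw [← hCN, inf_eq_left.2 h])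
  refine le_antisymm ?_ hCn
  by_contra hbad
  -- otherwise `H` centralizes `N` and the group is nilpotent
  have hbig : ∃ x ∈ N, x ≠ 1 ∧ x ∈ Subgroup.normalizer (H : Set G) := by
    obtain ⟨g, hg, hgC⟩ := SetLike.not_le_iff_exists.1 hbad
    have hg' : g ∈ ((N ⊔ C : Subgroup G) : Set G) := by rw [sup_comm, hsup]; trivial
    rw [Subgroup.normal_mul] at hg'
    obtain ⟨n, hn, c, hc', rfl⟩ := hg'
    refine ⟨n, hn, fun e => hgC (by simpa [e] using hc'), ?_⟩
    exact ((Subgroup.normalizer (H : Set G)).mul_mem_cancel_right (hCn hc')).1 hg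
  obtain ⟨x, hxN, hx1, hxH⟩ := hbig
  have hM : N ⊓ Subgroup.normalizer (H : Set G) = N := by
    refine (hN.2.2 _ ?_ inf_le_left).resolve_left fun h => hx1 (Subgroup.mem_bot.1 (h ▸ ⟨hxN, hxH⟩))
    rw [← Subgroup.normalizer_eq_top_iff, eq_top_iff, ← hsup]
    refine sup_le (fun y hy => ?_) (le_trans (fun y hy => ?_) (Subgroup.centralizer_le_normalizer _))
    · refine Cfsg.Agent.Solv.mem_normalizer_of_conj_smul ?_
      rw [Subgroup.smul_inf, Subgroup.Normal.conj_smul_eq_self y N,
        Subgroup.conj_smul_eq_self_of_mem (hCn hy)]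
    · rw [Subgroup.mem_centralizer_iff]
      exact fun z hz => congrArg Subtype.val (hc.is_comm.comm (⟨z, hz.1⟩ : N) ⟨y, hy⟩)
  have hHn : H.Normal := by
    rw [← Subgroup.normalizer_eq_top_iff, eq_top_iff, ← hsup]
    exact sup_le hCn (inf_eq_left.1 hM)
  haveI := hHn
  have hHcent : N ≤ Subgroup.centralizer (H : Set G) := by
    rw [← Subgroup.commutator_eq_bot_iff_le_centralizer, eq_bot_iff, ← hCN]
    exact (Subgroup.commutator_le_inf N H).trans (inf_le_inf_left _ hHC)
  refine hG (nilpotent_of_sylow_normal fun r hr R => ?_)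
  haveI := hr
  rcases eq_or_ne r p with rfl | hne
  · -- the Sylow `p`-subgroup is normalized by `C` and `N`
    obtain ⟨P⟩ : Nonempty (Sylow r C) := inferInstance
    haveI := sylow_normal_of_nilpotent hC.1 P
    set P1 := (P : Subgroup C).map C.subtype
    have hCP : C ≤ Subgroup.normalizer (P1 : Set G) := by
      intro c hc'
      refine Cfsg.Agent.Solv.mem_normalizer_of_conj_smul ?_
      have := congrArg (Subgroup.map C.subtype) (Subgroup.Normal.conj_smul_eq_self (⟨c, hc'⟩ : C) (P : Subgroup C))
      rwa [Cfsg.Agent.Solv.map_conj_smul] at this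
    have hn : (N ⊔ P1).Normal := by
      rw [← Subgroup.normalizer_eq_top_iff, eq_top_iff, ← hsup]
      refine sup_le (fun y hy => ?_) (le_sup_left.trans Subgroup.le_normalizer)
      refine Cfsg.Agent.Solv.mem_normalizer_of_conj_smul ?_
      rw [Subgroup.smul_sup, Subgroup.Normal.conj_smul_eq_self y N,
        Cfsg.Agent.Solv.conj_smul_of_mem_normalizer (hCP hy)]
    haveI := hn
    have hp1 : IsPGroup r (N ⊔ P1 : Subgroup G) := hNp.to_sup_of_normal_left (P.2.map _)
    have hle : N ⊔ P1 ≤ (R : Subgroup G) := by
      refine Cfsg.Agent.Solv.normal_le_of_coprime_index _ _ ?_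
      obtain ⟨i, hi⟩ := IsPGroup.iff_card.1 hp1
      rw [hi]
      exact ((Fact.out : r.Prime).coprime_iff_not_dvd.2 R.not_dvd_index).pow_left i
    have heq : (R : Subgroup G) = N ⊔ P1 := by
      refine le_antisymm ?_ hle
      rw [← Subgroup.relIndex_eq_one]
      by_contra h1
      obtain ⟨i, hi⟩ := IsPGroup.iff_card.1 R.2
      obtain ⟨a, -, ha⟩ := (Nat.dvd_prime_pow (Fact.out : r.Prime)).1
        (hi ▸ Subgroup.relIndex_dvd_card (N ⊔ P1) (R : Subgroup G))
      have hd : r ∣ (N ⊔ P1).index := by
        rw [← Subgroup.relIndex_mul_index hle]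
        refine Dvd.dvd.mul_right ?_ _
        rw [ha] at h1 ⊢
        exact dvd_pow_self r fun h0 => h1 (by rw [h0, pow_zero])
      have h5 : (N ⊔ P1).index ∣ (P : Subgroup C).index := by
        have hJ : (N ⊔ P1) ⊔ C = ⊤ :=
          top_le_iff.1 (hsup.ge.trans (sup_le le_sup_right (le_sup_left.trans le_sup_left)))
        have h6 : (N ⊔ P1).index = (N ⊔ P1).relIndex C := by
          rw [← Subgroup.relIndex_sup_right (H := C) (K := N ⊔ P1), sup_comm C, hJ, Subgroup.relIndex_top_right]
        rw [h6]
        have : P1.relIndex C = (P : Subgroup C).index := by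
          rw [Subgroup.relIndex, Subgroup.subgroupOf, Subgroup.comap_map_eq_self_of_injective C.subtype_injective]
        rw [← this]
        exact Subgroup.relIndex_dvd_of_le_left C le_sup_right
      exact P.not_dvd_index (hd.trans h5)
    exact heq ▸ hn
  · have hle : (R : Subgroup G) ≤ H := by
      refine Cfsg.Agent.Solv.le_of_coprime_index H _ ?_
      rw [show H.index = p ^ (k + j) by rw [← Subgroup.relIndex_mul_index hHC, hk, hco, pow_add]]
      obtain ⟨i, hi⟩ := IsPGroup.iff_card.1 R.2
      rw [hi]
      exact Nat.Coprime.pow _ _ ((Nat.coprime_primes Fact.out Fact.out).2 hne)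
    haveI : Group.IsNilpotent H := Cfsg.Agent.Solv.isNilpotent_of_le hHC hC.1
    have := sylow_normal_of_nilpotent inferInstance (R.subtype hle)
    have hch : ((R.subtype hle : Sylow r H) : Subgroup H).Characteristic :=
      Sylow.characteristic_of_normal _ this
    have := Cfsg.Agent.Solv.map_subtype_normal_of_characteristic H ((R.subtype hle : Sylow r H) : Subgroup H)
    rwa [Sylow.coe_subtype, Subgroup.map_subgroupOf_eq_of_le hle] at this

theorem exists_hall_complement [Finite G] (hG : Group.IsSolvable G) {p : ℕ} (hp : p.Prime) :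
    ∃ H : Subgroup G, ¬ p ∣ Nat.card H ∧ H.index = p ^ (Nat.card G).factorization p := by
  obtain ⟨H, hH⟩ := Cfsg.Agent.Solv.hall_exists hG
    (m := Nat.card G / p ^ (Nat.card G).factorization p) (n := p ^ (Nat.card G).factorization p)
    (by rw [mul_comm, Nat.ordProj_mul_ordCompl_eq_self])
    ((Nat.coprime_ordCompl hp Nat.card_pos.ne').symm.pow_right _)
  refine ⟨H, hH ▸ Nat.not_dvd_ordCompl hp Nat.card_pos.ne', ?_⟩
  have := H.card_mul_index
  rw [hH] at this
  refine Nat.eq_of_mul_eq_mul_left ?_ (this.trans (by rw [mul_comm, Nat.ordProj_mul_ordCompl_eq_self]))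
  exact hH ▸ Nat.card_pos

theorem exists_hall_complement_ge [Finite G] (hG : Group.IsSolvable G) {p : ℕ} (hp : p.Prime)
    (U : Subgroup G) (hU : ¬ p ∣ Nat.card U) :
    ∃ H : Subgroup G, U ≤ H ∧ ¬ p ∣ Nat.card H ∧ H.index = p ^ (Nat.card G).factorization p := by
  obtain ⟨H, hH, hi⟩ := exists_hall_complement hG hp
  obtain ⟨g, hg⟩ := Cfsg.Agent.Solv.hall_contain hG H.card_mul_index.symm
    (by rw [hi]; exact ((hp.coprime_iff_not_dvd.2 hH).symm).pow_right _) U H
    (by rw [hi]; exact ((hp.coprime_iff_not_dvd.2 hU).symm).pow_right _) rfl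
  refine ⟨_, hg, by rwa [Cfsg.Agent.Solv.card_conj_smul], ?_⟩
  have h1 := (MulAut.conj g • H).card_mul_index
  rw [Cfsg.Agent.Solv.card_conj_smul, ← H.card_mul_index] at h1
  rw [Nat.eq_of_mul_eq_mul_left Nat.card_pos h1, hi]

theorem not_dvd_of_le {p : ℕ} [Finite G] {H K : Subgroup G} (h : H ≤ K) (hK : ¬ p ∣ Nat.card K) :
    ¬ p ∣ Nat.card H := fun hd => hK (hd.trans (Subgroup.card_dvd_of_le h))

theorem carter_aux : ∀ (n : ℕ) {G : Type u} [Group G] [Finite G], Nat.card G = n → Group.IsSolvable G →
    (∃ C : Subgroup G, Cfsg.IsCarterSubgroup C) ∧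
    ∀ C D : Subgroup G, Cfsg.IsCarterSubgroup C → Cfsg.IsCarterSubgroup D → ∃ g : G, MulAut.conj g • C = D := by
  intro n
  induction n using Nat.strong_induction_on with
  | _ n ih =>
    intro G _ _ hn hG
    subst hn
    by_cases hnil : Group.IsNilpotent G
    · refine ⟨⟨⊤, isNilpotent_top_iff.2 hnil, Subgroup.normalizer_eq_top_iff.2 inferInstance⟩,
        fun C D hC hD => ⟨1, ?_⟩⟩
      rw [Cfsg.Agent.Solv.conj_one_smul, IsCarterSubgroup.eq_top hC hnil, IsCarterSubgroup.eq_top hD hnil]
    haveI : Nontrivial G := by
      by_contra h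
      rw [not_nontrivial_iff_subsingleton] at h
      exact hnil inferInstance
    obtain ⟨N, hN⟩ := exists_isMinNormal (G := G)
    haveI := hN.1
    have hc := hN.isMulCommutative inferInstance
    obtain ⟨p, hp, -, hNp, a, ha, hpa⟩ := hN.exists_prime hc
    haveI := Fact.mk hp
    set f := QuotientGroup.mk' N with hf
    have hfs := QuotientGroup.mk'_surjective N
    obtain ⟨⟨Cb, hCb⟩, hconjQ⟩ := ih _ (Cfsg.Agent.Solv.card_quotient_lt N hN.2.1) (G := G ⧸ N) rfl inferInstance
    constructor
    · set L := Cb.comap f with hL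
      have hNL : N ≤ L := fun x hx => by
        show f x ∈ Cb
        rw [show f x = 1 from (QuotientGroup.eq_one_iff x).2 hx]; exact one_mem _
      rcases eq_or_ne L ⊤ with htop | htop
      · have hQnil : Group.IsNilpotent (G ⧸ N) := by
          have : Cb = ⊤ := by
            rw [← Subgroup.map_comap_eq_self_of_surjective hfs Cb, ← hL, htop, Subgroup.map_top_of_surjective f hfs]
          exact isNilpotent_top_iff.1 (this ▸ hCb.1)
        obtain ⟨H, hH, hHi⟩ := exists_hall_complement hG hp
        have hNH : N ⊓ H = ⊥ := by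
          refine Cfsg.Agent.Solv.coprime_inf ?_
          rw [hpa]; exact ((hp.coprime_iff_not_dvd).2 hH).pow_left a
        have hinj : Function.Injective (f.domRestrict H) := by
          refine (injective_iff_map_eq_one _).2 fun z hz => Subtype.ext ?_
          have : (z : G) ∈ N ⊓ H := ⟨(QuotientGroup.eq_one_iff _).1 hz, z.2⟩
          rwa [hNH, Subgroup.mem_bot] at this
        haveI : Group.IsNilpotent H := by
          haveI := hQnil
          exact Group.nilpotent_of_mulEquiv (MonoidHom.ofInjective hinj).symm
        set C := Subgroup.normalizer (H : Set G)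
        -- Frattini: `C` covers `G ⧸ N`
        have hnorm : (N ⊔ H).Normal := by
          have hmap : ∀ r : ℕ, ∀ _ : Fact r.Prime, r ≠ p → ∀ R : Sylow r (G ⧸ N), (R : Subgroup (G ⧸ N)) ≤ H.map f := by
            intro r hr hne R
            haveI := sylow_normal_of_nilpotent hQnil R
            refine Cfsg.Agent.Solv.normal_le_of_coprime_index _ _ ?_
            obtain ⟨i, hi⟩ := IsPGroup.iff_card.1 R.2
            rw [hi]
            refine Nat.Coprime.coprime_dvd_right (Subgroup.index_map_dvd _ hfs) ?_
            rw [hHi]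
            exact Nat.Coprime.pow _ _ ((Nat.coprime_primes hr.out hp).2 hne)
          have hn : (H.map f).Normal := by
            rw [← Subgroup.normalizer_eq_top_iff]
            refine Cfsg.Agent.Solv.eq_top_of_forall_sylow_le _ fun r hr => ?_
            haveI : Fact r.Prime := hr
            obtain ⟨R⟩ : Nonempty (Sylow r (G ⧸ N)) := inferInstance
            refine ⟨R, ?_⟩
            rcases eq_or_ne r p with rfl | hne
            · refine le_trans ?_ (Subgroup.centralizer_le_normalizer _)
              rw [Subgroup.le_centralizer_iff]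
              have h2 : (Subgroup.centralizer ((R : Subgroup (G ⧸ N)) : Set (G ⧸ N))).subgroupOf (H.map f) = ⊤ := by
                refine Cfsg.Agent.Solv.eq_top_of_forall_sylow_le _ fun s hs => ?_
                haveI : Fact s.Prime := hs
                obtain ⟨S⟩ : Nonempty (Sylow s (H.map f)) := inferInstance
                refine ⟨S, fun x hx => ?_⟩
                rcases eq_or_ne s r with rfl | hsr
                · have : (S : Subgroup (H.map f)) = ⊥ := by
                    rw [← Subgroup.card_eq_one]
                    obtain ⟨i, hi⟩ := IsPGroup.iff_card.1 S.2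
                    rcases Nat.eq_zero_or_pos i with h0 | h0
                    · rw [hi, h0, pow_zero]
                    · exact absurd (((dvd_pow_self s h0.ne').trans
                        (hi ▸ Subgroup.card_subgroup_dvd_card _)).trans (Cfsg.Agent.Solv.card_map_mk'_dvd N H)) hH
                  rw [this, Subgroup.mem_bot] at hx
                  rw [hx]; exact one_mem _
                · exact commute_of_le_nilpotent (H := (⊤ : Subgroup (G ⧸ N)))
                    (isNilpotent_top_iff.2 hQnil) hsr (S.2.map (H.map f).subtype) R.2 le_top le_top ⟨x, hx, rfl⟩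
              exact Subgroup.subgroupOf_eq_top.1 h2
            · exact (hmap r inferInstance hne R).trans Subgroup.le_normalizer
          haveI := hn
          have : N ⊔ H = (H.map f).comap f := by rw [Subgroup.comap_map_eq, QuotientGroup.ker_mk', sup_comm]
          rw [this]; infer_instance
        have hcover : C ⊔ N = ⊤ := by
          rw [eq_top_iff]
          intro g _
          have hle : MulAut.conj g • H ≤ N ⊔ H := by
            rw [← Subgroup.Normal.conj_smul_eq_self g (N ⊔ H)]
            exact Subgroup.pointwise_smul_le_pointwise_smul_iff.2 le_sup_right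
          set J := N ⊔ H
          have hci : (H.subgroupOf J).index ∣ p ^ (Nat.card G).factorization p := by
            rw [← hHi, ← Subgroup.relIndex_mul_index (le_sup_right : H ≤ J)]; exact dvd_mul_right _ _
          obtain ⟨⟨x, hx⟩, hl⟩ := hall_conj' (G := J) inferInstance ((MulAut.conj g • H).subgroupOf J) (H.subgroupOf J)
            (by rw [Cfsg.Agent.Solv.card_subgroupOf hle, Cfsg.Agent.Solv.card_subgroupOf le_sup_right, Cfsg.Agent.Solv.card_conj_smul])
            (by rw [Cfsg.Agent.Solv.card_subgroupOf le_sup_right]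
                exact ((hp.coprime_iff_not_dvd.2 hH).symm.pow_right _).coprime_dvd_right hci)
          have h2 := congrArg (Subgroup.map J.subtype) hl
          rw [Cfsg.Agent.Solv.map_conj_smul, Subgroup.map_subgroupOf_eq_of_le hle,
            Subgroup.map_subgroupOf_eq_of_le le_sup_right] at h2
          change MulAut.conj x • MulAut.conj g • H = H at h2
          rw [Cfsg.Agent.Solv.conj_smul_conj] at h2
          have hxg : x * g ∈ C := Cfsg.Agent.Solv.mem_normalizer_of_conj_smul h2
          have hxJ : x ∈ C ⊔ N :=
            (sup_le le_sup_right (Subgroup.le_normalizer.trans le_sup_left) : N ⊔ H ≤ C ⊔ N) hx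
          simpa using mul_mem (inv_mem hxJ) (Subgroup.mem_sup_left (T := N) hxg)
        have hCnil : Group.IsNilpotent C := by
          refine nilpotent_of_sylow_normal fun r hr R => ?_
          haveI := hr
          have hHC : H ≤ C := Subgroup.le_normalizer
          rcases eq_or_ne r p with rfl | hne
          · rw [← Subgroup.normalizer_eq_top_iff]
            set R' := (R : Subgroup C).map C.subtype
            have hR'H : R' ≤ Subgroup.centralizer (H : Set G) := by
              rw [← Subgroup.commutator_eq_bot_iff_le_centralizer, eq_bot_iff, ← hNH]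
              refine le_inf ?_ (Subgroup.commutator_le.2 fun x hx h hh => ?_)
              · rw [← QuotientGroup.ker_mk' N, ← Subgroup.map_eq_bot_iff, Subgroup.map_commutator,
                  Subgroup.commutator_eq_bot_iff_le_centralizer, Subgroup.le_centralizer_iff]
                have h2 : (Subgroup.centralizer ((R'.map f : Subgroup (G ⧸ N)) : Set (G ⧸ N))).subgroupOf (H.map f) = ⊤ := by
                  refine Cfsg.Agent.Solv.eq_top_of_forall_sylow_le _ fun s hs => ?_
                  haveI : Fact s.Prime := hs
                  obtain ⟨S⟩ : Nonempty (Sylow s (H.map f)) := inferInstance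
                  refine ⟨S, fun x hx => ?_⟩
                  rcases eq_or_ne s r with rfl | hsr
                  · have : (S : Subgroup (H.map f)) = ⊥ := by
                      rw [← Subgroup.card_eq_one]
                      obtain ⟨i, hi⟩ := IsPGroup.iff_card.1 S.2
                      rcases Nat.eq_zero_or_pos i with h0 | h0
                      · rw [hi, h0, pow_zero]
                      · exact absurd (((dvd_pow_self s h0.ne').trans
                          (hi ▸ Subgroup.card_subgroup_dvd_card _)).trans (Cfsg.Agent.Solv.card_map_mk'_dvd N H)) hH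
                    rw [this, Subgroup.mem_bot] at hx
                    rw [hx]; exact one_mem _
                  · exact commute_of_le_nilpotent (H := (⊤ : Subgroup (G ⧸ N)))
                      (isNilpotent_top_iff.2 hQnil) hsr (S.2.map (H.map f).subtype) ((R.2.map C.subtype).map f)
                      le_top le_top ⟨x, hx, rfl⟩
                exact Subgroup.subgroupOf_eq_top.1 h2
              · have hxC : x ∈ C := (Subgroup.map_subtype_le _ : R' ≤ C) hx
                rw [commutatorElement_def]
                exact H.mul_mem ((Subgroup.mem_normalizer_iff.1 hxC h).1 hh) (H.inv_mem hh)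
            set J := Subgroup.normalizer ((R : Subgroup C) : Set C)
            refine top_le_iff.1 ?_
            have hJ1 : H.subgroupOf C ≤ J := by
              intro h hh
              refine Subgroup.centralizer_le_normalizer _ (Subgroup.mem_centralizer_iff.2 fun y hy => Subtype.ext ?_)
              exact ((Subgroup.mem_centralizer_iff.1 (hR'H ⟨y, hy, rfl⟩)) h hh).symm
            rw [← Subgroup.relIndex_eq_one]
            refine Nat.eq_one_of_dvd_coprimes
              (((Fact.out : r.Prime).coprime_iff_not_dvd.2 R.not_dvd_index).pow_left ((Nat.card G).factorization r)) ?_ ?_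
            · rw [Subgroup.relIndex_top_right, ← hHi, ← Subgroup.relIndex_mul_index hHC]
              exact (Subgroup.index_dvd_of_le hJ1).trans (dvd_mul_right _ _)
            · rw [Subgroup.relIndex_top_right]
              exact Subgroup.index_dvd_of_le Subgroup.le_normalizer
          · have hle : (R : Subgroup C) ≤ H.subgroupOf C := by
              haveI : (H.subgroupOf C).Normal := Subgroup.normal_in_normalizer
              refine Cfsg.Agent.Solv.le_of_coprime_index _ _ ?_
              obtain ⟨i, hi⟩ := IsPGroup.iff_card.1 R.2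
              rw [hi]
              refine Nat.Coprime.coprime_dvd_right (?_ : _ ∣ p ^ (Nat.card G).factorization p)
                (Nat.Coprime.pow _ _ ((Nat.coprime_primes hr.out hp).2 hne))
              rw [← hHi, ← Subgroup.relIndex_mul_index hHC]
              exact dvd_mul_right _ _
            haveI : (H.subgroupOf C).Normal := Subgroup.normal_in_normalizer
            have := sylow_normal_of_nilpotent (Group.nilpotent_of_mulEquiv (Subgroup.subgroupOfEquivOfLe hHC).symm)
              (R.subtype hle)
            have hch : ((R.subtype hle : Sylow r (H.subgroupOf C)) : Subgroup (H.subgroupOf C)).Characteristic :=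
              Sylow.characteristic_of_normal _ this
            have := Cfsg.Agent.Solv.map_subtype_normal_of_characteristic (H.subgroupOf C)
              ((R.subtype hle : Sylow r (H.subgroupOf C)) : Subgroup (H.subgroupOf C))
            rwa [Sylow.coe_subtype, Subgroup.map_subgroupOf_eq_of_le hle] at this
        refine ⟨C, hCnil, le_antisymm (fun g hg => ?_) Subgroup.le_normalizer⟩
        haveI : (H.subgroupOf C).Normal := Subgroup.normal_in_normalizer
        refine Cfsg.Agent.Solv.mem_normalizer_of_conj_smul (Subgroup.eq_of_le_of_card_ge ?_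
          (Cfsg.Agent.Solv.card_conj_smul g H).ge)
        have hle : MulAut.conj g • H ≤ C := by
          rw [← Cfsg.Agent.Solv.conj_smul_of_mem_normalizer hg]
          exact Subgroup.pointwise_smul_le_pointwise_smul_iff.2 Subgroup.le_normalizer
        have h1 := Cfsg.Agent.Solv.le_of_coprime_index (H.subgroupOf C) ((MulAut.conj g • H).subgroupOf C) ?_
        · intro x hx
          exact h1 (show (⟨x, hle hx⟩ : C) ∈ (MulAut.conj g • H).subgroupOf C from hx)
        · rw [Cfsg.Agent.Solv.card_subgroupOf hle, Cfsg.Agent.Solv.card_conj_smul]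
          refine Nat.Coprime.coprime_dvd_right (?_ : _ ∣ p ^ (Nat.card G).factorization p)
            ((hp.coprime_iff_not_dvd.2 hH).symm.pow_right _)
          rw [← hHi, ← Subgroup.relIndex_mul_index (Subgroup.le_normalizer : H ≤ C)]
          exact dvd_mul_right _ _
      · obtain ⟨⟨C', hC'⟩, -⟩ := ih _ (Cfsg.Agent.Solv.card_lt_of_ne_top htop) (G := L) rfl inferInstance
        haveI := hC'.1
        refine ⟨C'.map L.subtype, Group.nilpotent_of_mulEquiv (C'.equivMapOfInjective _ L.subtype_injective), ?_⟩
        refine le_antisymm (fun g hg => ?_) Subgroup.le_normalizer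
        haveI : (N.subgroupOf L).Normal := Subgroup.Normal.subgroupOf inferInstance L
        have himg : C'.map L.subtype ⊔ N = L := by
          set g0 := QuotientGroup.mk' (N.subgroupOf L)
          have hcar : Cfsg.IsCarterSubgroup (C'.map g0) := carter_map_of_conj hC' _ (Or.inr fun D hD =>
            ((ih _ ((Subgroup.card_le_card_group _).trans_lt (Cfsg.Agent.Solv.card_lt_of_ne_top htop))
              (G := (C' ⊔ N.subgroupOf L : Subgroup L)) rfl inferInstance).2 _ D
              (isCarterSubgroup_subgroupOf hC' le_sup_left) hD))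
          have hnilLN : Group.IsNilpotent (L ⧸ N.subgroupOf L) := by
            let e : L →* Cb := f.subgroupComap Cb
            have hes : Function.Surjective e := f.subgroupComap_surjective_of_surjective Cb hfs
            have hker : e.ker = N.subgroupOf L := by
              ext x
              rw [MonoidHom.mem_ker, Subgroup.mem_subgroupOf, ← QuotientGroup.eq_one_iff (N := N) (x : G)]
              exact ⟨fun h => congrArg Subtype.val h, fun h => Subtype.ext h⟩
            haveI := hCb.1
            exact Group.nilpotent_of_mulEquiv ((QuotientGroup.quotientMulEquivOfEq hker.symm).trans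
              (QuotientGroup.quotientKerEquivOfSurjective e hes)).symm
          have htop2 := IsCarterSubgroup.eq_top hcar hnilLN
          have h3 := congrArg (Subgroup.comap g0) htop2
          rw [Subgroup.comap_map_eq, QuotientGroup.ker_mk', Subgroup.comap_top] at h3
          have h4 := congrArg (Subgroup.map L.subtype) h3
          rwa [Subgroup.map_sup, Subgroup.map_subgroupOf_eq_of_le hNL, ← MonoidHom.range_eq_map,
            Subgroup.range_subtype] at h4
        have hgL : g ∈ Subgroup.normalizer (L : Set G) := by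
          refine Cfsg.Agent.Solv.mem_normalizer_of_conj_smul ?_
          rw [← himg, Subgroup.smul_sup, Subgroup.Normal.conj_smul_eq_self g N,
            Cfsg.Agent.Solv.conj_smul_of_mem_normalizer hg]
        have hgmem : f g ∈ Cb := by
          rw [← SetLike.mem_coe, ← hCb.2]
          have := Subgroup.le_normalizer_map f (Subgroup.mem_map_of_mem f hgL)
          rwa [hL, Subgroup.map_comap_eq_self_of_surjective hfs] at this
        refine ⟨⟨g, hgmem⟩, ?_, rfl⟩
        rw [SetLike.mem_coe, ← SetLike.mem_coe, ← hC'.2]
        refine Cfsg.Agent.Solv.mem_normalizer_of_conj_smul (Subgroup.map_injective L.subtype_injective ?_)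
        rw [Cfsg.Agent.Solv.map_conj_smul]
        exact Cfsg.Agent.Solv.conj_smul_of_mem_normalizer hg
    · intro C D hC hD
      have himg : ∀ C : Subgroup G, Cfsg.IsCarterSubgroup C → Cfsg.IsCarterSubgroup (C.map f) := by
        intro C hC
        refine carter_map_of_conj hC N ?_
        by_cases htop : C ⊔ N = ⊤
        · exact Or.inl htop
        · exact Or.inr fun E hE => (ih _ (Cfsg.Agent.Solv.card_lt_of_ne_top htop)
            (G := (C ⊔ N : Subgroup G)) rfl inferInstance).2 _ E (isCarterSubgroup_subgroupOf hC le_sup_left) hE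
      obtain ⟨x, hx⟩ := hconjQ _ _ (himg C hC) (himg D hD)
      obtain ⟨g, rfl⟩ := hfs x
      rw [← Cfsg.Agent.Solv.map_conj_smul] at hx
      set C1 := MulAut.conj g • C
      have hC1 := isCarterSubgroup_conj hC g
      suffices ∃ y, MulAut.conj y • C1 = D by
        obtain ⟨y, hy⟩ := this
        exact ⟨y * g, by rw [← Cfsg.Agent.Solv.conj_smul_conj]; exact hy⟩
      set L := D ⊔ N
      have hC1L : C1 ≤ L := by
        have := Subgroup.map_le_iff_le_comap.1 hx.le
        rwa [Subgroup.comap_map_eq, QuotientGroup.ker_mk'] at this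
      by_cases htop : L = ⊤
      · have htop1 : C1 ⊔ N = ⊤ := by
          rw [← htop]
          refine le_antisymm (sup_le hC1L le_sup_right) (sup_le ?_ le_sup_right)
          have := Subgroup.map_le_iff_le_comap.1 hx.ge
          rwa [Subgroup.comap_map_eq, QuotientGroup.ker_mk'] at this
        have key : ∀ E : Subgroup G, Cfsg.IsCarterSubgroup E → E ⊔ N = ⊤ →
            ∃ H : Subgroup G, Subgroup.normalizer (H : Set G) = E ∧ ¬ p ∣ Nat.card H ∧
              H.index = p ^ (Nat.card G).factorization p := by
          intro E hE hEN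
          obtain ⟨H0, hH0, hH0i⟩ := exists_hall_complement (G := E) inferInstance hp
          obtain ⟨h1, k, hk⟩ := eq_normalizer_of_complement (H := H0.map E.subtype) hN hc hNp hE hnil hEN
            (Subgroup.map_subtype_le _) (by rwa [Cfsg.Agent.Solv.card_map_subtype])
            ⟨(Nat.card E).factorization p, by
              rw [Subgroup.relIndex, Subgroup.subgroupOf,
                Subgroup.comap_map_eq_self_of_injective E.subtype_injective, hH0i]⟩
          refine ⟨_, h1, by rwa [Cfsg.Agent.Solv.card_map_subtype], ?_⟩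
          have h2 := congrArg (fun n => n.factorization p) (H0.map E.subtype).card_mul_index
          simp only [Nat.factorization_mul Nat.card_pos.ne' Subgroup.index_ne_zero_of_finite,
            Finsupp.add_apply] at h2
          rw [hk, hp.factorization_pow, Finsupp.single_eq_same, Cfsg.Agent.Solv.card_map_subtype,
            Nat.factorization_eq_zero_of_not_dvd hH0, zero_add] at h2
          rw [hk, h2]
        obtain ⟨H1, hn1, hH1, hi1⟩ := key C1 hC1 htop1
        obtain ⟨H2, hn2, hH2, hi2⟩ := key D hD htop
        obtain ⟨y, hy⟩ := hall_conj' hG H1 H2 (by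
          have h1 := H1.card_mul_index
          have h2 := H2.card_mul_index
          rw [hi1] at h1; rw [hi2] at h2
          exact Nat.eq_of_mul_eq_mul_right (pow_pos hp.pos _) (h1.trans h2.symm))
          (by rw [hi2]; exact ((hp.coprime_iff_not_dvd.2 hH2).symm).pow_right _)
        refine ⟨y, ?_⟩
        rw [← hn1, ← hn2, ← hy]
        exact Subgroup.map_equiv_normalizer_eq H1 (MulAut.conj y)
      · obtain ⟨⟨y, hy'⟩, hy⟩ := (ih _ (Cfsg.Agent.Solv.card_lt_of_ne_top htop) (G := L) rfl inferInstance).2
          _ _ (isCarterSubgroup_subgroupOf hC1 hC1L) (isCarterSubgroup_subgroupOf hD le_sup_left)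
        refine ⟨y, ?_⟩
        have h2 := congrArg (Subgroup.map L.subtype) hy
        rwa [Cfsg.Agent.Solv.map_conj_smul, Subgroup.map_subgroupOf_eq_of_le hC1L,
          Subgroup.map_subgroupOf_eq_of_le le_sup_left] at h2

theorem exists_carter [Finite G] (hG : Group.IsSolvable G) :
    ∃ C : Subgroup G, Cfsg.IsCarterSubgroup C := (carter_aux _ rfl hG).1

theorem carter_conj [Finite G] (hG : Group.IsSolvable G) {C D : Subgroup G}
    (hC : Cfsg.IsCarterSubgroup C) (hD : Cfsg.IsCarterSubgroup D) : ∃ g : G, MulAut.conj g • C = D :=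
  (carter_aux _ rfl hG).2 C D hC hD

theorem carter_map [Finite G] [Group.IsSolvable G] {C : Subgroup G} (hC : Cfsg.IsCarterSubgroup C)
    (N : Subgroup G) [N.Normal] : Cfsg.IsCarterSubgroup (C.map (QuotientGroup.mk' N)) :=
  carter_map_of_conj hC N (Or.inr fun _ hD =>
    carter_conj inferInstance (isCarterSubgroup_subgroupOf hC le_sup_left) hD)

/-! ### Reducing systems -/

/-- The system `K` reduces into `C`. -/
def Reduces (K : Nat.Primes → Subgroup G) (C : Subgroup G) : Prop :=
  ∀ p : Nat.Primes, ∃ k : ℕ, (K p).relIndex C = (p : ℕ) ^ k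

theorem not_dvd_card_of_system [Finite G] {K : Nat.Primes → Subgroup G} (hK : Cfsg.IsComplementSystem K)
    (p : Nat.Primes) : ¬ (p : ℕ) ∣ Nat.card (K p) := by
  intro hd
  have hdG := hd.trans (Subgroup.card_subgroup_dvd_card _)
  have h := coprime_card_index hK p
  rw [hK p] at h
  exact p.2.coprime_iff_not_dvd.1
    ((Nat.coprime_pow_right_iff (p.2.factorization_pos_of_dvd Nat.card_pos.ne' hdG) _ _).1 h).symm hd

theorem exists_reducing_system [Finite G] (hG : Group.IsSolvable G) (C : Subgroup G) :
    ∃ K, Cfsg.IsComplementSystem K ∧ Reduces K C := by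
  have h : ∀ p : Nat.Primes, ∃ H : Subgroup G, H.index = (p : ℕ) ^ (Nat.card G).factorization p ∧
      ∃ k, H.relIndex C = (p : ℕ) ^ k := by
    intro p
    obtain ⟨H0, hH0, hH0i⟩ := exists_hall_complement (G := C) inferInstance p.2
    obtain ⟨H, hle, -, hi⟩ := exists_hall_complement_ge hG p.2 (H0.map C.subtype)
      (by rwa [Cfsg.Agent.Solv.card_map_subtype])
    refine ⟨H, hi, ?_⟩
    have : H.relIndex C ∣ (p : ℕ) ^ (Nat.card C).factorization p := by
      refine (Subgroup.relIndex_dvd_of_le_left C hle).trans (dvd_of_eq ?_)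
      rw [Subgroup.relIndex, Subgroup.subgroupOf,
        Subgroup.comap_map_eq_self_of_injective C.subtype_injective, hH0i]
    obtain ⟨k, -, hk⟩ := (Nat.dvd_prime_pow p.2).1 this
    exact ⟨k, hk⟩
  choose K hK hK' using h
  exact ⟨K, hK, hK'⟩

theorem reduces_le_aux : ∀ (n : ℕ) {G : Type u} [Group G] [Finite G], Nat.card G = n → Group.IsSolvable G →
    ∀ (K : Nat.Primes → Subgroup G) (C : Subgroup G), Cfsg.IsComplementSystem K → Cfsg.IsCarterSubgroup C →
      Reduces K C → Cfsg.systemNormalizer K ≤ C := by
  intro n
  induction n using Nat.strong_induction_on with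
  | _ n ih =>
    intro G _ _ hn hG K C hK hC hred
    subst hn
    by_cases hnil : Group.IsNilpotent G
    · rw [IsCarterSubgroup.eq_top hC hnil]; exact le_top
    haveI : Nontrivial G := by
      by_contra h
      rw [not_nontrivial_iff_subsingleton] at h
      exact hnil inferInstance
    obtain ⟨N, hN⟩ := exists_isMinNormal (G := G)
    haveI := hN.1
    have hc := hN.isMulCommutative inferInstance
    obtain ⟨p, hp, -, hNp, a, ha, hpa⟩ := hN.exists_prime hc
    haveI := Fact.mk hp
    set f := QuotientGroup.mk' N with hf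
    have hDL : Cfsg.systemNormalizer K ≤ C ⊔ N := by
      have h := ih _ (Cfsg.Agent.Solv.card_quotient_lt N hN.2.1) (G := G ⧸ N) rfl inferInstance _ _
        (isComplementSystem_map hK N) (carter_map hC N) fun q => by
          obtain ⟨k, hk⟩ := hred q
          have hd : ((K q).map f).relIndex (C.map f) ∣ (q : ℕ) ^ k := by
            rw [← hk, ← Subgroup.relIndex_comap]
            exact Subgroup.relIndex_dvd_of_le_left C (Subgroup.le_comap_map f _)
          obtain ⟨j, -, hj⟩ := (Nat.dvd_prime_pow q.2).1 hd
          exact ⟨j, hj⟩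
      rw [map_systemNormalizer hK N] at h
      have := Subgroup.map_le_iff_le_comap.1 h
      rwa [Subgroup.comap_map_eq, QuotientGroup.ker_mk'] at this
    set L := C ⊔ N with hL
    have hCidx : C.relIndex L ∣ p ^ a := by
      rw [← hpa]
      have h1 := Cfsg.Agent.Solv.card_sup_mul_card_inf N C
      have h2 : Nat.card C * C.relIndex L = Nat.card L := by
        have := Subgroup.relIndex_mul_relIndex (⊥ : Subgroup G) C L bot_le le_sup_left
        rwa [Subgroup.relIndex_bot_left, Subgroup.relIndex_bot_left] at this
      rw [sup_comm, ← hL, ← h2] at h1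
      refine Dvd.intro (Nat.card (N ⊓ C : Subgroup G)) (Nat.eq_of_mul_eq_mul_left (Nat.card_pos (α := C)) ?_)
      rw [mul_comm (Nat.card C) (Nat.card N), ← h1]; ring
    have hredL : ∀ q : Nat.Primes, ∃ k, (K q).relIndex L = (q : ℕ) ^ k := by
      intro q
      obtain ⟨k, hk⟩ := hred q
      have hd : ∃ m, (K q).relIndex L ∣ (q : ℕ) ^ m := by
        by_cases hq : (q : ℕ) = p
        · refine ⟨k + a, ?_⟩
          refine (Subgroup.relIndex_dvd_of_le_left L (inf_le_left : K q ⊓ C ≤ K q)).trans ?_
          rw [← Subgroup.relIndex_mul_relIndex (K q ⊓ C) C L inf_le_right le_sup_left,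
            Subgroup.inf_relIndex_right, hk, pow_add]
          exact mul_dvd_mul dvd_rfl (by rw [hq]; exact hCidx)
        · refine ⟨k, ?_⟩
          have hNK : N ≤ K q := by
            refine Cfsg.Agent.Solv.normal_le_of_coprime_index N _ ?_
            rw [hpa, hK q]
            exact Nat.Coprime.pow _ _ ((Nat.coprime_primes hp q.2).2 (Ne.symm hq))
          have e : K q = ((K q).map f).comap f := by
            rw [Subgroup.comap_map_eq, QuotientGroup.ker_mk', sup_eq_left.2 hNK]
          rw [e, Subgroup.relIndex_comap, hL, Subgroup.map_sup,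
            show N.map f = ⊥ from (Subgroup.map_eq_bot_iff _).2 (by simp [f]), sup_bot_eq,
            ← Subgroup.relIndex_comap, ← e, hk]
      obtain ⟨m, hm⟩ := hd
      obtain ⟨j, -, hj⟩ := (Nat.dvd_prime_pow q.2).1 hm
      exact ⟨j, hj⟩
    by_cases htop : L = ⊤
    · obtain ⟨k, hk⟩ := hred ⟨p, hp⟩
      have hnd := not_dvd_card_of_system hK ⟨p, hp⟩
      obtain ⟨h1, j, hj⟩ := eq_normalizer_of_complement (H := K ⟨p, hp⟩ ⊓ C) hN hc hNp hC hnil htop
        inf_le_right (not_dvd_of_le inf_le_left hnd) ⟨k, by rw [Subgroup.inf_relIndex_right]; exact hk⟩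
      have heq : K ⟨p, hp⟩ ⊓ C = K ⟨p, hp⟩ := by
        refine Subgroup.eq_of_le_of_card_ge inf_le_left (Nat.le_of_dvd Nat.card_pos ?_)
        refine Nat.Coprime.dvd_of_dvd_mul_right (((hp.coprime_iff_not_dvd.2 hnd).symm).pow_right j) ?_
        rw [← hj, Subgroup.card_mul_index]
        exact Subgroup.card_subgroup_dvd_card _
      rw [heq] at h1
      rw [← h1]
      exact iInf_le (fun q : Nat.Primes => Subgroup.normalizer (K q : Set G)) ⟨p, hp⟩
    · intro x hx
      have hsys : Cfsg.IsComplementSystem fun q => (K q).subgroupOf L := by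
        intro q
        obtain ⟨k, hk⟩ := hredL q
        have hnd : ¬ (q : ℕ) ∣ Nat.card ((K q).subgroupOf L) := fun hd => not_dvd_card_of_system hK q (by
          refine hd.trans ?_
          rw [← Cfsg.Agent.Solv.card_map_subtype ((K q).subgroupOf L)]
          exact Subgroup.card_dvd_of_le (by rw [Subgroup.subgroupOf_map_subtype]; exact inf_le_left))
        have h2 := congrArg (fun n => n.factorization (q : ℕ)) ((K q).subgroupOf L).card_mul_index
        simp only [Nat.factorization_mul Nat.card_pos.ne' Subgroup.index_ne_zero_of_finite,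
          Finsupp.add_apply] at h2
        change ((K q).subgroupOf L).index = _ at hk
        rw [hk, q.2.factorization_pow, Finsupp.single_eq_same, Nat.factorization_eq_zero_of_not_dvd hnd,
          zero_add] at h2
        show ((K q).subgroupOf L).index = _
        rw [hk, h2]
      have h := ih _ (Cfsg.Agent.Solv.card_lt_of_ne_top htop) (G := L) rfl inferInstance _ (C.subgroupOf L)
        hsys (isCarterSubgroup_subgroupOf hC le_sup_left) (fun q => by
          obtain ⟨k, hk⟩ := hred q
          exact ⟨k, by rw [Subgroup.relIndex_subgroupOf le_sup_left]; exact hk⟩)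
      refine h (show (⟨x, hDL hx⟩ : L) ∈ Cfsg.systemNormalizer fun q => (K q).subgroupOf L from ?_)
      rw [mem_systemNormalizer]
      intro q
      refine Subgroup.map_injective L.subtype_injective ?_
      rw [Cfsg.Agent.Solv.map_conj_smul, Subgroup.subgroupOf_map_subtype]
      show MulAut.conj x • (K q ⊓ L) = K q ⊓ L
      rw [Subgroup.smul_inf, mem_systemNormalizer.1 hx q, Subgroup.conj_smul_eq_self_of_mem (hDL hx)]

/-- A Carter subgroup contains the system normalizer of every system reducing into it. -/
theorem systemNormalizer_le_of_reduces [Finite G] (hG : Group.IsSolvable G)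
    {K : Nat.Primes → Subgroup G} {C : Subgroup G} (hK : Cfsg.IsComplementSystem K)
    (hC : Cfsg.IsCarterSubgroup C) (h : Reduces K C) : Cfsg.systemNormalizer K ≤ C :=
  reduces_le_aux _ rfl hG K C hK hC h

end Cfsg.Agent.Perm
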