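import Mathlib.NumberTheory.Bertrand
import Mathlib.Tactic.NormNum.Prime

/-!
For `9 ≤ n` there are three primes in `(n, 2 * n]`.
-/

set_option autoImplicit false

namespace Cfsg.Agent.Perm

theorem seven_mul_succ_le_two_pow : ∀ j : ℕ, 6 ≤ j → 7 * (j + 1) ≤ 2 ^ j := by
  intro j hj
  induction j, hj using Nat.le_induction with
  | base => norm_num
  | succ j _ ih => rw [pow_succ]; omega

/-- The numerical inequality refuting at most two primes in `(n, 2 * n]`. -/
theorem three_primes_inequality {n : ℕ} (hn : 2048 ≤ n) :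
    n * (2 * n) ^ (Nat.sqrt (2 * n) + 2) * 4 ^ (2 * n / 3) ≤ 4 ^ n := by
  set s := Nat.sqrt (2 * n) with hs
  have h1 : s ^ 2 ≤ 2 * n := Nat.sqrt_le' _
  have h2 : 2 * n < (s + 1) ^ 2 := Nat.lt_succ_sqrt' _
  have h64 : 64 ≤ s := by
    by_contra h
    have : (s + 1) ^ 2 ≤ 64 ^ 2 := Nat.pow_le_pow_left (by omega) 2
    omega
  set j := Nat.log 2 s with hj
  have hj1 : 2 ^ j ≤ s := Nat.pow_log_le_self 2 (by omega)
  have hj2 : s < 2 ^ (j + 1) := Nat.lt_pow_succ_log_self (by norm_num) s
  have hj6 : 6 ≤ j := by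
    by_contra h
    have : 2 ^ (j + 1) ≤ 2 ^ 6 := Nat.pow_le_pow_right (by norm_num) (by omega)
    omega
  have hk : 7 * (j + 1) ≤ s := (seven_mul_succ_le_two_pow j hj6).trans hj1
  have hbig : 2 * n ≤ 4 ^ (j + 1) := by
    have h3 : (s + 1) ^ 2 ≤ (2 ^ (j + 1)) ^ 2 := Nat.pow_le_pow_left hj2 2
    rw [← pow_mul, mul_comm, pow_mul] at h3
    exact (le_of_lt h2).trans h3
  have hexp : 3 * ((j + 1) * (s + 3)) ≤ n := by
    have h4 : 7 * (j + 1) * (s + 3) ≤ s * (s + 3) := Nat.mul_le_mul_right _ hk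
    nlinarith [Nat.mul_le_mul_right s h64]
  calc n * (2 * n) ^ (s + 2) * 4 ^ (2 * n / 3)
      ≤ (2 * n) * (2 * n) ^ (s + 2) * 4 ^ (2 * n / 3) := by gcongr; omega
    _ = (2 * n) ^ (s + 3) * 4 ^ (2 * n / 3) := by rw [← pow_succ']
    _ ≤ (4 ^ (j + 1)) ^ (s + 3) * 4 ^ (2 * n / 3) := by gcongr
    _ = 4 ^ ((j + 1) * (s + 3) + 2 * n / 3) := by rw [← pow_mul, ← pow_add]
    _ ≤ 4 ^ n := Nat.pow_le_pow_right (by norm_num) (by omega)

theorem centralBinom_le_card_primes (n : ℕ) (hn : 2 < n) :
    n.centralBinom ≤ (2 * n) ^ (Nat.sqrt (2 * n) +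
      (Finset.filter Nat.Prime (Finset.Ioc n (2 * n))).card) * 4 ^ (2 * n / 3) := by
  classical
  set T := Finset.filter Nat.Prime (Finset.Ioc n (2 * n)) with hT
  let f x := x ^ n.centralBinom.factorization x
  let S := {p ∈ Finset.range (2 * n / 3 + 1) | Nat.Prime p}
  have hprod : n.centralBinom = ∏ p ∈ S ∪ T, f p := by
    refine (Eq.trans ?_ n.prod_pow_factorization_centralBinom).symm
    refine Finset.prod_subset ?_ ?_
    · intro x hx
      rw [Finset.mem_range]
      rcases Finset.mem_union.1 hx with h | h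
      · have := Finset.mem_range.1 (Finset.mem_filter.1 h).1
        omega
      · have := Finset.mem_Ioc.1 (Finset.mem_filter.1 h).1
        omega
    intro x hx h2x
    rw [Finset.mem_range] at hx
    show x ^ n.centralBinom.factorization x = 1
    by_cases hp : x.Prime
    · have h3 : 2 * n / 3 < x := by
        by_contra h
        exact h2x (Finset.mem_union_left _ (Finset.mem_filter.2
          ⟨Finset.mem_range.2 (by omega), hp⟩))
      have hxn : x ≤ n := by
        by_contra h
        exact h2x (Finset.mem_union_right _ (Finset.mem_filter.2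
          ⟨Finset.mem_Ioc.2 ⟨by omega, by omega⟩, hp⟩))
      rw [Nat.factorization_centralBinom_of_two_mul_self_lt_three_mul hn hxn (by omega),
        pow_zero]
    · rw [Nat.factorization_eq_zero_of_not_prime n.centralBinom hp, pow_zero]
  have hdisj : Disjoint S T := by
    rw [Finset.disjoint_left]
    intro x h1 h2
    have := Finset.mem_range.1 (Finset.mem_filter.1 h1).1
    have := Finset.mem_Ioc.1 (Finset.mem_filter.1 h2).1
    omega
  have hf2 : ∀ p, f p ≤ 2 * n := fun p => Nat.pow_factorization_choose_le (by omega)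
  have h2n : 1 ≤ 2 * n := by omega
  rw [hprod, Finset.prod_union hdisj, ← Finset.prod_filter_mul_prod_filter_not S (· ≤ Nat.sqrt (2 * n)),
    pow_add]
  have hA : ∏ x ∈ S.filter (· ≤ Nat.sqrt (2 * n)), f x ≤ (2 * n) ^ Nat.sqrt (2 * n) := by
    refine (Finset.prod_le_prod' fun p _ => hf2 p).trans ?_
    have : (Finset.Icc 1 (Nat.sqrt (2 * n))).card = Nat.sqrt (2 * n) := by
      rw [Nat.card_Icc, Nat.add_sub_cancel]
    rw [Finset.prod_const]
    refine pow_right_mono₀ h2n ((Finset.card_le_card fun x hx => ?_).trans this.le)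
    obtain ⟨h1, h2⟩ := Finset.mem_filter.1 hx
    exact Finset.mem_Icc.mpr ⟨(Finset.mem_filter.1 h1).2.one_lt.le, h2⟩
  have hB : ∏ x ∈ S.filter (fun x => ¬ x ≤ Nat.sqrt (2 * n)), f x ≤ 4 ^ (2 * n / 3) := by
    refine le_trans ?_ (primorial_le_four_pow (2 * n / 3))
    refine (Finset.prod_le_prod' fun p hp => (?_ : f p ≤ p)).trans ?_
    · obtain ⟨h1, h2⟩ := Finset.mem_filter.1 hp
      refine (pow_right_mono₀ (Finset.mem_filter.1 h1).2.one_lt.le ?_).trans (pow_one p).le
      exact Nat.factorization_choose_le_one (Nat.sqrt_lt'.mp <| not_le.1 h2)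
    refine Finset.prod_le_prod_of_subset_of_one_le' (Finset.filter_subset _ _) ?_
    exact fun p hp _ => (Finset.mem_filter.1 hp).2.one_lt.le
  have hC : ∏ x ∈ T, f x ≤ (2 * n) ^ T.card := by
    refine (Finset.prod_le_prod' fun p _ => hf2 p).trans ?_
    rw [Finset.prod_const]
  calc _ ≤ ((2 * n) ^ Nat.sqrt (2 * n) * 4 ^ (2 * n / 3)) * (2 * n) ^ T.card :=
        Nat.mul_le_mul (Nat.mul_le_mul hA hB) hC
    _ = _ := by ring

/-- For `9 ≤ n` there are three primes in `(n, 2 * n]`. -/
theorem exists_three_primes {n : ℕ} (hn : 9 ≤ n) :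
    ∃ a b c : ℕ, a.Prime ∧ b.Prime ∧ c.Prime ∧ n < a ∧ a < b ∧ b < c ∧ c ≤ 2 * n := by
  rcases lt_or_ge n 2048 with hlt | hge
  · have key : ∀ a b c : ℕ, a.Prime → b.Prime → c.Prime → a < b → b < c → c ≤ 2 * n → n < a →
        ∃ a b c : ℕ, a.Prime ∧ b.Prime ∧ c.Prime ∧ n < a ∧ a < b ∧ b < c ∧ c ≤ 2 * n :=
      fun a b c ha hb hc h1 h2 h3 h4 => ⟨a, b, c, ha, hb, hc, h4, h1, h2, h3⟩
    by_cases h1 : n < 11
    · exact key 11 13 17 (by norm_num) (by norm_num) (by norm_num) (by omega) (by omega) (by omega) h1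
    by_cases h2 : n < 13
    · exact key 13 17 19 (by norm_num) (by norm_num) (by norm_num) (by omega) (by omega) (by omega) h2
    by_cases h3 : n < 17
    · exact key 17 19 23 (by norm_num) (by norm_num) (by norm_num) (by omega) (by omega) (by omega) h3
    by_cases h4 : n < 23
    · exact key 23 29 31 (by norm_num) (by norm_num) (by norm_num) (by omega) (by omega) (by omega) h4
    by_cases h5 : n < 37
    · exact key 37 41 43 (by norm_num) (by norm_num) (by norm_num) (by omega) (by omega) (by omega) h5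
    by_cases h6 : n < 67
    · exact key 67 71 73 (by norm_num) (by norm_num) (by norm_num) (by omega) (by omega) (by omega) h6
    by_cases h7 : n < 113
    · exact key 113 127 131 (by norm_num) (by norm_num) (by norm_num) (by omega) (by omega) (by omega) h7
    by_cases h8 : n < 199
    · exact key 199 211 223 (by norm_num) (by norm_num) (by norm_num) (by omega) (by omega) (by omega) h8
    by_cases h9 : n < 383
    · exact key 383 389 397 (by norm_num) (by norm_num) (by norm_num) (by omega) (by omega) (by omega) h9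
    by_cases h10 : n < 751
    · exact key 751 757 761 (by norm_num) (by norm_num) (by norm_num) (by omega) (by omega) (by omega) h10
    by_cases h11 : n < 1489
    · exact key 1489 1493 1499 (by norm_num) (by norm_num) (by norm_num) (by omega) (by omega) (by omega) h11
    exact key 2963 2969 2971 (by norm_num) (by norm_num) (by norm_num) (by omega) (by omega) (by omega) (by omega)
  set T := Finset.filter Nat.Prime (Finset.Ioc n (2 * n)) with hT
  have hcard : 2 < T.card := by
    by_contra h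
    have h1 : 4 ^ n < n * n.centralBinom := Nat.four_pow_lt_mul_centralBinom n (by omega)
    have h2 : n * n.centralBinom ≤ n * ((2 * n) ^ (Nat.sqrt (2 * n) + 2) * 4 ^ (2 * n / 3)) := by
      refine Nat.mul_le_mul_left _ ((centralBinom_le_card_primes n (by omega)).trans ?_)
      exact Nat.mul_le_mul_right _ (Nat.pow_le_pow_right (by omega) (by rw [← hT]; omega))
    rw [← mul_assoc] at h2
    exact absurd ((h1.trans_le h2).trans_le (three_primes_inequality hge)) (lt_irrefl _)
  have hmem : ∀ x ∈ T, x.Prime ∧ n < x ∧ x ≤ 2 * n := fun x hx =>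
    ⟨(Finset.mem_filter.1 hx).2, Finset.mem_Ioc.1 (Finset.mem_filter.1 hx).1⟩
  have hne : T.Nonempty := Finset.card_pos.1 (by omega)
  have ha := Finset.min'_mem T hne
  have hc := Finset.max'_mem T hne
  obtain ⟨b, hb⟩ : ((T.erase (T.min' hne)).erase (T.max' hne)).Nonempty := by
    refine Finset.card_pos.1 ?_
    have := Finset.pred_card_le_card_erase (s := T) (a := T.min' hne)
    have := Finset.pred_card_le_card_erase (s := T.erase (T.min' hne)) (a := T.max' hne)
    omega
  obtain ⟨hb1, hb2⟩ := Finset.mem_erase.1 hb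
  obtain ⟨hb3, hbT⟩ := Finset.mem_erase.1 hb2
  exact ⟨T.min' hne, b, T.max' hne, (hmem _ ha).1, (hmem _ hbT).1, (hmem _ hc).1, (hmem _ ha).2.1,
    lt_of_le_of_ne (T.min'_le b hbT) (Ne.symm hb3), lt_of_le_of_ne (T.le_max' b hbT) hb1,
    (hmem _ hc).2.2⟩

end Cfsg.Agent.Perm
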