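import Mathlib

/-!
`S₃` acting on a finite group of order prime to six with trivial fixed points:
fixed points modulo invariant subgroups, induced actions, inversion, and the "three copies" lemma.
-/

set_option autoImplicit false
set_option linter.style.haveILetI false

open scoped commutatorElement

namespace Cfsg.Agent.Perm.S3Fpf

universe u v

variable {G : Type u} [Group G]

/-- Generators `α` (order three) and `τ` (order two) of an action of `S₃` without fixed points. -/
structure Data (α τ : G ≃* G) : Prop where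
  cube : ∀ g, α (α (α g)) = g
  sq : ∀ g, τ (τ g) = g
  rel : ∀ g, τ (α g) = α (α (τ g))
  fpf : ∀ g, α g = g → τ g = g → g = 1
  cop2 : ¬ 2 ∣ Nat.card G
  cop3 : ¬ 3 ∣ Nat.card G

theorem exists_fixed_coset [Finite G] (β : G ≃* G) {p : ℕ} [Fact p.Prime]
    (hβ : ∀ g, β^[p] g = g) (N : Subgroup G) (hN : ∀ n ∈ N, β n ∈ N) (hp : ¬ p ∣ Nat.card N)
    {g : G} (hg : g⁻¹ * β g ∈ N) : ∃ n ∈ N, β (g * n) = g * n := by
  classical
  haveI : Fintype N := Fintype.ofFinite _
  let σ : N → N := fun n => ⟨g⁻¹ * β (g * n.1), by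
    rw [map_mul, ← mul_assoc]; exact N.mul_mem hg (hN _ n.2)⟩
  have hit : ∀ (k : ℕ) (n : N), g * (σ^[k] n).1 = β^[k] (g * n.1) := by
    intro k
    induction k with
    | zero => intro n; rfl
    | succ k ih =>
      intro n
      rw [Function.iterate_succ_apply', Function.iterate_succ_apply', ← ih n]
      simp only [σ]
      rw [mul_inv_cancel_left]
  have hinj : Function.Injective σ := by
    intro a b hab
    have := congrArg Subtype.val hab
    simp only [σ] at this
    exact Subtype.ext (mul_left_cancel (β.injective (mul_left_cancel this)))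
  let e : Equiv.Perm N := Equiv.ofBijective σ (Finite.injective_iff_bijective.1 hinj)
  have he : e ^ p ^ 1 = 1 := by
    ext n
    rw [pow_one, Equiv.Perm.coe_pow]
    have h1 := hit p n
    rw [hβ] at h1
    exact mul_left_cancel h1
  rw [Nat.card_eq_fintype_card] at hp
  obtain ⟨n, hn⟩ := Equiv.Perm.exists_fixed_point_of_prime hp he
  refine ⟨n.1, n.2, ?_⟩
  have h1 := hit 1 n
  have h2 : σ n = n := hn
  simpa [h2] using h1.symm

namespace Data

variable {α τ : G ≃* G}

theorem not_dvd_sub (h : Data α τ) (N : Subgroup G) :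
    ¬ 2 ∣ Nat.card N ∧ ¬ 3 ∣ Nat.card N :=
  ⟨fun d => h.cop2 (d.trans N.card_subgroup_dvd_card),
    fun d => h.cop3 (d.trans N.card_subgroup_dvd_card)⟩

theorem coprime_six (h : Data α τ) : (Nat.card G).Coprime 6 := by
  have h2 : (Nat.card G).Coprime 2 :=
    ((Nat.prime_two.coprime_iff_not_dvd).2 h.cop2).symm
  have h3 : (Nat.card G).Coprime 3 :=
    ((Nat.prime_three.coprime_iff_not_dvd).2 h.cop3).symm
  exact (Nat.Coprime.mul_right h2 h3 : (Nat.card G).Coprime (2 * 3))

theorem rel' (h : Data α τ) (g : G) : α (τ g) = τ (α (α g)) := by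
  rw [h.rel, h.rel, h.cube]

/-- Changing the involution. -/
theorem rot (h : Data α τ) : Data α (α.trans τ) where
  cube := h.cube
  sq g := by simp only [MulEquiv.trans_apply]; rw [h.rel', h.sq, h.cube]
  rel g := by simp only [MulEquiv.trans_apply]; rw [h.rel (α g)]
  fpf g h1 h2 := by
    simp only [MulEquiv.trans_apply, h1] at h2
    exact h.fpf g h1 h2
  cop2 := h.cop2
  cop3 := h.cop3

/-- An element fixed modulo an invariant subgroup lies in it. -/
theorem mem_of_fixed_mod [Finite G] (h : Data α τ) (N : Subgroup G) (hα : ∀ n ∈ N, α n ∈ N)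
    (hτ : ∀ n ∈ N, τ n ∈ N) {g : G} (ga : g⁻¹ * α g ∈ N) (gt : g⁻¹ * τ g ∈ N) : g ∈ N := by
  haveI : Fact (Nat.Prime 3) := ⟨Nat.prime_three⟩
  obtain ⟨n, hn, hfix⟩ := exists_fixed_coset α (p := 3) (fun x => h.cube x) N hα
    (h.not_dvd_sub N).2 ga
  set k := g * n with hk
  let C : Subgroup G := α.toMonoidHom.eqLocus (MonoidHom.id G)
  have hC : ∀ x, x ∈ C ↔ α x = x := fun x => Iff.rfl
  have hfix2 : α (τ k) = τ k := by rw [h.rel', hfix, hfix]
  have hk2 : k⁻¹ * τ k ∈ N ⊓ C := by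
    refine ⟨?_, ?_⟩
    · rw [hk, map_mul, show (g * n)⁻¹ * (τ g * τ n) = n⁻¹ * (g⁻¹ * τ g) * τ n by group]
      exact N.mul_mem (N.mul_mem (N.inv_mem hn) gt) (hτ n hn)
    · show α (k⁻¹ * τ k) = k⁻¹ * τ k
      rw [map_mul, map_inv, hfix, hfix2]
  obtain ⟨m, hm, hfix3⟩ := exists_fixed_coset τ (p := 2) (fun x => h.sq x) (N ⊓ C)
    (by
      rintro x ⟨hx, hx2⟩
      refine ⟨hτ x hx, ?_⟩
      show α (τ x) = τ x
      have hx3 : α x = x := hx2
      rw [h.rel', hx3, hx3])
    (h.not_dvd_sub _).1 hk2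
  have hm3 : α m = m := hm.2
  have h1 : k * m = 1 := h.fpf _ (by rw [map_mul, hfix, hm3]) hfix3
  have h2 : g * n * m = 1 := h1
  have : g = m⁻¹ * n⁻¹ := by
    rw [mul_assoc] at h2
    rw [eq_inv_of_mul_eq_one_left h2, mul_inv_rev]
  rw [this]
  exact N.mul_mem (N.inv_mem hm.1) (N.inv_mem hn)

/-- If `α` is trivial on a `τ`-invariant subgroup, then `τ` inverts it. -/
theorem inverts [Finite G] (h : Data α τ) (D : Subgroup G) (hτ : ∀ d ∈ D, τ d ∈ D)
    (hα : ∀ d ∈ D, α d = d) {d : G} (hd : d ∈ D) : τ d = d⁻¹ := by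
  classical
  let f : D → D := fun x => ⟨x.1⁻¹ * τ x.1, D.mul_mem (D.inv_mem x.2) (hτ _ x.2)⟩
  have hinj : Function.Injective f := by
    intro a b hab
    have hab2 : a.1⁻¹ * τ a.1 = b.1⁻¹ * τ b.1 := congrArg Subtype.val hab
    have hfix : τ (b.1 * a.1⁻¹) = b.1 * a.1⁻¹ := by
      rw [map_mul, map_inv, show τ a.1 = a.1 * (b.1⁻¹ * τ b.1) by rw [← hab2, mul_inv_cancel_left]]
      group
    have h1 := h.fpf _ (hα _ (D.mul_mem b.2 (D.inv_mem a.2))) hfix
    exact Subtype.ext (mul_inv_eq_one.1 h1).symm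
  obtain ⟨x, hx⟩ := (Finite.injective_iff_surjective.1 hinj) ⟨d, hd⟩
  have hx2 : x.1⁻¹ * τ x.1 = d := congrArg Subtype.val hx
  rw [← hx2, map_mul, map_inv, h.sq]
  group

/-- A subgroup on which `α` is trivial is abelian. -/
theorem comm_of_fixed [Finite G] (h : Data α τ) (D : Subgroup G) (hτ : ∀ d ∈ D, τ d ∈ D)
    (hα : ∀ d ∈ D, α d = d) {a b : G} (ha : a ∈ D) (hb : b ∈ D) : a * b = b * a := by
  have h1 := h.inverts D hτ hα (D.mul_mem ha hb)
  rw [map_mul, h.inverts D hτ hα ha, h.inverts D hτ hα hb] at h1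
  have h2 := congrArg (·⁻¹) h1
  simp only [mul_inv_rev, inv_inv] at h2
  exact h2.symm

/-- The automorphism of a quotient induced by an automorphism. -/
noncomputable def quo [Finite G] (β : G ≃* G) (N : Subgroup G) [N.Normal]
    (hβ : ∀ n ∈ N, β n ∈ N) : G ⧸ N ≃* G ⧸ N :=
  QuotientGroup.congr N N β (by
    refine Subgroup.eq_of_le_of_card_ge ?_ ?_
    · rintro _ ⟨n, hn, rfl⟩; exact hβ n hn
    · exact le_of_eq (Nat.card_congr (N.equivMapOfInjective β.toMonoidHom β.injective).toEquiv))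

theorem quo_mk [Finite G] (β : G ≃* G) (N : Subgroup G) [N.Normal]
    (hβ : ∀ n ∈ N, β n ∈ N) (g : G) : quo β N hβ (g : G ⧸ N) = ((β g : G) : G ⧸ N) :=
  QuotientGroup.congr_mk N N β _ g

/-- The induced action on a quotient has no fixed points either. -/
theorem quotient [Finite G] (h : Data α τ) (N : Subgroup G) [N.Normal] (hα : ∀ n ∈ N, α n ∈ N)
    (hτ : ∀ n ∈ N, τ n ∈ N) : Data (quo α N hα) (quo τ N hτ) where
  cube x := by
    induction x using QuotientGroup.induction_on with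
    | _ g => rw [quo_mk, quo_mk, quo_mk, h.cube]
  sq x := by
    induction x using QuotientGroup.induction_on with
    | _ g => rw [quo_mk, quo_mk, h.sq]
  rel x := by
    induction x using QuotientGroup.induction_on with
    | _ g => rw [quo_mk, quo_mk, quo_mk, quo_mk, quo_mk, h.rel]
  fpf x := by
    induction x using QuotientGroup.induction_on with
    | _ g =>
      intro h1 h2
      rw [quo_mk] at h1 h2
      rw [QuotientGroup.eq_one_iff]
      exact h.mem_of_fixed_mod N hα hτ (QuotientGroup.eq.1 h1.symm) (QuotientGroup.eq.1 h2.symm)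
  cop2 d := h.cop2 (d.trans N.card_quotient_dvd_card)
  cop3 d := h.cop3 (d.trans N.card_quotient_dvd_card)

end Data

section Class2

variable {H : Type v} [Group H] (hc : ∀ a b z : H, Commute ⁅a, b⁆ z)

include hc

theorem comm_mul_left (a b c : H) : ⁅a * b, c⁆ = ⁅a, c⁆ * ⁅b, c⁆ := by
  have h1 : ⁅a * b, c⁆ = a * ⁅b, c⁆ * a⁻¹ * ⁅a, c⁆ := by simp only [commutatorElement_def]; group
  rw [h1, ← (hc b c a).eq, mul_inv_cancel_right, (hc b c ⁅a, c⁆).eq]

theorem comm_mul_right (a b c : H) : ⁅a, b * c⁆ = ⁅a, b⁆ * ⁅a, c⁆ := by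
  have h1 : ⁅a, b * c⁆ = ⁅a, b⁆ * (b * ⁅a, c⁆ * b⁻¹) := by simp only [commutatorElement_def]; group
  rw [h1, ← (hc a c b).eq, mul_inv_cancel_right]

theorem comm_pow_left (a b : H) : ∀ n : ℕ, ⁅a ^ n, b⁆ = ⁅a, b⁆ ^ n
  | 0 => by simp
  | n + 1 => by rw [pow_succ, pow_succ, comm_mul_left hc, comm_pow_left a b n]

theorem comm_pow_right (a b : H) : ∀ n : ℕ, ⁅a, b ^ n⁆ = ⁅a, b⁆ ^ n
  | 0 => by simp
  | n + 1 => by rw [pow_succ, pow_succ, comm_mul_right hc, comm_pow_right a b n]

theorem comm_inv_left (a b : H) : ⁅a⁻¹, b⁆ = ⁅a, b⁆⁻¹ := by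
  refine eq_inv_of_mul_eq_one_left ?_
  rw [← comm_mul_left hc, inv_mul_cancel, commutatorElement_one_left]

theorem comm_inv_right (a b : H) : ⁅a, b⁻¹⁆ = ⁅a, b⁆⁻¹ := by
  refine eq_inv_of_mul_eq_one_left ?_
  rw [← comm_mul_right hc, inv_mul_cancel, commutatorElement_one_right]

end Class2

section Copies

variable {α τ : G ≃* G} {H : Type v} [Group H]

theorem Data.key [Finite G] (h : Data α τ) (π : G →* H) (hπτ : ∀ g, π (τ g) = π g)
    {p : G} (h1 : π p = π (α p)) (h2 : π (α p) = π (α (α p))) : π p = 1 := by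
  let N : Subgroup G := π.ker ⊓ (π.comp α.toMonoidHom).ker ⊓
    (π.comp (α.trans α).toMonoidHom).ker
  have hmem : ∀ x, x ∈ N ↔ π x = 1 ∧ π (α x) = 1 ∧ π (α (α x)) = 1 := fun x => and_assoc
  have e1 : ∀ g, π (α (τ g)) = π (α (α g)) := fun g => by rw [h.rel', hπτ]
  have e2 : ∀ g, π (α (α (τ g))) = π (α g) := fun g => by rw [← h.rel, hπτ]
  have hα : ∀ n ∈ N, α n ∈ N := by
    intro n hn
    rw [hmem] at hn ⊢
    exact ⟨hn.2.1, hn.2.2, by rw [h.cube]; exact hn.1⟩
  have hτ : ∀ n ∈ N, τ n ∈ N := by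
    intro n hn
    rw [hmem] at hn ⊢
    rw [hπτ, e1, e2]
    exact ⟨hn.1, hn.2.2, hn.2.1⟩
  have hp : p ∈ N := by
    refine h.mem_of_fixed_mod N hα hτ ?_ ?_
    · rw [hmem]
      simp only [map_mul, map_inv, h.cube, ← h2, ← h1, inv_mul_cancel, and_self]
    · rw [hmem]
      simp only [map_mul, map_inv, hπτ, e1, e2, ← h2, ← h1, inv_mul_cancel, and_self]
  exact ((hmem p).1 hp).1

theorem Data.three_copies_aux [Finite G] (h : Data α τ) (π : G →* H)
    (hs : Function.Surjective π) (hπτ : ∀ g, π (τ g) = π g)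
    (hab : ∀ a ∈ commutator H, ∀ b ∈ commutator H, a * b = b * a) (a b : H) :
    a * b = b * a := by
  classical
  haveI : Finite H := Finite.of_surjective π hs
  let Ct : Subgroup G := τ.toMonoidHom.eqLocus (MonoidHom.id G)
  have hyy : ∀ c ∈ Ct, π (α (α c)) = π (α c) := by
    intro c hc
    have hc2 : τ c = c := hc
    have := hπτ (α c)
    rw [h.rel, hc2] at this
    exact this
  let ψx : Ct →* H := π.comp Ct.subtype
  let ψy : Ct →* H := (π.comp α.toMonoidHom).comp Ct.subtype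
  have hxs : Function.Surjective ψx := by
    intro x
    obtain ⟨g, rfl⟩ := hs x
    haveI : Fact (Nat.Prime 2) := ⟨Nat.prime_two⟩
    obtain ⟨n, hn, hfix⟩ := exists_fixed_coset τ (p := 2) (fun x => h.sq x) π.ker
      (fun n hn => by rw [MonoidHom.mem_ker] at hn ⊢; rw [hπτ, hn])
      (h.not_dvd_sub _).1 (g := g) (by rw [MonoidHom.mem_ker, map_mul, map_inv, hπτ, inv_mul_cancel])
    refine ⟨⟨g * n, hfix⟩, ?_⟩
    show π (g * n) = π g
    rw [map_mul, MonoidHom.mem_ker.1 hn, mul_one]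
  have hker : ψy.ker ≤ ψx.ker := by
    intro c hc
    have hy : π (α c.1) = 1 := hc
    have hy2 : π (α (α c.1)) = 1 := by rw [hyy _ c.2, hy]
    show π c.1 = 1
    have := h.key π hπτ (p := c.1 * α c.1 * α (α c.1))
      (by simp only [map_mul, h.cube, hy, hy2, mul_one, one_mul])
      (by simp only [map_mul, h.cube, hy, hy2, mul_one, one_mul])
    simpa only [map_mul, hy, hy2, mul_one] using this
  have hys : Function.Surjective ψy := by
    rw [← MonoidHom.range_eq_top]
    have h1 := Subgroup.index_dvd_of_le hker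
    rw [Subgroup.index_ker, Subgroup.index_ker, MonoidHom.range_eq_top.2 hxs,
      Subgroup.card_top] at h1
    exact Subgroup.eq_top_of_le_card _ (Nat.le_of_dvd Nat.card_pos h1)
  let φ : H →* H := (ψy.liftOfSurjective hys) ⟨ψx, hker⟩
  have hφ : ∀ c : Ct, φ (ψy c) = ψx c := fun c =>
    MonoidHom.liftOfRightInverse_comp_apply _ _ _ ⟨ψx, hker⟩ c
  have h1 : ∀ y : H, φ y * y * y ∈ commutator H := by
    intro y
    obtain ⟨c, rfl⟩ := hys y
    rw [hφ]
    let q : G →* Abelianization H := Abelianization.of.comp π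
    have := h.key q (fun g => by simp [q, hπτ]) (p := c.1 * α c.1 * α (α c.1))
      (by
        simp only [q, MonoidHom.comp_apply, map_mul, h.cube, hyy _ c.2]
        ac_rfl)
      (by
        simp only [q, MonoidHom.comp_apply, map_mul, h.cube, hyy _ c.2]
        ac_rfl)
    rw [← Abelianization.ker_of, MonoidHom.mem_ker]
    show Abelianization.of (π c.1 * π (α c.1) * π (α c.1)) = 1
    simpa only [q, MonoidHom.comp_apply, map_mul, hyy _ c.2] using this
  have h2 : ∀ y ∈ commutator H, φ y = y⁻¹ * y⁻¹ := by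
    intro y hy
    have hxm : φ y ∈ commutator H := by
      have := (commutator H).mul_mem ((commutator H).mul_mem (h1 y) ((commutator H).inv_mem hy))
        ((commutator H).inv_mem hy)
      simpa using this
    obtain ⟨c, rfl⟩ := hys y
    rw [hφ] at hxm ⊢
    have hc2 : π c.1 * π (α c.1) = π (α c.1) * π c.1 := hab _ hxm _ hy
    have := h.key π hπτ (p := c.1 * α c.1 * α (α c.1))
      (by
        simp only [map_mul, h.cube, hyy _ c.2]
        rw [hc2, mul_assoc, hc2, ← mul_assoc])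
      (by
        simp only [map_mul, h.cube, hyy _ c.2]
        rw [mul_assoc, ← hc2, ← mul_assoc, ← hc2])
    simp only [map_mul, hyy _ c.2] at this
    show π c.1 = (π (α c.1))⁻¹ * (π (α c.1))⁻¹
    rw [← mul_inv_rev, eq_inv_iff_mul_eq_one, ← mul_assoc]
    exact this
  have hco : ∀ x : H, ∀ n, (n = 2 ∨ n = 3) → ∃ k, (x ^ n) ^ k = x := by
    intro x n hn
    refine exists_pow_eq_self_of_coprime ?_
    have hd : orderOf x ∣ Nat.card G :=
      (orderOf_dvd_natCard x).trans (Subgroup.card_dvd_of_surjective π hs)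
    rcases hn with rfl | rfl
    · exact Nat.prime_two.coprime_iff_not_dvd.2 fun d => h.cop2 (d.trans hd)
    · exact Nat.prime_three.coprime_iff_not_dvd.2 fun d => h.cop3 (d.trans hd)
  have h3 : ∀ z : H, ∀ m ∈ commutator H, Commute z m := by
    intro z m hm
    set k := φ z * z * z with hk
    have hkm : k ∈ commutator H := h1 z
    have e1 : φ (z * m * z⁻¹) = z * (m⁻¹ * m⁻¹) * z⁻¹ := by
      rw [h2 _ ((inferInstance : (commutator H).Normal).conj_mem m hm z)]; group
    rw [map_mul, map_mul, map_inv, h2 m hm, show φ z = k * z⁻¹ * z⁻¹ by rw [hk]; group] at e1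
    have hw : z⁻¹ * z⁻¹ * (m⁻¹ * m⁻¹) * (z * z) ∈ commutator H := by
      have := (inferInstance : (commutator H).Normal).conj_mem (m⁻¹ * m⁻¹)
        ((commutator H).mul_mem ((commutator H).inv_mem hm) ((commutator H).inv_mem hm))
        (z⁻¹ * z⁻¹)
      simpa [mul_assoc] using this
    have e2 : k * (z⁻¹ * z⁻¹ * (m⁻¹ * m⁻¹) * (z * z)) * k⁻¹ =
        z⁻¹ * z⁻¹ * (m⁻¹ * m⁻¹) * (z * z) := by
      rw [hab _ hkm _ hw, mul_inv_cancel_right]
    have e3 : z⁻¹ * z⁻¹ * (m⁻¹ * m⁻¹) * (z * z) = z * (m⁻¹ * m⁻¹) * z⁻¹ := by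
      rw [← e2, ← e1]; simp [mul_assoc]
    have e4 : Commute (z ^ 3) (m⁻¹ ^ 2) := by
      show z ^ 3 * m⁻¹ ^ 2 = m⁻¹ ^ 2 * z ^ 3
      rw [pow_three, pow_two]
      calc z * (z * z) * (m⁻¹ * m⁻¹) = z * z * (z * (m⁻¹ * m⁻¹) * z⁻¹) * z := by group
        _ = z * z * (z⁻¹ * z⁻¹ * (m⁻¹ * m⁻¹) * (z * z)) * z := by rw [e3]
        _ = m⁻¹ * m⁻¹ * (z * (z * z)) := by group
    obtain ⟨i, hi⟩ := hco z 3 (Or.inr rfl)
    obtain ⟨j, hj⟩ := hco m⁻¹ 2 (Or.inl rfl)
    have := e4.pow_pow i j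
    rw [hi, hj] at this
    exact Commute.inv_right_iff.1 this
  have hcen : ∀ u v w : H, Commute ⁅u, v⁆ w := fun u v w =>
    (h3 w _ (Subgroup.commutator_mem_commutator (Subgroup.mem_top u) (Subgroup.mem_top v))).symm
  have hd : ∀ u v : H, ⁅u, v⁆ = 1 := by
    intro u v
    have huv : ⁅u, v⁆ ∈ commutator H :=
      Subgroup.commutator_mem_commutator (Subgroup.mem_top u) (Subgroup.mem_top v)
    have e1 := h2 _ huv
    rw [map_commutatorElement, show φ u = (φ u * u * u) * (u⁻¹ * u⁻¹) by group,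
      show φ v = (φ v * v * v) * (v⁻¹ * v⁻¹) by group] at e1
    have hz : ∀ k ∈ commutator H, ∀ w : H, ⁅k, w⁆ = 1 ∧ ⁅w, k⁆ = 1 := fun k hk w =>
      ⟨commutatorElement_eq_one_iff_commute.2 (h3 w k hk).symm,
        commutatorElement_eq_one_iff_commute.2 (h3 w k hk)⟩
    rw [comm_mul_left hcen, (hz _ (h1 u) _).1, one_mul, comm_mul_right hcen,
      (hz _ (h1 v) _).2, one_mul] at e1
    simp only [comm_mul_left hcen, comm_mul_right hcen, comm_inv_left hcen, comm_inv_right hcen,
      inv_inv] at e1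
    have e6 : ⁅u, v⁆ ^ 6 = 1 := by
      calc ⁅u, v⁆ ^ 6 = ⁅u, v⁆ * ⁅u, v⁆ * (⁅u, v⁆ * ⁅u, v⁆) * (⁅u, v⁆ * ⁅u, v⁆) := by
            simp only [pow_succ, pow_zero, one_mul, mul_assoc]
        _ = ⁅u, v⁆⁻¹ * ⁅u, v⁆⁻¹ * (⁅u, v⁆ * ⁅u, v⁆) := by rw [e1]
        _ = 1 := by group
    have hd : orderOf ⁅u, v⁆ ∣ Nat.card G :=
      (orderOf_dvd_natCard _).trans (Subgroup.card_dvd_of_surjective π hs)
    rw [← orderOf_eq_one_iff]
    exact Nat.eq_one_of_dvd_coprimes h.coprime_six hd (orderOf_dvd_of_pow_eq_one e6)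
  exact commutatorElement_eq_one_iff_mul_comm.1 (hd a b)

/-- **Three copies**: a quotient of `G` on which `τ` is trivial is abelian. -/
theorem Data.three_copies [Finite G] [Group.IsSolvable G] (h : Data α τ) (π : G →* H)
    (hs : Function.Surjective π) (hπτ : ∀ g, π (τ g) = π g) (a b : H) : a * b = b * a := by
  classical
  haveI : Finite H := Finite.of_surjective π hs
  haveI : Group.IsSolvable H := Group.isSolvable_of_surjective (f := π) hs
  let H2 : Subgroup H := ⁅commutator H, commutator H⁆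
  haveI : H2.Normal := inferInstanceAs (⁅commutator H, commutator H⁆ : Subgroup H).Normal
  have hmap : commutator (H ⧸ H2) = (commutator H).map (QuotientGroup.mk' H2) := by
    rw [commutator_def, commutator_def, Subgroup.map_commutator,
      Subgroup.map_top_of_surjective _ (QuotientGroup.mk'_surjective H2)]
  have hcomm : ∀ x y : H ⧸ H2, x * y = y * x := by
    refine h.three_copies_aux ((QuotientGroup.mk' H2).comp π)
      ((QuotientGroup.mk'_surjective H2).comp hs) (fun g => by simp [hπτ]) ?_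
    rw [hmap]
    rintro _ ⟨x, hx, rfl⟩ _ ⟨y, hy, rfl⟩
    rw [← map_mul, ← map_mul]
    refine (QuotientGroup.mk'_eq_mk' H2).2 ⟨(x * y)⁻¹ * (y * x), ?_, by group⟩
    have : ⁅y⁻¹, x⁻¹⁆ ∈ H2 :=
      Subgroup.commutator_mem_commutator ((commutator H).inv_mem hy) ((commutator H).inv_mem hx)
    simpa [commutatorElement_def, mul_assoc] using this
  have hle : commutator H ≤ H2 := by
    rw [commutator_def, Subgroup.commutator_le]
    intro x _ y _
    rw [← QuotientGroup.eq_one_iff]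
    show QuotientGroup.mk' H2 ⁅x, y⁆ = 1
    rw [map_commutatorElement, commutatorElement_eq_one_iff_mul_comm]
    exact hcomm _ _
  have hbot : commutator H = ⊥ := by
    by_contra hne
    exact absurd hle (Group.IsSolvable.commutator_lt_of_ne_bot hne).not_ge
  have := Subgroup.commutator_mem_commutator (Subgroup.mem_top a) (Subgroup.mem_top b)
  rw [← commutator_def, hbot, Subgroup.mem_bot] at this
  exact commutatorElement_eq_one_iff_mul_comm.1 this

end Copies

end Cfsg.Agent.Perm.S3Fpf
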