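import Cfsg.Agent.S2904
import Mathlib

/-!
# The primitive part of `q ^ e - 1`

`Φ_e(q)` has no non-primitive prime divisor except the largest prime `r` of `e`, to the first power, so the
primitive part is at least `Φ_e(q) / r`.  Writing `e = n t` with `n` squarefree, `Φ_e(q) = Φ_n(q ^ t)` is at
least `q ^ (t (r - 2) φ(n / r))`, which leaves finitely many pairs.
-/

set_option autoImplicit false
set_option maxHeartbeats 1000000

namespace Cfsg.Agent.PrimPart

open Polynomial

/-- The pairs with a small primitive part. -/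
def excs : List (ℕ × ℕ) :=
  [(2, 6), (2, 4), (2, 10), (2, 12), (2, 18), (3, 4), (3, 6), (5, 6), (2, 3), (2, 8), (2, 20), (4, 3), (4, 6)]

/-- The conclusion: a large primitive divisor or an exceptional pair. -/
def Good (q e : ℕ) : Prop :=
  e < 3 ∨ (q, e) ∈ excs ∨
    ∃ m : ℕ, m ∣ q ^ e - 1 ∧ (∀ i ∈ Finset.range e, i ≠ 0 → Nat.Coprime m (q ^ i - 1)) ∧ 3 * e + 1 ≤ m

/-- `v` is a lower bound for `c` times the value of the cyclotomic polynomial. -/
def Below (n q k c : ℕ) : Prop := ((q : ℤ) ^ k) ≤ (c : ℤ) * (cyclotomic n ℤ).eval (q : ℤ)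

/-- The finitely many pairs left over for a small squarefree `n`. -/
def SmallGood (n k c r : ℕ) : Prop :=
  ∀ t : ℕ, 1 ≤ t → ∀ q : ℕ, 2 ≤ q → ¬ c * (r * (3 * (n * t) + 1)) ≤ q ^ (t * k) → Good q (n * t)

theorem eval_nat {n q : ℕ} (hq : 1 < q) : ∃ v : ℕ, (cyclotomic n ℤ).eval (q : ℤ) = v :=
  ⟨_, (Int.natAbs_of_nonneg (S2904.eval_pos hq).le).symm⟩

theorem dvd_pow_sub_one {n q v : ℕ} (hn : 0 < n) (hq : 1 < q) (hv : (cyclotomic n ℤ).eval (q : ℤ) = v) :
    v ∣ q ^ n - 1 := by
  have h := eval_dvd (x := (q : ℤ)) (cyclotomic.dvd_X_pow_sub_one n ℤ)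
  rw [hv, eval_sub, eval_pow, eval_X, eval_one] at h
  have h1 : ((q ^ n - 1 : ℕ) : ℤ) = (q : ℤ) ^ n - 1 := by
    rw [Nat.cast_sub (Nat.one_le_pow _ _ (by omega))]; push_cast; rfl
  rw [← h1] at h
  exact Int.natCast_dvd_natCast.1 h

/-- A prime dividing `e` occurs at most once in `Φ_e(q)`. -/
theorem not_sq_dvd {e q r v : ℕ} (hq : 1 < q) (he : 3 ≤ e) (hr : r.Prime) (hre : r ∣ e)
    (hv : (cyclotomic e ℤ).eval (q : ℤ) = v) : ¬ r ^ 2 ∣ v := by
  intro hsq
  have hd : (r : ℤ) ∣ (cyclotomic e ℤ).eval (q : ℤ) := by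
    rw [hv]; exact Int.natCast_dvd_natCast.2 ((dvd_pow_self r two_ne_zero).trans hsq)
  have hnot : ¬ (r ∣ q ^ e - 1 ∧ ∀ k : ℕ, 0 < k → k < e → ¬ r ∣ q ^ k - 1) := by
    rintro ⟨hre', hall⟩
    have := Fact.mk hr
    have hq1 : ∀ j, 1 ≤ q ^ j := fun j => Nat.one_le_pow _ _ (by omega)
    have hne : (q : ZMod r) ≠ 0 := fun h0 => by
      have h1 : (q : ZMod r) ^ e = 1 := by
        have := (ZMod.natCast_eq_zero_iff _ r).2 hre'
        rwa [Nat.cast_sub (hq1 e), Nat.cast_pow, Nat.cast_one, sub_eq_zero] at this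
      rw [h0, zero_pow (by omega)] at h1
      exact zero_ne_one h1
    have h2 := ZMod.pow_card_sub_one_eq_one hne
    refine hall (r - 1) (by have := hr.two_le; omega) (by have := Nat.le_of_dvd (by omega) hre; omega) ?_
    rw [← ZMod.natCast_eq_zero_iff, Nat.cast_sub (hq1 _), Nat.cast_pow, Nat.cast_one, h2, sub_self]
  obtain ⟨k, m, hk, -, he', hmr, ho, ha0⟩ := S2904.shape (by omega) hr hd hnot
  obtain ⟨k, rfl⟩ : ∃ k', k = k' + 1 := ⟨k - 1, by omega⟩
  obtain ⟨d, hdd⟩ : ∃ d, d = r ^ k * m := ⟨_, rfl⟩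
  have hnd : e = d * r := by rw [he', hdd, pow_succ]; ring
  have hd0 : d ≠ 0 := fun h => by rw [h, zero_mul] at hnd; omega
  have hmem : d ∈ e.properDivisors := Nat.mem_properDivisors.2 ⟨Dvd.intro r hnd.symm, by
    rw [hnd]; exact (Nat.lt_mul_iff_one_lt_right (Nat.pos_of_ne_zero hd0)).2 hr.one_lt⟩
  have hdiv := eval_dvd (x := (q : ℤ)) (X_pow_sub_one_mul_cyclotomic_dvd_X_pow_sub_one_of_dvd ℤ hmem)
  simp only [eval_mul, eval_sub, eval_pow, eval_X, eval_one] at hdiv
  have hbne : (q : ℤ) ^ d - 1 ≠ 0 := by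
    have : 1 < (q : ℤ) ^ d := one_lt_pow₀ (by exact_mod_cast hq) hd0
    omega
  have hgeom : (∑ i ∈ Finset.range r, ((q : ℤ) ^ d) ^ i) * ((q : ℤ) ^ d - 1) = (q : ℤ) ^ e - 1 := by
    rw [geom_sum_mul, ← pow_mul, ← hnd]
  rw [← hgeom, mul_comm _ ((q : ℤ) ^ d - 1)] at hdiv
  have hsum := (mul_dvd_mul_iff_left hbne).1 hdiv
  rw [hv] at hsum
  by_cases h2 : r = 2
  · subst h2
    have hm1 : m = 1 := Nat.dvd_one.1 (by simpa using hmr)
    rw [hm1, mul_one] at hdd he'
    rcases k with _ | k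
    · rw [he'] at he; norm_num at he
    obtain ⟨c, hc⟩ : Odd (q ^ 2 ^ k) := Odd.pow (Nat.not_even_iff_odd.1 fun h => ha0 (by
      rw [ZMod.natCast_eq_zero_iff]; exact even_iff_two_dvd.1 h))
    have h4 : (4 : ℤ) ∣ ∑ i ∈ Finset.range 2, ((q : ℤ) ^ d) ^ i :=
      (Int.natCast_dvd_natCast.2 hsq : ((2 ^ 2 : ℕ) : ℤ) ∣ (v : ℤ)).trans hsum
    rw [Finset.sum_range_succ, Finset.sum_range_one, pow_zero, pow_one, hdd, pow_succ, pow_mul] at h4
    have hc' : (q : ℤ) ^ 2 ^ k = 2 * c + 1 := by exact_mod_cast hc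
    rw [hc'] at h4
    obtain ⟨f, hf⟩ := h4
    have h5 : (2 * (c : ℤ) + 1) ^ 2 = 4 * ((c : ℤ) ^ 2 + c) + 1 := by ring
    omega
  · have := Fact.mk hr
    have hb : (r : ℤ) ∣ (q : ℤ) ^ d - 1 := by
      rw [← ZMod.intCast_zmod_eq_zero_iff_dvd]
      push_cast
      rw [sub_eq_zero, ← orderOf_dvd_iff_pow_eq_one, ho, hdd]
      exact dvd_mul_left _ _
    have h := S2904.geom_mod hr h2 hb
    have h0 : ((∑ i ∈ Finset.range r, ((q : ℤ) ^ d) ^ i : ℤ) : ZMod (r ^ 2)) = 0 :=
      (ZMod.intCast_zmod_eq_zero_iff_dvd _ _).2 ((Int.natCast_dvd_natCast.2 hsq).trans hsum)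
    rw [h0] at h
    have := (ZMod.natCast_eq_zero_iff _ _).1 h.symm
    exact absurd (Nat.le_of_dvd hr.pos this) (by nlinarith [hr.two_le])

/-- The primitive part is at least `Φ_e(q) / r` for the largest prime `r` of `e`. -/
theorem exists_prim {e q r : ℕ} (hq : 1 < q) (he : 3 ≤ e) (hr : r.Prime) (hre : r ∣ e)
    (hmax : ∀ s : ℕ, s.Prime → s ∣ e → s ≤ r) :
    ∃ m : ℕ, m ∣ q ^ e - 1 ∧ (∀ i ∈ Finset.range e, i ≠ 0 → Nat.Coprime m (q ^ i - 1)) ∧
      (cyclotomic e ℤ).eval (q : ℤ) ≤ ((r * m : ℕ) : ℤ) := by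
  obtain ⟨v, hv⟩ := eval_nat (n := e) hq
  have hv0 : v ≠ 0 := fun h => by
    have h' := S2904.eval_pos (n := e) hq
    rw [hv, h, Nat.cast_zero] at h'
    exact lt_irrefl _ h'
  have hve := dvd_pow_sub_one (by omega) hq hv
  obtain ⟨j, u, hu, hju⟩ := Nat.exists_eq_pow_mul_and_not_dvd hv0 r hr.ne_one
  have huv : u ∣ v := hju ▸ dvd_mul_left u _
  refine ⟨u, huv.trans hve, fun i hi hi0 => Nat.coprime_of_dvd fun s hs hsu hsi => hu ?_, ?_⟩
  · rw [Finset.mem_range] at hi
    obtain ⟨k, l, hk, -, hel, hls, -, -⟩ := S2904.shape (n := e) (by omega) hs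
      (by rw [hv]; exact Int.natCast_dvd_natCast.2 (hsu.trans huv))
      (fun h => h.2 i (Nat.pos_of_ne_zero hi0) hi hsi)
    have hse : s ∣ e := hel ▸ (dvd_pow_self s hk.ne').mul_right l
    have hrs : r ≤ s := by
      rcases hr.dvd_mul.1 (hel ▸ hre) with h | h
      · exact ((Nat.prime_dvd_prime_iff_eq hr hs).1 (hr.dvd_of_dvd_pow h)).le
      · have := Nat.le_of_dvd (by have := hs.two_le; omega) (h.trans hls)
        omega
    exact le_antisymm (hmax s hs hse) hrs ▸ hsu
  · rw [hv, hju]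
    refine Int.ofNat_le.2 (Nat.mul_le_mul_right u ?_)
    by_contra hj
    have h2 : 2 ≤ j := by
      by_contra h
      interval_cases j
      · exact hj (by rw [pow_zero]; exact hr.pos)
      · exact hj (by rw [pow_one])
    exact not_sq_dvd hq he hr hre hv ((pow_dvd_pow r h2).trans (hju ▸ dvd_mul_right _ u))

/-- Reduction to a squarefree index. -/
theorem reduce : ∀ e : ℕ, 0 < e → ∃ n t : ℕ, e = n * t ∧ Squarefree n ∧ (∀ s : ℕ, s.Prime → (s ∣ n ↔ s ∣ e)) ∧
    ∀ q : ℕ, (cyclotomic e ℤ).eval (q : ℤ) = (cyclotomic n ℤ).eval ((q ^ t : ℕ) : ℤ) := by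
  intro e
  induction e using Nat.strong_induction_on with
  | _ e ih =>
    intro he
    by_cases hsq : Squarefree e
    · exact ⟨e, 1, (mul_one e).symm, hsq, fun s _ => Iff.rfl, fun q => by rw [pow_one]⟩
    rw [Nat.squarefree_iff_prime_squarefree] at hsq
    push Not at hsq
    obtain ⟨p, hp, d, hd⟩ := hsq
    have hd0 : 0 < d := Nat.pos_of_ne_zero fun h => by rw [h, mul_zero] at hd; omega
    have hlt : p * d < e := by
      rw [hd, mul_assoc]
      exact lt_mul_of_one_lt_left (Nat.mul_pos hp.pos hd0) hp.one_lt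
    obtain ⟨n, t, hnt, hn, hpr, hval⟩ := ih (p * d) hlt (Nat.mul_pos hp.pos hd0)
    refine ⟨n, p * t, by rw [hd, mul_assoc, hnt]; ring, hn, fun s hs => ?_, fun q => ?_⟩
    · rw [hpr s hs, hd, mul_assoc]
      exact ⟨fun h => h.mul_left p, fun h => (hs.dvd_mul.1 h).elim (fun h' => h'.mul_right d) id⟩
    · have h1 := congrArg (eval (q : ℤ)) (cyclotomic_expand_eq_cyclotomic (p := p) (n := p * d) hp (dvd_mul_right p d) ℤ)
      rw [expand_eval, show p * d * p = e by rw [hd]; ring] at h1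
      rw [← h1, show ((q : ℤ)) ^ p = ((q ^ p : ℕ) : ℤ) by push_cast; rfl, hval, ← pow_mul]

/-- The general lower bound. -/
theorem lower_mul {m r Q : ℕ} (hr : r.Prime) (hr3 : 3 ≤ r) (hrm : ¬ r ∣ m) (hQ : 2 ≤ Q) :
    Below (m * r) Q ((r - 2) * Nat.totient m) 1 := by
  have hupper := S2904.upper (n := m) (show 1 < Q by omega)
  have hQr : 1 < Q ^ r := Nat.one_lt_pow hr.ne_zero (by omega)
  have hlower : ((Q ^ r - 1 : ℕ) : ℤ) ^ Nat.totient m ≤ (cyclotomic m ℤ).eval ((Q ^ r : ℕ) : ℤ) := by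
    rcases lt_or_ge 1 m with hm | hm
    · exact (S2904.lower hm hQr).le
    · interval_cases m
      · exact absurd (dvd_zero r) hrm
      · simp [cyclotomic_one, Nat.cast_sub hQr.le]
  have hexp := congrArg (eval (Q : ℤ)) (cyclotomic_expand_eq_cyclotomic_mul (p := r) (n := m) hr hrm ℤ)
  rw [expand_eval, eval_mul, show ((Q : ℤ)) ^ r = ((Q ^ r : ℕ) : ℤ) by push_cast; rfl] at hexp
  rw [hexp] at hlower
  have hpos := S2904.eval_pos (n := m * r) (show 1 < Q by omega)
  have hstep : (Q + 1) * Q ^ (r - 2) ≤ Q ^ r - 1 := by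
    obtain ⟨j, rfl⟩ : ∃ j, r = j + 2 + 1 := ⟨r - 3, by omega⟩
    rw [show j + 2 + 1 - 2 = j + 1 by omega]
    have h1 : 1 ≤ Q ^ (j + 1) := Nat.one_le_pow _ _ (by omega)
    have h2 : Q ^ (j + 2 + 1) = Q * Q * Q ^ (j + 1) := by rw [pow_succ, pow_succ]; ring
    have h3 : (Q + 1) * Q ^ (j + 1) + Q ^ (j + 1) ≤ Q * Q * Q ^ (j + 1) := by
      rw [← Nat.succ_mul]; exact Nat.mul_le_mul_right _ (by nlinarith)
    omega
  have hstep' : (((Q + 1) * Q ^ (r - 2) : ℕ) : ℤ) ^ Nat.totient m ≤ ((Q ^ r - 1 : ℕ) : ℤ) ^ Nat.totient m :=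
    pow_le_pow_left₀ (Int.natCast_nonneg _) (Int.ofNat_le.2 hstep) _
  have hchain := (hstep'.trans hlower).trans (mul_le_mul_of_nonneg_left hupper hpos.le)
  rw [Nat.cast_mul, mul_pow, Nat.cast_pow, ← pow_mul] at hchain
  show (Q : ℤ) ^ ((r - 2) * Nat.totient m) ≤ ((1 : ℕ) : ℤ) * _
  rw [Nat.cast_one, one_mul]
  refine le_of_mul_le_mul_left ?_ (pow_pos (show (0 : ℤ) < ((Q + 1 : ℕ) : ℤ) by positivity) (Nat.totient m))
  calc _ ≤ _ := hchain
    _ = _ := mul_comm _ _

theorem lower_two (Q : ℕ) : Below 2 Q 1 1 := by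
  show (Q : ℤ) ^ 1 ≤ ((1 : ℕ) : ℤ) * _
  simp [cyclotomic_two]

theorem lower_three (Q : ℕ) : Below 3 Q 2 1 := by
  show (Q : ℤ) ^ 2 ≤ ((1 : ℕ) : ℤ) * _
  rw [cyclotomic_three]
  simp only [eval_add, eval_pow, eval_X, eval_one, Nat.cast_one, one_mul]
  have : (0 : ℤ) ≤ Q := Int.natCast_nonneg Q
  omega

theorem lower_six {Q : ℕ} (hQ : 2 ≤ Q) : Below 6 Q 2 2 := by
  show (Q : ℤ) ^ 2 ≤ ((2 : ℕ) : ℤ) * _
  rw [cyclotomic_six]
  simp only [eval_add, eval_sub, eval_pow, eval_X, eval_one]
  have : (2 : ℤ) ≤ Q := by exact_mod_cast hQ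
  push_cast
  nlinarith

theorem big_q {q C k : ℕ} (hq : 2 ≤ q) (h : C ≤ 2 ^ k) : C ≤ q ^ k := h.trans (Nat.pow_le_pow_left hq k)

/-- A linear function is eventually below an exponential. -/
theorem grow (k A B T : ℕ) (hk : 1 ≤ k) (hT : A * T + B ≤ 2 ^ (T * k)) (hA : A ≤ 2 ^ (T * k)) :
    ∀ t : ℕ, T ≤ t → ∀ {X : ℕ}, X = A * t + B → X ≤ 2 ^ (t * k) := by
  intro t ht
  induction t, ht using Nat.le_induction with
  | base => intro X hX; rw [hX]; exact hT
  | succ t ht ih =>
    intro X hX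
    have h1 : A * t + B ≤ 2 ^ (t * k) := ih rfl
    have h2 : 2 ^ (T * k) ≤ 2 ^ (t * k) := Nat.pow_le_pow_right (by norm_num) (Nat.mul_le_mul_right k ht)
    have h3 : 2 ^ (t * k) * 2 ≤ 2 ^ ((t + 1) * k) := by
      rw [← pow_succ]; exact Nat.pow_le_pow_right (by norm_num) (by rw [Nat.succ_mul]; omega)
    rw [hX, mul_add, mul_one]
    omega

theorem small_2 : SmallGood 2 1 1 2 := by
  intro t ht q hq hbad
  have ht' : t < 7 := lt_of_not_ge fun h => hbad (big_q hq (grow 1 12 2 7 (by norm_num) (by norm_num) (by norm_num) t h (by ring)))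
  interval_cases t
  · have hq' : q < 14 := lt_of_not_ge fun h => hbad (le_trans (by norm_num) (Nat.pow_le_pow_left h _))
    interval_cases q
    · exact Or.inl (by norm_num)
    · exact Or.inl (by norm_num)
    · exact Or.inl (by norm_num)
    · exact Or.inl (by norm_num)
    · exact Or.inl (by norm_num)
    · exact Or.inl (by norm_num)
    · exact Or.inl (by norm_num)
    · exact Or.inl (by norm_num)
    · exact Or.inl (by norm_num)
    · exact Or.inl (by norm_num)
    · exact Or.inl (by norm_num)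
    · exact Or.inl (by norm_num)
  · have hq' : q < 6 := lt_of_not_ge fun h => hbad (le_trans (by norm_num) (Nat.pow_le_pow_left h _))
    interval_cases q
    · exact Or.inr (Or.inl (by decide))
    · exact Or.inr (Or.inl (by decide))
    · exact Or.inr (Or.inr ⟨17, by decide +kernel, by decide +kernel, by decide +kernel⟩)
    · exact Or.inr (Or.inr ⟨13, by decide +kernel, by decide +kernel, by decide +kernel⟩)
  · have hq' : q < 4 := lt_of_not_ge fun h => hbad (le_trans (by norm_num) (Nat.pow_le_pow_left h _))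
    interval_cases q
    · exact Or.inr (Or.inl (by decide))
    · exact Or.inr (Or.inl (by decide))
  · have hq' : q < 3 := lt_of_not_ge fun h => hbad (le_trans (by norm_num) (Nat.pow_le_pow_left h _))
    interval_cases q
    · exact Or.inr (Or.inl (by decide))
  · have hq' : q < 3 := lt_of_not_ge fun h => hbad (le_trans (by norm_num) (Nat.pow_le_pow_left h _))
    interval_cases q
    · exact Or.inr (Or.inl (by decide))
  · have hq' : q < 3 := lt_of_not_ge fun h => hbad (le_trans (by norm_num) (Nat.pow_le_pow_left h _))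
    interval_cases q
    · exact Or.inr (Or.inl (by decide))

theorem small_3 : SmallGood 3 2 1 3 := by
  intro t ht q hq hbad
  have ht' : t < 4 := lt_of_not_ge fun h => hbad (big_q hq (grow 2 27 3 4 (by norm_num) (by norm_num) (by norm_num) t h (by ring)))
  interval_cases t
  · have hq' : q < 6 := lt_of_not_ge fun h => hbad (le_trans (by norm_num) (Nat.pow_le_pow_left h _))
    interval_cases q
    · exact Or.inr (Or.inl (by decide))
    · exact Or.inr (Or.inr ⟨13, by decide +kernel, by decide +kernel, by decide +kernel⟩)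
    · exact Or.inr (Or.inl (by decide))
    · exact Or.inr (Or.inr ⟨31, by decide +kernel, by decide +kernel, by decide +kernel⟩)
  · have hq' : q < 3 := lt_of_not_ge fun h => hbad (le_trans (by norm_num) (Nat.pow_le_pow_left h _))
    interval_cases q
    · exact Or.inr (Or.inl (by decide))
  · have hq' : q < 3 := lt_of_not_ge fun h => hbad (le_trans (by norm_num) (Nat.pow_le_pow_left h _))
    interval_cases q
    · exact Or.inr (Or.inr ⟨73, by decide +kernel, by decide +kernel, by decide +kernel⟩)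

theorem small_6 : SmallGood 6 2 2 3 := by
  intro t ht q hq hbad
  have ht' : t < 5 := lt_of_not_ge fun h => hbad (big_q hq (grow 2 108 6 5 (by norm_num) (by norm_num) (by norm_num) t h (by ring)))
  interval_cases t
  · have hq' : q < 11 := lt_of_not_ge fun h => hbad (le_trans (by norm_num) (Nat.pow_le_pow_left h _))
    interval_cases q
    · exact Or.inr (Or.inl (by decide))
    · exact Or.inr (Or.inl (by decide))
    · exact Or.inr (Or.inl (by decide))
    · exact Or.inr (Or.inl (by decide))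
    · exact Or.inr (Or.inr ⟨31, by decide +kernel, by decide +kernel, by decide +kernel⟩)
    · exact Or.inr (Or.inr ⟨43, by decide +kernel, by decide +kernel, by decide +kernel⟩)
    · exact Or.inr (Or.inr ⟨19, by decide +kernel, by decide +kernel, by decide +kernel⟩)
    · exact Or.inr (Or.inr ⟨73, by decide +kernel, by decide +kernel, by decide +kernel⟩)
    · exact Or.inr (Or.inr ⟨91, by decide +kernel, by decide +kernel, by decide +kernel⟩)
  · have hq' : q < 4 := lt_of_not_ge fun h => hbad (le_trans (by norm_num) (Nat.pow_le_pow_left h _))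
    interval_cases q
    · exact Or.inr (Or.inl (by decide))
    · exact Or.inr (Or.inr ⟨73, by decide +kernel, by decide +kernel, by decide +kernel⟩)
  · have hq' : q < 3 := lt_of_not_ge fun h => hbad (le_trans (by norm_num) (Nat.pow_le_pow_left h _))
    interval_cases q
    · exact Or.inr (Or.inl (by decide))
  · have hq' : q < 3 := lt_of_not_ge fun h => hbad (le_trans (by norm_num) (Nat.pow_le_pow_left h _))
    interval_cases q
    · exact Or.inr (Or.inr ⟨241, by decide +kernel, by decide +kernel, by decide +kernel⟩)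

theorem small_5 : SmallGood 5 3 1 5 := by
  intro t ht q hq hbad
  have ht' : t < 3 := lt_of_not_ge fun h => hbad (big_q hq (grow 3 75 5 3 (by norm_num) (by norm_num) (by norm_num) t h (by ring)))
  interval_cases t
  · have hq' : q < 5 := lt_of_not_ge fun h => hbad (le_trans (by norm_num) (Nat.pow_le_pow_left h _))
    interval_cases q
    · exact Or.inr (Or.inr ⟨31, by decide +kernel, by decide +kernel, by decide +kernel⟩)
    · exact Or.inr (Or.inr ⟨121, by decide +kernel, by decide +kernel, by decide +kernel⟩)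
    · exact Or.inr (Or.inr ⟨341, by decide +kernel, by decide +kernel, by decide +kernel⟩)
  · have hq' : q < 3 := lt_of_not_ge fun h => hbad (le_trans (by norm_num) (Nat.pow_le_pow_left h _))
    interval_cases q
    · exact Or.inr (Or.inl (by decide))

theorem small_10 : SmallGood 10 3 1 5 := by
  intro t ht q hq hbad
  have ht' : t < 3 := lt_of_not_ge fun h => hbad (big_q hq (grow 3 150 5 3 (by norm_num) (by norm_num) (by norm_num) t h (by ring)))
  interval_cases t
  · have hq' : q < 6 := lt_of_not_ge fun h => hbad (le_trans (by norm_num) (Nat.pow_le_pow_left h _))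
    interval_cases q
    · exact Or.inr (Or.inl (by decide))
    · exact Or.inr (Or.inr ⟨61, by decide +kernel, by decide +kernel, by decide +kernel⟩)
    · exact Or.inr (Or.inr ⟨41, by decide +kernel, by decide +kernel, by decide +kernel⟩)
    · exact Or.inr (Or.inr ⟨521, by decide +kernel, by decide +kernel, by decide +kernel⟩)
  · have hq' : q < 3 := lt_of_not_ge fun h => hbad (le_trans (by norm_num) (Nat.pow_le_pow_left h _))
    interval_cases q
    · exact Or.inr (Or.inl (by decide))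

theorem small_15 : SmallGood 15 6 1 5 := by
  intro t ht q hq hbad
  have ht' : t < 2 := lt_of_not_ge fun h => hbad (big_q hq (grow 6 225 5 2 (by norm_num) (by norm_num) (by norm_num) t h (by ring)))
  interval_cases t
  · have hq' : q < 3 := lt_of_not_ge fun h => hbad (le_trans (by norm_num) (Nat.pow_le_pow_left h _))
    interval_cases q
    · exact Or.inr (Or.inr ⟨151, by decide +kernel, by decide +kernel, by decide +kernel⟩)

theorem small_30 : SmallGood 30 6 1 5 := by
  intro t ht q hq hbad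
  have ht' : t < 2 := lt_of_not_ge fun h => hbad (big_q hq (grow 6 450 5 2 (by norm_num) (by norm_num) (by norm_num) t h (by ring)))
  interval_cases t
  · have hq' : q < 3 := lt_of_not_ge fun h => hbad (le_trans (by norm_num) (Nat.pow_le_pow_left h _))
    interval_cases q
    · exact Or.inr (Or.inr ⟨331, by decide +kernel, by decide +kernel, by decide +kernel⟩)

theorem small_7 : SmallGood 7 5 1 7 := by
  intro t ht q hq hbad
  have ht' : t < 2 := lt_of_not_ge fun h => hbad (big_q hq (grow 5 147 7 2 (by norm_num) (by norm_num) (by norm_num) t h (by ring)))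
  interval_cases t
  · have hq' : q < 3 := lt_of_not_ge fun h => hbad (le_trans (by norm_num) (Nat.pow_le_pow_left h _))
    interval_cases q
    · exact Or.inr (Or.inr ⟨127, by decide +kernel, by decide +kernel, by decide +kernel⟩)

theorem small_14 : SmallGood 14 5 1 7 := by
  intro t ht q hq hbad
  have ht' : t < 2 := lt_of_not_ge fun h => hbad (big_q hq (grow 5 294 7 2 (by norm_num) (by norm_num) (by norm_num) t h (by ring)))
  interval_cases t
  · have hq' : q < 4 := lt_of_not_ge fun h => hbad (le_trans (by norm_num) (Nat.pow_le_pow_left h _))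
    interval_cases q
    · exact Or.inr (Or.inr ⟨43, by decide +kernel, by decide +kernel, by decide +kernel⟩)
    · exact Or.inr (Or.inr ⟨547, by decide +kernel, by decide +kernel, by decide +kernel⟩)

theorem small_21 : SmallGood 21 10 1 7 := by
  intro t ht q hq hbad
  have ht' : t < 1 := lt_of_not_ge fun h => hbad (big_q hq (grow 10 441 7 1 (by norm_num) (by norm_num) (by norm_num) t h (by ring)))
  omega

theorem small_42 : SmallGood 42 10 1 7 := by
  intro t ht q hq hbad
  have ht' : t < 1 := lt_of_not_ge fun h => hbad (big_q hq (grow 10 882 7 1 (by norm_num) (by norm_num) (by norm_num) t h (by ring)))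
  omega

theorem small_11 : SmallGood 11 9 1 11 := by
  intro t ht q hq hbad
  have ht' : t < 1 := lt_of_not_ge fun h => hbad (big_q hq (grow 9 363 11 1 (by norm_num) (by norm_num) (by norm_num) t h (by ring)))
  omega

theorem small_22 : SmallGood 22 9 1 11 := by
  intro t ht q hq hbad
  have ht' : t < 2 := lt_of_not_ge fun h => hbad (big_q hq (grow 9 726 11 2 (by norm_num) (by norm_num) (by norm_num) t h (by ring)))
  interval_cases t
  · have hq' : q < 3 := lt_of_not_ge fun h => hbad (le_trans (by norm_num) (Nat.pow_le_pow_left h _))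
    interval_cases q
    · exact Or.inr (Or.inr ⟨683, by decide +kernel, by decide +kernel, by decide +kernel⟩)

/-- Squarefree numbers are at most twice the square of their totient. -/
theorem sqfree_le : ∀ m : ℕ, Squarefree m → (m ≤ 2 * Nat.totient m ^ 2) ∧ (Odd m → m ≤ Nat.totient m ^ 2) := by
  intro m
  induction m using Nat.strong_induction_on with
  | _ m ih =>
    intro hm
    rcases eq_or_ne m 1 with rfl | h1
    · simp
    obtain ⟨p, hp, d, hd⟩ := Nat.exists_prime_and_dvd h1
    have hm0 := hm.ne_zero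
    have hd0 : d ≠ 0 := fun h => hm0 (by rw [hd, h, mul_zero])
    have hcop : p.Coprime d := hp.coprime_iff_not_dvd.2 fun h =>
      hp.not_isUnit (hm p (hd ▸ mul_dvd_mul_left p h))
    have hdlt : d < m := hd ▸ lt_mul_of_one_lt_left (Nat.pos_of_ne_zero hd0) hp.one_lt
    obtain ⟨ih1, ih2⟩ := ih d hdlt (hm.squarefree_of_dvd (hd ▸ dvd_mul_left d p))
    rw [hd, Nat.totient_mul hcop, Nat.totient_prime hp, mul_pow]
    rcases hp.eq_two_or_odd' with rfl | hodd
    · have hdodd : Odd d := Nat.coprime_two_left.1 hcop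
      refine ⟨by have := ih2 hdodd; simpa using this, fun h => absurd h (Nat.not_odd_iff_even.2 (even_two_mul d))⟩
    · have hp3 : 3 ≤ p := by rcases hodd with ⟨c, hc⟩; have := hp.two_le; omega
      have hsq : p ≤ (p - 1) ^ 2 := by
        obtain ⟨c, rfl⟩ : ∃ c, p = c + 3 := ⟨p - 3, by omega⟩
        rw [show c + 3 - 1 = c + 2 by omega]; nlinarith
      refine ⟨(Nat.mul_le_mul hsq ih1).trans (le_of_eq (by ring)), fun h => Nat.mul_le_mul hsq (ih2 ?_)⟩
      exact (Nat.odd_mul.1 h).2

theorem exp_big_phi {r : ℕ} (hr : 5 ≤ r) {f f' : ℕ} (hf : 1 ≤ f) (hff : f ≤ f') (h : 8 * f ^ 2 * r ^ 2 ≤ 2 ^ ((r - 2) * f)) :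
    8 * f' ^ 2 * r ^ 2 ≤ 2 ^ ((r - 2) * f') := by
  induction f', hff using Nat.le_induction with
  | base => exact h
  | succ g hg ih =>
    have h8 : 4 ≤ 2 ^ (r - 2) := le_trans (show 4 ≤ 2 ^ 2 by norm_num) (Nat.pow_le_pow_right (by norm_num) (by omega))
    have h1 : (g + 1) ^ 2 ≤ 4 * g ^ 2 := by nlinarith
    rw [Nat.mul_succ, pow_add]
    calc 8 * (g + 1) ^ 2 * r ^ 2 ≤ 8 * (4 * g ^ 2) * r ^ 2 := Nat.mul_le_mul_right _ (Nat.mul_le_mul_left 8 h1)
      _ = (8 * g ^ 2 * r ^ 2) * 4 := by ring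
      _ ≤ 2 ^ ((r - 2) * g) * 2 ^ (r - 2) := Nat.mul_le_mul ih h8

theorem exp_big_r {r : ℕ} (hr : 13 ≤ r) : 8 * 1 ^ 2 * r ^ 2 ≤ 2 ^ ((r - 2) * 1) := by
  induction r, hr using Nat.le_induction with
  | base => norm_num
  | succ g hg ih =>
    rw [show g + 1 - 2 = (g - 2) + 1 by omega, mul_one, pow_succ]
    rw [mul_one] at ih
    have h1 : (g + 1) ^ 2 ≤ 2 * g ^ 2 := by nlinarith
    omega

/-- The main bound. -/
theorem good {q e : ℕ} (hq : 2 ≤ q) : Good q e := by
  rcases lt_or_ge e 3 with he | he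
  · exact Or.inl he
  obtain ⟨n, t, hnt, hsf, hpr, hval⟩ := reduce e (by omega)
  obtain ⟨r, hr, hre, hmax⟩ : ∃ r : ℕ, r.Prime ∧ r ∣ e ∧ ∀ s : ℕ, s.Prime → s ∣ e → s ≤ r := by
    have hne : e.primeFactors.Nonempty := Nat.nonempty_primeFactors.2 (by omega)
    obtain ⟨r, hr, hmax⟩ := Finset.exists_max_image e.primeFactors id hne
    rw [Nat.mem_primeFactors] at hr
    exact ⟨r, hr.1, hr.2.1, fun s hs hse => hmax s (Nat.mem_primeFactors.2 ⟨hs, hse, by omega⟩)⟩
  obtain ⟨u, hu1, hu2, hu3⟩ := exists_prim (q := q) (by omega) he hr hre hmax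
  have ht : 1 ≤ t := Nat.pos_of_ne_zero fun h => by rw [h, mul_zero] at hnt; omega
  have hQ : 2 ≤ q ^ t := hq.trans (Nat.le_self_pow (by omega) q)
  rw [hval] at hu3
  -- a lower bound either finishes or leaves finitely many pairs
  have finish : ∀ k c, 1 ≤ c → Below n (q ^ t) k c → c * (r * (3 * (n * t) + 1)) ≤ q ^ (t * k) → Good q e := by
    intro k c hc hb hle
    refine Or.inr (Or.inr ⟨u, hu1, hu2, ?_⟩)
    have h1 : ((q ^ t) ^ k : ℤ) ≤ (c : ℤ) * ((r * u : ℕ) : ℤ) := by
      refine le_trans ?_ ((hb : ((q ^ t : ℕ) : ℤ) ^ k ≤ _).trans (mul_le_mul_of_nonneg_left hu3 (Int.natCast_nonneg c)))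
      push_cast; rfl
    rw [← pow_mul] at h1
    have h2 : q ^ (t * k) ≤ c * (r * u) := by exact_mod_cast h1
    rw [hnt]
    exact Nat.le_of_mul_le_mul_left (Nat.le_of_mul_le_mul_left (hle.trans h2) (by omega)) hr.pos
  have small : ∀ k c, 1 ≤ c → Below n (q ^ t) k c → SmallGood n k c r → Good q e := by
    intro k c hc hb hs
    by_cases hle : c * (r * (3 * (n * t) + 1)) ≤ q ^ (t * k)
    · exact finish k c hc hb hle
    · rw [hnt]; exact hs t ht q hq hle
  obtain ⟨m, hm⟩ := (hpr r hr).2 hre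
  rw [mul_comm] at hm
  subst hm
  have hrm : ¬ r ∣ m := fun h => hr.not_isUnit (hsf r (by rw [mul_comm m r]; exact mul_dvd_mul_left r h))
  have hms : Squarefree m := hsf.squarefree_of_dvd (dvd_mul_right m r)
  have hmp : ∀ s : ℕ, s.Prime → s ∣ m → s < r := fun s hs hsm =>
    lt_of_le_of_ne (hmax s hs ((hpr s hs).1 (hsm.mul_right r))) (fun h => hrm (h ▸ hsm))
  rcases eq_or_ne r 2 with rfl | hr2
  · have hm1 : m = 1 := by
      by_contra hne
      obtain ⟨s, hs, hsm⟩ := Nat.exists_prime_and_dvd hne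
      have := hmp s hs hsm
      have := hs.two_le
      omega
    subst hm1
    exact small 1 1 le_rfl (lower_two _) small_2
  have hr3 : 3 ≤ r := by have := hr.two_le; omega
  have hgen := lower_mul hr hr3 hrm hQ
  set f := Nat.totient m with hf
  have hm0 : m ≠ 0 := hms.ne_zero
  have hf1 : 1 ≤ f := Nat.totient_pos.2 (Nat.pos_of_ne_zero hm0)
  have hmle := (sqfree_le m hms).1
  rw [← hf] at hmle
  by_cases hbig : 8 * f ^ 2 * r ^ 2 ≤ 2 ^ ((r - 2) * f)
  · refine finish _ 1 le_rfl hgen ?_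
    have h1 : 1 * (r * (3 * (m * r * t) + 1)) ≤ 2 ^ ((r - 2) * f) * t := by
      refine le_trans ?_ (Nat.mul_le_mul_right t hbig)
      have hr1 : 1 ≤ m * r * t := Nat.mul_pos (Nat.mul_pos (Nat.pos_of_ne_zero hm0) hr.pos) ht
      calc 1 * (r * (3 * (m * r * t) + 1)) ≤ r * (4 * (m * r * t)) := by rw [one_mul]; exact Nat.mul_le_mul_left r (by omega)
        _ = 4 * m * r ^ 2 * t := by ring
        _ ≤ 4 * (2 * f ^ 2) * r ^ 2 * t := Nat.mul_le_mul_right t (Nat.mul_le_mul_right _ (Nat.mul_le_mul_left 4 hmle))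
        _ = 8 * f ^ 2 * r ^ 2 * t := by ring
    refine big_q hq (h1.trans ?_)
    have hk : 1 ≤ (r - 2) * f := Nat.mul_pos (by omega) hf1
    have h2 : t ≤ 2 ^ (((r - 2) * f) * (t - 1)) := by
      refine le_trans ?_ (Nat.pow_le_pow_right (by norm_num) (Nat.le_mul_of_pos_left (t - 1) hk))
      have := Nat.lt_two_pow_self (n := t - 1)
      omega
    calc 2 ^ ((r - 2) * f) * t ≤ 2 ^ ((r - 2) * f) * 2 ^ (((r - 2) * f) * (t - 1)) := Nat.mul_le_mul_left _ h2
      _ = 2 ^ (t * ((r - 2) * f)) := by rw [← pow_add]; congr 1; rw [Nat.mul_sub, mul_one, mul_comm t]; have := Nat.le_mul_of_pos_right ((r - 2) * f) ht; omega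
  -- the small indices
  have hr11 : r ≤ 11 := by
    by_contra h
    have hr13 : 13 ≤ r := by
      by_contra h'
      have : r = 12 := by omega
      subst this
      norm_num at hr
    exact hbig (exp_big_phi (by omega) le_rfl hf1 (exp_big_r hr13))
  have hm_dvd : ∀ N : ℕ, (∀ s : ℕ, s.Prime → s < r → s ∣ N) → m ∣ N := by
    intro N hN
    rw [← Nat.prod_primeFactors_of_squarefree hms]
    exact Finset.prod_primes_dvd N (fun s hs => (Nat.prime_of_mem_primeFactors hs).prime) fun s hs =>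
      hN s (Nat.prime_of_mem_primeFactors hs) (hmp s (Nat.prime_of_mem_primeFactors hs) (Nat.dvd_of_mem_primeFactors hs))
  interval_cases r
  all_goals try (exfalso; norm_num at hr; done)
  · have h := hm_dvd 2 fun s hs hlt => by have := hs.two_le; interval_cases s; norm_num
    have : m ≤ 2 := Nat.le_of_dvd (by norm_num) h
    have hmpos : 1 ≤ m := Nat.pos_of_ne_zero hm0
    interval_cases m
    · exact small 2 1 le_rfl (lower_three _) small_3
    · exact small 2 2 (by norm_num) (lower_six hQ) small_6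
  · have h := hm_dvd 6 fun s hs hlt => by have := hs.two_le; interval_cases s <;> first | (norm_num; done) | (norm_num at hs)
    have : m ≤ 6 := Nat.le_of_dvd (by norm_num) h
    have hmpos : 1 ≤ m := Nat.pos_of_ne_zero hm0
    interval_cases m
    all_goals try (exfalso; norm_num at h; done)
    · exact small _ 1 le_rfl hgen (by rw [show (5 - 2) * f = 3 by rw [hf]; decide +kernel]; exact small_5)
    · exact small _ 1 le_rfl hgen (by rw [show (5 - 2) * f = 3 by rw [hf]; decide +kernel]; exact small_10)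
    · exact small _ 1 le_rfl hgen (by rw [show (5 - 2) * f = 6 by rw [hf]; decide +kernel]; exact small_15)
    · exact small _ 1 le_rfl hgen (by rw [show (5 - 2) * f = 6 by rw [hf]; decide +kernel]; exact small_30)
  · have h := hm_dvd 30 fun s hs hlt => by have := hs.two_le; interval_cases s <;> first | (norm_num; done) | (norm_num at hs)
    have hf3 : f < 3 := by
      by_contra h3
      exact hbig (exp_big_phi (by norm_num) (show 1 ≤ 3 by norm_num) (by omega) (by norm_num))
    have : m ≤ 30 := Nat.le_of_dvd (by norm_num) h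
    have hm8 : m ≤ 8 := hmle.trans (by nlinarith)
    have hmpos : 1 ≤ m := Nat.pos_of_ne_zero hm0
    interval_cases m
    all_goals try (exfalso; norm_num at h; done)
    all_goals try (exfalso; revert hf3; rw [hf]; decide)
    · exact small _ 1 le_rfl hgen (by rw [show (7 - 2) * f = 5 by rw [hf]; decide +kernel]; exact small_7)
    · exact small _ 1 le_rfl hgen (by rw [show (7 - 2) * f = 5 by rw [hf]; decide +kernel]; exact small_14)
    · exact small _ 1 le_rfl hgen (by rw [show (7 - 2) * f = 10 by rw [hf]; decide +kernel]; exact small_21)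
    · exact small _ 1 le_rfl hgen (by rw [show (7 - 2) * f = 10 by rw [hf]; decide +kernel]; exact small_42)
  · have hf2 : f < 2 := by
      by_contra h3
      exact hbig (exp_big_phi (by norm_num) (show 1 ≤ 2 by norm_num) (by omega) (by norm_num))
    have : m ≤ 2 := hmle.trans (by nlinarith)
    have hmpos : 1 ≤ m := Nat.pos_of_ne_zero hm0
    interval_cases m
    · exact small _ 1 le_rfl hgen (by rw [show (11 - 2) * f = 9 by rw [hf]; decide +kernel]; exact small_11)
    · exact small _ 1 le_rfl hgen (by rw [show (11 - 2) * f = 9 by rw [hf]; decide +kernel]; exact small_22)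

/-- The primitive divisors in the exceptional cases. -/
theorem exc_le (q e m P D : ℕ) (hm : m ∣ q ^ e - 1) (hcop : ∀ i : ℕ, 1 ≤ i → i < e → Nat.Coprime m (q ^ i - 1))
    (hPD : q ^ e - 1 = P * D) (hP : 0 < P) (hD : D ∣ ((Finset.Ico 1 e).filter (fun i => e % i = 0)).prod (fun i => q ^ i - 1) ^ 2) :
    m ≤ P := by
  have h1 : Nat.Coprime m D := by
    refine Nat.Coprime.coprime_dvd_right hD (Nat.Coprime.pow_right 2 ?_)
    exact Nat.Coprime.prod_right fun i hi => by
      rw [Finset.mem_filter, Finset.mem_Ico] at hi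
      exact hcop i hi.1.1 hi.1.2
  exact Nat.le_of_dvd hP (h1.dvd_of_dvd_mul_right (hPD ▸ hm))

end Cfsg.Agent.PrimPart
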