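import Mathlib

/-!
# Orders of abelian p-subgroups of symmetric groups of given rank
-/

set_option autoImplicit false

namespace Cfsg.Agent.Perm.AbelianPBound

theorem amgm_step (k : ℕ) (S x : ℝ) (hS : 0 ≤ S) (hx : 0 ≤ x) (hk : 1 ≤ k) :
    x * S ^ k * ((k : ℝ) + 1) ^ (k + 1) ≤ (S + x) ^ (k + 1) * (k : ℝ) ^ k := by
  have hk0 : (0 : ℝ) < k := by exact_mod_cast hk
  rcases eq_or_lt_of_le hS with rfl | hS0
  · rw [zero_pow (by omega), mul_zero, zero_mul]; positivity
  obtain ⟨y, hy⟩ : ∃ y, y = S / k := ⟨_, rfl⟩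
  have hy0 : 0 < y := hy ▸ div_pos hS0 hk0
  have hSy : S = k * y := by rw [hy]; field_simp
  obtain ⟨t, ht⟩ : ∃ t, t = (x - y) / (((k : ℝ) + 1) * y) := ⟨_, rfl⟩
  have ht1 : -2 ≤ t := by
    rw [ht, le_div_iff₀ (by positivity)]
    nlinarith
  have hb := one_add_mul_le_pow ht1 (k + 1)
  push_cast at hb
  have e1 : 1 + ((k : ℝ) + 1) * t = x / y := by rw [ht]; field_simp; ring
  have e2 : 1 + t = (S + x) / (((k : ℝ) + 1) * y) := by rw [ht, hSy]; field_simp; ring
  rw [e1, e2, div_pow, mul_pow, div_le_div_iff₀ hy0 (by positivity)] at hb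
  rw [hSy, mul_pow, pow_succ y k] at *
  have h1 : y * (x * y ^ k * ((k : ℝ) + 1) ^ (k + 1)) ≤ y * ((k * y + x) ^ (k + 1)) := by
    nlinarith [hb]
  have h2 := le_of_mul_le_mul_left h1 hy0
  calc x * ((k : ℝ) ^ k * y ^ k) * ((k : ℝ) + 1) ^ (k + 1)
      = (k : ℝ) ^ k * (x * y ^ k * ((k : ℝ) + 1) ^ (k + 1)) := by ring
    _ ≤ (k : ℝ) ^ k * (k * y + x) ^ (k + 1) := mul_le_mul_of_nonneg_left h2 (by positivity)
    _ = _ := by ring

theorem multiset_amgm (M : Multiset ℕ) :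
    M.prod * Multiset.card M ^ Multiset.card M ≤ M.sum ^ Multiset.card M := by
  induction M using Multiset.induction_on with
  | empty => simp
  | cons a M ih =>
    rcases Nat.eq_zero_or_pos (Multiset.card M) with h | h
    · rw [Multiset.card_eq_zero.1 h]; simp
    simp only [Multiset.prod_cons, Multiset.sum_cons, Multiset.card_cons]
    have hstep := amgm_step (Multiset.card M) M.sum a (by positivity) (by positivity) h
    have h' : (a * M.sum ^ Multiset.card M * (Multiset.card M + 1) ^ (Multiset.card M + 1) : ℕ) ≤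
        (M.sum + a) ^ (Multiset.card M + 1) * Multiset.card M ^ Multiset.card M := by exact_mod_cast hstep
    apply Nat.le_of_mul_le_mul_right _ (Nat.pow_pos (n := Multiset.card M) h)
    calc a * M.prod * (Multiset.card M + 1) ^ (Multiset.card M + 1) * Multiset.card M ^ Multiset.card M
        = a * (M.prod * Multiset.card M ^ Multiset.card M) * (Multiset.card M + 1) ^ (Multiset.card M + 1) := by ring
      _ ≤ a * M.sum ^ Multiset.card M * (Multiset.card M + 1) ^ (Multiset.card M + 1) :=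
          Nat.mul_le_mul_right _ (Nat.mul_le_mul_left _ ih)
      _ ≤ _ := h'
      _ = _ := by rw [Nat.add_comm]

theorem split_orbit (p : ℕ) (hp : 2 ≤ p) : ∀ (e a : ℕ), e + 1 ≤ a →
    ∃ M : Multiset ℕ, Multiset.card M = e + 1 ∧ M.prod = p ^ a ∧ M.sum ≤ p ^ a := by
  intro e
  induction e with
  | zero => exact fun a _ => ⟨{p ^ a}, by simp⟩
  | succ e ih =>
    intro a ha
    obtain ⟨b, rfl⟩ : ∃ b, a = b + 1 := ⟨a - 1, by omega⟩
    obtain ⟨M, h1, h2, h3⟩ := ih b (by omega)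
    refine ⟨p ::ₘ M, by simp [h1], by simp [h2, pow_succ, mul_comm], ?_⟩
    have h4 : p ≤ p ^ b := Nat.le_self_pow (by omega) p
    rw [Multiset.sum_cons, pow_succ]
    calc p + M.sum ≤ p ^ b + p ^ b := by omega
      _ = p ^ b * 2 := by ring
      _ ≤ p ^ b * p := Nat.mul_le_mul_left _ hp

variable {Ω : Type*} [Fintype Ω] [DecidableEq Ω]

theorem orbit_decomposition (p : ℕ) [Fact p.Prime] (A : Subgroup (Equiv.Perm Ω)) (hA : IsPGroup p A)
    (hab : IsMulCommutative A) : ∀ (N : ℕ) (U : Finset Ω) (B : Subgroup (Equiv.Perm Ω)), U.card ≤ N → B ≤ A →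
      (∀ b ∈ B, ∀ u ∈ U, b u ∈ U) → (∀ b ∈ B, (∀ u ∈ U, b u = u) → b = 1) →
      ∀ r, Nat.card {x : B // x ^ p = 1} = p ^ r →
        ∃ M : Multiset ℕ, Multiset.card M = r ∧ Nat.card B ≤ M.prod ∧ M.sum ≤ U.card := by
  classical
  intro N
  induction N with
  | zero =>
    intro U B hU hBA hUinv hfaith r hr
    have hB : B = ⊥ := (Subgroup.eq_bot_iff_forall B).2 fun b hb =>
      hfaith b hb fun u hu => by rw [Finset.card_eq_zero.1 (Nat.le_zero.1 hU)] at hu; simp at hu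
    subst hB
    have : Nat.card {x : (⊥ : Subgroup (Equiv.Perm Ω)) // x ^ p = 1} = 1 :=
      Nat.card_eq_one_iff_unique.2 ⟨inferInstance, ⟨⟨1, one_pow p⟩⟩⟩
    rw [this] at hr
    obtain rfl : r = 0 := (Nat.pow_eq_one.1 hr.symm).resolve_left (Fact.out : p.Prime).one_lt.ne'
    exact ⟨0, by simp, by simp, by simp⟩
  | succ N ih =>
    intro U B hU hBA hUinv hfaith r hr
    have hp : p.Prime := Fact.out
    by_cases hB : B = ⊥
    · subst hB
      have : Nat.card {x : (⊥ : Subgroup (Equiv.Perm Ω)) // x ^ p = 1} = 1 :=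
        Nat.card_eq_one_iff_unique.2 ⟨inferInstance, ⟨⟨1, one_pow p⟩⟩⟩
      rw [this] at hr
      obtain rfl : r = 0 := (Nat.pow_eq_one.1 hr.symm).resolve_left hp.one_lt.ne'
      exact ⟨0, by simp, by simp, by simp⟩
    have hBp : IsPGroup p B := hA.to_le hBA
    have hcomm : ∀ a ∈ B, ∀ b ∈ B, a * b = b * a := fun a ha b hb =>
      congrArg Subtype.val (hab.is_comm.comm (⟨a, hBA ha⟩ : A) ⟨b, hBA hb⟩)
    obtain ⟨n, hn⟩ := IsPGroup.iff_card.1 hBp
    have hn0 : n ≠ 0 := fun h => hB (Subgroup.card_eq_one.1 (by rw [hn, h, pow_zero]))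
    obtain ⟨⟨x, hxB⟩, hx⟩ := exists_prime_orderOf_dvd_card' (G := B) p (hn ▸ dvd_pow_self p hn0)
    rw [Subgroup.orderOf_mk] at hx
    have hx1 : x ≠ 1 := fun h => hp.one_lt.ne (by rw [← hx, h, orderOf_one])
    obtain ⟨u, huU, hxu⟩ : ∃ u ∈ U, x u ≠ u := by
      by_contra hc
      push Not at hc
      exact hx1 (hfaith x hxB hc)
    obtain ⟨S, hS⟩ : ∃ S, S = MulAction.stabilizer (Equiv.Perm Ω) u := ⟨_, rfl⟩
    obtain ⟨O, hO⟩ : ∃ O : Finset Ω, O = (MulAction.orbit B u).toFinset := ⟨_, rfl⟩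
    have hOU : O ⊆ U := by
      rw [hO]
      intro v hv
      rw [Set.mem_toFinset] at hv
      obtain ⟨⟨b, hb⟩, rfl⟩ := hv
      exact hUinv b hb u huU
    have hOc : O.card = S.relIndex B := by
      rw [hO, ← Set.ncard_eq_toFinset_card', ← MulAction.index_stabilizer, hS]
      rfl
    have hfix : ∀ b ∈ B, b ∈ S → ∀ v ∈ O, b v = v := by
      intro b hb hbS v hv
      rw [hO, Set.mem_toFinset] at hv
      obtain ⟨⟨c, hc⟩, rfl⟩ := hv
      show b (c u) = c u
      rw [← Equiv.Perm.mul_apply, hcomm b hb c hc, Equiv.Perm.mul_apply]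
      rw [hS] at hbS
      exact congrArg c hbS
    have hUO : ∀ b ∈ B ⊓ S, ∀ v ∈ U \ O, b v ∈ U \ O := by
      intro b hb v hv
      rw [Finset.mem_sdiff] at hv ⊢
      refine ⟨hUinv b hb.1 v hv.1, fun hbv => hv.2 ?_⟩
      have := hfix b hb.1 hb.2 _ hbv
      rwa [b.injective this] at hbv
    have hOne : (u : Ω) ∈ O := by rw [hO, Set.mem_toFinset]; exact MulAction.mem_orbit_self u
    have hlt : (U \ O).card ≤ N := by
      have := Finset.card_sdiff_add_card_eq_card hOU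
      have : 0 < O.card := Finset.card_pos.2 ⟨u, hOne⟩
      omega
    let Q : Subgroup (Equiv.Perm Ω) :=
      { carrier := {b | b ∈ B ∧ b ^ p = 1}
        one_mem' := ⟨B.one_mem, one_pow p⟩
        mul_mem' := fun {a b} ha hb => ⟨B.mul_mem ha.1 hb.1, by
          rw [(show Commute a b from hcomm a ha.1 b hb.1).mul_pow, ha.2, hb.2, one_mul]⟩
        inv_mem' := fun {a} ha => ⟨B.inv_mem ha.1, by rw [inv_pow, ha.2, inv_one]⟩ }
    have hQcard : ∀ C : Subgroup (Equiv.Perm Ω), C ≤ B →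
        Nat.card {z : C // z ^ p = 1} = Nat.card ↥(Q ⊓ C) := by
      intro C hC
      refine Nat.card_congr
        { toFun := fun z => ⟨(z.1 : Equiv.Perm Ω), ⟨hC z.1.2, congrArg Subtype.val z.2⟩, z.1.2⟩
          invFun := fun z => ⟨⟨z.1, z.2.2⟩, Subtype.ext z.2.1.2⟩
          left_inv := fun z => rfl
          right_inv := fun z => rfl }
    have hQB : Q ⊓ B = Q := inf_eq_left.2 fun b hb => hb.1
    have hQS : Q ⊓ (B ⊓ S) = S ⊓ Q := by rw [← inf_assoc, hQB, inf_comm]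
    have hinf : ∀ X Y : Subgroup (Equiv.Perm Ω), Nat.card ↥(X ⊓ Y) * X.relIndex Y = Nat.card Y := fun X Y => by
      rw [← Nat.card_congr (Subgroup.subgroupOfEquivOfLe (inf_le_right : X ⊓ Y ≤ Y)).toEquiv,
        Subgroup.inf_subgroupOf_right]
      exact Subgroup.card_mul_index _
    have hQp : IsPGroup p Q := hBp.to_le fun b hb => hb.1
    obtain ⟨r', hr'⟩ := IsPGroup.iff_card.1 (hQp.to_le (inf_le_right : S ⊓ Q ≤ Q))
    obtain ⟨a, ha⟩ : ∃ a, S.relIndex B = p ^ a := by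
      have hdvd : S.relIndex B ∣ Nat.card B := Subgroup.index_dvd_card _
      rw [hn] at hdvd
      obtain ⟨a, -, ha⟩ := (Nat.dvd_prime_pow hp).1 hdvd
      exact ⟨a, ha⟩
    have hcQ := hinf S Q
    rw [hr', show Nat.card Q = p ^ r from by rw [← hr, hQcard B le_rfl, hQB]] at hcQ
    have hle : S.relIndex Q ≤ S.relIndex B := by
      refine Subgroup.relIndex_le_of_le_right (fun b hb => hb.1) ?_
      rw [ha]; exact (pow_pos hp.pos a).ne'
    have hne : S.relIndex Q ≠ 1 := by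
      intro h
      have hxS : x ∈ S := Subgroup.relIndex_eq_one.1 h ⟨hxB, by rw [← hx, pow_orderOf_eq_one]⟩
      rw [hS] at hxS
      exact hxu hxS
    obtain ⟨e, he⟩ : ∃ e, S.relIndex Q = p ^ e := by
      obtain ⟨e, -, he⟩ := (Nat.dvd_prime_pow hp).1 (hcQ ▸ dvd_mul_left (S.relIndex Q) (p ^ r') :
        S.relIndex Q ∣ p ^ r)
      exact ⟨e, he⟩
    have hea : e ≤ a := by
      rw [he, ha] at hle
      exact (Nat.pow_le_pow_iff_right hp.one_lt).1 hle
    have he0 : e ≠ 0 := fun h => hne (by rw [he, h, pow_zero])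
    have hre : r' + e = r := by
      rw [he, ← pow_add] at hcQ
      exact Nat.pow_right_injective hp.two_le hcQ
    obtain ⟨M', hM1, hM2, hM3⟩ := ih (U \ O) (B ⊓ S) hlt (inf_le_left.trans hBA) hUO
      (fun b hb h => hfaith b hb.1 fun v hv => by
        by_cases hvO : v ∈ O
        · exact hfix b hb.1 hb.2 v hvO
        · exact h v (Finset.mem_sdiff.2 ⟨hv, hvO⟩))
      r' (by rw [hQcard _ inf_le_left, hQS, hr'])
    obtain ⟨M₀, hN1, hN2, hN3⟩ := split_orbit p hp.two_le (e - 1) a (by omega)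
    refine ⟨M' + M₀, by rw [Multiset.card_add, hM1, hN1]; omega, ?_, ?_⟩
    · rw [Multiset.prod_add, hN2, ← ha, ← hinf S B, inf_comm S B]
      exact Nat.mul_le_mul_right _ hM2
    · rw [Multiset.sum_add, ← Finset.card_sdiff_add_card_eq_card hOU, hOc, ha]
      omega

theorem abelian_bound (p : ℕ) [Fact p.Prime] (A : Subgroup (Equiv.Perm Ω)) (hA : IsPGroup p A)
    (hab : IsMulCommutative A) (k : ℕ) (hk : Nat.card {x : A // x ^ p = 1} = p ^ k) :
    Nat.card A * k ^ k ≤ Fintype.card Ω ^ k := by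
  obtain ⟨M, hM1, hM2, hM3⟩ := orbit_decomposition p A hA hab _ Finset.univ A le_rfl le_rfl
    (fun b _ u _ => Finset.mem_univ _) (fun b _ h => Equiv.ext fun u => h u (Finset.mem_univ u)) k hk
  calc Nat.card A * k ^ k ≤ M.prod * k ^ k := Nat.mul_le_mul_right _ hM2
    _ = M.prod * Multiset.card M ^ Multiset.card M := by rw [hM1]
    _ ≤ M.sum ^ Multiset.card M := multiset_amgm M
    _ ≤ Fintype.card Ω ^ k := by rw [hM1]; exact Nat.pow_le_pow_left (hM3.trans_eq Finset.card_univ) k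

end Cfsg.Agent.Perm.AbelianPBound
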