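import Mathlib

/-!
# Permutations of an affine space over `ZMod p` preserved on triples
-/

set_option autoImplicit false

namespace Cfsg.Agent.Perm.AffineClosure

variable {p : ℕ} [Fact p.Prime] {V : Type*} [AddCommGroup V] [Module (ZMod p) V]

/-- The affine permutations. -/
def IsAffine (τ : Equiv.Perm V) : Prop := ∃ (A : V ≃ₗ[ZMod p] V) (b : V), ∀ x, τ x = A x + b

theorem isAffine_of_triples (hp : p ≠ 2) (σ : Equiv.Perm V)
    (h : ∀ t : Fin 3 → V, ∃ g : Equiv.Perm V, IsAffine (p := p) g ∧ ∀ i, σ (t i) = g (t i)) :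
    IsAffine (p := p) σ := by
  have h2 : (2 : ZMod p) ≠ 0 := by
    intro h0
    have : ((2 : ℕ) : ZMod p) = 0 := by exact_mod_cast h0
    rw [ZMod.natCast_eq_zero_iff] at this
    exact hp ((Nat.prime_dvd_prime_iff_eq Fact.out Nat.prime_two).1 this)
  have hmid : ∀ x y : V, σ ((2⁻¹ : ZMod p) • (x + y)) = (2⁻¹ : ZMod p) • (σ x + σ y) := by
    intro x y
    obtain ⟨g, ⟨A, b, hA⟩, hg⟩ := h ![x, y, (2⁻¹ : ZMod p) • (x + y)]
    have e0 := hg 0
    have e1 := hg 1
    have e2 := hg 2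
    simp only [Matrix.cons_val] at e0 e1 e2
    rw [e0, e1, e2, hA, hA, hA, map_smul, map_add]
    calc (2⁻¹ : ZMod p) • (A x + A y) + b
        = (2⁻¹ : ZMod p) • (A x + A y) + ((2⁻¹ : ZMod p) * 2) • b := by
          rw [inv_mul_cancel₀ h2, one_smul]
      _ = (2⁻¹ : ZMod p) • (A x + b + (A y + b)) := by
          rw [mul_smul, two_smul, ← smul_add]
          congr 1
          abel
  have hadd : ∀ x y : V, σ (x + y) - σ 0 = (σ x - σ 0) + (σ y - σ 0) := by
    intro x y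
    have a := hmid x y
    have b := hmid (x + y) 0
    rw [add_zero, a] at b
    have := congrArg (fun z : V => (2 : ZMod p) • z) b
    simp only [smul_smul, mul_inv_cancel₀ h2, one_smul] at this
    calc σ (x + y) - σ 0 = σ (x + y) + σ 0 - σ 0 - σ 0 := by abel
      _ = σ x + σ y - σ 0 - σ 0 := by rw [this]
      _ = _ := by abel
  let f : V →+ V := AddMonoidHom.mk' (fun x => σ x - σ 0) hadd
  have hbij : Function.Bijective (f.toZModLinearMap p) := by
    constructor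
    · intro x y hxy
      exact σ.injective (sub_left_injective (hxy : σ x - σ 0 = σ y - σ 0))
    · intro z
      exact ⟨σ.symm (z + σ 0), by show σ (σ.symm (z + σ 0)) - σ 0 = z; simp⟩
  exact ⟨LinearEquiv.ofBijective _ hbij, σ 0, fun x => by
    show σ x = σ x - σ 0 + σ 0
    rw [sub_add_cancel]⟩

theorem perm_eq_of_agree_card_four {α : Type*} [Fintype α] (hc : Fintype.card α = 4) (σ g : Equiv.Perm α)
    (a b c : α) (hab : a ≠ b) (hac : a ≠ c) (hbc : b ≠ c)
    (ha : σ a = g a) (hb : σ b = g b) (hcg : σ c = g c) : σ = g := by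
  classical
  ext x
  by_cases hx : x = a ∨ x = b ∨ x = c
  · rcases hx with rfl | rfl | rfl <;> assumption
  push Not at hx
  have hcard : ({a, b, c} : Finset α).card = 3 := Finset.card_eq_three.2 ⟨a, b, c, hab, hac, hbc, rfl⟩
  have huniq : ∀ u v : α, u ∉ ({σ a, σ b, σ c} : Finset α) → v ∉ ({σ a, σ b, σ c} : Finset α) → u = v := by
    intro u v hu hv
    have h1 : (({σ a, σ b, σ c} : Finset α))ᶜ.card = 1 := by
      rw [Finset.card_compl, hc, Finset.card_eq_three.2 ⟨σ a, σ b, σ c, σ.injective.ne hab,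
        σ.injective.ne hac, σ.injective.ne hbc, rfl⟩]
    obtain ⟨w, hw⟩ := Finset.card_eq_one.1 h1
    have hu' := Finset.mem_compl.2 hu
    have hv' := Finset.mem_compl.2 hv
    rw [hw, Finset.mem_singleton] at hu' hv'
    rw [hu', hv']
  refine huniq _ _ ?_ ?_
  · simp [σ.injective.eq_iff, hx]
  · rw [ha, hb, hcg]; simp [g.injective.eq_iff, hx]

theorem exists_det_one [Module.Finite (ZMod p) V] (A : V ≃ₗ[ZMod p] V) (W : Submodule (ZMod p) V)
    (hW : W ≠ ⊤) :
    ∃ A₀ : V ≃ₗ[ZMod p] V, LinearMap.det (A₀ : V →ₗ[ZMod p] V) = 1 ∧ ∀ x ∈ W, A₀ x = A x := by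
  obtain ⟨w, -, hw⟩ := SetLike.exists_of_lt (lt_top_iff_ne_top.2 hW)
  obtain ⟨φ, hφw, hφW⟩ := Submodule.exists_dual_map_eq_bot_of_notMem hw inferInstance
  obtain ⟨c, hc⟩ : ∃ c, c = LinearMap.det (A : V →ₗ[ZMod p] V) := ⟨_, rfl⟩
  have hc0 : c ≠ 0 := hc ▸ (LinearEquiv.isUnit_det' A).ne_zero
  obtain ⟨v, hv⟩ : ∃ v, v = ((c⁻¹ - 1) * (φ w)⁻¹) • w := ⟨_, rfl⟩
  have hφv : 1 + φ v = c⁻¹ := by
    rw [hv, map_smul, smul_eq_mul, inv_mul_cancel_right₀ hφw]
    ring
  have hu : IsUnit (1 + φ v) := by rw [hφv]; exact (inv_ne_zero hc0).isUnit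
  refine ⟨(LinearEquiv.dilatransvection hu).trans A, ?_, fun x hx => ?_⟩
  · rw [show (((LinearEquiv.dilatransvection hu).trans A : V ≃ₗ[ZMod p] V) : V →ₗ[ZMod p] V) =
        (A : V →ₗ[ZMod p] V) ∘ₗ LinearMap.transvection φ v from rfl, LinearMap.det_comp,
      LinearMap.transvection.det, hφv, ← hc, mul_inv_cancel₀ hc0]
  · have hφx : φ x = 0 := by
      have hz : φ x ∈ W.map φ := ⟨x, hx, rfl⟩
      rw [hφW] at hz
      exact (Submodule.mem_bot _).1 hz
    rw [LinearEquiv.trans_apply]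
    congr 1
    show LinearMap.transvection φ v x = x
    rw [LinearMap.transvection.apply, hφx, zero_smul, add_zero]

end Cfsg.Agent.Perm.AffineClosure
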