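import Mathlib

/-!
When the Sylow subgroups of an alternating group are abelian.
-/

set_option autoImplicit false

namespace Cfsg.Agent.Perm.AltSylowAbelian

open Equiv

/-- Translations inside the blocks. -/
def blockHom (k p : ℕ) : Multiplicative (Fin k → ZMod p) →* Perm (Fin k × ZMod p) :=
  MonoidHom.mk' (fun c =>
    { toFun := fun x => (x.1, x.2 + Multiplicative.toAdd c x.1)
      invFun := fun x => (x.1, x.2 - Multiplicative.toAdd c x.1)
      left_inv := fun x => by simp
      right_inv := fun x => by simp })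
    fun c d => Equiv.ext fun x => Prod.ext rfl (by
      show x.2 + Multiplicative.toAdd (c * d) x.1 = x.2 + Multiplicative.toAdd d x.1 + Multiplicative.toAdd c x.1
      rw [toAdd_mul, Pi.add_apply]; abel)

theorem blockHom_injective (k p : ℕ) : Function.Injective (blockHom k p) := by
  intro c d h
  refine Multiplicative.toAdd.injective (funext fun i => ?_)
  have := congrArg Prod.snd (Equiv.congr_fun h (i, (0 : ZMod p)))
  simpa [blockHom] using this

variable {n p : ℕ} [hp : Fact p.Prime]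

/-- Below `p²` the Sylow subgroups are abelian. -/
theorem comm_of_lt (hn : n < p ^ 2) (S : Sylow p (alternatingGroup (Fin n))) : IsMulCommutative S := by
  classical
  haveI : NeZero p := ⟨hp.out.ne_zero⟩
  set k := n / p with hk
  have hkp : k < p := by rw [hk, Nat.div_lt_iff_lt_mul hp.out.pos, ← pow_two]; exact hn
  have hkn : Fintype.card (Fin k × ZMod p) ≤ Fintype.card (Fin n) := by
    rw [Fintype.card_prod, ZMod.card, Fintype.card_fin, Fintype.card_fin]
    exact Nat.div_mul_le_self n p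
  obtain ⟨e⟩ := Function.Embedding.nonempty_of_card_le hkn
  let f : Multiplicative (Fin k → ZMod p) →* Perm (Fin n) := (Perm.viaEmbeddingHom e).comp (blockHom k p)
  have hinj : Function.Injective f := (Perm.viaEmbeddingHom_injective e).comp (blockHom_injective k p)
  have hc : Nat.card f.range = p ^ k := by
    rw [Nat.card_congr (MonoidHom.ofInjective hinj).toEquiv.symm]
    simp
  have hv : (Nat.card (Perm (Fin n))).factorization p = k := by
    rw [Nat.card_eq_fintype_card, Fintype.card_perm, Fintype.card_fin, Nat.factorization_def _ hp.out]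
    conv_lhs => rw [← Nat.div_add_mod n p]
    rw [padicValNat_factorial_mul_add _ (Nat.mod_lt _ hp.out.pos), padicValNat_factorial_mul,
      padicValNat.eq_zero_of_not_dvd (fun h => absurd ((hp.out.dvd_factorial).1 h) (not_le.2 hkp)), zero_add]
  let P : Sylow p (Perm (Fin n)) := Sylow.ofCard f.range (by rw [hc, hv])
  have hPc : ∀ x ∈ (P : Subgroup (Perm (Fin n))), ∀ y ∈ (P : Subgroup (Perm (Fin n))), x * y = y * x := by
    rintro _ ⟨a, rfl⟩ _ ⟨b, rfl⟩
    rw [← map_mul, ← map_mul, mul_comm]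
  obtain ⟨Q, hQ⟩ := (S.2.map (alternatingGroup (Fin n)).subtype).exists_le_sylow
  obtain ⟨g, hg⟩ := MulAction.exists_smul_eq (Perm (Fin n)) P Q
  refine ⟨⟨fun a b => Subtype.ext (Subtype.ext ?_)⟩⟩
  have hmem : ∀ x : S, g⁻¹ * ((x : alternatingGroup (Fin n)) : Perm (Fin n)) * g ∈ (P : Subgroup (Perm (Fin n))) := by
    intro x
    have h1 : ((x : alternatingGroup (Fin n)) : Perm (Fin n)) ∈ (Q : Subgroup (Perm (Fin n))) :=
      hQ ⟨_, x.2, rfl⟩
    rw [← hg, Sylow.coe_subgroup_smul, Subgroup.mem_pointwise_smul_iff_inv_smul_mem] at h1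
    simpa [MulAut.smul_def, MulAut.conj_inv_apply] using h1
  have h := hPc _ (hmem a) _ (hmem b)
  show ((a : alternatingGroup (Fin n)) : Perm (Fin n)) * ((b : alternatingGroup (Fin n)) : Perm (Fin n)) = _
  calc _ = g * ((g⁻¹ * ((a : alternatingGroup (Fin n)) : Perm (Fin n)) * g) *
        (g⁻¹ * ((b : alternatingGroup (Fin n)) : Perm (Fin n)) * g)) * g⁻¹ := by group
    _ = g * ((g⁻¹ * ((b : alternatingGroup (Fin n)) : Perm (Fin n)) * g) *
        (g⁻¹ * ((a : alternatingGroup (Fin n)) : Perm (Fin n)) * g)) * g⁻¹ := by rw [h]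
    _ = _ := by show _ = ((b : alternatingGroup (Fin n)) : Perm (Fin n)) * _; group

/-- A nonabelian `p`-group of permutations of a smaller set, of even permutations, prevents it. -/
theorem not_comm_of_embed {α : Type*} [Fintype α] [DecidableEq α] (e : α ↪ Fin n) (P : Subgroup (Perm α))
    (hP : IsPGroup p P) (heven : ∀ x ∈ P, Perm.sign x = 1)
    (hnc : ∃ x ∈ P, ∃ y ∈ P, x * y ≠ y * x) (S : Sylow p (alternatingGroup (Fin n))) : ¬ IsMulCommutative S := by
  classical
  intro hS
  let P' : Subgroup (alternatingGroup (Fin n)) :=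
    (P.map (Perm.viaEmbeddingHom e)).subgroupOf (alternatingGroup (Fin n))
  have hmem : ∀ x ∈ P, Perm.viaEmbeddingHom e x ∈ alternatingGroup (Fin n) := fun x hx => by
    rw [Perm.mem_alternatingGroup, ← heven x hx, Perm.viaEmbeddingHom_apply]
    convert Perm.sign_extendDomain x (Equiv.ofInjective e.1 e.2) using 2
    unfold Perm.viaEmbedding
    convert rfl using 2
  have hP' : IsPGroup p P' := by
    intro x
    obtain ⟨y, hy, hxy⟩ := Subgroup.mem_subgroupOf.1 x.2
    obtain ⟨j, hj⟩ := hP ⟨y, hy⟩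
    have hj' : y ^ p ^ j = 1 := congrArg Subtype.val hj
    refine ⟨j, Subtype.ext (Subtype.ext ?_)⟩
    show ((x : alternatingGroup (Fin n)) : Perm (Fin n)) ^ p ^ j = 1
    rw [show ((x : alternatingGroup (Fin n)) : Perm (Fin n)) = _ from hxy.symm, ← map_pow, hj', map_one]
  obtain ⟨T, hT⟩ := hP'.exists_le_sylow
  obtain ⟨g, hg⟩ := MulAction.exists_smul_eq (alternatingGroup (Fin n)) S T
  obtain ⟨x, hx, y, hy, hne⟩ := hnc
  have hin : ∀ z (hz : z ∈ P), g⁻¹ * ⟨_, hmem z hz⟩ * g ∈ (S : Subgroup (alternatingGroup (Fin n))) := by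
    intro z hz
    have h1 : (⟨_, hmem z hz⟩ : alternatingGroup (Fin n)) ∈ (T : Subgroup (alternatingGroup (Fin n))) :=
      hT (Subgroup.mem_subgroupOf.2 ⟨z, hz, rfl⟩)
    rw [← hg, Sylow.coe_subgroup_smul, Subgroup.mem_pointwise_smul_iff_inv_smul_mem] at h1
    simpa [MulAut.smul_def, MulAut.conj_inv_apply] using h1
  haveI := hS
  have h : (g⁻¹ * ⟨_, hmem x hx⟩ * g) * (g⁻¹ * ⟨_, hmem y hy⟩ * g) =
      (g⁻¹ * ⟨_, hmem y hy⟩ * g) * (g⁻¹ * ⟨_, hmem x hx⟩ * g) :=
    congrArg Subtype.val (mul_comm' (⟨_, hin x hx⟩ : (S : Subgroup (alternatingGroup (Fin n)))) ⟨_, hin y hy⟩)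
  have h' : (⟨_, hmem x hx⟩ : alternatingGroup (Fin n)) * ⟨_, hmem y hy⟩ = ⟨_, hmem y hy⟩ * ⟨_, hmem x hx⟩ := by
    have := congrArg (fun z => g * z * g⁻¹) h
    simpa [mul_assoc] using this
  refine hne (Perm.viaEmbeddingHom_injective e ?_)
  rw [map_mul, map_mul]
  exact congrArg Subtype.val h'

variable (p)

/-- The group `(x, y) ↦ (x + c y, y + d)`. -/
def blockGroup : Subgroup (Perm (ZMod p × ZMod p)) where
  carrier := {σ | ∃ (c : ZMod p → ZMod p) (d : ZMod p), ∀ x y, σ (x, y) = (x + c y, y + d)}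
  one_mem' := ⟨0, 0, fun x y => by simp⟩
  mul_mem' := by
    rintro σ τ ⟨c, d, hσ⟩ ⟨c', d', hτ⟩
    exact ⟨fun y => c' y + c (y + d'), d' + d, fun x y => by
      rw [Perm.mul_apply, hτ, hσ]; simp [add_assoc]⟩
  inv_mem' := by
    rintro σ ⟨c, d, hσ⟩
    refine ⟨fun y => -c (y - d), -d, fun x y => ?_⟩
    rw [Perm.inv_def, Equiv.symm_apply_eq, hσ]
    simp [sub_eq_add_neg]

theorem blockGroup_pow {σ : Perm (ZMod p × ZMod p)} (h : σ ∈ blockGroup p) : σ ^ (p * p) = 1 := by
  haveI : NeZero p := ⟨hp.out.ne_zero⟩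
  obtain ⟨c, d, hσ⟩ := h
  have hpow : ∀ j : ℕ, ∀ x y, (σ ^ j) (x, y) = (x + ∑ i ∈ Finset.range j, c (y + i • d), y + j • d) := by
    intro j
    induction j with
    | zero => intro x y; simp
    | succ j ih =>
      intro x y
      rw [pow_succ', Perm.mul_apply, ih, hσ, Finset.sum_range_succ, succ_nsmul, add_assoc, add_assoc]
  have hp1 : ∀ x y, (σ ^ p) (x, y) = (x + ∑ i ∈ Finset.range p, c (y + i • d), y) := fun x y => by
    rw [hpow, nsmul_eq_mul, ZMod.natCast_self, zero_mul, add_zero]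
  have hp2 : ∀ (j : ℕ) x y, ((σ ^ p) ^ j) (x, y) = (x + j • (∑ i ∈ Finset.range p, c (y + i • d)), y) := by
    intro j
    induction j with
    | zero => intro x y; simp
    | succ j ih => intro x y; rw [pow_succ', Perm.mul_apply, ih, hp1, succ_nsmul, add_assoc]
  refine Equiv.ext fun ⟨x, y⟩ => ?_
  rw [pow_mul, hp2, nsmul_eq_mul, ZMod.natCast_self, zero_mul, add_zero]; rfl

variable {p}

theorem not_comm_of_le (h6 : 6 ≤ n) (hn : p ^ 2 ≤ n) (S : Sylow p (alternatingGroup (Fin n))) :
    ¬ IsMulCommutative S := by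
  classical
  haveI : NeZero p := ⟨hp.out.ne_zero⟩
  rcases eq_or_ne p 2 with rfl | hp2
  · let a : Perm (Fin 6) := c[0, 1, 2, 3] * c[4, 5]
    let b : Perm (Fin 6) := c[0, 2] * c[4, 5]
    have h1 : a ^ 2 ^ 2 = 1 := by decide
    have h2 : b ^ 2 ^ 1 = 1 := by decide
    have h3 : b * a * b⁻¹ = a ^ 3 := by decide
    have h4 : a * b ≠ b * a := by decide
    have h5 : Perm.sign a = 1 := by decide
    have h6' : Perm.sign b = 1 := by decide
    have hA : IsPGroup 2 (Subgroup.zpowers a) := by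
      obtain ⟨j, -, hj⟩ := (Nat.dvd_prime_pow Nat.prime_two).1 (orderOf_dvd_of_pow_eq_one h1)
      exact IsPGroup.of_card ((Nat.card_zpowers a).trans hj)
    have hB : IsPGroup 2 (Subgroup.zpowers b) := by
      obtain ⟨j, -, hj⟩ := (Nat.dvd_prime_pow Nat.prime_two).1 (orderOf_dvd_of_pow_eq_one h2)
      exact IsPGroup.of_card ((Nat.card_zpowers b).trans hj)
    have hle : Subgroup.zpowers b ≤ Subgroup.normalizer (Subgroup.zpowers a : Set (Perm (Fin 6))) := by
      refine Subgroup.zpowers_le.2 (Subgroup.mem_normalizer_fintype fun x hx => ?_)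
      obtain ⟨i, rfl⟩ := Subgroup.mem_zpowers_iff.1 hx
      show b * a ^ i * b⁻¹ ∈ Subgroup.zpowers a
      rw [← conj_zpow, h3]
      exact zpow_mem (pow_mem (Subgroup.mem_zpowers a) 3) i
    refine not_comm_of_embed (Fin.castLEEmb h6) _ (IsPGroup.to_sup_of_normal_right' hB hA hle) ?_
      ⟨a, le_sup_right (a := Subgroup.zpowers b) (Subgroup.mem_zpowers a),
        b, le_sup_left (b := Subgroup.zpowers a) (Subgroup.mem_zpowers b), h4⟩ S
    intro x hx
    have h := (sup_le (Subgroup.zpowers_le.2 (show b ∈ (Perm.sign (α := Fin 6)).ker from h6'))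
      (Subgroup.zpowers_le.2 (show a ∈ (Perm.sign (α := Fin 6)).ker from h5))) hx
    exact MonoidHom.mem_ker.1 h
  · obtain ⟨e⟩ : Nonempty (ZMod p × ZMod p ↪ Fin n) := Function.Embedding.nonempty_of_card_le (by
      rw [Fintype.card_prod, ZMod.card, Fintype.card_fin, ← pow_two]; exact hn)
    have hodd : Odd (p * p) := (hp.out.odd_of_ne_two hp2).mul (hp.out.odd_of_ne_two hp2)
    let τ : Perm (ZMod p × ZMod p) :=
      { toFun := fun v => (v.1, v.2 + 1), invFun := fun v => (v.1, v.2 - 1),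
        left_inv := fun v => by simp, right_inv := fun v => by simp }
    let ρ : Perm (ZMod p × ZMod p) :=
      { toFun := fun v => (v.1 + if v.2 = 0 then 1 else 0, v.2),
        invFun := fun v => (v.1 - if v.2 = 0 then 1 else 0, v.2),
        left_inv := fun v => by simp, right_inv := fun v => by simp }
    have hτ : τ ∈ blockGroup p := ⟨0, 1, fun x y => by simp [τ]⟩
    have hρ : ρ ∈ blockGroup p := ⟨fun y => if y = 0 then 1 else 0, 0, fun x y => by simp [ρ]⟩
    refine not_comm_of_embed e (blockGroup p) (fun σ => ⟨2, Subtype.ext ?_⟩) (fun σ hσ => ?_)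
      ⟨τ, hτ, ρ, hρ, fun h => ?_⟩ S
    · show (σ : Perm (ZMod p × ZMod p)) ^ p ^ 2 = 1
      rw [pow_two]; exact blockGroup_pow p σ.2
    · have h := congrArg Perm.sign (blockGroup_pow p hσ)
      rw [map_pow, map_one] at h
      rcases Int.units_eq_one_or (Perm.sign σ) with hs | hs
      · exact hs
      · rw [hs, hodd.neg_one_pow] at h; exact absurd h (by decide)
    · have := congrArg Prod.fst (Equiv.congr_fun h ((0 : ZMod p), (0 : ZMod p)))
      simp [τ, ρ] at this

end Cfsg.Agent.Perm.AltSylowAbelian
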