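import Mathlib

/-!
# The composition length of a finite group, through subnormal chains
-/

set_option autoImplicit false

namespace Cfsg.Agent.Perm.ChainLength

universe u v

variable {G : Type u} [Group G] {X : Type v} [Group X]

/-- `Chain H l`: a chain `⊥ = K₀ < ⋯ < K_l = H`, each term normal in the next. -/
inductive Chain : Subgroup G → ℕ → Prop
  | bot : Chain ⊥ 0
  | step {K H : Subgroup G} {l : ℕ} : Chain K l → K < H → (K.subgroupOf H).Normal → Chain H (l + 1)

/-- Number of prime factors with multiplicity. -/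
def bigOmega (n : ℕ) : ℕ := n.primeFactorsList.length

theorem bigOmega_mul {a b : ℕ} (ha : a ≠ 0) (hb : b ≠ 0) : bigOmega (a * b) = bigOmega a + bigOmega b := by
  simp [bigOmega, (Nat.perm_primeFactorsList_mul ha hb).length_eq]

theorem bigOmega_le_of_dvd {a b : ℕ} (h : a ∣ b) (hb : b ≠ 0) : bigOmega a ≤ bigOmega b := by
  obtain ⟨c, rfl⟩ := h
  rw [mul_ne_zero_iff] at hb
  rw [bigOmega_mul hb.1 hb.2]
  omega

theorem two_pow_bigOmega_le {n : ℕ} (hn : n ≠ 0) : 2 ^ bigOmega n ≤ n := by
  conv_rhs => rw [← Nat.prod_primeFactorsList hn]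
  exact List.pow_card_le_prod _ 2 fun p hp => (Nat.prime_of_mem_primeFactorsList hp).two_le

theorem Chain.le_bigOmega [Finite G] {H : Subgroup G} {l : ℕ} (h : Chain H l) : l ≤ bigOmega (Nat.card H) := by
  induction h with
  | bot => exact Nat.zero_le _
  | @step K H l _ hlt _ ih =>
    have h1 : Nat.card K * (K.subgroupOf H).index = Nat.card H := by
      rw [← Nat.card_congr (Subgroup.subgroupOfEquivOfLe hlt.le).toEquiv, Subgroup.card_mul_index]
    rw [← h1, bigOmega_mul Nat.card_pos.ne' (Subgroup.index_ne_zero_of_finite)]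
    have h2 : (K.subgroupOf H).index ≠ 1 := by
      rw [Ne, Subgroup.index_eq_one, Subgroup.subgroupOf_eq_top]
      exact hlt.not_ge
    have h3 : 0 < bigOmega (K.subgroupOf H).index := by
      rw [bigOmega, List.length_pos_iff]
      intro h0
      rcases (Nat.primeFactorsList_eq_nil _).mp h0 with h' | h'
      · exact Subgroup.index_ne_zero_of_finite h'
      · exact h2 h'
    omega

theorem normal_subgroupOf_inf {K H : Subgroup G} (h : (K.subgroupOf H).Normal) (N : Subgroup G) :
    ((K ⊓ N).subgroupOf (H ⊓ N)).Normal :=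
  ⟨fun n hn g => ⟨h.conj_mem ⟨n, n.2.1⟩ hn.1 ⟨g, g.2.1⟩, N.mul_mem (N.mul_mem g.2.2 n.2.2) (N.inv_mem g.2.2)⟩⟩

theorem normal_subgroupOf_map {K H : Subgroup G} (hKH : K ≤ H) (h : (K.subgroupOf H).Normal) (f : G →* X) :
    ((K.map f).subgroupOf (H.map f)).Normal := by
  refine ⟨fun n hn g => ?_⟩
  obtain ⟨a, ha, hae⟩ := hn
  obtain ⟨b, hb, hbe⟩ := g.2
  refine ⟨b * a * b⁻¹, h.conj_mem ⟨a, hKH ha⟩ ha ⟨b, hb⟩, ?_⟩
  rw [map_mul, map_mul, map_inv, hae, hbe]
  rfl

theorem normal_subgroupOf_comap {K H : Subgroup X} (h : (K.subgroupOf H).Normal) (f : G →* X) :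
    ((K.comap f).subgroupOf (H.comap f)).Normal :=
  ⟨fun n hn g => by
    have := h.conj_mem ⟨f n, n.2⟩ hn ⟨f g, g.2⟩
    show f (g.1 * n.1 * g.1⁻¹) ∈ K
    rw [map_mul, map_mul, map_inv]
    exact this⟩

theorem Chain.split {H : Subgroup G} {l : ℕ} (h : Chain H l) (f : G →* X) :
    ∃ a b, l ≤ a + b ∧ Chain (H ⊓ f.ker) a ∧ Chain (H.map f) b := by
  induction h with
  | bot => exact ⟨0, 0, le_rfl, by rw [bot_inf_eq]; exact Chain.bot, by rw [Subgroup.map_bot]; exact Chain.bot⟩
  | @step K H l _ hlt hn ih =>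
    obtain ⟨a, b, hab, ha, hb⟩ := ih
    by_cases h1 : K ⊓ f.ker = H ⊓ f.ker
    · have h2 : K.map f < H.map f := by
        refine lt_of_le_of_ne (Subgroup.map_mono hlt.le) fun h2 => hlt.not_ge fun x hx => ?_
        obtain ⟨y, hy, hxy⟩ : f x ∈ K.map f := h2 ▸ Subgroup.mem_map_of_mem f hx
        have hm : y⁻¹ * x ∈ H ⊓ f.ker :=
          ⟨H.mul_mem (H.inv_mem (hlt.le hy)) hx, show f (y⁻¹ * x) = 1 by rw [map_mul, map_inv, hxy, inv_mul_cancel]⟩
        rw [← h1] at hm
        simpa using K.mul_mem hy hm.1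
      exact ⟨a, b + 1, by omega, h1 ▸ ha, hb.step h2 (normal_subgroupOf_map hlt.le hn f)⟩
    · have h2 : K ⊓ f.ker < H ⊓ f.ker := lt_of_le_of_ne (inf_le_inf_right _ hlt.le) h1
      by_cases h3 : K.map f = H.map f
      · exact ⟨a + 1, b, by omega, ha.step h2 (normal_subgroupOf_inf hn _), h3 ▸ hb⟩
      · exact ⟨a + 1, b + 1, by omega, ha.step h2 (normal_subgroupOf_inf hn _),
          hb.step (lt_of_le_of_ne (Subgroup.map_mono hlt.le) h3) (normal_subgroupOf_map hlt.le hn f)⟩

theorem Chain.map {H : Subgroup G} {l : ℕ} (h : Chain H l) {f : G →* X} (hf : Function.Injective f) :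
    Chain (H.map f) l := by
  induction h with
  | bot => rw [Subgroup.map_bot]; exact Chain.bot
  | @step K H l _ hlt hn ih =>
    exact ih.step (lt_of_le_of_ne (Subgroup.map_mono hlt.le) fun h => hlt.ne (Subgroup.map_injective hf h))
      (normal_subgroupOf_map hlt.le hn f)

theorem Chain.comap {B : Subgroup X} {b : ℕ} (h : Chain B b) {f : G →* X} (hf : Function.Surjective f) {a : ℕ}
    (ha : Chain f.ker a) : Chain (B.comap f) (a + b) := by
  induction h with
  | bot => exact ha
  | @step K H l _ hlt hn ih =>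
    exact ih.step (lt_of_le_of_ne (Subgroup.comap_mono hlt.le) fun h => hlt.ne (Subgroup.comap_injective hf h))
      (normal_subgroupOf_comap hn f)

/-- The composition length. -/
noncomputable def cl (G : Type u) [Group G] : ℕ := sSup {l | Chain (⊤ : Subgroup G) l}

theorem le_cl [Finite G] {l : ℕ} (h : Chain (⊤ : Subgroup G) l) : l ≤ cl G :=
  le_csSup ⟨bigOmega (Nat.card (⊤ : Subgroup G)), fun _ h => h.le_bigOmega⟩ h

theorem exists_chain_top (G : Type u) [Group G] [Finite G] : ∃ l, Chain (⊤ : Subgroup G) l := by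
  by_cases h : (⊥ : Subgroup G) = ⊤
  · exact ⟨0, h ▸ Chain.bot⟩
  · exact ⟨1, Chain.bot.step (bot_lt_iff_ne_bot.mpr (Ne.symm h)) inferInstance⟩

theorem chain_cl [Finite G] : Chain (⊤ : Subgroup G) (cl G) :=
  Nat.sSup_mem (exists_chain_top G) ⟨bigOmega (Nat.card (⊤ : Subgroup G)), fun _ h => h.le_bigOmega⟩

theorem cl_le_bigOmega [Finite G] : cl G ≤ bigOmega (Nat.card G) := by
  simpa using (chain_cl (G := G)).le_bigOmega

theorem le_cl_subgroup [Finite G] {H : Subgroup G} {l : ℕ} (h : Chain H l) : l ≤ cl H := by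
  obtain ⟨a, -, -, -, -⟩ := h.split (MonoidHom.id G)
  have key : ∀ {K : Subgroup G} {l : ℕ}, Chain K l → K ≤ H → Chain (K.subgroupOf H) l := by
    intro K l hc
    induction hc with
    | bot => exact fun _ => by rw [Subgroup.bot_subgroupOf]; exact Chain.bot
    | @step K L l _ hlt hn ih =>
      intro hL
      refine (ih (hlt.le.trans hL)).step ?_ (normal_subgroupOf_comap hn H.subtype)
      refine lt_of_le_of_ne (Subgroup.comap_mono hlt.le) fun he => hlt.ne ?_
      have := congrArg (Subgroup.map H.subtype) he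
      rwa [Subgroup.subgroupOf_map_subtype, Subgroup.subgroupOf_map_subtype, inf_eq_left.mpr (hlt.le.trans hL),
        inf_eq_left.mpr hL] at this
  have := key h le_rfl
  rw [Subgroup.subgroupOf_self] at this
  exact le_cl this

theorem cl_le_of_injective [Finite G] [Finite X] {f : G →* X} (hf : Function.Injective f) :
    cl G ≤ cl f.range := by
  have h := (chain_cl (G := G)).map hf
  rw [← MonoidHom.range_eq_map] at h
  exact le_cl_subgroup h

/-- Subadditivity along a homomorphism. -/
theorem cl_le_ker_add_range [Finite G] [Finite X] (f : G →* X) : cl G ≤ cl f.ker + cl f.range := by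
  obtain ⟨a, b, hab, ha, hb⟩ := (chain_cl (G := G)).split f
  rw [top_inf_eq] at ha
  rw [← MonoidHom.range_eq_map] at hb
  have := le_cl_subgroup ha
  have := le_cl_subgroup hb
  omega

theorem cl_le_ker_add [Finite G] [Finite X] {f : G →* X} (hf : Function.Surjective f) :
    cl G ≤ cl f.ker + cl X := by
  obtain ⟨a, b, hab, ha, hb⟩ := (chain_cl (G := G)).split f
  rw [top_inf_eq] at ha
  rw [Subgroup.map_top_of_surjective f hf] at hb
  have := le_cl_subgroup ha
  have := le_cl hb
  omega

theorem ker_add_le_cl [Finite G] [Finite X] {f : G →* X} (hf : Function.Surjective f) :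
    cl f.ker + cl X ≤ cl G := by
  have hk : Chain f.ker (cl f.ker) := by
    have := (chain_cl (G := f.ker)).map f.ker.subtype_injective
    rwa [← MonoidHom.range_eq_map, Subgroup.range_subtype] at this
  have := (chain_cl (G := X)).comap hf hk
  rw [Subgroup.comap_top] at this
  exact le_cl this

theorem cl_eq_of_equiv [Finite G] [Finite X] (e : G ≃* X) : cl G = cl X := by
  have h1 : ∀ {A : Type u} [Group A] {B : Type v} [Group B] [Finite A] [Finite B] (e : A ≃* B), cl A ≤ cl B := by
    intro A _ B _ _ _ e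
    have h := (chain_cl (G := A)).map (f := e.toMonoidHom) e.injective
    rw [Subgroup.map_top_of_surjective _ e.surjective] at h
    exact le_cl h
  refine le_antisymm (h1 e) ?_
  have h := (chain_cl (G := X)).map (f := e.symm.toMonoidHom) e.symm.injective
  rw [Subgroup.map_top_of_surjective _ e.symm.surjective] at h
  exact le_cl h

theorem cl_eq_zero [Finite G] [Subsingleton G] : cl G = 0 := by
  have h := cl_le_bigOmega (G := G)
  have h1 : Nat.card G = 1 := Nat.card_unique
  rw [h1] at h
  simpa [bigOmega] using h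

theorem one_le_cl [Finite G] [Nontrivial G] : 1 ≤ cl G :=
  le_cl (Chain.bot.step (bot_lt_iff_ne_bot.mpr top_ne_bot) inferInstance)

theorem cl_le_one [Finite G] [IsSimpleGroup G] : cl G ≤ 1 := by
  have h := chain_cl (G := G)
  by_contra hc
  push_neg at hc
  generalize hl : cl G = l at h hc
  generalize ht : (⊤ : Subgroup G) = T at h
  cases h with
  | bot => omega
  | @step K H l' hK hlt hn =>
    subst ht
    have hKn : K.Normal := by
      refine ⟨fun x hx g => ?_⟩
      exact hn.conj_mem ⟨x, trivial⟩ hx ⟨g, trivial⟩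
    rcases hKn.eq_bot_or_eq_top with h' | h'
    · subst h'
      have := hK.le_bigOmega
      simp [bigOmega] at this
      omega
    · exact hlt.ne h'

/-- Chains given by functions. -/
theorem chain_of_fun {l : ℕ} (H : Fin (l + 1) → Subgroup G) (h0 : H 0 = ⊥)
    (h : ∀ i : Fin l, H i.castSucc < H i.succ ∧ ((H i.castSucc).subgroupOf (H i.succ)).Normal) :
    ∀ i : Fin (l + 1), Chain (H i) i := by
  intro i
  induction i using Fin.induction with
  | zero => rw [h0]; exact Chain.bot
  | succ i ih =>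
    rw [Fin.val_succ]
    exact ih.step (h i).1 (h i).2

end Cfsg.Agent.Perm.ChainLength
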