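import Mathlib

/-!
A finite check used to exclude 22 Sylow 3-subgroups: no configuration on `ZMod 11 × Fin 2` of two
line orbits under translation, each base line symmetric of size four, is linear with constant
number of common neighbours of the non-neighbours of the origin.
-/

set_option autoImplicit false

namespace Cfsg.Agent.Perm.Comb22

/-- The number with the given binary digits. -/
def mask (f : ℕ → Bool) : ℕ → ℕ
  | 0 => 0
  | n + 1 => mask f n ||| (if f n then 2 ^ n else 0)

theorem testBit_mask (f : ℕ → Bool) (N i : ℕ) : (mask f N).testBit i = (decide (i < N) && f i) := by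
  induction N with
  | zero => simp [mask]
  | succ n ih =>
    rw [mask, Nat.testBit_or, ih]
    rcases Nat.lt_trichotomy i n with h | rfl | h
    · split_ifs <;> simp [h, h.trans (Nat.lt_succ_self n), Nat.testBit_two_pow_of_ne h.ne']
    · split_ifs with hf <;> simp [hf, Nat.testBit_two_pow_self]
    · split_ifs <;> simp [h.not_gt, (show ¬ i < n + 1 by omega), Nat.testBit_two_pow_of_ne h.ne]

theorem mask_lt (f : ℕ → Bool) (N : ℕ) : mask f N < 2 ^ N := by
  refine Nat.lt_pow_two_of_testBit _ fun i hi => ?_
  rw [testBit_mask]
  simp [Nat.not_lt.2 hi]

/-- The number of digits below 22. -/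
def pc (a : ℕ) : ℕ := ((List.range 22).filter fun n => a.testBit n).length

/-- Point `(i, h)` is number `2 i + h`; translation by `k`. -/
def sh (k n : ℕ) : ℕ := 2 * ((n / 2 + 11 - k) % 11) + n % 2

/-- Translate of a line. -/
def tr (a k : ℕ) : ℕ := mask (fun n => a.testBit (sh k n)) 22

/-- Representative of a point modulo negation. -/
def rep (n : ℕ) : ℕ := 2 * (if n / 2 ≤ 5 then n / 2 else 11 - n / 2) + n % 2

/-- The symmetric set with given digits on representatives. -/
def expand (j : ℕ) : ℕ := mask (fun n => j.testBit (rep n)) 22

/-- Two of the translates of `a` and `b` share two points. -/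
def meetBad (a b : ℕ) (from' : ℕ) : Bool :=
  (List.range 11).any fun k => decide (from' ≤ k) && decide (2 ≤ pc (a &&& tr b k))

/-- The neighbourhood of a point. -/
def nbhd (a b x : ℕ) : ℕ :=
  mask (fun n => decide (n ≠ x) && (List.range 11).any fun k =>
    ((tr a k).testBit x && (tr a k).testBit n) || ((tr b k).testBit x && (tr b k).testBit n)) 22

/-- Common neighbour numbers of the origin and its non-neighbours are constant. -/
def muConst (a b : ℕ) : Bool :=
  let n0 := nbhd a b 0
  let l := ((List.range 22).filter fun z => decide (z ≠ 0) && !(n0.testBit z)).map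
    fun z => pc (n0 &&& nbhd a b z)
  l.all fun c => l.all fun c' => decide (c = c')

/-- Candidate base lines. -/
def cands : List ℕ :=
  (((List.range 4096).map expand).filter fun a => decide (pc a = 4)).filter fun a => !(meetBad a a 1)

theorem no_config : (cands.all fun a => cands.all fun b => meetBad a b 0 || !(muConst a b)) = true := by
  decide +kernel

end Cfsg.Agent.Perm.Comb22
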