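import Mathlib
import Cfsg.Agent.Lib.Perm.ChainLength
import Cfsg.Agent.Lib.Perm.CharSimple

/-!
# Composition length and covering radius of subgroups of powers of simple groups
-/

set_option autoImplicit false

namespace Cfsg.Agent.Perm.ChainLength

open scoped commutatorElement

theorem cl_power {T : Type*} [Group T] [Finite T] [IsSimpleGroup T] : ∀ m : ℕ, cl (Fin m → T) ≤ m := by
  intro m
  induction m with
  | zero => simp [cl_eq_zero]
  | succ m ih =>
    rw [← cl_eq_of_equiv (Cfsg.Agent.Perm.piFinSucc T m)]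
    obtain ⟨f, hf⟩ : ∃ f : T × (Fin m → T) →* (Fin m → T), f = MonoidHom.snd T (Fin m → T) := ⟨_, rfl⟩
    have hs : Function.Surjective f := fun y => ⟨(1, y), by rw [hf]; rfl⟩
    subst hf
    have e : (MonoidHom.snd T (Fin m → T)).ker ≃* T :=
      { toFun := fun x => x.1.1
        invFun := fun t => ⟨(t, 1), by rw [MonoidHom.mem_ker]; rfl⟩
        left_inv := fun x => Subtype.ext (Prod.ext rfl (by
          have h := x.2
          rw [MonoidHom.mem_ker] at h
          exact h.symm))
        right_inv := fun t => rfl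
        map_mul' := fun x y => rfl }
    have := cl_le_ker_add hs
    rw [cl_eq_of_equiv e] at this
    have := cl_le_one (G := T)
    omega

/-- A family of maps independent on a group bounds its composition length from below. -/
theorem card_le_cl {ι T : Type*} [Group T] [Finite T] [DecidableEq ι] : ∀ (I : Finset ι) {S : Type*} [Group S] [Finite S] (π : ι → S →* T),
    (∀ J : Finset ι, ∀ i ∈ I, J ⊆ I → i ∉ J → ∃ x, (∀ j ∈ J, π j x = 1) ∧ π i x ≠ 1) → I.card ≤ cl S := by
  intro I
  induction I using Finset.induction with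
  | empty => intros; simp
  | @insert a I ha ih =>
    intro S _ _ π h
    obtain ⟨x, -, hx⟩ := h ∅ a (Finset.mem_insert_self a I) (Finset.empty_subset _) (Finset.notMem_empty a)
    haveI : Nontrivial (π a).range := ⟨⟨⟨π a x, x, rfl⟩, 1, fun e => hx (congrArg Subtype.val e)⟩⟩
    have h1 := one_le_cl (G := (π a).range)
    have h2 := ih (S := (π a).ker) (fun i => (π i).comp (π a).ker.subtype) (fun J i hi hJ hiJ => by
      obtain ⟨y, hy, hy'⟩ := h (insert a J) i (Finset.mem_insert_of_mem hi) (Finset.insert_subset_insert a hJ)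
        (by rw [Finset.mem_insert]; rintro (rfl | h'); exacts [ha hi, hiJ h'])
      exact ⟨⟨y, hy a (Finset.mem_insert_self a J)⟩, fun j hj => hy j (Finset.mem_insert_of_mem hj), hy'⟩)
    have h3 := ker_add_le_cl (f := (π a).rangeRestrict) (π a).rangeRestrict_surjective
    rw [MonoidHom.ker_rangeRestrict] at h3
    rw [Finset.card_insert_of_notMem ha]
    omega

/-- A subdirect subgroup of a power of a non-abelian simple group has large covering radius unless it is long. -/
theorem exists_far {T : Type*} [Group T] [Finite T] [IsSimpleGroup T] (hT : ¬ IsMulCommutative T) {m : ℕ}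
    {S : Type*} [Group S] [Finite S] (π : Fin m → S →* T) (hπ : ∀ i, Function.Surjective (π i)) :
    ∃ x : Fin m → T, ∀ s : S, 3 * m ≤ 3 * cl S + 4 * Nat.card {i : Fin m // x i * π i s ≠ 1} := by
  classical
  have hrep : ∀ i, ∃ c, (π c).ker = (π i).ker ∧ ∀ j, (π j).ker = (π i).ker → c ≤ j := fun i => by
    obtain ⟨c, hc, hmin⟩ := (Finset.univ.filter fun j => (π j).ker = (π i).ker).exists_min_image id ⟨i, by simp⟩
    exact ⟨c, (Finset.mem_filter.mp hc).2, fun j hj => hmin j (Finset.mem_filter.mpr ⟨Finset.mem_univ _, hj⟩)⟩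
  choose c hc hcmin using hrep
  have hceq : ∀ i j, (π i).ker = (π j).ker → c i = c j := fun i j h =>
    le_antisymm (hcmin i _ ((hc j).trans h.symm)) (hcmin j _ ((hc i).trans h))
  let I : Finset (Fin m) := Finset.univ.image c
  have hI : ∀ i ∈ I, ∀ j ∈ I, (π i).ker = (π j).ker → i = j := by
    intro i hi j hj h
    obtain ⟨i', -, rfl⟩ := Finset.mem_image.mp hi
    obtain ⟨j', -, rfl⟩ := Finset.mem_image.mp hj
    exact hceq i' j' ((hc i').symm.trans (h.trans (hc j')))
  have hperfect : commutator T = ⊤ := by
    refine ((commutator T).normal_of_characteristic.eq_bot_or_eq_top).resolve_left fun h => hT ?_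
    refine ⟨⟨fun a b => ?_⟩⟩
    have hm : ⁅a, b⁆ ∈ commutator T := Subgroup.commutator_mem_commutator (Subgroup.mem_top a) (Subgroup.mem_top b)
    rw [h, Subgroup.mem_bot, commutatorElement_eq_one_iff_mul_comm] at hm
    exact hm
  have hstep : ∀ i j, (π j).ker ≠ (π i).ker → (π j).ker.map (π i) = ⊤ := by
    intro i j hne
    rcases ((inferInstance : ((π j).ker).Normal).map (π i) (hπ i)).eq_bot_or_eq_top with h | h
    · exfalso
      rw [Subgroup.map_eq_bot_iff] at h
      rcases ((inferInstance : ((π i).ker).Normal).map (π j) (hπ j)).eq_bot_or_eq_top with h' | h'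
      · rw [Subgroup.map_eq_bot_iff] at h'
        exact hne (le_antisymm h h')
      · obtain ⟨t, ht⟩ := exists_ne (1 : T)
        obtain ⟨u, rfl⟩ := hπ i t
        obtain ⟨y, hy, hyu⟩ : π j u ∈ (π i).ker.map (π j) := h' ▸ Subgroup.mem_top _
        have : u * y⁻¹ ∈ (π i).ker := h (by rw [MonoidHom.mem_ker, map_mul, map_inv, hyu, mul_inv_cancel])
        have h'' : u ∈ (π i).ker := by simpa using Subgroup.mul_mem _ this hy
        exact ht h''
    · exact h
  have hindep : ∀ J : Finset (Fin m), ∀ i, (∀ j ∈ J, (π j).ker ≠ (π i).ker) → (⨅ j ∈ J, (π j).ker).map (π i) = ⊤ := by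
    intro J
    induction J using Finset.induction with
    | empty => intro i _; simpa using Subgroup.map_top_of_surjective (π i) (hπ i)
    | @insert j J hj ih =>
      intro i hne
      rw [Finset.iInf_insert]
      have hA := ih i fun k hk => hne k (Finset.mem_insert_of_mem hk)
      have hB := hstep i j (hne j (Finset.mem_insert_self j J))
      haveI : (⨅ k ∈ J, (π k).ker).Normal :=
        Subgroup.normal_iInf_normal fun k => Subgroup.normal_iInf_normal fun _ => inferInstance
      refine top_le_iff.mp ?_
      rw [← hperfect, commutator_def]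
      conv_lhs => rw [← hB]
      calc ⁅(π j).ker.map (π i), (π j).ker.map (π i)⁆
          ≤ ⁅(π j).ker.map (π i), (⨅ k ∈ J, (π k).ker).map (π i)⁆ := by
            rw [hA]; exact Subgroup.commutator_mono le_rfl le_top
        _ = (⁅(π j).ker, ⨅ k ∈ J, (π k).ker⁆).map (π i) := (Subgroup.map_commutator _ _ _).symm
        _ ≤ _ := Subgroup.map_mono (Subgroup.commutator_le_inf _ _)
  have hlow : I.card ≤ cl S := card_le_cl I π fun J i hi hJ hiJ => by
    obtain ⟨t, ht⟩ := exists_ne (1 : T)
    obtain ⟨x, hx, rfl⟩ : t ∈ (⨅ j ∈ J, (π j).ker).map (π i) := by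
      rw [hindep J i fun j hj h => hiJ (hI i hi j (hJ hj) h.symm ▸ hj)]
      trivial
    exact ⟨x, fun j hj => Subgroup.mem_iInf.mp (Subgroup.mem_iInf.mp hx j) hj, ht⟩
  obtain ⟨v, hv⟩ : ∃ v : Fin 4 → T, Function.Injective v := by
    obtain ⟨a, b, hab⟩ : ∃ a b : T, a * b ≠ b * a := by
      by_contra h
      push_neg at h
      exact hT ⟨⟨h⟩⟩
    refine ⟨![1, a, b, a * b], fun k l hkl => ?_⟩
    have ha : a ≠ 1 := fun h => hab (by simp [h])
    have hb : b ≠ 1 := fun h => hab (by simp [h])
    have hab1 : a * b ≠ 1 := fun h => hab (by rw [h, eq_inv_of_mul_eq_one_left h, mul_inv_cancel])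
    have hne : a ≠ b := fun h => hab (by rw [h])
    have hA' : a ≠ a * b := fun h => hb (by simpa using h)
    have hB' : b ≠ a * b := fun h => ha (by simpa using h)
    fin_cases k <;> fin_cases l <;>
      first
        | rfl
        | (exfalso; simp [ha, hb, hab1, hne, ha.symm, hb.symm, hab1.symm, hne.symm, hA', hB', hA'.symm, hB'.symm] at hkl)
  choose σ hσ using fun (i : Fin m) (t : T) => hπ i t
  let idx : Fin m → ℕ := fun i => (Finset.univ.filter fun j => c j = c i ∧ j < i).card
  refine ⟨fun i => (π i (σ (c i) (v ⟨idx i % 4, Nat.mod_lt _ (by norm_num)⟩)))⁻¹, fun s => ?_⟩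
  obtain ⟨A, hA⟩ : ∃ A : Finset (Fin m), A = Finset.univ.filter fun i =>
      (π i (σ (c i) (v ⟨idx i % 4, Nat.mod_lt _ (by norm_num)⟩)))⁻¹ * π i s = 1 := ⟨_, rfl⟩
  have hAclass : ∀ j ∈ I, 4 * (A.filter fun i => c i = j).card ≤ (Finset.univ.filter fun i => c i = j).card + 3 := by
    intro j _
    obtain ⟨b, hb⟩ : ∃ b, b = (Finset.univ.filter fun i => c i = j).card := ⟨_, rfl⟩
    rw [← hb]
    have hidx : ∀ i, c i = j → idx i < b := fun i hi => by
      rw [hb]
      refine Finset.card_lt_card ?_
      refine ⟨fun k hk => ?_, fun hsub => ?_⟩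
      · simp only [Finset.mem_filter, Finset.mem_univ, true_and] at hk ⊢
        exact hk.1.trans hi
      · have := hsub (show i ∈ Finset.univ.filter fun k => c k = j by simp [hi])
        simp at this
    have hmono : ∀ i i', c i = j → c i' = j → i < i' → idx i < idx i' := fun i i' h h' hlt => by
      refine Finset.card_lt_card ⟨fun k hk => ?_, fun hsub => ?_⟩
      · simp only [Finset.mem_filter, Finset.mem_univ, true_and] at hk ⊢
        exact ⟨hk.1.trans (h.trans h'.symm), hk.2.trans hlt⟩
      · have := hsub (show i ∈ Finset.univ.filter fun k => c k = c i' ∧ k < i' by simp [h, h', hlt])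
        simp at this
    have hagree : ∀ i ∈ A.filter (fun i => c i = j), v ⟨idx i % 4, Nat.mod_lt _ (by norm_num)⟩ = π j s := by
      intro i hi
      simp only [hA, Finset.mem_filter, Finset.mem_univ, true_and, inv_mul_eq_one] at hi
      obtain ⟨h1, h2⟩ := hi
      have h3 : (σ (c i) (v ⟨idx i % 4, Nat.mod_lt _ (by norm_num)⟩))⁻¹ * s ∈ (π (c i)).ker := by
        rw [hc i, MonoidHom.mem_ker, map_mul, map_inv, h1, inv_mul_cancel]
      rw [MonoidHom.mem_ker, map_mul, map_inv, hσ, inv_mul_eq_one] at h3
      rw [← h2]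
      exact h3
    have hcard : (A.filter fun i => c i = j).card ≤ (Finset.range ((b + 3) / 4)).card := by
      refine Finset.card_le_card_of_injOn (fun i => idx i / 4) (fun i hi => ?_) (fun i hi i' hi' h => ?_)
      · have := hidx i (Finset.mem_filter.mp hi).2
        simp only [Finset.coe_range, Set.mem_Iio]
        omega
      · have hm := congrArg Fin.val (hv ((hagree i hi).trans (hagree i' hi').symm))
        simp only at hm h
        rcases lt_trichotomy i i' with hlt | heq | hlt
        · have := hmono i i' (Finset.mem_filter.mp hi).2 (Finset.mem_filter.mp hi').2 hlt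
          omega
        · exact heq
        · have := hmono i' i (Finset.mem_filter.mp hi').2 (Finset.mem_filter.mp hi).2 hlt
          omega
    rw [Finset.card_range] at hcard
    omega
  have h1 : 4 * A.card ≤ m + 3 * I.card := by
    rw [Finset.card_eq_sum_card_fiberwise (f := c) (s := A) (t := I) (fun i _ => Finset.mem_image_of_mem c (Finset.mem_univ i)),
      Finset.mul_sum]
    refine (Finset.sum_le_sum hAclass).trans (le_of_eq ?_)
    rw [Finset.sum_add_distrib, ← Finset.card_eq_sum_card_fiberwise (fun i _ => Finset.mem_image_of_mem c (Finset.mem_univ i)),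
      Finset.card_univ, Fintype.card_fin, Finset.sum_const, smul_eq_mul, mul_comm]
  have h2 : Nat.card {i : Fin m // (π i (σ (c i) (v ⟨idx i % 4, Nat.mod_lt _ (by norm_num)⟩)))⁻¹ * π i s ≠ 1} + A.card = m := by
    rw [Nat.card_eq_fintype_card, Fintype.card_subtype, hA, add_comm]
    exact (Finset.card_filter_add_card_filter_not (s := (Finset.univ : Finset (Fin m))) _).trans (by simp)
  dsimp only
  omega

end Cfsg.Agent.Perm.ChainLength
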