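import Mathlib
import Cfsg.Agent.Lib.Perm.PowerCover
import Cfsg.Agent.Lib.Perm.Primitive
import Cfsg.Agent.Lib.Perm.MinNormal
import Cfsg.Agent.Lib.Spor.LargeProduct
import Cfsg.Agent.Lib.Lie.ExtremelyPrimitive.Main

/-!
# Composition length of permutation groups is at most four thirds of degree minus orbits
-/

set_option autoImplicit false

namespace Cfsg.Agent.Perm.ChainLength

open MulAction
open scoped Pointwise

/-- The bound in degree `n`. -/
def Bound (n : ℕ) : Prop :=
  ∀ (K : Type) [Group K] [Finite K] (α : Type) [Finite α] [MulAction K α] [FaithfulSMul K α], Nat.card α = n →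
    3 * cl K + 4 * Nat.card (Quotient (orbitRel K α)) ≤ 4 * n

theorem image_bound {n : ℕ} (IH : ∀ m < n, Bound m) {K α : Type} [Group K] [Finite K] [Finite α] [MulAction K α]
    (h : Nat.card α < n) :
    3 * cl (MulAction.toPermHom K α).range + 4 * Nat.card (Quotient (orbitRel K α)) ≤ 4 * Nat.card α := by
  haveI : FaithfulSMul (MulAction.toPermHom K α).range α :=
    ⟨fun {x y} hxy => Subtype.ext (Equiv.ext hxy)⟩
  have := IH _ h (MulAction.toPermHom K α).range α rfl
  have e : Nat.card (Quotient (orbitRel (MulAction.toPermHom K α).range α)) = Nat.card (Quotient (orbitRel K α)) := by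
    refine Nat.card_congr (Quotient.congr (Equiv.refl α) fun x y => ?_)
    simp only [Equiv.refl_apply, orbitRel_apply]
    constructor
    · rintro ⟨⟨_, k, rfl⟩, hk⟩; exact ⟨k, hk⟩
    · rintro ⟨k, hk⟩; exact ⟨⟨_, k, rfl⟩, hk⟩
  omega

/-- The step for intransitive groups. -/
theorem intransitive {n : ℕ} (IH : ∀ m < n, Bound m) {K α : Type} [Group K] [Finite K] [Finite α] [MulAction K α]
    [FaithfulSMul K α] (hn : Nat.card α = n) (h2 : 2 ≤ Nat.card (Quotient (orbitRel K α))) :
    3 * cl K + 4 * Nat.card (Quotient (orbitRel K α)) ≤ 4 * n := by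
  classical
  obtain ⟨a⟩ : Nonempty α := by
    obtain ⟨⟨a⟩⟩ : Nonempty (Quotient (orbitRel K α)) := (Nat.card_pos_iff.mp (by omega)).1
    exact ⟨a⟩
  let C : SubMulAction K α :=
    { carrier := (orbit K a)ᶜ
      smul_mem' := fun k x hx h => hx (by rwa [← orbit_eq_iff, orbit_smul, orbit_eq_iff] at h) }
  haveI : Nonempty (orbit K a) := ⟨⟨a, mem_orbit_self a⟩⟩
  have hsum : Nat.card (orbit K a) + Nat.card C = n := by
    rw [← hn, ← Set.ncard_add_ncard_compl (orbit K a), ← Nat.card_coe_set_eq, ← Nat.card_coe_set_eq]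
    rfl
  have hCne : 0 < Nat.card C := by
    rw [Nat.card_pos_iff]
    refine ⟨?_, inferInstance⟩
    by_contra hC
    rw [not_nonempty_iff] at hC
    have : ∀ q : Quotient (orbitRel K α), q = Quotient.mk _ a := fun q => Quotient.inductionOn q fun x =>
      Quotient.sound (show x ∈ orbit K a by
        by_contra hx
        exact hC.false ⟨x, hx⟩)
    have : Subsingleton (Quotient (orbitRel K α)) := ⟨fun q r => (this q).trans (this r).symm⟩
    have := Finite.card_le_one_iff_subsingleton.mpr this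
    omega
  have hOne : 0 < Nat.card (orbit K a) := Nat.card_pos
  obtain ⟨f, hf⟩ : ∃ f, f = MulAction.toPermHom K (orbit K a) := ⟨_, rfl⟩
  have h1 := image_bound IH (K := K) (α := orbit K a) (by omega)
  rw [← hf] at h1
  have h1' : 0 < Nat.card (Quotient (orbitRel K (orbit K a))) :=
    haveI : Nonempty (Quotient (orbitRel K (orbit K a))) := ⟨Quotient.mk _ ⟨a, mem_orbit_self a⟩⟩
    Nat.card_pos
  haveI : FaithfulSMul f.ker C := by
    refine ⟨fun {x y} hxy => Subtype.ext (FaithfulSMul.eq_of_smul_eq_smul (α := α) fun v => ?_)⟩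
    by_cases hv : v ∈ orbit K a
    · have key : ∀ z : f.ker, (z : K) • v = v := fun z => by
        have hz : MulAction.toPermHom K (orbit K a) (z : K) = 1 := by rw [← hf]; exact z.2
        have := Equiv.Perm.congr_fun hz ⟨v, hv⟩
        exact congrArg Subtype.val this
      rw [key, key]
    · exact congrArg Subtype.val (hxy ⟨v, hv⟩)
  have h3 := IH _ (show Nat.card C < n by omega) f.ker C rfl
  have h4 : Nat.card (Quotient (orbitRel K α)) ≤ Nat.card (Quotient (orbitRel f.ker C)) + 1 := by
    let g : Option (Quotient (orbitRel f.ker C)) → Quotient (orbitRel K α) := fun o =>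
      o.elim (Quotient.mk _ a) (Quotient.map' (Subtype.val) fun x y (hxy : x ∈ orbit f.ker y) => by
        obtain ⟨k, rfl⟩ := hxy
        exact ⟨(k : K), rfl⟩)
    have hg : Function.Surjective g := fun q => Quotient.inductionOn q fun x => by
      by_cases hx : x ∈ orbit K a
      · exact ⟨none, (Quotient.sound (show x ∈ orbit K a from hx)).symm⟩
      · exact ⟨some (Quotient.mk _ ⟨x, hx⟩), rfl⟩
    exact (Nat.card_le_card_of_surjective g hg).trans_eq Finite.card_option
  have h5 := cl_le_ker_add_range f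
  omega

/-- The step for imprimitive groups. -/
theorem imprimitive {n : ℕ} (IH : ∀ m < n, Bound m) {K α : Type} [Group K] [Finite K] [Finite α] [MulAction K α]
    [FaithfulSMul K α] [IsPretransitive K α] (hn : Nat.card α = n) {B : Set α} (hB : IsBlock K B)
    (hBt : ¬ IsTrivialBlock B) : 3 * cl K + 4 ≤ 4 * n := by
  classical
  rw [IsTrivialBlock, not_or] at hBt
  obtain ⟨hBs, hBu⟩ := hBt
  rw [Set.not_subsingleton_iff] at hBs
  obtain ⟨a₀, ha₀, a₁, ha₁, hne⟩ := hBs
  choose gx hgx using fun x : α => exists_smul_eq K a₀ x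
  let blk : α → orbit K B := fun x => ⟨gx x • B, mem_orbit B (gx x)⟩
  have hblk : ∀ (g : K) x, x ∈ g • B → gx x • B = g • B := fun g x hx =>
    hB.smul_eq_smul_of_nonempty ⟨x, ⟨a₀, ha₀, hgx x⟩, hx⟩
  have hsurj : Function.Surjective blk := by
    rintro ⟨_, g, rfl⟩
    exact ⟨g • a₀, Subtype.ext (hblk g _ (Set.smul_mem_smul_set ha₀))⟩
  have hblt : Nat.card (orbit K B) < n := by
    rw [← hn]
    refine lt_of_le_of_ne (Nat.card_le_card_of_surjective blk hsurj) fun h => hne ?_
    have hbij : Function.Bijective blk := hsurj.bijective_of_nat_card_le h.ge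
    refine hbij.1 (Subtype.ext ?_)
    show gx a₀ • B = gx a₁ • B
    rw [hblk 1 a₀ (by simpa using ha₀), hblk 1 a₁ (by simpa using ha₁)]
  have hb2 : 2 ≤ Nat.card (orbit K B) := by
    by_contra h
    have hs : Subsingleton (orbit K B) := Finite.card_le_one_iff_subsingleton.mp (by omega)
    refine hBu (Set.eq_univ_of_forall fun x => ?_)
    have := congrArg Subtype.val (Subsingleton.elim (blk x) ⟨B, mem_orbit_self B⟩)
    have hB2 : gx x • B = B := this
    rw [← hB2]
    exact ⟨a₀, ha₀, hgx x⟩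
  obtain ⟨f, hf⟩ : ∃ f, f = MulAction.toPermHom K (orbit K B) := ⟨_, rfl⟩
  have h1 := image_bound IH (K := K) (α := orbit K B) hblt
  rw [← hf] at h1
  have h1' : 0 < Nat.card (Quotient (orbitRel K (orbit K B))) :=
    haveI : Nonempty (Quotient (orbitRel K (orbit K B))) := ⟨Quotient.mk _ ⟨B, mem_orbit_self B⟩⟩
    Nat.card_pos
  have h2 : Nat.card (orbit K B) ≤ Nat.card (Quotient (orbitRel f.ker α)) := by
    refine Nat.card_le_card_of_surjective (Quotient.lift blk fun x y (hxy : x ∈ orbit f.ker y) => ?_)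
      fun o => (hsurj o).elim fun x hx => ⟨Quotient.mk _ x, hx⟩
    obtain ⟨k, rfl⟩ := hxy
    have hk : MulAction.toPermHom K (orbit K B) (k : K) = 1 := by rw [← hf]; exact k.2
    have hkB := congrArg Subtype.val (Equiv.Perm.congr_fun hk (blk y))
    refine Subtype.ext (hblk (gx y) _ ?_)
    rw [show gx y • B = (k : K) • (gx y • B) from hkB.symm]
    exact Set.smul_mem_smul_set ⟨a₀, ha₀, hgx y⟩
  haveI : FaithfulSMul f.ker α := ⟨fun {x y} h => Subtype.ext (FaithfulSMul.eq_of_smul_eq_smul (α := α) h)⟩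
  have h3 := intransitive IH (K := f.ker) (α := α) hn (by omega)
  have h5 := cl_le_ker_add_range f
  omega

theorem card_GL_le (p k : ℕ) [Fact p.Prime] : Nat.card (GL (Fin k) (ZMod p)) ≤ p ^ (k * k) := by
  refine (Nat.card_le_card_of_injective _ Units.val_injective).trans_eq ?_
  simp [Nat.card_eq_fintype_card, Matrix, Fintype.card_fun, ← pow_mul]

theorem bigOmega_168 : bigOmega 168 = 5 := by
  have h := Nat.primeFactorsList_unique (n := 168) (l := [2, 2, 2, 3, 7]) rfl (by
    intro p hp
    fin_cases hp <;> norm_num)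
  simpa [bigOmega] using h.length_eq.symm

/-- The numerical bound for affine groups. -/
theorem affine_arith {p k : ℕ} [Fact p.Prime] (hk : 2 ≤ k) (hex : ¬ (p = 2 ∧ k = 2)) :
    3 * (k + bigOmega (Nat.card (GL (Fin k) (ZMod p)))) + 4 ≤ 4 * p ^ k := by
  have hp2 : 2 ≤ p := (Fact.out : p.Prime).two_le
  have hcard : Nat.card (GL (Fin k) (ZMod p)) ≤ p ^ (k * k) := card_GL_le p k
  have hΩ : bigOmega (Nat.card (GL (Fin k) (ZMod p))) ≤ (p - 1) * (k * k) := by
    refine (Nat.pow_le_pow_iff_right (by norm_num : 1 < 2)).mp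
      (((two_pow_bigOmega_le Nat.card_pos.ne').trans hcard).trans ?_)
    rw [pow_mul 2 (p - 1)]
    refine Nat.pow_le_pow_left ?_ _
    have := Nat.lt_two_pow_self (n := p - 1)
    omega
  rcases Nat.lt_or_ge p 3 with hp | hp
  · obtain rfl : p = 2 := by omega
    rcases Nat.lt_or_ge k 4 with hk4 | hk4
    · obtain rfl : k = 3 := by omega
      have hc : Nat.card (GL (Fin 3) (ZMod 2)) = 168 := by
        rw [Matrix.card_GL_field, Fin.prod_univ_three, ZMod.card]
        norm_num
      rw [hc, bigOmega_168]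
      norm_num
    · have : ∀ j, 4 ≤ j → 3 * (j + j * j) + 4 ≤ 4 * 2 ^ j := by
        intro j hj
        induction j, hj using Nat.le_induction with
        | base => norm_num
        | succ j hj ih => rw [pow_succ]; nlinarith
      have := this k hk4
      omega
  · have h3 : ∀ j, 2 ≤ j → 6 * (j * j) + 3 * j + 4 ≤ 4 * 3 ^ j ∧ 9 ≤ 3 ^ j := by
      intro j hj
      induction j, hj using Nat.le_induction with
      | base => norm_num
      | succ j hj ih => rw [pow_succ]; constructor <;> nlinarith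
    have h4 : ∀ j, (p - 1) * (3 ^ j - 1) ≤ 2 * (p ^ j - 1) := by
      intro j
      have e1 : (p - 1) * ∑ i ∈ Finset.range j, p ^ i = p ^ j - 1 := by
        rw [mul_comm]; exact geom_sum_mul_of_one_le (by omega) j
      have e2 : 2 * ∑ i ∈ Finset.range j, 3 ^ i = 3 ^ j - 1 := by
        have := geom_sum_mul_of_one_le (show 1 ≤ 3 by norm_num) j
        omega
      rw [← e1, ← e2, mul_left_comm]
      exact Nat.mul_le_mul_left _ (Nat.mul_le_mul_left _ (Finset.sum_le_sum fun i _ => Nat.pow_le_pow_left hp i))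
    obtain ⟨h5, h6⟩ := h3 k hk
    have h7 := h4 k
    obtain ⟨P, hP⟩ : ∃ P, p = P + 3 := ⟨p - 3, by omega⟩
    subst hP
    have hpk : 1 ≤ (P + 3) ^ k := Nat.one_le_pow _ _ (by omega)
    obtain ⟨u, hu⟩ : ∃ u, 3 ^ k = u + 1 := ⟨3 ^ k - 1, by omega⟩
    obtain ⟨w, hw⟩ : ∃ w, (P + 3) ^ k = w + 1 := ⟨(P + 3) ^ k - 1, by omega⟩
    rw [hu] at h5 h7
    rw [hw] at h7 ⊢
    simp only [Nat.add_sub_cancel, show P + 3 - 1 = P + 2 by omega] at h7 hΩ
    nlinarith

end Cfsg.Agent.Perm.ChainLength
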