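import Mathlib
import Cfsg.Agent.Lib.Perm.CompositionBound

/-!
# The primitive step of the composition length bound
-/

set_option autoImplicit false

namespace Cfsg.Agent.Perm.ChainLength

open MulAction
open scoped Pointwise

/-- Point stabiliser against quotient by a normal subgroup. -/
theorem cl_step {K : Type} [Group K] [Finite K] (N : Subgroup K) [N.Normal] (H : Subgroup K)
    (hsurj : ∀ g : K, ∃ u ∈ N, u⁻¹ * g ∈ H) :
    cl K + cl (N.subgroupOf H) ≤ cl N + cl H := by
  obtain ⟨f, hf⟩ : ∃ f : H →* K ⧸ N, f = (QuotientGroup.mk' N).comp H.subtype := ⟨_, rfl⟩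
  have hs : Function.Surjective f := fun q => by
    obtain ⟨g, rfl⟩ := QuotientGroup.mk'_surjective N q
    obtain ⟨u, hu, h⟩ := hsurj g
    refine ⟨⟨_, h⟩, ?_⟩
    rw [hf]
    show QuotientGroup.mk' N (u⁻¹ * g) = QuotientGroup.mk' N g
    rw [map_mul, map_inv, show QuotientGroup.mk' N u = 1 from (QuotientGroup.eq_one_iff u).mpr hu, inv_one, one_mul]
  have hk : f.ker = N.subgroupOf H := by
    ext x
    rw [hf, MonoidHom.mem_ker]
    exact QuotientGroup.eq_one_iff _
  have h1 := cl_le_ker_add (QuotientGroup.mk'_surjective N)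
  rw [QuotientGroup.ker_mk'] at h1
  have h2 := ker_add_le_cl hs
  rw [hk] at h2
  omega

/-- The affine case. -/
theorem primitive_abelian {n : ℕ} {K α : Type} [Group K] [Finite K] [Finite α] [MulAction K α]
    [FaithfulSMul K α] [IsPreprimitive K α] (hn : Nat.card α = n) (a : α) {r' : ℕ} (hr : 1 ≤ r')
    (hI : 3 * cl (stabilizer K a) + 4 * r' ≤ 4 * (n - 1)) {N : Subgroup K} (hN : IsMinNormal N)
    (hc : IsMulCommutative N) : 3 * cl K + 4 ≤ 4 * n := by
  classical
  haveI := hN.1
  haveI := Cfsg.Agent.Perm.normal_isPretransitive (G := K) (Ω := α) N hN.2.1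
  have hreg : stabilizer N a = ⊥ := Cfsg.Agent.Perm.stabilizer_eq_bot_of_isMulCommutative hc a
  have hcardn : Nat.card N = n := by rw [← hn, Cfsg.Agent.Perm.card_eq_of_regular a hreg]
  obtain ⟨p, hp, hpow, -, k, hk, hcard⟩ := hN.exists_prime hc
  haveI := Fact.mk hp
  have hclN : cl N ≤ k := by
    have := cl_le_bigOmega (G := N)
    rwa [hcard, bigOmega, hp.primeFactorsList_pow, List.length_replicate] at this
  have hstep := cl_step N (stabilizer K a) fun g => by
    obtain ⟨u, hu⟩ := exists_smul_eq N a (g • a)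
    exact ⟨u, u.2, by rw [mem_stabilizer_iff, mul_smul, ← hu, Subgroup.smul_def, inv_smul_smul]⟩
  obtain rfl : n = p ^ k := hcardn.symm.trans hcard
  rcases Nat.lt_or_ge k 2 with hk2 | hk2
  · obtain rfl : k = 1 := by omega
    have := hp.two_le
    rw [pow_one] at *
    omega
  by_cases hex : p = 2 ∧ k = 2
  · obtain ⟨rfl, rfl⟩ := hex
    norm_num at hI ⊢
    omega
  obtain ⟨φ, hφ⟩ := Cfsg.Agent.Lie.ExtPrim.exists_linear N
    (fun x hx y hy => congrArg Subtype.val (hc.is_comm.comm (⟨x, hx⟩ : N) ⟨y, hy⟩)) hpow hcard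
  have hinj : Function.Injective (φ.comp (stabilizer K a).subtype) := by
    rw [injective_iff_map_eq_one]
    intro g hg
    have hg' : (g : K) ∈ φ.ker := hg
    rw [hφ] at hg'
    exact Subtype.ext (Cfsg.Agent.Perm.eq_one_of_centralizes (M := N) hg' g.2)
  have hGa : cl (stabilizer K a) ≤ bigOmega (Nat.card (GL (Fin k) (ZMod p))) :=
    cl_le_bigOmega.trans (bigOmega_le_of_dvd (Subgroup.card_dvd_of_injective _ hinj) Nat.card_pos.ne')
  have := affine_arith (p := p) hk2 hex
  omega

/-- The case of a non-abelian minimal normal subgroup. -/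
theorem primitive_nonabelian {K α : Type} [Group K] [Finite K] [Finite α] [MulAction K α] [FaithfulSMul K α]
    [IsPreprimitive K α] [Nontrivial α] (a : α) {N : Subgroup K} [N.Normal] (hN : IsMinNormal N)
    [IsPretransitive N α] {T : Type} [Group T] [IsSimpleGroup T] [Finite T] (hT : ¬ IsMulCommutative T) {m : ℕ}
    (e : N ≃* (Fin m → T)) :
    3 * m ≤ 3 * cl (N.subgroupOf (stabilizer K a)) +
      4 * Nat.card (Quotient (orbitRel (stabilizer K a) (SubMulAction.ofStabilizer K a))) := by
  classical
  obtain ⟨t₀, ht₀⟩ := exists_ne (1 : T)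
  obtain ⟨φ, hφ⟩ : ∃ φ : K → ((Fin m → T) ≃* (Fin m → T)), φ = fun g => e.symm.trans ((MulAut.conjNormal g).trans e) :=
    ⟨_, rfl⟩
  have hφK : ∀ g x, ((e.symm (φ g x) : N) : K) = g * (e.symm x : K) * g⁻¹ := fun g x => by
    simp only [hφ, MulEquiv.trans_apply, MulEquiv.symm_apply_apply]
    exact MulAut.conjNormal_apply g (e.symm x)
  have hφinv : ∀ g x, φ g (φ g⁻¹ x) = x := fun g x => e.symm.injective (Subtype.ext (by rw [hφK, hφK]; group))
  choose σ hσb hσoff hσon using fun g => Cfsg.Agent.Spor.Large.auto_perm hT (φ g)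
  obtain ⟨act, hact⟩ : ∃ act : (Fin m → T) → α, act = fun x => (e.symm x : K) • a := ⟨_, rfl⟩
  have hactS : ∀ x y, act (x * y) = (e.symm x : K) • act y := fun x y => by
    simp only [hact, map_mul, Subgroup.coe_mul, mul_smul]
  have hactφ : ∀ g ∈ stabilizer K a, ∀ x, act (φ g x) = g • act x := fun g hg x => by
    simp only [hact, hφK, mul_smul]
    rw [mem_stabilizer_iff.mp (inv_mem hg)]
  have hactsurj : ∀ y, ∃ x, act x = y := fun y => by
    obtain ⟨u, hu⟩ := exists_smul_eq N a y
    exact ⟨e u, by simp only [hact, MulEquiv.symm_apply_apply]; exact hu⟩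
  let S : Subgroup (Fin m → T) := (stabilizer K a).comap (N.subtype.comp e.symm.toMonoidHom)
  have hS : ∀ x, x ∈ S ↔ act x = a := fun x => by rw [hact]; exact Iff.rfl
  have hSφ : ∀ g ∈ stabilizer K a, ∀ x ∈ S, φ g x ∈ S := fun g hg x hx => by
    rw [hS, hactφ g hg, (hS x).mp hx]; exact hg
  let eS : N.subgroupOf (stabilizer K a) ≃* S :=
    { toFun := fun x => ⟨e ⟨(x : stabilizer K a), x.2⟩, by
        show (e.symm (e _) : K) ∈ stabilizer K a
        rw [MulEquiv.symm_apply_apply]; exact x.1.2⟩
      invFun := fun s => ⟨⟨(e.symm s : K), s.2⟩, (e.symm (s : Fin m → T)).2⟩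
      left_inv := fun x => Subtype.ext (Subtype.ext (by simp))
      right_inv := fun s => Subtype.ext (e.apply_symm_apply s)
      map_mul' := fun x y => Subtype.ext (by
        show e _ = e _ * e _
        rw [← map_mul]
        rfl) }
  rw [cl_eq_of_equiv eS]
  -- invariant sets of coordinates
  have hinvset : ∀ I : Set (Fin m), (∀ g ∈ stabilizer K a, ∀ i ∈ I, σ g i ∈ I) → I = ∅ ∨ I = Set.univ := by
    intro I hI
    have hIc : ∀ g ∈ stabilizer K a, ∀ i ∉ I, σ g i ∉ I := by
      intro g hg i hi hmem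
      obtain ⟨⟨j, hj⟩, hje⟩ := (Finite.injective_iff_surjective.mp
        (fun x y h => Subtype.ext ((hσb g).1 (congrArg Subtype.val h)) :
          Function.Injective fun j : I => (⟨σ g j, hI g hg j j.2⟩ : I))) ⟨σ g i, hmem⟩
      exact hi ((hσb g).1 (congrArg Subtype.val hje) ▸ hj)
    let E : Subgroup (Fin m → T) := ⨅ i ∈ Iᶜ, (Pi.evalMonoidHom (fun _ : Fin m => T) i).ker
    have hE : ∀ x, x ∈ E ↔ ∀ i ∉ I, x i = 1 := fun x => by simp [E, Subgroup.mem_iInf]
    let E' : Subgroup K := (E.comap e.toMonoidHom).map N.subtype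
    have hE' : ∀ (u : N), (u : K) ∈ E' ↔ e u ∈ E := fun u =>
      ⟨fun ⟨v, hv, hvu⟩ => by rwa [← Subtype.ext hvu], fun h => ⟨u, h, rfl⟩⟩
    have hn : E'.Normal := by
      refine ⟨fun x hx g => ?_⟩
      obtain ⟨u, hu, rfl⟩ := hx
      obtain ⟨w, hw⟩ := exists_smul_eq N a (g • a)
      have hh : (w : K)⁻¹ * g ∈ stabilizer K a := by
        rw [mem_stabilizer_iff, mul_smul, ← hw, Subgroup.smul_def, inv_smul_smul]
      have h1 : φ ((w : K)⁻¹ * g) (e u) ∈ E := by
        rw [hE]
        intro j hj
        obtain ⟨i, rfl⟩ := (hσb ((w : K)⁻¹ * g)).2 j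
        rw [hσon, (hE (e u)).mp hu i (fun hi => hj (hI _ hh i hi)), Pi.mulSingle_one, map_one]
        rfl
      have h2 : e w * φ ((w : K)⁻¹ * g) (e u) * (e w)⁻¹ ∈ E := by
        rw [hE] at h1 ⊢
        intro j hj
        simp [h1 j hj]
      have h3 : g * (u : K) * g⁻¹ = ((w * e.symm (φ ((w : K)⁻¹ * g) (e u)) * w⁻¹ : N) : K) := by
        simp only [Subgroup.coe_mul, hφK, MulEquiv.symm_apply_apply, Subgroup.coe_inv]
        group
      show g * (u : K) * g⁻¹ ∈ E'
      rw [h3, hE']
      simpa using h2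
    rcases hN.2.2 E' hn (Subgroup.map_subtype_le _) with h | h
    · left
      rw [Set.eq_empty_iff_forall_notMem]
      intro i hi
      have hm : ((e.symm (Pi.mulSingle i t₀) : N) : K) ∈ E' := by
        rw [hE', MulEquiv.apply_symm_apply, hE]
        intro j hj
        exact Pi.mulSingle_eq_of_ne (by rintro rfl; exact hj hi) _
      rw [h, Subgroup.mem_bot, OneMemClass.coe_eq_one, MulEquiv.map_eq_one_iff, Pi.mulSingle_eq_one_iff] at hm
      exact ht₀ hm
    · right
      rw [Set.eq_univ_iff_forall]
      intro i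
      by_contra hi
      have hm : ((e.symm (fun _ => t₀) : N) : K) ∈ E' := by rw [h]; exact (e.symm (fun _ => t₀)).2
      rw [hE', MulEquiv.apply_symm_apply, hE] at hm
      exact ht₀ (hm i hi)
  -- the number of orbits bounds distances
  have horb : ∀ x : Fin m → T, ∀ D : ℕ, (∀ s ∈ S, D ≤ Nat.card {i // x i * s i ≠ 1}) →
      D ≤ Nat.card (Quotient (orbitRel (stabilizer K a) (SubMulAction.ofStabilizer K a))) := by
    intro x D hD
    let supp : (Fin m → T) → ℕ := fun u => Nat.card {i // u i ≠ 1}
    have hsuppφ : ∀ g u, supp (φ g u) = supp u := by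
      intro g u
      refine (Nat.card_congr (Equiv.subtypeEquiv (Equiv.ofBijective _ (hσb g)) fun i => ?_)).symm
      simp only [Equiv.ofBijective_apply]
      constructor
      · intro hu h
        refine hu ?_
        have : φ g (Pi.mulSingle i (u i)) = 1 := funext fun j => by
          by_cases hj : j = σ g i
          · rw [hj, ← hσon]; exact h
          · exact hσoff g i _ j hj
        simpa using this
      · intro h hu
        rw [hσon, hu, Pi.mulSingle_one, map_one] at h
        exact h rfl
    let d : α → ℕ := fun y => sInf {k | ∃ u, act u = y ∧ supp u = k}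
    have hdne : ∀ y, {k | ∃ u, act u = y ∧ supp u = k}.Nonempty := fun y => by
      obtain ⟨u, hu⟩ := hactsurj y; exact ⟨_, u, hu, rfl⟩
    have hdinv : ∀ g ∈ stabilizer K a, ∀ y, d (g • y) = d y := by
      have hle : ∀ g ∈ stabilizer K a, ∀ y, d (g • y) ≤ d y := fun g hg y => by
        obtain ⟨u, hu, hk⟩ := Nat.sInf_mem (hdne y)
        exact Nat.sInf_le ⟨φ g u, by rw [hactφ g hg, hu], by rw [hsuppφ]; exact hk⟩
      intro g hg y
      refine le_antisymm (hle g hg y) ?_
      have := hle g⁻¹ (inv_mem hg) (g • y)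
      rwa [inv_smul_smul] at this
    have hvals : ∀ j : Fin D, ∃ y : SubMulAction.ofStabilizer K a, d y = (j : ℕ) + 1 := by
      intro j
      obtain ⟨u, hu, hk⟩ := Nat.sInf_mem (hdne (act x))
      have hDu : D ≤ supp u := by
        have hs : x⁻¹ * u ∈ S := by
          rw [hS, hactS, hu, hact]
          simp
        have := hD _ hs
        simpa [supp] using this
      obtain ⟨U, hU, hUc⟩ := Finset.exists_subset_card_eq
        (s := Finset.univ.filter fun i => u i ≠ 1) (n := (j : ℕ) + 1) (by
          have h' : supp u = (Finset.univ.filter fun i => u i ≠ 1).card := by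
            simp [supp, Nat.card_eq_fintype_card, Fintype.card_subtype]
          omega)
      let v : Fin m → T := fun i => if i ∈ U then u i else 1
      let w : Fin m → T := fun i => if i ∈ U then 1 else u i
      have hwv : w * v = u := funext fun i => by by_cases h : i ∈ U <;> simp [v, w, h]
      have hvs : supp v = (j : ℕ) + 1 := by
        rw [← hUc]
        simp only [supp, Nat.card_eq_fintype_card, Fintype.card_subtype]
        congr 1
        ext i
        by_cases h : i ∈ U
        · simpa [v, h] using (Finset.mem_filter.mp (hU h)).2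
        · simp [v, h]
      have hsum : supp w + supp v = supp u := by
        simp only [supp, Nat.card_eq_fintype_card, Fintype.card_subtype]
        rw [← Finset.card_union_of_disjoint]
        · congr 1
          ext i
          by_cases h : i ∈ U
          · simp [v, w, h]
          · simp [v, w, h]
        · rw [Finset.disjoint_left]
          intro i h1 h2
          by_cases h : i ∈ U <;> simp [v, w, h] at h1 h2
      have hdv : d (act v) = (j : ℕ) + 1 := by
        refine le_antisymm (Nat.sInf_le ⟨v, rfl, hvs⟩) (le_csInf (hdne _) ?_)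
        rintro k ⟨v', hv', rfl⟩
        have hle : supp u ≤ supp (w * v') := hk.le.trans (Nat.sInf_le ⟨w * v', by rw [hactS, hv', ← hactS, hwv, hu], rfl⟩)
        have hsub : supp (w * v') ≤ supp w + supp v' := by
          simp only [supp, Nat.card_eq_fintype_card, Fintype.card_subtype]
          refine (Finset.card_le_card fun i hi => ?_).trans (Finset.card_union_le _ _)
          simp only [Finset.mem_filter, Finset.mem_univ, true_and, Finset.mem_union, Pi.mul_apply] at hi ⊢
          by_contra h
          push_neg at h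
          exact hi (by rw [h.1, h.2, one_mul])
        omega
      refine ⟨⟨act v, fun h => ?_⟩, hdv⟩
      have h0 : d (act v) ≤ 0 := Nat.sInf_le ⟨1, by
        rw [show act v = a from h, hact]; simp, by simp [supp]⟩
      omega
    choose y hy using hvals
    refine le_of_eq_of_le (Nat.card_fin D).symm (Nat.card_le_card_of_injective (fun j => Quotient.mk _ (y j)) fun i j h => ?_)
    obtain ⟨g, hg⟩ : y i ∈ orbit (stabilizer K a) (y j) := Quotient.exact h
    have hdy := hdinv g g.2 (y j)
    have hval : (g : K) • ((y j : SubMulAction.ofStabilizer K a) : α) = (y i : α) := congrArg Subtype.val hg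
    rw [hval, hy, hy] at hdy
    exact Fin.ext (by omega)
  -- projections
  let R : Fin m → Subgroup T := fun i => S.map (Pi.evalMonoidHom (fun _ : Fin m => T) i)
  have hRmove : ∀ g ∈ stabilizer K a, ∀ i, ∀ t ∈ R i, φ g (Pi.mulSingle i t) (σ g i) ∈ R (σ g i) := by
    rintro g hg i _ ⟨s, hs, rfl⟩
    exact ⟨φ g s, hSφ g hg s hs, hσon g s i⟩
  rcases hinvset {i | R i = ⊥} (fun g hg i hi => by
    show R (σ g i) = ⊥
    rw [eq_bot_iff]
    rintro _ ⟨s', hs', rfl⟩
    rw [Subgroup.mem_bot]
    have h0 : φ g⁻¹ s' i = 1 := Subgroup.mem_bot.mp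
      ((hi : R i = ⊥) ▸ (⟨φ g⁻¹ s', hSφ _ (inv_mem hg) _ hs', rfl⟩ : φ g⁻¹ s' i ∈ R i))
    show s' (σ g i) = 1
    rw [← hφinv g s', hσon, h0, Pi.mulSingle_one, map_one]
    rfl) with hV | hV
  swap
  · -- regular
    have := horb (fun _ => t₀) m (fun s hs => by
      refine le_of_eq (Eq.symm ?_)
      rw [Nat.card_congr (Equiv.subtypeUnivEquiv fun i => ?_), Nat.card_fin]
      have hs' : s i = 1 := Subgroup.mem_bot.mp ((Set.eq_univ_iff_forall.mp hV i : R i = ⊥) ▸
        (⟨s, hs, rfl⟩ : s i ∈ R i))
      simp [hs', ht₀])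
    omega
  rcases hinvset {i | R i = ⊤} (fun g hg i hi => by
    show R (σ g i) = ⊤
    rw [eq_top_iff]
    intro τ _
    obtain ⟨x, hx⟩ := (φ g).surjective (Pi.mulSingle (σ g i) τ)
    have := hRmove g hg i (x i) (by rw [show R i = ⊤ from hi]; trivial)
    rwa [← hσon, hx, Pi.mulSingle_eq_same] at this) with hU | hU
  · -- proper projections
    let P : Subgroup (Fin m → T) := Subgroup.pi Set.univ R
    let P' : Subgroup K := (P.comap e.toMonoidHom).map N.subtype
    have hP' : ∀ (u : N), (u : K) ∈ P' ↔ e u ∈ P := fun u =>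
      ⟨fun ⟨v, hv, hvu⟩ => by rwa [← Subtype.ext hvu], fun h => ⟨u, h, rfl⟩⟩
    have hnorm : stabilizer K a ≤ Subgroup.normalizer (P' : Set K) := by
      intro g hg
      refine Subgroup.mem_normalizer_fintype ?_
      rintro _ ⟨u, hu, rfl⟩
      show g * (u : K) * g⁻¹ ∈ P'
      rw [show g * (u : K) * g⁻¹ = (e.symm (φ g (e u)) : N) by rw [hφK, MulEquiv.symm_apply_apply], hP',
        MulEquiv.apply_symm_apply]
      intro j _
      obtain ⟨i, rfl⟩ := (hσb g).2 j
      rw [hσon]
      exact hRmove g hg i _ (hu i trivial)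
    have hle : P' ≤ stabilizer K a := by
      have hc := IsPreprimitive.isCoatom_stabilizer_of_isPreprimitive K a
      rcases (le_sup_left : stabilizer K a ≤ stabilizer K a ⊔ P').eq_or_lt with h | h
      · exact le_sup_right.trans h.symm.le
      exfalso
      have htop := hc.2 _ h
      rw [sup_comm] at htop
      have hcoe := Subgroup.coe_mul_of_right_le_normalizer_left P' (stabilizer K a) hnorm
      rw [htop] at hcoe
      obtain ⟨i⟩ : Nonempty (Fin m) := by
        by_contra hm
        rw [not_nonempty_iff] at hm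
        obtain ⟨b, hb⟩ := exists_ne a
        obtain ⟨u, hu⟩ := exists_smul_eq N a b
        apply hb
        rw [← hu, show u = 1 from e.injective (Subsingleton.elim _ _), one_smul]
      have : (fun _ => ⊤ : Fin m → Subgroup T) i = R i := by
        refine (top_le_iff.mp fun τ _ => ?_).symm
        obtain ⟨u, hu⟩ : ∃ u : N, e u = Pi.mulSingle i τ := ⟨_, e.apply_symm_apply _⟩
        obtain ⟨p, hp, g, hg, hpg⟩ : (u : K) ∈ (P' : Set K) * (stabilizer K a : Set K) := by
          rw [← hcoe]; trivial
        obtain ⟨v, hv, rfl⟩ := hp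
        have hg' : g = ((v⁻¹ * u : N) : K) := by
          rw [Subgroup.coe_mul, Subgroup.coe_inv, eq_inv_mul_iff_mul_eq]; exact hpg
        have hsS : e (v⁻¹ * u) ∈ S := by
          show ((e.symm (e (v⁻¹ * u)) : N) : K) ∈ stabilizer K a
          rw [MulEquiv.symm_apply_apply, ← hg']; exact hg
        have h2 : e v i * (e (v⁻¹ * u)) i ∈ R i := (R i).mul_mem (hv i trivial) ⟨_, hsS, rfl⟩
        simpa [hu] using h2
      exact Set.notMem_empty i (hU ▸ (this.symm : R i = ⊤))
    have hclS : m ≤ cl S := by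
      have := card_le_cl (Finset.univ : Finset (Fin m)) (fun i => (Pi.evalMonoidHom (fun _ : Fin m => T) i).comp S.subtype)
        (fun J i _ _ hiJ => by
          have hne : R i ≠ ⊥ := fun h => Set.notMem_empty i (hV ▸ h)
          obtain ⟨⟨τ, hτ⟩, hτ1⟩ := (Subgroup.bot_or_exists_ne_one (R i)).resolve_left hne |> fun ⟨τ, hτ, h1⟩ =>
            (⟨⟨τ, hτ⟩, h1⟩ : ∃ τ : R i, (τ : T) ≠ 1)
          have hmem : Pi.mulSingle i τ ∈ S := by
            have hP : Pi.mulSingle i τ ∈ P := fun j _ => by
              by_cases hj : j = i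
              · subst hj; simpa using hτ
              · rw [Pi.mulSingle_eq_of_ne hj]; exact (R j).one_mem
            have h := hle ((hP' (e.symm (Pi.mulSingle i τ))).mpr (by rw [MulEquiv.apply_symm_apply]; exact hP))
            exact h
          exact ⟨⟨_, hmem⟩, fun j hj => Pi.mulSingle_eq_of_ne (M := fun _ : Fin m => T) (fun (h : j = i) => hiJ (h ▸ hj)) τ,
            by simpa using hτ1⟩)
      rwa [Finset.card_univ, Fintype.card_fin] at this
    omega
  · -- subdirect
    obtain ⟨x, hx⟩ := exists_far hT (fun i => (Pi.evalMonoidHom (fun _ : Fin m => T) i).comp S.subtype) fun i τ => by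
      obtain ⟨s, hs, hst⟩ : τ ∈ R i := by rw [show R i = ⊤ from Set.eq_univ_iff_forall.mp hU i]; trivial
      exact ⟨⟨s, hs⟩, hst⟩
    have := horb x ((3 * m - 3 * cl S + 3) / 4) fun s hs => by
      have h := hx ⟨s, hs⟩
      change 3 * m ≤ 3 * cl S + 4 * Nat.card {i : Fin m // x i * s i ≠ 1} at h
      omega
    omega

/-- The step for primitive groups. -/
theorem primitive {n : ℕ} (IH : ∀ m < n, Bound m) {K α : Type} [Group K] [Finite K] [Finite α] [MulAction K α]
    [FaithfulSMul K α] [IsPreprimitive K α] (hn : Nat.card α = n) (h2 : 2 ≤ n) : 3 * cl K + 4 ≤ 4 * n := by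
  classical
  haveI : Nontrivial α := Finite.one_lt_card_iff_nontrivial.mp (by omega)
  obtain ⟨a⟩ : Nonempty α := inferInstance
  haveI : FaithfulSMul (stabilizer K a) (SubMulAction.ofStabilizer K a) := by
    refine ⟨fun {x y} h => Subtype.ext (FaithfulSMul.eq_of_smul_eq_smul (α := α) fun v => ?_)⟩
    by_cases hv : v = a
    · rw [hv, x.2, y.2]
    · exact congrArg Subtype.val (h ⟨v, hv⟩)
  have hcard : Nat.card (SubMulAction.ofStabilizer K a) = n - 1 := by
    rw [← hn]
    have h := Set.ncard_compl ({a} : Set α)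
    rw [Set.ncard_singleton, ← Nat.card_coe_set_eq] at h
    exact h
  have hI := IH (n - 1) (by omega) (stabilizer K a) (SubMulAction.ofStabilizer K a) hcard
  have hr : 1 ≤ Nat.card (Quotient (orbitRel (stabilizer K a) (SubMulAction.ofStabilizer K a))) := by
    obtain ⟨b, hb⟩ := exists_ne a
    haveI : Nonempty (Quotient (orbitRel (stabilizer K a) (SubMulAction.ofStabilizer K a))) := ⟨Quotient.mk _ ⟨b, hb⟩⟩
    exact Nat.card_pos
  haveI : Nontrivial K := by
    by_contra h
    rw [not_nontrivial_iff_subsingleton] at h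
    obtain ⟨b, hb⟩ := exists_ne a
    obtain ⟨g, hg⟩ := exists_smul_eq K a b
    exact hb (by rw [← hg, Subsingleton.elim g 1, one_smul])
  obtain ⟨N, hN⟩ := exists_isMinNormal (G := K)
  haveI := hN.1
  haveI := Cfsg.Agent.Perm.normal_isPretransitive (G := K) (Ω := α) N hN.2.1
  by_cases hc : IsMulCommutative N
  · exact primitive_abelian hn a hr hI hN hc
  obtain ⟨T, _, m, hsimp, hm, ⟨e⟩⟩ := Cfsg.Agent.Perm.minimal_normal_power N hN.2.1 hN.2.2
  haveI := hsimp
  have hT : ¬ IsMulCommutative T := fun h => hc ⟨⟨fun x y => e.injective (funext fun i => by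
    simp only [map_mul, Pi.mul_apply]; exact h.is_comm.comm _ _)⟩⟩
  haveI : Finite T :=
    haveI : Finite (Fin m → T) := Finite.of_equiv _ e.toEquiv
    Finite.of_injective (Function.const (Fin m)) fun x y h => congrFun h ⟨0, hm⟩
  have hclN : cl N ≤ m := by rw [cl_eq_of_equiv e]; exact cl_power m
  have hstep := cl_step N (stabilizer K a) fun g => by
    obtain ⟨u, hu⟩ := exists_smul_eq N a (g • a)
    exact ⟨u, u.2, by rw [mem_stabilizer_iff, mul_smul, ← hu, Subgroup.smul_def, inv_smul_smul]⟩
  have := primitive_nonabelian a hN hT e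
  omega

/-- The bound in every degree. -/
theorem bound (n : ℕ) : Bound n := by
  induction n using Nat.strong_induction_on with
  | _ n IH =>
    intro K _ _ α _ _ _ hn
    classical
    by_cases h1 : n ≤ 1
    · haveI : Subsingleton α := Finite.card_le_one_iff_subsingleton.mp (by omega)
      haveI : Subsingleton K := ⟨fun x y => FaithfulSMul.eq_of_smul_eq_smul (α := α) fun v => Subsingleton.elim _ _⟩
      have h3 : Nat.card (Quotient (orbitRel K α)) ≤ n :=
        hn ▸ Nat.card_le_card_of_surjective (Quotient.mk _) Quotient.mk_surjective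
      rw [cl_eq_zero]
      omega
    by_cases h2 : 2 ≤ Nat.card (Quotient (orbitRel K α))
    · exact intransitive IH hn h2
    haveI : IsPretransitive K α := ⟨fun x y => by
      have hs : Subsingleton (Quotient (orbitRel K α)) := Finite.card_le_one_iff_subsingleton.mp (by omega)
      have : Quotient.mk (orbitRel K α) y = Quotient.mk _ x := Subsingleton.elim _ _
      exact Quotient.exact this⟩
    have hq : Nat.card (Quotient (orbitRel K α)) ≤ 1 := by omega
    by_cases hp : ∃ B : Set α, IsBlock K B ∧ ¬ IsTrivialBlock B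
    · obtain ⟨B, hB, hBt⟩ := hp
      have := imprimitive IH hn hB hBt
      omega
    push_neg at hp
    haveI : IsPreprimitive K α := { isTrivialBlock_of_isBlock := fun {B} hB => hp B hB }
    have := primitive IH (K := K) hn (by omega)
    omega

end Cfsg.Agent.Perm.ChainLength
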