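import Cfsg.Agent.Lib.Solv.Coprime

/-!
# The product of fixed point orders in a coprime action of a p-group
-/

set_option autoImplicit false
set_option linter.style.haveILetI false

open scoped Pointwise

namespace Cfsg.Agent.Perm.CoprimeFixedProduct

open Cfsg.Agent.Solv

universe u v

variable {G : Type u} [Group G]

/-- Number of elements of `V` commuting with the set `B`. -/
noncomputable def cnt (V : Subgroup G) (B : Set G) : ℕ := Nat.card {v : G // v ∈ V ∧ ∀ b ∈ B, b * v = v * b}

theorem cnt_eq_inf (V : Subgroup G) (B : Set G) :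
    cnt V B = Nat.card (V ⊓ Subgroup.centralizer B : Subgroup G) :=
  Nat.card_congr (Equiv.subtypeEquivRight fun v => by
    rw [Subgroup.mem_inf, Subgroup.mem_centralizer_iff])

theorem cnt_pos [Finite G] (V : Subgroup G) (B : Set G) : 0 < cnt V B := by
  rw [cnt_eq_inf]; exact Nat.card_pos

theorem cnt_subgroupOf (X V : Subgroup G) (hV : V ≤ X) (B : Set X) :
    cnt (V.subgroupOf X) B = cnt V (X.subtype '' B) := by
  refine Nat.card_congr
    { toFun := fun v => ⟨v.1, Subgroup.mem_subgroupOf.1 v.2.1, by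
        rintro _ ⟨b, hb, rfl⟩; exact congrArg Subtype.val (v.2.2 b hb)⟩
      invFun := fun v => ⟨⟨v.1, hV v.2.1⟩, Subgroup.mem_subgroupOf.2 v.2.1, fun b hb =>
        Subtype.ext (v.2.2 _ ⟨b, hb, rfl⟩)⟩
      left_inv := fun v => rfl
      right_inv := fun v => rfl }

variable [Finite G] {p : ℕ} [Fact p.Prime]

theorem isPGroup_range {A : Type*} [Group A] [Finite A] (hA : IsPGroup p A) (ι : A →* G) (B : Subgroup A) :
    IsPGroup p (B.map ι) := (hA.to_subgroup B).map ι

/-- Multiplicativity along an invariant normal subgroup. -/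
theorem cnt_quotient {A : Type*} [Group A] [Finite A] (hA : IsPGroup p A) (ι : A →* G) (V W : Subgroup G)
    [W.Normal] (hW : W ≤ V) (hco : (Nat.card V).Coprime p) (hV : ∀ a, ι a ∈ Subgroup.normalizer (V : Set G))
    (B : Subgroup A) :
    cnt V (ι '' B) = cnt W (ι '' B) *
      cnt (V.map (QuotientGroup.mk' W)) ((QuotientGroup.mk' W).comp ι '' B) := by
  set π := QuotientGroup.mk' W with hπ
  set C := V ⊓ Subgroup.centralizer (ι '' B) with hC
  set C' := (V.map π) ⊓ Subgroup.centralizer (π.comp ι '' B) with hC'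
  rw [cnt_eq_inf, cnt_eq_inf, cnt_eq_inf, ← hC, ← hC']
  have himg : C.map π = C' := by
    refine le_antisymm ?_ ?_
    · rintro _ ⟨x, hx, rfl⟩
      refine Subgroup.mem_inf.2 ⟨⟨x, (Subgroup.mem_inf.1 hx).1, rfl⟩, Subgroup.mem_centralizer_iff.2 ?_⟩
      rintro _ ⟨b, hb, rfl⟩
      show π (ι b) * π x = π x * π (ι b)
      rw [← map_mul, ← map_mul, Subgroup.mem_centralizer_iff.1 (Subgroup.mem_inf.1 hx).2 _ ⟨b, hb, rfl⟩]
    · intro q hq
      obtain ⟨⟨x, hxV, rfl⟩, hqc⟩ := Subgroup.mem_inf.1 hq
      have hBp := isPGroup_range hA ι B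
      obtain ⟨k, hk⟩ := IsPGroup.iff_card.1 hBp
      haveI : Group.IsNilpotent (B.map ι) := hBp.isNilpotent
      obtain ⟨c, hc, hcW⟩ := exists_fixed_in_coset' (B.map ι) V W
        (fun y hy => by obtain ⟨b, -, rfl⟩ := hy; exact hV b)
        (by rw [hk]; exact (hco.pow_right k).symm) (Or.inl inferInstance) hW
        (fun y _ => by rw [Subgroup.normalizer_eq_top_iff.2 inferInstance]; trivial) hxV (by
          rintro _ ⟨b, hb, rfl⟩
          rw [← QuotientGroup.eq_one_iff]
          have h1 : π (ι b) * π x = π x * π (ι b) :=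
            Subgroup.mem_centralizer_iff.1 hqc _ ⟨b, hb, rfl⟩
          show π (x⁻¹ * (ι b * x * (ι b)⁻¹)) = 1
          rw [map_mul, map_mul, map_mul, map_inv, map_inv, h1]
          group)
      obtain ⟨hcV, hcc⟩ := Subgroup.mem_inf.1 hc
      refine ⟨c, Subgroup.mem_inf.2 ⟨hcV, ?_⟩, (QuotientGroup.eq.2 hcW).symm⟩
      rw [Subgroup.coe_map] at hcc
      exact hcc
  have h1 : π.ker.relIndex C = Nat.card (C.map π) := Subgroup.relIndex_ker C π
  rw [hπ, QuotientGroup.ker_mk'] at h1
  have h2 : Nat.card (W ⊓ Subgroup.centralizer (ι '' B) : Subgroup G) = Nat.card (W.subgroupOf C) := by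
    refine Nat.card_congr
      { toFun := fun x => ⟨⟨x, Subgroup.mem_inf.2 ⟨hW (Subgroup.mem_inf.1 x.2).1, (Subgroup.mem_inf.1 x.2).2⟩⟩,
          Subgroup.mem_subgroupOf.2 (Subgroup.mem_inf.1 x.2).1⟩
        invFun := fun x => ⟨((x : C) : G), Subgroup.mem_inf.2 ⟨Subgroup.mem_subgroupOf.1 x.2,
          (Subgroup.mem_inf.1 (x : C).2).2⟩⟩
        left_inv := fun x => rfl
        right_inv := fun x => rfl }
  rw [← himg, ← h1, h2]
  exact (Subgroup.card_mul_index _).symm

/-- The statement for one action. -/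
def Bound {A : Type*} [Group A] [Fintype A] (p : ℕ) (ι : A →* G) (V : Subgroup G) : Prop :=
  (∏ a : A, cnt V {ι a}) ^ p ≤ Nat.card V ^ Fintype.card A * cnt V (Set.range ι) ^ ((p - 1) * Fintype.card A)

set_option maxHeartbeats 1000000 in
/-- An irreducible abelian module. -/
theorem bound_irreducible {A : Type*} [Group A] [Fintype A] (hA : IsPGroup p A) (ι : A →* G) (V : Subgroup G)
    [V.Normal] (hab : ∀ x ∈ V, ∀ y ∈ V, x * y = y * x) (hco : (Nat.card V).Coprime p)
    (hirr : ∀ W : Subgroup G, W ≤ V → (∀ a : A, ∀ w ∈ W, ι a * w * (ι a)⁻¹ ∈ W) → W = ⊥ ∨ W = V) :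
    Bound p ι V := by
  classical
  have hp := (Fact.out : p.Prime)
  have hinv : ∀ (B : Subgroup G), (∀ a : A, ∀ b ∈ B, (ι a)⁻¹ * b * ι a ∈ B) →
      V ⊓ Subgroup.centralizer (B : Set G) = ⊥ ∨ V ⊓ Subgroup.centralizer (B : Set G) = V := by
    intro B hB
    refine hirr _ inf_le_left fun a w hw => ?_
    obtain ⟨hwV, hwc⟩ := Subgroup.mem_inf.1 hw
    refine Subgroup.mem_inf.2 ⟨‹V.Normal›.conj_mem w hwV _, Subgroup.mem_centralizer_iff.2 fun b hb => ?_⟩
    have h1 := Subgroup.mem_centralizer_iff.1 hwc _ (hB a b hb)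
    calc b * (ι a * w * (ι a)⁻¹) = ι a * (((ι a)⁻¹ * b * ι a) * w) * (ι a)⁻¹ := by group
      _ = ι a * (w * ((ι a)⁻¹ * b * ι a)) * (ι a)⁻¹ := by rw [h1]
      _ = ι a * w * (ι a)⁻¹ * b := by group
  have hle : ∀ B : Set G, cnt V B ≤ Nat.card V := fun B => by
    rw [cnt_eq_inf]; exact Nat.le_of_dvd Nat.card_pos (Subgroup.card_dvd_of_le inf_le_left)
  rcases hinv ι.range (fun a b hb => ι.range.mul_mem (ι.range.mul_mem (ι.range.inv_mem ⟨a, rfl⟩) hb) ⟨a, rfl⟩) with h0 | h0
  swap
  · -- trivial action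
    have h1 : cnt V (Set.range ι) = Nat.card V := by rw [cnt_eq_inf, ← MonoidHom.coe_range, h0]
    unfold Bound
    rw [h1, ← pow_add, show Fintype.card A + (p - 1) * Fintype.card A = Fintype.card A * p by
      obtain ⟨r, rfl⟩ : ∃ r, p = r + 1 := ⟨p - 1, by have := hp.pos; omega⟩
      simp only [Nat.add_sub_cancel]; ring, pow_mul]
    refine Nat.pow_le_pow_left ((Finset.prod_le_prod' (fun a _ => hle _)).trans_eq ?_) p
    rw [Finset.prod_const, Finset.card_univ]
  by_cases hV1 : V = ⊥
  · have h1 : ∀ B : Set G, cnt V B = 1 := fun B => le_antisymm ((hle B).trans_eq (by rw [hV1, Subgroup.card_bot]))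
      (cnt_pos V B)
    unfold Bound
    simp [h1, Nat.card_pos, Nat.one_le_pow]
  -- kernel of the action
  let K : Subgroup A := (Subgroup.centralizer (V : Set G)).comap ι
  haveI : (Subgroup.centralizer (V : Set G)).Normal := inferInstance
  haveI hKn : K.Normal := inferInstance
  have hKne : K ≠ ⊤ := by
    intro h
    apply hV1
    rw [← h0, eq_comm, inf_eq_left]
    intro v hv
    refine Subgroup.mem_centralizer_iff.2 ?_
    rintro _ ⟨a, rfl⟩
    have : a ∈ K := h ▸ Subgroup.mem_top a
    exact (Subgroup.mem_centralizer_iff.1 this v hv).symm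
  haveI : Nontrivial (A ⧸ K) := QuotientGroup.nontrivial_iff.2 hKne
  have hAK : IsPGroup p (A ⧸ K) := hA.to_quotient K
  haveI := hAK.center_nontrivial
  obtain ⟨zb, hzb⟩ : ∃ zb : Subgroup.center (A ⧸ K), orderOf zb = p := by
    refine exists_prime_orderOf_dvd_card' p ?_
    obtain ⟨k, hk⟩ := IsPGroup.iff_card.1 (hAK.to_subgroup (Subgroup.center (A ⧸ K)))
    rcases Nat.eq_zero_or_pos k with rfl | hk0
    · have := Finite.one_lt_card (α := Subgroup.center (A ⧸ K))
      rw [pow_zero] at hk
      omega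
    · rw [hk]; exact dvd_pow_self p (by omega)
  obtain ⟨z, hz⟩ := QuotientGroup.mk_surjective (zb : A ⧸ K)
  have hcentral : ∀ a : A, a⁻¹ * z * a * z⁻¹ ∈ K := fun a => by
    rw [← QuotientGroup.eq_one_iff, QuotientGroup.mk_mul, QuotientGroup.mk_mul, QuotientGroup.mk_mul,
      QuotientGroup.mk_inv, QuotientGroup.mk_inv, hz, mul_assoc (a : A ⧸ K)⁻¹,
      ← Subgroup.mem_center_iff.1 zb.2 (a : A ⧸ K)]
    group
  have hKact : ∀ k ∈ K, ∀ v ∈ V, ι k * v * (ι k)⁻¹ = v := fun k hk v hv => by
    rw [← Subgroup.mem_centralizer_iff.1 (hk : ι k ∈ Subgroup.centralizer (V : Set G)) v hv, mul_inv_cancel_right]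
  have hzfix : ∀ v ∈ V, ι z * v * (ι z)⁻¹ = v → v = 1 := by
    intro v hv hvz
    let U : Subgroup G :=
      { carrier := {v | v ∈ V ∧ ι z * v * (ι z)⁻¹ = v}
        one_mem' := ⟨V.one_mem, by group⟩
        mul_mem' := fun {a b} ha hb => ⟨V.mul_mem ha.1 hb.1, by
          rw [show ι z * (a * b) * (ι z)⁻¹ = (ι z * a * (ι z)⁻¹) * (ι z * b * (ι z)⁻¹) by group, ha.2, hb.2]⟩
        inv_mem' := fun {a} ha => ⟨V.inv_mem ha.1, by
          rw [show ι z * a⁻¹ * (ι z)⁻¹ = (ι z * a * (ι z)⁻¹)⁻¹ by group, ha.2]⟩ }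
    have hUV : U ≤ V := fun x hx => hx.1
    rcases hirr U hUV (fun a w hw => ⟨‹V.Normal›.conj_mem w hw.1 _, by
      have hk := hKact _ (hcentral a) w hw.1
      rw [map_mul, map_mul, map_mul, map_inv, map_inv] at hk
      have hw2 := hw.2
      calc ι z * (ι a * w * (ι a)⁻¹) * (ι z)⁻¹
          = ι a * (((ι a)⁻¹ * ι z * ι a * (ι z)⁻¹) * (ι z * w * (ι z)⁻¹) *
              ((ι a)⁻¹ * ι z * ι a * (ι z)⁻¹)⁻¹) * (ι a)⁻¹ := by group
        _ = ι a * w * (ι a)⁻¹ := by rw [hw2, hk]⟩) with hU | hU
    · exact Subgroup.mem_bot.1 (hU ▸ (⟨hv, hvz⟩ : v ∈ U))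
    · exfalso
      have h1 : z ∈ K := Subgroup.mem_centralizer_iff.2 fun w hw => by
        have h2 : ι z * w * (ι z)⁻¹ = w := (show w ∈ U from hU ▸ hw).2
        exact (mul_inv_eq_iff_eq_mul.1 h2).symm
      have h3 : zb = 1 := Subtype.ext (by rw [← hz, (QuotientGroup.eq_one_iff z).2 h1]; rfl)
      rw [h3, orderOf_one] at hzb
      exact hp.ne_one hzb.symm
  -- the action as endomorphisms of V
  letI : CommGroup V := { (inferInstance : Group V) with
    mul_comm := fun x y => Subtype.ext (hab x x.2 y y.2) }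
  let φ : A →* MulAut V := (MulAut.conjNormal (H := V)).comp ι
  have hφ : ∀ a v, (φ a v : G) = ι a * v * (ι a)⁻¹ := fun a v => MulAut.conjNormal_apply _ _
  have hφK : ∀ k ∈ K, φ k = 1 := fun k hk => MulEquiv.ext fun v => Subtype.ext (by
    rw [hφ]; exact hKact k hk v v.2)
  have hφz : ∀ a, Commute (φ z) (φ a) := fun a => by
    have := hφK _ (hcentral a)
    rw [map_mul, map_mul, map_mul, map_inv, map_inv, mul_inv_eq_one] at this
    show φ z * φ a = φ a * φ z
    conv_rhs => rw [← this]
    group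
  have hφzp : (φ z) ^ p = 1 := by
    rw [← map_pow]
    refine hφK _ ((QuotientGroup.eq_one_iff _).1 ?_)
    rw [QuotientGroup.mk_pow, hz, ← hzb, ← Subgroup.coe_pow, pow_orderOf_eq_one]
    rfl
  have hφfix : ∀ v : V, φ z v = v → v = 1 := fun v h => Subtype.ext (hzfix v v.2 (by
    rw [← hφ]; rw [h]))
  have key : ∀ x : A, ∏ i : Fin p, cnt V {ι (x * z ^ (i : ℕ))} ≤ Nat.card V := by
    intro x
    let ψ : Fin p → MulAut V := fun i => φ (x * z ^ (i : ℕ))
    have hψc : ∀ i j, Commute (ψ i) (ψ j) := fun i j => by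
      show Commute (φ (x * z ^ (i : ℕ))) (φ (x * z ^ (j : ℕ)))
      rw [map_mul, map_mul, map_pow, map_pow]
      exact ((Commute.refl (φ x)).mul_right ((hφz x).symm.pow_right _)).mul_left
        (((hφz x).pow_left _).mul_right ((Commute.refl (φ z)).pow_pow _ _))
    have hcnt : ∀ i : Fin p, cnt V {ι (x * z ^ (i : ℕ))} = Nat.card {v : V // ψ i v = v} := fun i => by
      refine Nat.card_congr
        { toFun := fun v => ⟨⟨v.1, v.2.1⟩, Subtype.ext (by
            rw [hφ]
            exact mul_inv_eq_iff_eq_mul.2 (v.2.2 _ rfl))⟩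
          invFun := fun v => ⟨v.1.1, v.1.2, fun b hb => by
            rw [Set.mem_singleton_iff] at hb
            subst hb
            have h := congrArg Subtype.val v.2
            rw [hφ] at h
            exact mul_inv_eq_iff_eq_mul.1 h⟩
          left_inv := fun v => rfl
          right_inv := fun v => rfl }
    rw [Finset.prod_congr rfl (fun i _ => hcnt i), ← Nat.card_pi]
    refine Nat.card_le_card_of_injective (fun c : ∀ i, {v : V // ψ i v = v} => ∏ i, (c i).1) ?_
    intro c c' hcc
    funext j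
    apply Subtype.ext
    let o := orderOf (x * z ^ (j : ℕ))
    have hψo : (ψ j) ^ o = 1 := by
      show (φ _) ^ o = 1
      rw [← map_pow, pow_orderOf_eq_one, map_one]
    let N : V →* V := MonoidHom.mk' (fun v => ∏ k ∈ Finset.range o, ((ψ j) ^ k) v) (fun v w => by
      simp only [map_mul, Finset.prod_mul_distrib])
    have hNfix : ∀ v, ψ j (N v) = N v := fun v => by
      show ψ j (∏ k ∈ Finset.range o, ((ψ j) ^ k) v) = ∏ k ∈ Finset.range o, ((ψ j) ^ k) v
      rw [map_prod]
      simp only [← MulAut.mul_apply, ← pow_succ']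
      have h1 := Finset.prod_range_succ' (fun k => ((ψ j) ^ k) v) o
      have h2 := Finset.prod_range_succ (fun k => ((ψ j) ^ k) v) o
      rw [h2] at h1
      rw [hψo, pow_zero] at h1
      exact (mul_right_cancel h1).symm
    have hNother : ∀ i, i ≠ j → ∀ w : {v : V // ψ i v = v}, N w.1 = 1 := by
      intro i hij w
      have h1 : ψ i (N w.1) = N w.1 := by
        show ψ i (∏ k ∈ Finset.range o, ((ψ j) ^ k) w.1) = ∏ k ∈ Finset.range o, ((ψ j) ^ k) w.1
        rw [map_prod]
        refine Finset.prod_congr rfl fun k _ => ?_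
        rw [← MulAut.mul_apply, ((hψc i j).pow_right k).eq, MulAut.mul_apply, w.2]
      have h2 := hNfix w.1
      set u := N w.1
      -- a power of z fixes u
      obtain ⟨d, hd0, hdp, hd⟩ : ∃ d, 0 < d ∧ d < p ∧ ((φ z) ^ d) u = u := by
        rcases lt_trichotomy (i : ℕ) (j : ℕ) with h | h | h
        · refine ⟨(j : ℕ) - (i : ℕ), by omega, by have := j.2; omega, ?_⟩
          have e : ψ j = ψ i * (φ z) ^ ((j : ℕ) - (i : ℕ)) := by
            show φ _ = φ _ * _
            rw [← map_pow, ← map_mul, mul_assoc, ← pow_add, Nat.add_sub_cancel' h.le]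
          rw [e, MulAut.mul_apply] at h2
          conv_rhs at h2 => rw [← h1]
          exact (ψ i).injective h2
        · exact (hij (Fin.ext h)).elim
        · refine ⟨(i : ℕ) - (j : ℕ), by omega, by have := i.2; omega, ?_⟩
          have e : ψ i = ψ j * (φ z) ^ ((i : ℕ) - (j : ℕ)) := by
            show φ _ = φ _ * _
            rw [← map_pow, ← map_mul, mul_assoc, ← pow_add, Nat.add_sub_cancel' h.le]
          rw [e, MulAut.mul_apply] at h1
          conv_rhs at h1 => rw [← h2]
          exact (ψ j).injective h1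
      refine hφfix u ?_
      have hcop : d.Coprime p := ((hp.coprime_iff_not_dvd).2 fun hdd => by
        have := Nat.le_of_dvd hd0 hdd; omega).symm
      obtain ⟨t, ht⟩ := Nat.exists_mul_mod_eq_one_of_coprime hcop hp.one_lt |>.imp fun m hm => hm.2
      have hz' : φ z = ((φ z) ^ d) ^ t := by
        rw [← pow_mul, pow_eq_pow_mod (d * t) hφzp, ht, pow_one]
      rw [hz']
      clear ht hz'
      induction t with
      | zero => rw [pow_zero, MulAut.one_apply]
      | succ t ih => rw [pow_succ, MulAut.mul_apply, hd, ih]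
    have hNself : ∀ w : {v : V // ψ j v = v}, N w.1 = w.1 ^ o := fun w => by
      have h : ∀ k : ℕ, ((ψ j) ^ k) w.1 = w.1 := fun k => by
        induction k with
        | zero => rw [pow_zero, MulAut.one_apply]
        | succ k ih => rw [pow_succ, MulAut.mul_apply, w.2, ih]
      show ∏ k ∈ Finset.range o, ((ψ j) ^ k) w.1 = w.1 ^ o
      rw [Finset.prod_congr rfl (fun k _ => h k), Finset.prod_const, Finset.card_range]
    have hN : ∀ c : ∀ i, {v : V // ψ i v = v}, N (∏ i, (c i).1) = (c j).1 ^ o := fun c => by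
      rw [map_prod, Finset.prod_eq_single j (fun i _ hij => hNother i hij (c i))
        (fun h => (h (Finset.mem_univ j)).elim), hNself]
    have h3 := congrArg N hcc
    rw [hN, hN] at h3
    have hco' : (Nat.card V).Coprime o := by
      obtain ⟨k, hk⟩ := (IsPGroup.iff_orderOf.1 hA) (x * z ^ (j : ℕ))
      show (Nat.card V).Coprime (orderOf _)
      rw [hk]
      exact hco.pow_right k
    exact (powCoprime hco').injective h3
  unfold Bound
  have hcnt0 : cnt V (Set.range ι) = 1 := by rw [cnt_eq_inf, ← MonoidHom.coe_range, h0, Subgroup.card_bot]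
  rw [hcnt0, one_pow, mul_one]
  calc (∏ a : A, cnt V {ι a}) ^ p = ∏ i : Fin p, ∏ a : A, cnt V {ι (a * z ^ (i : ℕ))} := by
        have e : ∀ i : Fin p, ∏ a : A, cnt V {ι (a * z ^ (i : ℕ))} = ∏ a : A, cnt V {ι a} := fun i =>
          Equiv.prod_comp (Equiv.mulRight (z ^ (i : ℕ))) (fun a => cnt V {ι a})
        rw [Finset.prod_congr rfl (fun i _ => e i), Finset.prod_const, Finset.card_univ, Fintype.card_fin]
    _ = ∏ a : A, ∏ i : Fin p, cnt V {ι (a * z ^ (i : ℕ))} := Finset.prod_comm
    _ ≤ ∏ _a : A, Nat.card V := Finset.prod_le_prod' fun a _ => key a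
    _ = Nat.card V ^ Fintype.card A := by rw [Finset.prod_const, Finset.card_univ]

omit [Finite G] in
theorem cnt_congr (V : Subgroup G) {B C : Set G} (hBC : ∀ v ∈ V, (∀ b ∈ B, b * v = v * b) ↔ (∀ b ∈ C, b * v = v * b)) :
    cnt V B = cnt V C :=
  Nat.card_congr (Equiv.subtypeEquivRight fun v => and_congr_right fun hv => hBC v hv)

omit [Finite G] in
theorem cnt_zpowers {A : Type*} [Group A] (ι : A →* G) (V : Subgroup G) (a : A) :
    cnt V (ι '' (Subgroup.zpowers a : Set A)) = cnt V {ι a} := by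
  refine cnt_congr V fun v _ => ⟨fun h b hb => ?_, fun h b hb => ?_⟩
  · rw [Set.mem_singleton_iff] at hb
    subst hb
    exact h _ ⟨a, Subgroup.mem_zpowers a, rfl⟩
  · obtain ⟨c, hc, rfl⟩ := hb
    obtain ⟨k, rfl⟩ := Subgroup.mem_zpowers_iff.1 hc
    rw [map_zpow]
    exact ((show Commute (ι a) v from h _ rfl).zpow_left k).eq

omit [Finite G] in
theorem cnt_range {A : Type*} [Group A] (ι : A →* G) (V : Subgroup G) :
    cnt V (ι '' ((⊤ : Subgroup A) : Set A)) = cnt V (Set.range ι) := by
  rw [Subgroup.coe_top, Set.image_univ]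

theorem bound_qgroup_aux {A : Type v} [Group A] [Fintype A] (hA : IsPGroup p A) (q : ℕ) [Fact q.Prime] :
    ∀ (N : ℕ) {G : Type u} [Group G] [Finite G] (ι : A →* G) (V : Subgroup G), Nat.card V = N →
      IsPGroup q V → (Nat.card V).Coprime p → (∀ a, ι a ∈ Subgroup.normalizer (V : Set G)) → Bound p ι V := by
  intro N
  induction N using Nat.strong_induction_on with
  | _ N ih =>
    -- it is enough to treat the case V ι(A) = G
    suffices h : ∀ {G : Type u} [Group G] [Finite G] (ι : A →* G) (V : Subgroup G), Nat.card V = N → V.Normal →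
        V ⊔ ι.range = ⊤ → IsPGroup q V → (Nat.card V).Coprime p → Bound p ι V by
      intro G _ _ ι V hN hVq hco hV
      set X := V ⊔ ι.range with hX
      let ι' : A →* X := ι.codRestrict X (fun a => le_sup_right (a := V) ⟨a, rfl⟩)
      have hVn : (V.subgroupOf X).Normal := Subgroup.normal_subgroupOf_of_le_normalizer
        (sup_le Subgroup.le_normalizer (by rintro _ ⟨a, rfl⟩; exact hV a))
      have hcV : Nat.card (V.subgroupOf X) = Nat.card V :=
        Nat.card_congr (Subgroup.subgroupOfEquivOfLe le_sup_left).toEquiv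
      have htop : V.subgroupOf X ⊔ ι'.range = ⊤ := by
        refine Subgroup.map_injective X.subtype_injective ?_
        rw [Subgroup.map_sup, Subgroup.map_subgroupOf_eq_of_le le_sup_left, ← MonoidHom.range_eq_map,
          Subgroup.range_subtype, MonoidHom.map_range]
        rfl
      have hb := h ι' (V.subgroupOf X) (hcV.trans hN) hVn htop
        (hVq.of_equiv (Subgroup.subgroupOfEquivOfLe le_sup_left).symm) (hcV.symm ▸ hco)
      unfold Bound at hb ⊢
      rw [hcV, cnt_subgroupOf X V le_sup_left, ← Set.range_comp] at hb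
      simp only [cnt_subgroupOf X V le_sup_left, Set.image_singleton] at hb
      exact hb
    intro G _ _ ι V hN hVn htop hVq hco
    rcases eq_or_ne V ⊥ with hV1 | hV1
    · have h1 : ∀ B : Set G, cnt V B = 1 := fun B => by
        refine le_antisymm ?_ (cnt_pos V B)
        rw [cnt_eq_inf, hV1, bot_inf_eq, Subgroup.card_bot]
      unfold Bound
      rw [Finset.prod_congr rfl (fun a _ => h1 _), h1]
      simp [Nat.one_le_pow]
    obtain ⟨W, ⟨hWn, hWne, hWV⟩, hWmin⟩ := wellFounded_lt.has_min
      {W : Subgroup G | W.Normal ∧ W ≠ ⊥ ∧ W ≤ V} ⟨V, hVn, hV1, le_rfl⟩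
    haveI := hWn
    haveI := hVn
    have hnorm : ∀ a, ι a ∈ Subgroup.normalizer (V : Set G) := fun a => by
      rw [Subgroup.normalizer_eq_top_iff.2 hVn]; trivial
    rcases eq_or_ne W V with hWeq | hWlt
    · -- minimal normal, hence abelian
      subst hWeq
      haveI : Nontrivial W := (Subgroup.nontrivial_iff_ne_bot W).2 hWne
      haveI := hVq.center_nontrivial
      have hZ : ((Subgroup.center W).map W.subtype).Normal := inferInstance
      have hab : (Subgroup.center W).map W.subtype = W := by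
        by_contra hne
        refine hWmin _ ⟨hZ, ?_, Subgroup.map_subtype_le _⟩ (lt_of_le_of_ne (Subgroup.map_subtype_le _) hne)
        rw [ne_eq, Subgroup.map_eq_bot_iff_of_injective _ W.subtype_injective]
        exact (Subgroup.nontrivial_iff_ne_bot _).1 inferInstance
      have hcomm : ∀ x ∈ W, ∀ y ∈ W, x * y = y * x := by
        intro x hx y hy
        rw [← hab] at hx
        obtain ⟨x', hx', rfl⟩ := hx
        exact congrArg Subtype.val (Subgroup.mem_center_iff.1 hx' ⟨y, hy⟩).symm
      refine bound_irreducible hA ι W hcomm hco fun U hU hUA => ?_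
      have hUn : U.Normal := by
        have hle : W ⊔ ι.range ≤ Subgroup.normalizer (U : Set G) := by
          refine sup_le (fun w hw => Subgroup.mem_normalizer_iff.2 fun u => ⟨fun hu => ?_, fun hu => ?_⟩) ?_
          · rwa [hcomm w hw u (hU hu), mul_inv_cancel_right]
          · have hu' : u ∈ W := by
              have := hU hu
              have h2 := W.mul_mem (W.mul_mem (W.inv_mem hw) this) hw
              simpa [mul_assoc] using h2
            rwa [hcomm w hw u hu', mul_inv_cancel_right] at hu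
          · rintro _ ⟨a, rfl⟩
            refine Subgroup.mem_normalizer_iff.2 fun u => ⟨hUA a u, fun hu => ?_⟩
            have := hUA a⁻¹ _ hu
            rw [map_inv] at this
            simpa [mul_assoc] using this
        exact Subgroup.normalizer_eq_top_iff.1 (eq_top_iff.2 (htop ▸ hle))
      by_contra hne
      push Not at hne
      exact hWmin U ⟨hUn, hne.1, hU⟩ (lt_of_le_of_ne hU hne.2)
    · have hlt : Nat.card W < N := by
        rw [← hN]
        by_contra hge
        exact hWlt (Subgroup.eq_of_le_of_card_ge hWV (not_lt.1 hge))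
      set π := QuotientGroup.mk' W with hπ
      have hcardV : Nat.card V = Nat.card W * Nat.card (V.map π) := by
        have h1 : π.ker.relIndex V = Nat.card (V.map π) := Subgroup.relIndex_ker V π
        rw [hπ, QuotientGroup.ker_mk'] at h1
        rw [← h1, ← Subgroup.card_mul_index (W.subgroupOf V),
          Nat.card_congr (Subgroup.subgroupOfEquivOfLe hWV).toEquiv]
        rfl
      have hb1 := ih _ hlt ι W rfl (hVq.to_le hWV) (hco.coprime_dvd_left (Subgroup.card_dvd_of_le hWV))
        (fun a => by rw [Subgroup.normalizer_eq_top_iff.2 hWn]; trivial)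
      have hW1 : 1 < Nat.card W := Subgroup.one_lt_card_iff_ne_bot W |>.2 hWne
      have hb2 := ih (Nat.card (V.map π)) (by
          rw [← hN, hcardV]
          calc Nat.card (V.map π) = 1 * Nat.card (V.map π) := (one_mul _).symm
            _ < Nat.card W * Nat.card (V.map π) := Nat.mul_lt_mul_of_pos_right hW1 Nat.card_pos)
        (π.comp ι) (V.map π) rfl (hVq.map π) (hco.coprime_dvd_left (Subgroup.card_map_dvd _ _))
        (fun a => by
          haveI := hVn.map π (QuotientGroup.mk'_surjective W)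
          rw [Subgroup.normalizer_eq_top_iff.2 inferInstance]; trivial)
      unfold Bound at hb1 hb2 ⊢
      have e1 : ∀ a, cnt V {ι a} = cnt W {ι a} * cnt (V.map π) {π.comp ι a} := fun a => by
        rw [← cnt_zpowers, ← cnt_zpowers, ← cnt_zpowers]
        exact cnt_quotient hA ι V W hWV hco hnorm _
      have e2 : cnt V (Set.range ι) = cnt W (Set.range ι) * cnt (V.map π) (Set.range (π.comp ι)) := by
        rw [← cnt_range, ← cnt_range, ← cnt_range]
        exact cnt_quotient hA ι V W hWV hco hnorm _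
      rw [Finset.prod_congr rfl (fun a _ => e1 a), Finset.prod_mul_distrib, mul_pow, e2, hcardV]
      refine (Nat.mul_le_mul hb1 hb2).trans (le_of_eq ?_)
      simp only [mul_pow]
      ring

/-- The coprime fixed point product bound. -/
theorem bound {A : Type v} [Group A] [Fintype A] (hA : IsPGroup p A) (ι : A →* G) (V : Subgroup G)
    (hco : (Nat.card V).Coprime p) (hV : ∀ a, ι a ∈ Subgroup.normalizer (V : Set G)) : Bound p ι V := by
  classical
  set S := (Nat.card V).primeFactors
  have hAr : IsPGroup p ι.range := hA.of_surjective ι.rangeRestrict ι.rangeRestrict_surjective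
  haveI : Group.IsNilpotent ι.range := hAr.isNilpotent
  have hcop : (Nat.card ι.range).Coprime (Nat.card V) := by
    obtain ⟨k, hk⟩ := IsPGroup.iff_card.1 hAr
    rw [hk]; exact (hco.pow_right k).symm
  have hle : ι.range ≤ Subgroup.normalizer (V : Set G) := by rintro _ ⟨a, rfl⟩; exact hV a
  have hsyl : ∀ q : S, ∃ Q : Subgroup G, IsSylIn (q : ℕ) Q V ∧ ι.range ≤ Subgroup.normalizer (Q : Set G) := fun q => by
    haveI : Fact (q : ℕ).Prime := ⟨Nat.prime_of_mem_primeFactors q.2⟩
    exact exists_invariant_sylow hle hcop (Or.inl inferInstance) q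
  choose Q hQ hQn using hsyl
  have hdec : ∀ n : ℕ, n ∣ Nat.card V → n = ∏ q : S, (q : ℕ) ^ n.factorization q := by
    intro n hn
    have hn0 : n ≠ 0 := fun h => Nat.card_pos.ne' (Nat.eq_zero_of_zero_dvd (h ▸ hn))
    conv_lhs => rw [← Nat.prod_factorization_pow_eq_self hn0]
    rw [Finsupp.prod_of_support_subset _ (s := S) (by
      rw [Nat.support_factorization]; exact Nat.primeFactors_mono hn Nat.card_pos.ne') _ (fun _ _ => pow_zero _)]
    exact (Finset.prod_coe_sort S (fun q => q ^ n.factorization q)).symm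
  have hpart : ∀ (B : Subgroup A) (q : S),
      cnt (Q q) (ι '' B) = (q : ℕ) ^ (cnt V (ι '' B)).factorization q := by
    intro B q
    haveI : Fact (q : ℕ).Prime := ⟨Nat.prime_of_mem_primeFactors q.2⟩
    set R := B.map ι with hR
    have hRr : R ≤ ι.range := by rw [MonoidHom.range_eq_map]; exact Subgroup.map_mono le_top
    have hRn := hRr.trans hle
    have hRco : (Nat.card R).Coprime (Nat.card V) := hcop.coprime_dvd_left (Subgroup.card_dvd_of_le hRr)
    haveI : Group.IsNilpotent R := (hAr.to_le hRr).isNilpotent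
    set C := V ⊓ Subgroup.centralizer (ι '' B) with hC
    rw [cnt_eq_inf, cnt_eq_inf, ← hC]
    obtain ⟨U, hU⟩ := exists_isSylIn (q : ℕ) C
    have hUC := hU.1
    have hUR : R ≤ Subgroup.normalizer (U : Set G) := by
      intro r hr
      refine Subgroup.mem_normalizer_iff.2 fun u => ?_
      have hr' : r ∈ ι '' (B : Set A) := hr
      constructor
      · intro hu
        rw [Subgroup.mem_centralizer_iff.1 (Subgroup.mem_inf.1 (hUC hu)).2 r hr', mul_inv_cancel_right]
        exact hu
      · intro hu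
        have h1 := Subgroup.mem_centralizer_iff.1 (Subgroup.mem_inf.1 (hUC hu)).2 r hr'
        have : r * u * r⁻¹ = u := by
          calc r * u * r⁻¹ = r⁻¹ * (r * (r * u * r⁻¹)) := by group
            _ = r⁻¹ * ((r * u * r⁻¹) * r) := by rw [h1]
            _ = u := by group
        rwa [this] at hu
    obtain ⟨Q', hQ', hUQ', hQ'n⟩ := exists_invariant_sylow_ge hRn hRco (Or.inl inferInstance) U
      (hUC.trans inf_le_left) hU.isPGroup hUR
    obtain ⟨c, hc, hcQ⟩ := invariant_sylow_conj hRn hRco (Or.inl inferInstance) hQ' (hQ q) hQ'n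
      (hRr.trans (hQn q))
    set D := Q q ⊓ Subgroup.centralizer (ι '' B) with hD
    have hcc : c ∈ Subgroup.centralizer (ι '' B) := by
      have h := (Subgroup.mem_inf.1 hc).2
      rwa [hR, Subgroup.coe_map] at h
    have hUD : Nat.card U ≤ Nat.card D := by
      refine Nat.le_of_dvd Nat.card_pos ?_
      rw [← Subgroup.card_map_of_injective (f := (MulAut.conj c).toMonoidHom) (MulAut.conj c).injective]
      refine Subgroup.card_dvd_of_le ?_
      rintro _ ⟨u, hu, rfl⟩
      refine Subgroup.mem_inf.2 ⟨hcQ ▸ ⟨u, hUQ' hu, rfl⟩, ?_⟩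
      exact Subgroup.mul_mem _ (Subgroup.mul_mem _ hcc (Subgroup.mem_inf.1 (hUC hu)).2) (Subgroup.inv_mem _ hcc)
    refine le_antisymm ?_ (hU.2 ▸ hUD)
    obtain ⟨k, hk⟩ := IsPGroup.iff_card.1 (((hQ q).isPGroup).to_le (inf_le_left : D ≤ Q q))
    have hdvd : Nat.card D ∣ Nat.card C :=
      Subgroup.card_dvd_of_le (inf_le_inf_right _ (hQ q).1)
    rw [hk] at hdvd ⊢
    exact Nat.pow_le_pow_right (Fact.out : (q : ℕ).Prime).pos
      (((Fact.out : (q : ℕ).Prime).pow_dvd_iff_le_factorization Nat.card_pos.ne').1 hdvd)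
  have hcnt : ∀ B : Subgroup A, cnt V (ι '' B) = ∏ q : S, cnt (Q q) (ι '' B) := fun B => by
    rw [Finset.prod_congr rfl (fun q _ => hpart B q)]
    refine hdec _ ?_
    rw [cnt_eq_inf]
    exact Subgroup.card_dvd_of_le inf_le_left
  have hVcard : Nat.card V = ∏ q : S, Nat.card (Q q) := by
    rw [Finset.prod_congr rfl (fun q _ => (hQ q).2)]
    exact hdec _ dvd_rfl
  unfold Bound
  have e1 : ∀ a, cnt V {ι a} = ∏ q : S, cnt (Q q) {ι a} := fun a => by
    simp only [← cnt_zpowers]; exact hcnt _
  have e2 : cnt V (Set.range ι) = ∏ q : S, cnt (Q q) (Set.range ι) := by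
    simp only [← cnt_range]; exact hcnt _
  rw [Finset.prod_congr rfl (fun a _ => e1 a), Finset.prod_comm, ← Finset.prod_pow, hVcard, e2,
    ← Finset.prod_pow, ← Finset.prod_pow, ← Finset.prod_mul_distrib]
  refine Finset.prod_le_prod' fun q _ => ?_
  haveI : Fact (q : ℕ).Prime := ⟨Nat.prime_of_mem_primeFactors q.2⟩
  exact bound_qgroup_aux hA q _ ι (Q q) rfl (hQ q).isPGroup
    (hco.coprime_dvd_left (Subgroup.card_dvd_of_le (hQ q).1)) (fun a => hQn q ⟨a, rfl⟩)

end Cfsg.Agent.Perm.CoprimeFixedProduct
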