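import Mathlib

/-!
Orthogonal idempotents attached to the characters of a finite abelian group acting in an algebra.
-/

set_option autoImplicit false
set_option linter.style.haveILetI false

namespace Cfsg.Agent.Perm.WeightIdem

variable {K : Type*} [Field K] {R : Type*} [Ring R] [Algebra K R] {M : Type*} [CommGroup M]
  [Fintype M]

/-- The idempotent of the weight `lam`. -/
noncomputable def idem (f : M →* R) (lam : M →* Kˣ) : R :=
  (Fintype.card M : K)⁻¹ • ∑ m : M, ((lam m⁻¹ : Kˣ) : K) • f m

theorem apply_mul_idem (f : M →* R) (lam : M →* Kˣ) (m : M) :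
    f m * idem f lam = (lam m : K) • idem f lam := by
  rw [idem, mul_smul_comm, smul_comm, Finset.mul_sum, Finset.smul_sum (r := (lam m : K))]
  congr 1
  rw [← Equiv.sum_comp (Equiv.mulLeft m) (fun n => (lam m : K) • ((lam n⁻¹ : Kˣ) : K) • f n)]
  refine Finset.sum_congr rfl fun n _ => ?_
  rw [mul_smul_comm, ← map_mul, Equiv.coe_mulLeft, smul_smul, ← Units.val_mul, ← map_mul,
    mul_inv_rev, mul_comm n⁻¹, ← mul_assoc, mul_inv_cancel, one_mul]

theorem commute_idem (f : M →* R) (lam : M →* Kˣ) {y : R} (hy : ∀ m, Commute y (f m)) :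
    Commute y (idem f lam) :=
  Commute.smul_right (Commute.sum_right _ _ _ fun m _ => Commute.smul_right (hy m) _) _

theorem idem_mul_apply (f : M →* R) (lam : M →* Kˣ) (m : M) :
    idem f lam * f m = (lam m : K) • idem f lam := by
  rw [← apply_mul_idem f lam m]
  exact (commute_idem f lam fun n => (Commute.all m n).map f).eq.symm

theorem idem_mul_idem (f : M →* R) (hM : (Fintype.card M : K) ≠ 0) (lam mu : M →* Kˣ)
    [Decidable (lam = mu)] :
    idem f lam * idem f mu = if lam = mu then idem f lam else 0 := by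
  conv_lhs => rw [idem.eq_def f mu]
  rw [mul_smul_comm, Finset.mul_sum]
  simp only [mul_smul_comm, idem_mul_apply, smul_smul]
  rw [← Finset.sum_smul, smul_smul]
  have hsum : ∑ m : M, ((mu m⁻¹ : Kˣ) : K) * (lam m : K) =
      ∑ m : M, ((Units.coeHom K).comp (lam * mu⁻¹) : M →* K) m := by
    refine Finset.sum_congr rfl fun m _ => ?_
    simp [mul_comm]
  rw [hsum]
  split_ifs with h
  · subst h
    simp [hM]
  · rw [sum_hom_units_eq_zero]
    · simp
    · intro h1
      refine h ?_
      ext m
      have := DFunLike.congr_fun h1 m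
      simp only [MonoidHom.coe_comp, Function.comp_apply, MonoidHom.mul_apply,
        MonoidHom.inv_apply, Units.coeHom_apply, MonoidHom.one_apply] at this
      rw [Units.val_eq_one, mul_inv_eq_one] at this
      rw [this]

theorem idem_sq (f : M →* R) (hM : (Fintype.card M : K) ≠ 0) (lam : M →* Kˣ) :
    idem f lam * idem f lam = idem f lam := by
  classical
  rw [idem_mul_idem f hM, if_pos rfl]

theorem idem_orth (f : M →* R) (hM : (Fintype.card M : K) ≠ 0) {lam mu : M →* Kˣ} (h : lam ≠ mu) :
    idem f lam * idem f mu = 0 := by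
  classical
  rw [idem_mul_idem f hM, if_neg h]

theorem conj_idem (f : M →* R) (lam : M →* Kˣ) (β : M ≃* M) (u : R)
    (hu : ∀ m, u * f m = f (β m) * u) :
    u * idem f lam = idem f (lam.comp β.symm.toMonoidHom) * u := by
  rw [idem, idem, mul_smul_comm, smul_mul_assoc, Finset.mul_sum, Finset.sum_mul]
  congr 1
  rw [← β.toEquiv.sum_comp (fun n => (((lam.comp β.symm.toMonoidHom) n⁻¹ : Kˣ) : K) • f n * u)]
  refine Finset.sum_congr rfl fun n _ => ?_
  simp [hu]

section Complete

variable [IsAlgClosed K]

omit [Algebra K R] in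
theorem enough (hM : (Fintype.card M : K) ≠ 0) :
    HasEnoughRootsOfUnity K (Monoid.exponent M) := by
  haveI : NeZero (Monoid.exponent M : K) := ⟨by
    intro h
    obtain ⟨c, hc⟩ := Group.exponent_dvd_card (G := M)
    refine hM ?_
    rw [hc, Nat.cast_mul, h, zero_mul]⟩
  infer_instance

theorem finite_weights (hM : (Fintype.card M : K) ≠ 0) : Finite (M →* Kˣ) := by
  haveI := enough (M := M) hM
  exact Nat.finite_of_card_ne_zero (by
    rw [CommGroup.card_monoidHom_of_hasEnoughRootsOfUnity]; exact Nat.card_pos.ne')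

theorem sum_idem (f : M →* R) (hM : (Fintype.card M : K) ≠ 0) [Fintype (M →* Kˣ)] :
    ∑ lam : M →* Kˣ, idem f lam = 1 := by
  classical
  haveI := enough (M := M) hM
  simp only [idem]
  rw [← Finset.smul_sum, Finset.sum_comm]
  simp only [← Finset.sum_smul]
  have key : ∀ m : M, (∑ lam : M →* Kˣ, ((lam m⁻¹ : Kˣ) : K)) =
      if m = 1 then (Fintype.card M : K) else 0 := by
    intro m
    split_ifs with h
    · subst h
      simp only [inv_one, map_one, Units.val_one, Finset.sum_const, nsmul_eq_mul, mul_one,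
        Finset.card_univ]
      rw [← Nat.card_eq_fintype_card, CommGroup.card_monoidHom_of_hasEnoughRootsOfUnity,
        Nat.card_eq_fintype_card]
    · obtain ⟨φ, hφ⟩ := CommGroup.exists_apply_ne_one_of_hasEnoughRootsOfUnity M K
        (a := m⁻¹) (inv_ne_one.2 h)
      set S := ∑ lam : M →* Kˣ, ((lam m⁻¹ : Kˣ) : K)
      have h2 : ((φ m⁻¹ : Kˣ) : K) * S = S := by
        rw [Finset.mul_sum]
        conv_rhs => rw [show S = _ from (Equiv.sum_comp (Equiv.mulLeft φ)
          fun lam : M →* Kˣ => ((lam m⁻¹ : Kˣ) : K)).symm]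
        simp
      by_contra hS
      exact hφ (Units.val_eq_one.1 ((mul_eq_right₀ hS).1 h2))
  simp only [key, ite_smul, zero_smul]
  rw [Finset.sum_ite_eq' Finset.univ (1 : M) (fun m => (Fintype.card M : K) • f m),
    if_pos (Finset.mem_univ _), map_one, smul_smul, inv_mul_cancel₀ hM, one_smul]

theorem apply_eq_sum (f : M →* R) (hM : (Fintype.card M : K) ≠ 0) [Fintype (M →* Kˣ)] (m : M) :
    f m = ∑ lam : M →* Kˣ, (lam m : K) • idem f lam := by
  conv_lhs => rw [← mul_one (f m), ← sum_idem (K := K) f hM, Finset.mul_sum]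
  exact Finset.sum_congr rfl fun lam _ => apply_mul_idem f lam m

/-- Two elements agree if they agree on every weight component. -/
theorem ext_idem (f : M →* R) (hM : (Fintype.card M : K) ≠ 0) {a b : R}
    (h : ∀ lam : M →* Kˣ, idem f lam ≠ 0 → a * idem f lam = b * idem f lam) : a = b := by
  haveI := finite_weights (M := M) hM
  haveI := Fintype.ofFinite (M →* Kˣ)
  rw [← mul_one a, ← mul_one b, ← sum_idem (K := K) f hM, Finset.mul_sum, Finset.mul_sum]
  refine Finset.sum_congr rfl fun lam _ => ?_
  by_cases hl : idem f lam = 0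
  · rw [hl, mul_zero, mul_zero]
  · exact h lam hl

end Complete

end Cfsg.Agent.Perm.WeightIdem
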