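import Cfsg.Agent.Lib.Perm.CoprimeS3
import Cfsg.Agent.Lib.Perm.WeightIdem

/-!
An element `x` with `x² + x + 1 = 0` in an algebra centralizes every finite solvable group of units
of order prime to six (and invertible in the field) that it normalizes.
-/

set_option autoImplicit false
set_option linter.style.haveILetI false

open scoped commutatorElement IsMulCommutative

namespace Cfsg.Agent.Perm.CubicFpf

universe u v

variable {K : Type u} [Field K] [IsAlgClosed K] {R : Type v} [Ring R] [Algebra K R]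

/-- `Q` is a finite solvable group of units of order prime to six and invertible in `K`. -/
structure Good (K : Type u) [Field K] (Q : Subgroup Rˣ) : Prop where
  fin : Finite Q
  solv : Group.IsSolvable Q
  cop : (Nat.card Q).Coprime 6
  ne : (Nat.card Q : K) ≠ 0

omit [IsAlgClosed K] [Algebra K R] in
theorem cast_ne_of_dvd {a b : ℕ} (h : a ∣ b) (hb : (b : K) ≠ 0) : (a : K) ≠ 0 := by
  obtain ⟨c, rfl⟩ := h
  intro ha
  rw [Nat.cast_mul, ha, zero_mul] at hb
  exact hb rfl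

omit [IsAlgClosed K] [Algebra K R] in
theorem Good.mono {Q D : Subgroup Rˣ} (hQ : Good K Q) (h : D ≤ Q) : Good K D := by
  haveI := hQ.fin
  haveI := hQ.solv
  exact ⟨Finite.of_injective _ (Subgroup.inclusion_injective h),
    Group.isSolvable_of_isSolvable_injective (Subgroup.inclusion_injective h),
    hQ.cop.coprime_dvd_left (Subgroup.card_dvd_of_le h),
    cast_ne_of_dvd (Subgroup.card_dvd_of_le h) hQ.ne⟩

omit [IsAlgClosed K] [Algebra K R] in
theorem Good.pow3 {Q : Subgroup Rˣ} (hQ : Good K Q) {k : Rˣ} (hk : k ∈ Q) (h : k ^ 3 = 1) :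
    k = 1 := by
  have h1 : (⟨k, hk⟩ : Q) ^ 3 = 1 := Subtype.ext h
  have h2 := Nat.eq_one_of_dvd_coprimes (hQ.cop.coprime_dvd_right (by norm_num : 3 ∣ 6))
    (orderOf_dvd_natCard _) (orderOf_dvd_of_pow_eq_one h1)
  exact congrArg Subtype.val (orderOf_eq_one_iff.1 h2)

omit [IsAlgClosed K] [Algebra K R] in
theorem cube_eq_one {x : Rˣ} (hx : (x : R) * x + x + 1 = 0) : x ^ 3 = 1 := by
  ext
  have h : ((x : R) * x + x + 1) * ((x : R) - 1) = (x : R) * x * x - 1 := by noncomm_ring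
  rw [hx, zero_mul] at h
  rw [Units.val_pow_eq_pow_val, pow_three, Units.val_one, ← mul_assoc]
  exact sub_eq_zero.1 h.symm

/-- If `e` and its conjugates under `x` are orthogonal then `e = 0`. -/
theorem orth_zero {x : Rˣ} (hx : (x : R) * x + x + 1 = 0) {e e' e'' : R} (hee : e * e = e)
    (h1 : (x : R) * e = e' * x) (h2 : (x : R) * e' = e'' * x) (ho1 : e * e' = 0)
    (ho2 : e * e'' = 0) : e = 0 := by
  have ha : e * ((x : R) * e) = 0 := by rw [h1, ← mul_assoc, ho1, zero_mul]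
  have hb : e * ((x : R) * x * e) = 0 := by
    rw [mul_assoc (x : R), h1, ← mul_assoc (x : R), h2, ← mul_assoc, ← mul_assoc, ho2, zero_mul,
      zero_mul]
  have h3 : e * (((x : R) * x + x + 1) * e) = 0 := by rw [hx, zero_mul, mul_zero]
  rw [add_mul, add_mul, mul_add, mul_add, ha, hb, one_mul, hee, zero_add, zero_add] at h3
  exact h3

theorem conj3 {G : Type*} [Group G] (x q : G) :
    x * (x * (x * q * x⁻¹) * x⁻¹) * x⁻¹ = x ^ 3 * q * (x ^ 3)⁻¹ := by
  simp [pow_succ, mul_assoc]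

omit [IsAlgClosed K] [Algebra K R] in
theorem conj_mem_iff {x : Rˣ} {Q : Subgroup Rˣ} (hn : ∀ q ∈ Q, x * q * x⁻¹ ∈ Q) (hx : x ^ 3 = 1)
    {q : Rˣ} : x * q * x⁻¹ ∈ Q ↔ q ∈ Q := by
  refine ⟨fun h => ?_, hn q⟩
  have h2 := hn _ (hn _ h)
  have hi : x⁻¹ = x * x := inv_eq_of_mul_eq_one_right (by rwa [← pow_three])
  rw [conj3, hx] at h2
  simpa using h2

/-- The abelian case. -/
theorem comm_case (Q : Subgroup Rˣ) (hQ : Good K Q) [IsMulCommutative Q] {x : Rˣ}
    (hx : (x : R) * x + x + 1 = 0) (hn : ∀ q ∈ Q, x * q * x⁻¹ ∈ Q) {q : Rˣ} (hq : q ∈ Q) :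
    x * q = q * x := by
  classical
  haveI := hQ.fin
  letI : Fintype Q := Fintype.ofFinite _
  have h3 := cube_eq_one hx
  let c : Q →* Q :=
    { toFun := fun a => ⟨x * a.1 * x⁻¹, hn _ a.2⟩
      map_one' := Subtype.ext (by simp)
      map_mul' := fun a b => Subtype.ext (by simp [mul_assoc]) }
  have hcb : Function.Bijective c := Finite.injective_iff_bijective.1 fun a b h => by
    have := congrArg Subtype.val h
    exact Subtype.ext (mul_left_cancel (mul_right_cancel this))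
  let β : Q ≃* Q := MulEquiv.ofBijective c hcb
  have hβ : ∀ a, β (β (β a)) = a := fun a => Subtype.ext (by
    show x * (x * (x * a.1 * x⁻¹) * x⁻¹) * x⁻¹ = a.1
    rw [conj3, h3]
    simp)
  let f : Q →* R := (Units.coeHom R).comp Q.subtype
  have hM : (Fintype.card Q : K) ≠ 0 := by rw [← Nat.card_eq_fintype_card]; exact hQ.ne
  have hu : ∀ a : Q, (x : R) * f a = f (β a) * x := fun a => by
    show (x : R) * (a.1 : Rˣ) = ((x * a.1 * x⁻¹ : Rˣ) : R) * x
    rw [← Units.val_mul, ← Units.val_mul, inv_mul_cancel_right]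
  have hcomm : ∀ lam : Q →* Kˣ,
      (x : R) * WeightIdem.idem f lam = WeightIdem.idem f lam * x := by
    intro lam
    have c1 := WeightIdem.conj_idem f lam β (x : R) hu
    set lam' := lam.comp β.symm.toMonoidHom with hlam'
    have c2 := WeightIdem.conj_idem f lam' β (x : R) hu
    set lam'' := lam'.comp β.symm.toMonoidHom with hlam''
    by_cases heq : lam = lam'
    · rw [← heq] at c1
      exact c1
    have heq2 : lam ≠ lam'' := by
      intro h
      refine heq (MonoidHom.ext fun a => ?_)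
      have := DFunLike.congr_fun h (β.symm a)
      simp only [hlam'', hlam', MonoidHom.comp_apply, MulEquiv.coe_toMonoidHom] at this ⊢
      rw [this]
      congr 1
      refine β.injective (β.injective (β.injective ?_))
      rw [hβ, β.apply_symm_apply, β.apply_symm_apply, β.apply_symm_apply]
    have hz := orth_zero hx (WeightIdem.idem_sq f hM lam) c1 c2
      (WeightIdem.idem_orth f hM heq) (WeightIdem.idem_orth f hM heq2)
    rw [hz, mul_zero, zero_mul]
  refine Units.ext ?_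
  show (x : R) * f ⟨q, hq⟩ = f ⟨q, hq⟩ * x
  haveI := WeightIdem.finite_weights (M := Q) hM
  haveI := Fintype.ofFinite (Q →* Kˣ)
  rw [WeightIdem.apply_eq_sum (K := K) f hM, Finset.mul_sum, Finset.sum_mul]
  exact Finset.sum_congr rfl fun lam _ => by rw [mul_smul_comm, smul_mul_assoc, hcomm]

omit [IsAlgClosed K] [Algebra K R] in
theorem commutator_lt {G : Type v} [Group G] {Q : Subgroup G} [Group.IsSolvable Q] (h : Q ≠ ⊥) :
    ⁅Q, Q⁆ < Q := by
  haveI : Nontrivial Q := Q.nontrivial_iff_ne_bot.2 h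
  have h1 := Group.IsSolvable.commutator_lt_top_of_nontrivial Q
  refine lt_of_le_of_ne (Subgroup.commutator_le_self Q) fun e => h1.ne ?_
  refine Subgroup.map_injective Q.subtype_injective ?_
  rw [Subgroup.map_subtype_commutator, e, ← MonoidHom.range_eq_map, Subgroup.range_subtype]

omit [IsAlgClosed K] [Algebra K R] in
theorem conj_commutator_mem {x : Rˣ} {Q : Subgroup Rˣ} (hn : ∀ q ∈ Q, x * q * x⁻¹ ∈ Q) :
    ∀ q ∈ ⁅Q, Q⁆, x * q * x⁻¹ ∈ ⁅Q, Q⁆ := by
  intro q hq
  have : ⁅Q, Q⁆ ≤ Subgroup.comap (MulAut.conj x).toMonoidHom ⁅Q, Q⁆ := by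
    rw [Subgroup.commutator_le]
    intro a ha b hb
    rw [Subgroup.mem_comap, map_commutatorElement]
    exact Subgroup.commutator_mem_commutator (hn a ha) (hn b hb)
  exact this hq

/-- The sum of the conjugates of `X`, cut by `e`. -/
noncomputable def avg (Q : Subgroup Rˣ) [Fintype Q] (e : R) (X : R) : R :=
  ∑ q : Q, ((q.1 : Rˣ) : R) * X * ((q.1⁻¹ : Rˣ) : R) * e

omit [IsAlgClosed K] [Algebra K R] in
theorem avg_add (Q : Subgroup Rˣ) [Fintype Q] (e X Y : R) :
    avg Q e (X + Y) = avg Q e X + avg Q e Y := by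
  simp only [avg, mul_add, add_mul, Finset.sum_add_distrib]

omit [IsAlgClosed K] [Algebra K R] in
theorem avg_conj (Q : Subgroup Rˣ) [Fintype Q] (e X : R) {g : Rˣ} (hg : g ∈ Q) :
    avg Q e ((g : R) * X * ((g⁻¹ : Rˣ) : R)) = avg Q e X := by
  simp only [avg]
  rw [← Equiv.sum_comp (Equiv.mulRight (⟨g, hg⟩ : Q))
    (fun q : Q => ((q.1 : Rˣ) : R) * X * ((q.1⁻¹ : Rˣ) : R) * e)]
  refine Finset.sum_congr rfl fun q _ => ?_
  simp [mul_assoc]

omit [IsAlgClosed K] [Algebra K R] in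
theorem avg_one (Q : Subgroup Rˣ) [Fintype Q] (e : R) :
    avg Q e 1 = Fintype.card Q • e := by
  simp [avg]

/-- **The cubic lemma.** -/
theorem centralizes : ∀ (n : ℕ) (Q : Subgroup Rˣ), Nat.card Q = n → Good K Q → ∀ (x : Rˣ),
    (x : R) * x + x + 1 = 0 → (∀ q ∈ Q, x * q * x⁻¹ ∈ Q) → ∀ q ∈ Q, x * q = q * x := by
  classical
  intro n
  induction n using Nat.strong_induction_on with
  | _ n ih =>
  intro Q hn hQ x hx hnorm q₀ hq₀
  have IH : ∀ D : Subgroup Rˣ, D < Q → (∀ q ∈ D, x * q * x⁻¹ ∈ D) → ∀ q ∈ D, x * q = q * x := by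
    intro D hD hDn
    haveI := hQ.fin
    refine ih _ ?_ D rfl (hQ.mono hD.le) x hx hDn
    rw [← hn]
    refine lt_of_le_of_ne (Subgroup.card_le_of_le hD.le) fun e => hD.ne ?_
    exact Subgroup.eq_of_le_of_card_ge hD.le e.ge
  by_cases hab : ∀ a ∈ Q, ∀ b ∈ Q, a * b = b * a
  · haveI : IsMulCommutative Q := ⟨⟨fun a b => Subtype.ext (hab _ a.2 _ b.2)⟩⟩
    exact comm_case Q hQ hx hnorm hq₀
  haveI := hQ.fin
  haveI := hQ.solv
  have hne : Q ≠ ⊥ := by
    intro h
    exact hab fun a ha b hb => by rw [(Q.eq_bot_iff_forall.1 h) a ha, (Q.eq_bot_iff_forall.1 h) b hb]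
  have h3 := cube_eq_one hx
  set D := ⁅Q, Q⁆ with hD
  have hDQ : D ≤ Q := (commutator_lt hne).le
  have hDfix := IH D (commutator_lt hne) (conj_commutator_mem hnorm)
  have hDn : ∀ g ∈ Q, ∀ d ∈ D, g * d * g⁻¹ ∈ D := by
    intro g hg d hd
    have h1 : ⁅g, d⁆ ∈ D := Subgroup.commutator_mem_commutator hg (hDQ hd)
    have := D.mul_mem h1 hd
    simpa [commutatorElement_def, mul_assoc] using this
  by_cases hDc : ∀ g ∈ Q, ∀ d ∈ D, g * d = d * g
  swap
  · set C : Subgroup Rˣ := Q ⊓ Subgroup.centralizer (D : Set Rˣ) with hC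
    have hClt : C < Q := lt_of_le_of_ne inf_le_left fun e => hDc fun g hg d hd => by
      rw [← e] at hg
      exact (Subgroup.mem_centralizer_iff.1 hg.2 d hd).symm
    have hCn : ∀ c ∈ C, x * c * x⁻¹ ∈ C := by
      rintro c ⟨hc1, hc2⟩
      refine ⟨hnorm c hc1, Subgroup.mem_centralizer_iff.2 fun d hd => ?_⟩
      have e1 := Subgroup.mem_centralizer_iff.1 hc2 d hd
      have e2 : d = x * d * x⁻¹ := by rw [hDfix d hd, mul_inv_cancel_right]
      calc d * (x * c * x⁻¹) = x * d * x⁻¹ * (x * c * x⁻¹) := by rw [← e2]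
        _ = x * (d * c) * x⁻¹ := by group
        _ = x * (c * d) * x⁻¹ := by rw [e1]
        _ = x * c * x⁻¹ * (x * d * x⁻¹) := by group
        _ = x * c * x⁻¹ * d := by rw [← e2]
    have hCfix := IH C hClt hCn
    set g := q₀ with hg0
    have hg : g ∈ Q := hq₀
    set k := g⁻¹ * (x * g * x⁻¹) with hk
    have hkC : k ∈ C := by
      refine ⟨Q.mul_mem (Q.inv_mem hg) (hnorm g hg), Subgroup.mem_centralizer_iff.2 fun d hd => ?_⟩
      have e2 : d = x * d * x⁻¹ := by rw [hDfix d hd, mul_inv_cancel_right]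
      have e3 : g * d * g⁻¹ = x * (g * d * g⁻¹) * x⁻¹ := by
        rw [hDfix _ (hDn g hg d hd), mul_inv_cancel_right]
      calc d * k = g⁻¹ * (g * d * g⁻¹) * (x * g * x⁻¹) := by rw [hk]; group
        _ = g⁻¹ * (x * (g * d * g⁻¹) * x⁻¹) * (x * g * x⁻¹) := by rw [← e3]
        _ = k * (x * d * x⁻¹) := by rw [hk]; group
        _ = k * d := by rw [← e2]
    have hxk : x * k * x⁻¹ = k := by rw [hCfix k hkC, mul_inv_cancel_right]
    have a1 : x * g * x⁻¹ = g * k := by rw [hk]; group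
    have a3 : g = g * k ^ 3 := by
      calc g = x * (x * (x * g * x⁻¹) * x⁻¹) * x⁻¹ := by
            rw [conj3, h3]
            simp
        _ = x * (x * (g * k) * x⁻¹) * x⁻¹ := by rw [a1]
        _ = x * ((x * g * x⁻¹) * (x * k * x⁻¹)) * x⁻¹ := by group
        _ = x * (g * k * k) * x⁻¹ := by rw [a1, hxk]
        _ = (x * g * x⁻¹) * (x * k * x⁻¹) * (x * k * x⁻¹) := by group
        _ = g * k * k * k := by rw [a1, hxk]
        _ = g * k ^ 3 := by simp [pow_succ, mul_assoc]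
    have hk1 := hQ.pow3 hkC.1 (mul_eq_left.1 a3.symm)
    rw [hk1, mul_one] at a1
    exact mul_inv_eq_iff_eq_mul.1 a1
  set Z : Subgroup Rˣ := Q ⊓ Subgroup.centralizer (Q : Set Rˣ) with hZ
  have hDZ : D ≤ Z := fun d hd => ⟨hDQ hd, Subgroup.mem_centralizer_iff.2 fun g hg => hDc g hg d hd⟩
  have hZlt : Z < Q := lt_of_le_of_ne inf_le_left fun e => hab fun a ha b hb => by
    rw [← e] at ha
    exact (Subgroup.mem_centralizer_iff.1 ha.2 b hb).symm
  have hZn : ∀ z ∈ Z, x * z * x⁻¹ ∈ Z := by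
    rintro z ⟨hz1, hz2⟩
    refine ⟨hnorm z hz1, Subgroup.mem_centralizer_iff.2 fun g hg => ?_⟩
    have hg2 : x⁻¹ * g * x ∈ Q := by
      rw [← conj_mem_iff hnorm h3, show x * (x⁻¹ * g * x) * x⁻¹ = g by group]
      exact hg
    have e1 := Subgroup.mem_centralizer_iff.1 hz2 _ hg2
    calc g * (x * z * x⁻¹) = x * (x⁻¹ * g * x * z) * x⁻¹ := by group
      _ = x * (z * (x⁻¹ * g * x)) * x⁻¹ := by rw [e1]
      _ = x * z * x⁻¹ * g := by group
  have hZfix := IH Z hZlt hZn
  haveI : Finite Z := (hQ.mono hZlt.le).fin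
  letI : Fintype Z := Fintype.ofFinite _
  letI : Fintype Q := Fintype.ofFinite _
  haveI : IsMulCommutative Z :=
    ⟨⟨fun a b => Subtype.ext (Subgroup.mem_centralizer_iff.1 b.2.2 _ a.2.1)⟩⟩
  let f : Z →* R := (Units.coeHom R).comp Z.subtype
  have hM : (Fintype.card Z : K) ≠ 0 := by
    rw [← Nat.card_eq_fintype_card]; exact (hQ.mono hZlt.le).ne
  refine Units.ext ?_
  rw [Units.val_mul, Units.val_mul]
  refine WeightIdem.ext_idem (K := K) f hM fun lam hlam => ?_
  set e := WeightIdem.idem f lam with he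
  have hee : e * e = e := WeightIdem.idem_sq f hM lam
  have hex : Commute (x : R) e := WeightIdem.commute_idem f lam fun z => by
    show (x : R) * (z.1 : Rˣ) = (z.1 : Rˣ) * x
    rw [← Units.val_mul, ← Units.val_mul, hZfix z.1 z.2]
  have heq : ∀ q ∈ Q, Commute ((q : Rˣ) : R) e := fun q hq => WeightIdem.commute_idem f lam fun z => by
    show ((q : Rˣ) : R) * (z.1 : Rˣ) = (z.1 : Rˣ) * (q : R)
    rw [← Units.val_mul, ← Units.val_mul, Subgroup.mem_centralizer_iff.1 z.2.2 q hq]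
  -- the component map
  let cf : Q →* R :=
    { toFun := fun q => ((q.1 : Rˣ) : R) * e + (1 - e)
      map_one' := by simp
      map_mul' := fun a b => by
        simp only [Subgroup.coe_mul, Units.val_mul]
        have h1 : e * (((b.1 : Rˣ) : R) * e) = ((b.1 : Rˣ) : R) * e := by
          rw [← mul_assoc, ← (heq _ b.2).eq, mul_assoc, hee]
        have h2 : (1 - e) * (((b.1 : Rˣ) : R) * e) = 0 := by rw [sub_mul, one_mul, h1, sub_self]
        have h4 : e * (1 - e) = 0 := by rw [mul_sub, mul_one, hee, sub_self]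
        have h5 : (1 - e) * (1 - e) = 1 - e := by rw [sub_mul, one_mul, h4, sub_zero]
        rw [add_mul, mul_add, mul_add, h2, h5, mul_assoc ((a.1 : Rˣ) : R) e (1 - e), h4, mul_zero,
          add_zero, zero_add, mul_assoc ((a.1 : Rˣ) : R) e, h1, mul_assoc] }
  let π : Q →* Rˣ := cf.toHomUnits
  have hπ : ∀ q : Q, ((π q : Rˣ) : R) = ((q.1 : Rˣ) : R) * e + (1 - e) := fun q => rfl
  have hπe : ∀ q : Q, ((π q : Rˣ) : R) * e = ((q.1 : Rˣ) : R) * e := fun q => by
    rw [hπ, add_mul, mul_assoc, sub_mul, one_mul, hee, sub_self, add_zero]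
  have hπn : ∀ y ∈ π.range, x * y * x⁻¹ ∈ π.range := by
    rintro _ ⟨q, rfl⟩
    refine ⟨⟨x * q.1 * x⁻¹, hnorm _ q.2⟩, ?_⟩
    rw [eq_mul_inv_iff_mul_eq]
    ext
    rw [Units.val_mul, Units.val_mul, hπ, hπ, Units.val_mul, Units.val_mul, add_mul, mul_add,
      mul_assoc _ e (x : R), ← hex.eq, sub_mul, one_mul, mul_sub, mul_one, ← hex.eq]
    simp [mul_assoc]
  by_cases hinj : Function.Injective π
  swap
  · have hlt : Nat.card π.range < Nat.card Q := by
      have hk : π.ker ≠ ⊥ := fun h => hinj ((MonoidHom.ker_eq_bot_iff π).1 h)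
      rw [← π.ker.card_mul_index, Subgroup.index_ker]
      exact lt_mul_of_one_lt_left Nat.card_pos (Subgroup.one_lt_card_iff_ne_bot _ |>.2 hk)
    haveI : Finite π.range := Finite.of_surjective π.rangeRestrict π.rangeRestrict_surjective
    have hgood : Good K π.range :=
      ⟨inferInstance, Group.isSolvable_of_surjective (f := π.rangeRestrict) π.rangeRestrict_surjective,
        hQ.cop.coprime_dvd_left (Subgroup.card_range_dvd π),
        cast_ne_of_dvd (Subgroup.card_range_dvd π) hQ.ne⟩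
    have h1 := congrArg (fun u : Rˣ => (u : R) * e)
      (ih _ (hn ▸ hlt) π.range rfl hgood x hx hπn _ ⟨⟨q₀, hq₀⟩, rfl⟩)
    simp only [Units.val_mul, mul_assoc, hπe] at h1
    rw [mul_assoc, mul_assoc, h1, hex.eq, ← mul_assoc, ← mul_assoc, hπe]
  have hfaith : ∀ z ∈ Z, ∀ hz : z ∈ Z, (lam ⟨z, hz⟩ : K) = 1 → z = 1 := by
    intro z hz hz' hl
    have h1 := WeightIdem.apply_mul_idem f lam ⟨z, hz'⟩
    rw [hl, one_smul] at h1
    have h2 : π ⟨z, hz.1⟩ = 1 := by
      ext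
      rw [hπ, Units.val_one]
      show f ⟨z, hz'⟩ * e + (1 - e) = 1
      rw [h1, he, add_sub_cancel]
    rw [← map_one π] at h2
    exact congrArg Subtype.val (hinj h2)
  -- all elements are fixed
  suffices hall : ∀ g ∈ Q, x * g = g * x by
    rw [← Units.val_mul, hall q₀ hq₀, Units.val_mul]
  set T := avg Q e (x : R) with hT
  set T' := avg Q e ((x⁻¹ : Rˣ) : R) with hT'
  have hΦz : ∀ (d : Rˣ) (hd : d ∈ Z) (X : R), Commute (d : R) X →
      avg Q e ((d : R) * X) = (lam ⟨d, hd⟩ : K) • avg Q e X := by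
    intro d hd X hdX
    rw [avg, avg, Finset.smul_sum]
    refine Finset.sum_congr rfl fun q _ => ?_
    have c1 : Commute (d : R) ((q.1 : Rˣ) : R) := by
      show (d : R) * (q.1 : Rˣ) = (q.1 : Rˣ) * (d : R)
      rw [← Units.val_mul, ← Units.val_mul, Subgroup.mem_centralizer_iff.1 hd.2 q.1 q.2]
    have c2 : Commute (d : R) ((q.1⁻¹ : Rˣ) : R) := c1.units_inv_right
    rw [← mul_assoc, ← c1.eq, mul_assoc (d : R), mul_assoc (d : R),
      ((c1.mul_right hdX).mul_right c2).eq, mul_assoc,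
      show (d : R) * e = (lam ⟨d, hd⟩ : K) • e from WeightIdem.apply_mul_idem f lam ⟨d, hd⟩,
      mul_smul_comm]
  have hΦ0 : ∀ u ∈ Q, u ∉ Z → avg Q e (u : R) = 0 := by
    intro u hu hnz
    obtain ⟨w, hw, hwu⟩ : ∃ w ∈ Q, w * u ≠ u * w := by
      by_contra hcon
      push Not at hcon
      exact hnz ⟨hu, Subgroup.mem_centralizer_iff.2 hcon⟩
    have hdZ : ⁅w, u⁆ ∈ Z := hDZ (Subgroup.commutator_mem_commutator hw hu)
    have hne1 : (lam ⟨_, hdZ⟩ : K) ≠ 1 := fun h => hwu (by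
      have := hfaith _ hdZ hdZ h
      exact commutatorElement_eq_one_iff_mul_comm.1 this)
    have h1 := hΦz _ hdZ (u : R) (by
      show ((⁅w, u⁆ : Rˣ) : R) * (u : R) = (u : R) * (⁅w, u⁆ : Rˣ)
      rw [← Units.val_mul, ← Units.val_mul, Subgroup.mem_centralizer_iff.1 hdZ.2 u hu])
    rw [← Units.val_mul, show ⁅w, u⁆ * u = w * u * w⁻¹ by rw [commutatorElement_def]; group,
      Units.val_mul, Units.val_mul, avg_conj Q e _ hw] at h1
    by_contra hne0
    refine hne1 (smul_left_injective K hne0 ?_)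
    show (lam ⟨_, hdZ⟩ : K) • avg Q e (u : R) = (1 : K) • avg Q e (u : R)
    rw [one_smul]
    exact h1.symm
  have hxi : (x : R) + 1 + ((x⁻¹ : Rˣ) : R) = 0 := by
    have h1 := congrArg (((x⁻¹ : Rˣ) : R) * ·) hx
    simpa [mul_add, ← mul_assoc] using h1
  have hsum : T + Fintype.card Q • e + T' = 0 := by
    rw [hT, hT', ← avg_one Q e, ← avg_add, ← avg_add, hxi]
    simp [avg]
  have hrel : ∀ g ∈ Q, x * g ≠ g * x → ∀ hc : ⁅g, x * g⁻¹ * x⁻¹⁆ ∈ Z,
      T + (lam ⟨_, hc⟩ : K) • T' = 0 := by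
    intro g hg hgx hc
    set a := x * g⁻¹ * x⁻¹ with ha
    have haQ : a ∈ Q := hnorm _ (Q.inv_mem hg)
    have hz0 : g * a ∉ Z := by
      intro hz
      have hfix : x * (g * a) * x⁻¹ = g * a := by rw [hZfix _ hz, mul_inv_cancel_right]
      have hfix2 : x * (x * (g * a) * x⁻¹) * x⁻¹ = g * a := by rw [hfix, hfix]
      have h1 : (g * a) ^ 3 = 1 := by
        calc (g * a) ^ 3 = g * a * (x * (g * a) * x⁻¹) * (x * (x * (g * a) * x⁻¹) * x⁻¹) := by
              rw [hfix2, hfix, pow_three, ← mul_assoc]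
          _ = g * (x ^ 3 * g⁻¹ * (x ^ 3)⁻¹) := by rw [ha, ← conj3]; group
          _ = 1 := by rw [h3]; group
      have h2 := hQ.pow3 hz.1 h1
      refine hgx ?_
      calc x * g = g * a * (x * g) := by rw [h2, one_mul]
        _ = g * x := by rw [ha]; group
    have hz1 : a * g ∉ Z := by
      intro hz
      refine hz0 ?_
      rw [show g * a = ⁅g, a⁆ * (a * g) by rw [commutatorElement_def]; group]
      exact Z.mul_mem hc hz
    have e0 : avg Q e ((g * a : Rˣ) : R) = 0 := hΦ0 _ (Q.mul_mem hg haQ) hz0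
    have e1 : avg Q e ((g * a : Rˣ) * (x : R)) = T := by
      rw [← Units.val_mul, show g * a * x = g * x * g⁻¹ by rw [ha]; group, Units.val_mul,
        Units.val_mul, avg_conj Q e _ hg]
    have e2 : avg Q e ((a * g * x⁻¹ : Rˣ) : R) = T' := by
      have h1 := avg_conj Q e ((a * g * x⁻¹ : Rˣ) : R) (g := a⁻¹) (Q.inv_mem haQ)
      rw [← h1, ← Units.val_mul, ← Units.val_mul,
        show a⁻¹ * (a * g * x⁻¹) * a⁻¹⁻¹ = x⁻¹ by rw [ha]; group]
    have e3 : avg Q e ((g * a : Rˣ) * ((x⁻¹ : Rˣ) : R)) = (lam ⟨_, hc⟩ : K) • T' := by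
      rw [← e2, ← hΦz _ hc]
      · congr 1
        rw [← Units.val_mul, ← Units.val_mul, commutatorElement_def]
        congr 1
        group
      · show ((⁅g, a⁆ : Rˣ) : R) * (a * g * x⁻¹ : Rˣ) = (a * g * x⁻¹ : Rˣ) * (⁅g, a⁆ : Rˣ)
        rw [← Units.val_mul, ← Units.val_mul]
        congr 1
        have k1 := Subgroup.mem_centralizer_iff.1 hc.2 (a * g) (Q.mul_mem haQ hg)
        have k2 : x⁻¹ * ⁅g, a⁆ = ⁅g, a⁆ * x⁻¹ := by
          rw [eq_mul_inv_iff_mul_eq, mul_assoc, ← hZfix _ hc, inv_mul_cancel_left]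
        rw [mul_assoc (a * g) x⁻¹, k2, ← mul_assoc (a * g), k1]
        group
    have e4 : avg Q e ((g * a : Rˣ) * ((x : R) + 1 + ((x⁻¹ : Rˣ) : R))) = 0 := by
      rw [hxi, mul_zero]
      simp [avg]
    rw [mul_add, mul_add, mul_one, avg_add, avg_add, e1, e0, e3, add_zero] at e4
    exact e4
  intro g hg
  by_contra hgx
  have hcQ : ∀ g ∈ Q, ⁅g, x * g⁻¹ * x⁻¹⁆ ∈ Z := fun g hg =>
    hDZ (Subgroup.commutator_mem_commutator hg (hnorm _ (Q.inv_mem hg)))
  have hgx2 : x * (g * g) ≠ g * g * x := by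
    intro h
    refine hgx ?_
    obtain ⟨k, hk⟩ := exists_pow_eq_self_of_coprime (x := (⟨g, hg⟩ : Q)) (n := 2)
      ((hQ.cop.coprime_dvd_right (by norm_num : 2 ∣ 6)).symm.coprime_dvd_right
        (orderOf_dvd_natCard _))
    have hk2 : (g ^ 2) ^ k = g := congrArg Subtype.val hk
    have h2 : Commute x (g * g) := h
    rw [← hk2, pow_two]
    exact (h2.pow_right k).eq
  have hc4 : ⁅g * g, x * (g * g)⁻¹ * x⁻¹⁆ = ⁅g, x * g⁻¹ * x⁻¹⁆ ^ 4 := by
    have hcen : ∀ a b c : Q, Commute ⁅a, b⁆ c := fun a b c => Subtype.ext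
      (Subgroup.mem_centralizer_iff.1 (hDZ (Subgroup.commutator_mem_commutator a.2 b.2)).2 c.1 c.2).symm
    let g' : Q := ⟨g, hg⟩
    let a' : Q := ⟨x * g⁻¹ * x⁻¹, hnorm _ (Q.inv_mem hg)⟩
    have h1 : ⁅g' * g', a' * a'⁆ = ⁅g', a'⁆ ^ 4 := by
      rw [S3Fpf.comm_mul_left hcen, S3Fpf.comm_mul_right hcen, pow_succ, pow_succ, pow_two,
        ← mul_assoc]
    have h2 := congrArg Subtype.val h1
    rw [show x * (g * g)⁻¹ * x⁻¹ = (x * g⁻¹ * x⁻¹) * (x * g⁻¹ * x⁻¹) by group]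
    exact h2
  have r1 := hrel g hg hgx (hcQ g hg)
  have r2 := hrel (g * g) (Q.mul_mem hg hg) hgx2 (hcQ _ (Q.mul_mem hg hg))
  have hl4 : (lam ⟨_, hcQ _ (Q.mul_mem hg hg)⟩ : K) = (lam ⟨_, hcQ g hg⟩ : K) ^ 4 := by
    rw [← Units.val_pow_eq_pow_val, ← map_pow]
    congr 2
    exact Subtype.ext hc4
  rw [hl4] at r2
  set ζ : K := (lam ⟨_, hcQ g hg⟩ : K) with hζ
  have he0 : Fintype.card Q • e ≠ 0 := by
    intro h
    refine hlam ?_
    rw [← Nat.cast_smul_eq_nsmul K] at h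
    exact (smul_eq_zero.1 h).resolve_left (by rw [← Nat.card_eq_fintype_card]; exact hQ.ne)
  by_cases hζ1 : ζ = 1
  · rw [hζ1, one_smul] at r1
    refine he0 ?_
    rw [add_right_comm, r1, zero_add] at hsum
    exact hsum
  have hζ3 : ζ ^ 4 - ζ ≠ 0 := by
    intro h
    refine hζ1 ?_
    have hz0 : ζ ≠ 0 := Units.ne_zero _
    have h3 : ζ ^ 3 = 1 := mul_left_cancel₀ hz0 (by linear_combination h)
    have hm : ζ ^ Nat.card Z = 1 := by
      rw [hζ, ← Units.val_pow_eq_pow_val, ← map_pow, pow_card_eq_one', map_one, Units.val_one]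
    have h1 := Nat.eq_one_of_dvd_coprimes
      (((hQ.mono hZlt.le).cop).coprime_dvd_right (by norm_num : 3 ∣ 6))
      (orderOf_dvd_of_pow_eq_one hm) (orderOf_dvd_of_pow_eq_one h3)
    exact orderOf_eq_one_iff.1 h1
  have hT0 : T' = 0 := by
    have : (ζ ^ 4 - ζ) • T' = 0 := by
      rw [sub_smul, eq_neg_of_add_eq_zero_right r2, eq_neg_of_add_eq_zero_right r1, sub_self]
    exact (smul_eq_zero.1 this).resolve_left hζ3
  rw [hT0, smul_zero, add_zero] at r1
  rw [r1, hT0, zero_add, add_zero] at hsum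
  exact he0 hsum

end Cfsg.Agent.Perm.CubicFpf
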