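import Mathlib.RingTheory.Polynomial.Cyclotomic.Factorization
import Mathlib.RingTheory.Polynomial.Cyclotomic.Roots
import Mathlib.RingTheory.AdjoinRoot
import Mathlib.LinearAlgebra.Dimension.Finrank
import Mathlib.LinearAlgebra.FiniteDimensional.Lemmas
import Mathlib.LinearAlgebra.Basis.VectorSpace
import Mathlib.Algebra.CharP.Algebra
import Mathlib.FieldTheory.Perfect
import Mathlib.Algebra.Module.ZMod

/-!
Modules over a prime field with an operator killed by a prime cyclotomic polynomial, and the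
semilinear symmetries of such an operator.
-/

set_option autoImplicit false

namespace Cfsg.Agent.Perm

open Polynomial

theorem pow_mod_of_pow {M : Type*} [Monoid M] {x : M} {q : ℕ} (h : x ^ q = 1) (a : ℕ) :
    x ^ (a % q) = x ^ a := by
  conv_rhs => rw [← Nat.mod_add_div a q, pow_add, pow_mul, h, one_pow, mul_one]

variable {p q : ℕ} [hp : Fact p.Prime] [hq : Fact q.Prime]
variable {V : Type*} [AddCommGroup V] [Module (ZMod p) V]

/-- Additive bijections intertwining operators intertwine their polynomials. -/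
theorem intertwine_aeval (A B : V →ₗ[ZMod p] V) (φ : V ≃+ V) (h : ∀ v, φ (A v) = B (φ v))
    (g : Polynomial (ZMod p)) : ∀ v, φ (aeval A g v) = aeval B g (φ v) := by
  induction g using Polynomial.induction_on with
  | C a =>
    intro v
    simp only [aeval_C, Module.algebraMap_end_apply]
    exact ZMod.map_smul φ a v
  | add g₁ g₂ h₁ h₂ =>
    intro v
    simp [h₁ v, h₂ v]
  | monomial n a ih =>
    intro v
    have := ih (A v)
    rw [h v] at this
    simp only [map_mul, map_pow, aeval_X, pow_succ, Module.End.mul_apply] at this ⊢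
    exact this

theorem aeval_pow_comp (A : V →ₗ[ZMod p] V) (m : ℕ) (g : Polynomial (ZMod p)) :
    aeval (A ^ m) g = aeval A (g.comp (X ^ m)) := by
  rw [aeval_comp, map_pow, aeval_X]

omit hq in
theorem ker_le_ker_of_dvd (A : V →ₗ[ZMod p] V) {f g : Polynomial (ZMod p)} (h : f ∣ g) {v : V}
    (hv : aeval A f v = 0) : aeval A g v = 0 := by
  obtain ⟨c, rfl⟩ := h
  rw [mul_comm, map_mul, Module.End.mul_apply, hv, map_zero]

omit hq in
/-- An irreducible polynomial killing a non-zero vector divides every polynomial killing it. -/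
theorem dvd_of_kills (A : V →ₗ[ZMod p] V) {f g : Polynomial (ZMod p)} (hf : Irreducible f) {v : V}
    (hv : v ≠ 0) (h1 : aeval A f v = 0) (h2 : aeval A g v = 0) : f ∣ g := by
  by_contra hfg
  obtain ⟨a, b, hab⟩ := hf.coprime_iff_not_dvd.2 hfg
  have := congrArg (fun T => aeval A T v) hab
  simp only [map_add, map_mul, map_one, LinearMap.add_apply, Module.End.mul_apply, h1, h2,
    map_zero, Module.End.one_apply, add_zero] at this
  exact hv this.symm

/-- If the symmetries of an operator killed by the `q`-th cyclotomic polynomial are transitive on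
non-zero vectors and realise every exponent, then `p` is a primitive root modulo `q`. -/
theorem orderOf_eq_of_transitive [Finite V] (hpq : p ≠ q) (A : V →ₗ[ZMod p] V)
    (hA : aeval A (cyclotomic q (ZMod p)) = 0) (hne : ∃ v : V, v ≠ 0)
    (htr : ∀ v w : V, v ≠ 0 → w ≠ 0 → ∃ (u : (ZMod q)ˣ) (φ : V ≃+ V),
      φ v = w ∧ ∀ x, φ (A x) = (A ^ (u : ZMod q).val) (φ x))
    (hall : ∀ u : (ZMod q)ˣ, ∃ φ : V ≃+ V, ∀ x, φ (A x) = (A ^ (u : ZMod q).val) (φ x)) :
    orderOf (p : ZMod q) = q - 1 := by
  classical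
  have hcop : p.Coprime q := (Nat.coprime_primes hp.out hq.out).2 hpq
  have hAq : A ^ q = 1 := by
    have h1 : cyclotomic q (ZMod p) ∣ X ^ q - 1 := cyclotomic.dvd_X_pow_sub_one q (ZMod p)
    obtain ⟨c, hc⟩ := h1
    have := congrArg (aeval A) hc
    rw [map_mul, hA, zero_mul, map_sub, map_one, aeval_X_pow, sub_eq_zero] at this
    exact this
  have hred : ∀ a b : ℕ, (a : ZMod q) = b → A ^ a = A ^ b := by
    intro a b hab
    rw [ZMod.natCast_eq_natCast_iff'] at hab
    rw [← pow_mod_of_pow hAq a, ← pow_mod_of_pow hAq b, hab]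
  -- an irreducible factor with non-zero kernel
  obtain ⟨v₀, hv₀⟩ := hne
  haveI : Module.Finite (ZMod p) V := Module.Finite.of_finite
  have hint : IsIntegral (ZMod p) A := Algebra.IsIntegral.isIntegral A
  have hmin : minpoly (ZMod p) A ∣ cyclotomic q (ZMod p) := minpoly.dvd _ _ hA
  have hm1 : ¬ IsUnit (minpoly (ZMod p) A) := by
    intro hu
    obtain ⟨c, hc⟩ := hu.exists_left_inv
    have := congrArg (fun T => aeval A T v₀) hc
    simp only [map_mul, minpoly.aeval, mul_zero, LinearMap.zero_apply, map_one,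
      Module.End.one_apply] at this
    exact hv₀ this.symm
  obtain ⟨f, hf, hfm⟩ := WfDvdMonoid.exists_irreducible_factor hm1 (minpoly.ne_zero hint)
  obtain ⟨v, hv, hfv⟩ : ∃ v : V, v ≠ 0 ∧ aeval A f v = 0 := by
    by_contra hno
    push Not at hno
    obtain ⟨g, hg⟩ := hfm
    have h0 : aeval A g = 0 := by
      ext x
      by_contra hx
      refine hno _ hx ?_
      rw [← Module.End.mul_apply, ← map_mul, ← hg, minpoly.aeval]
      rfl
    have hdvd : minpoly (ZMod p) A ∣ g := minpoly.dvd _ _ h0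
    have hg0 : g ≠ 0 := fun e => minpoly.ne_zero hint (by rw [hg, e, mul_zero])
    have := Polynomial.natDegree_le_of_dvd hdvd hg0
    rw [hg, natDegree_mul hf.ne_zero hg0] at this
    have := hf.natDegree_pos
    omega
  -- kernels
  let K : (ZMod q)ˣ → Set V := fun u => {x | aeval (A ^ (u : ZMod q).val) f x = 0}
  have hK1 : K 1 = {x | aeval A f x = 0} := by
    simp [K, ZMod.val_one]
  have htrans : ∀ (u : (ZMod q)ˣ) (φ : V ≃+ V),
      (∀ x, φ (A x) = (A ^ (u : ZMod q).val) (φ x)) → ∀ m x, φ x ∈ K (m * u) ↔ x ∈ K m := by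
    intro u φ hφ m x
    have h1 : φ (aeval (A ^ (m : ZMod q).val) f x) =
        aeval (A ^ ((m * u : (ZMod q)ˣ) : ZMod q).val) f (φ x) := by
      rw [aeval_pow_comp, intertwine_aeval A _ φ hφ, ← aeval_pow_comp, ← pow_mul]
      rw [hred ((u : ZMod q).val * (m : ZMod q).val) ((m * u : (ZMod q)ˣ) : ZMod q).val
        (by simp [mul_comm])]
    simp only [K, Set.mem_setOf_eq]
    rw [← h1, AddEquiv.map_eq_zero_iff]
  have hcard : ∀ u, (K u).ncard = (K 1).ncard := by
    intro u
    obtain ⟨φ, hφ⟩ := hall u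
    have : K u = φ '' K 1 := by
      ext y
      obtain ⟨x, rfl⟩ := φ.surjective y
      have := htrans u φ hφ 1 x
      rw [one_mul] at this
      rw [this, φ.injective.mem_set_image]
    rw [this, Set.ncard_image_of_injective _ φ.injective]
  have hpart1 : ∀ m, ∀ x : V, x ≠ 0 → x ∈ K 1 → x ∈ K m → K 1 = K m := by
    intro m x hx h1 h2
    rw [hK1] at h1
    have h2' : aeval A (f.comp (X ^ (m : ZMod q).val)) x = 0 := by
      rw [← aeval_pow_comp]; exact h2
    have hdvd := dvd_of_kills A hf hx h1 h2'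
    refine Set.eq_of_subset_of_ncard_le (fun y hy => ?_) (hcard m).le (Set.toFinite _)
    rw [hK1] at hy
    simp only [K, Set.mem_setOf_eq]
    rw [aeval_pow_comp]
    exact ker_le_ker_of_dvd A hdvd hy
  have hpart : ∀ i j, ∀ x : V, x ≠ 0 → x ∈ K i → x ∈ K j → K i = K j := by
    intro i j x hx hi hj
    obtain ⟨φ, hφ⟩ := hall i
    obtain ⟨y, rfl⟩ := φ.surjective x
    have hy : y ≠ 0 := fun e => hx (by rw [e, map_zero])
    have e1 := htrans i φ hφ 1 y
    have e2 := htrans i φ hφ (j * i⁻¹) y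
    rw [one_mul] at e1
    rw [inv_mul_cancel_right] at e2
    have h := hpart1 _ y hy (e1.1 hi) (e2.1 hj)
    ext z
    obtain ⟨z, rfl⟩ := φ.surjective z
    have e3 := htrans i φ hφ 1 z
    have e4 := htrans i φ hφ (j * i⁻¹) z
    rw [one_mul] at e3
    rw [inv_mul_cancel_right] at e4
    rw [e3, e4, h]
  have hv1 : v ∈ K 1 := by rw [hK1]; exact hfv
  have hcov : ∀ w : V, ∃ u, w ∈ K u := by
    intro w
    by_cases hw : w = 0
    · exact ⟨1, by subst hw; simp [K]⟩
    obtain ⟨u, φ, hφv, hφ⟩ := htr v w hv hw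
    refine ⟨u, ?_⟩
    have := htrans u φ hφ 1 v
    rw [one_mul, hφv] at this
    exact this.2 hv1
  have hfull : ∀ w : V, w ∈ K 1 := by
    intro w
    by_contra hw
    have hw0 : w ≠ 0 := fun e => hw (by subst e; simp [K])
    obtain ⟨k, hwk⟩ := hcov w
    have hne1 : K 1 ≠ K k := fun e => hw (e ▸ hwk)
    obtain ⟨l, hl⟩ := hcov (v + w)
    set T := aeval (A ^ (l : ZMod q).val) f
    have hTvw : T v = -T w := by
      rw [eq_neg_iff_add_eq_zero, ← map_add]; exact hl
    have hcomm : ∀ (m : (ZMod q)ˣ) (x : V), x ∈ K m → T x ∈ K m := by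
      intro m x hx
      have hc : Commute (aeval (A ^ (m : ZMod q).val) f) T := by
        simp only [T, aeval_pow_comp]
        exact (Commute.all _ _).map (aeval A)
      show aeval (A ^ (m : ZMod q).val) f (T x) = 0
      rw [← Module.End.mul_apply, hc.eq, Module.End.mul_apply,
        show aeval (A ^ (m : ZMod q).val) f x = 0 from hx, map_zero]
    have hT0 : T v = 0 := by
      by_contra hTv
      refine hne1 (hpart 1 k _ hTv (hcomm 1 v hv1) ?_)
      rw [hTvw]
      simp only [K, Set.mem_setOf_eq]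
      rw [map_neg, show aeval (A ^ (k : ZMod q).val) f (T w) = 0 from hcomm k w hwk, neg_zero]
    have hTw : T w = 0 := by
      have := hTvw
      rw [hT0, eq_comm, neg_eq_zero] at this
      exact this
    exact hne1 ((hpart 1 l v hv hv1 hT0).trans (hpart l k w hw0 hTw hwk))
  -- all powers of a root are roots
  have hdvd : ∀ u : (ZMod q)ˣ, f ∣ f.comp (X ^ (u : ZMod q).val) := by
    intro u
    obtain ⟨φ, hφ⟩ := hall u
    obtain ⟨y, hy⟩ := φ.surjective v
    have h1 := htrans u φ hφ 1 y
    rw [one_mul, hy] at h1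
    have h2 : v ∈ K u := h1.2 (hfull y)
    exact dvd_of_kills A hf hv hfv (by rw [← aeval_pow_comp]; exact h2)
  haveI := Fact.mk hf
  have hfcyc : f ∣ cyclotomic q (ZMod p) := hfm.trans hmin
  set α : AdjoinRoot f := AdjoinRoot.root f
  haveI : CharP (AdjoinRoot f) p := charP_of_injective_algebraMap' (ZMod p) p
  haveI : NeZero (q : AdjoinRoot f) := ⟨fun e => by
    rw [CharP.cast_eq_zero_iff (AdjoinRoot f) p] at e
    exact hpq ((Nat.prime_dvd_prime_iff_eq hp.out hq.out).1 e)⟩
  have hα : IsPrimitiveRoot α q := by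
    rw [← isRoot_cyclotomic_iff]
    obtain ⟨c, hc⟩ := hfcyc
    have := congrArg (Polynomial.aeval α) hc
    rw [map_mul, AdjoinRoot.aeval_eq f, AdjoinRoot.mk_self, zero_mul, aeval_def, eval₂_eq_eval_map,
      map_cyclotomic] at this
    exact this
  let s : Finset (AdjoinRoot f) := 
      (Finset.univ : Finset (ZMod q)ˣ).image fun (u : (ZMod q)ˣ) => α ^ ((u : ZMod q).val)
  have hs : s.card = q - 1 := by
    rw [Finset.card_image_of_injective _ ?_, Finset.card_univ, ZMod.card_units]
    intro u u' h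
    exact Units.ext (ZMod.val_injective q
      (hα.pow_inj (ZMod.val_lt _) (ZMod.val_lt _) h))
  have hroot : ∀ x ∈ s, (f.map (AdjoinRoot.of f)).IsRoot x := by
    intro x hx
    obtain ⟨u, -, rfl⟩ := Finset.mem_image.1 hx
    obtain ⟨c, hc⟩ := hdvd u
    have h2 := congrArg (fun g => eval₂ (AdjoinRoot.of f) α g) hc
    simp only [eval₂_comp, eval₂_X_pow, eval₂_mul, α, AdjoinRoot.eval₂_root, zero_mul] at h2
    rw [IsRoot, eval_map]
    exact h2
  have hfmap : f.map (AdjoinRoot.of f) ≠ 0 :=
    Polynomial.map_ne_zero hf.ne_zero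
  have hle : q - 1 ≤ f.natDegree := by
    rw [← hs]
    have hsub : s.val ⊆ (f.map (AdjoinRoot.of f)).roots := fun x hx =>
      (mem_roots hfmap).2 (hroot x hx)
    exact (Multiset.card_le_card ((Multiset.le_iff_subset s.nodup).2 hsub)).trans
      ((card_roots' _).trans natDegree_map_le)
  have hdeg := natDegree_of_dvd_cyclotomic_of_irreducible (K := ZMod p) (f := 1) (p := p) (n := q)
    (by simp) hcop hfcyc hf
  rw [← orderOf_units, ZMod.coe_unitOfCoprime, pow_one] at hdeg
  refine le_antisymm ?_ (hdeg ▸ hle)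
  have hu : orderOf (p : ZMod q) = orderOf (ZMod.unitOfCoprime p hcop) := by
    rw [← orderOf_units, ZMod.coe_unitOfCoprime]
  rw [hu, ← ZMod.card_units q, ← Nat.card_eq_fintype_card]
  exact Nat.le_of_dvd Nat.card_pos (orderOf_dvd_natCard _)

/-- If `p` is a primitive root modulo `q`, the symmetries of an operator killed by the `q`-th
cyclotomic polynomial are transitive and realise every exponent. -/
theorem symmetries_of_primitiveRoot [Finite V] (hpq : p ≠ q) (A : V →ₗ[ZMod p] V)
    (hA : aeval A (cyclotomic q (ZMod p)) = 0) (hord : orderOf (p : ZMod q) = q - 1) :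
    (∀ v w : V, v ≠ 0 → w ≠ 0 → ∃ φ : V ≃+ V, φ v = w ∧ ∀ x, φ (A x) = A (φ x)) ∧
    ∀ u : (ZMod q)ˣ, ∃ φ : V ≃+ V, ∀ x, φ (A x) = (A ^ (u : ZMod q).val) (φ x) := by
  classical
  have hcop : p.Coprime q := (Nat.coprime_primes hp.out hq.out).2 hpq
  have hirr : Irreducible (cyclotomic q (ZMod p)) := by
    refine ZMod.irreducible_of_dvd_cyclotomic_of_natDegree
      (fun h => hpq ((Nat.prime_dvd_prime_iff_eq hp.out hq.out).1 h)) dvd_rfl ?_
    rw [natDegree_cyclotomic, Nat.totient_prime hq.out, ← orderOf_units, ZMod.coe_unitOfCoprime,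
      hord]
  set Φ := cyclotomic q (ZMod p)
  haveI := Fact.mk hirr
  let ρ : AdjoinRoot Φ →+* Module.End (ZMod p) V :=
    Ideal.Quotient.lift (Ideal.span {Φ}) (aeval A).toRingHom fun g hg => by
      obtain ⟨c, rfl⟩ := Ideal.mem_span_singleton.1 hg
      simp [hA]
  have hρ : ρ (AdjoinRoot.root Φ) = A := by
    show ρ (Ideal.Quotient.mk _ X) = A
    refine (Ideal.Quotient.lift_mk _ _ _).trans ?_
    exact aeval_X A
  letI : Module (AdjoinRoot Φ) V := Module.compHom V ρ
  have hsmul : ∀ (c : AdjoinRoot Φ) (x : V), c • x = ρ c x := fun c x => rfl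
  haveI : Module.Finite (AdjoinRoot Φ) V := Module.Finite.of_finite
  constructor
  · intro v w hv hw
    obtain ⟨C, hC⟩ := Submodule.exists_isCompl (Submodule.span (AdjoinRoot Φ) ({v} : Set V))
    obtain ⟨C', hC'⟩ := Submodule.exists_isCompl (Submodule.span (AdjoinRoot Φ) ({w} : Set V))
    have hfin : Module.finrank (AdjoinRoot Φ) C = Module.finrank (AdjoinRoot Φ) C' := by
      have h1 := Submodule.finrank_add_eq_of_isCompl hC
      have h2 := Submodule.finrank_add_eq_of_isCompl hC'
      rw [finrank_span_singleton hv] at h1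
      rw [finrank_span_singleton hw] at h2
      omega
    let e1 : Submodule.span (AdjoinRoot Φ) ({v} : Set V) ≃ₗ[AdjoinRoot Φ]
        Submodule.span (AdjoinRoot Φ) ({w} : Set V) :=
      (LinearEquiv.toSpanNonzeroSingleton _ V v hv).symm.trans
        (LinearEquiv.toSpanNonzeroSingleton _ V w hw)
    let φ : V ≃ₗ[AdjoinRoot Φ] V :=
      (Submodule.prodEquivOfIsCompl _ _ hC).symm.trans
        ((e1.prodCongr (LinearEquiv.ofFinrankEq _ _ hfin)).trans
          (Submodule.prodEquivOfIsCompl _ _ hC'))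
    refine ⟨φ.toAddEquiv, ?_, fun x => ?_⟩
    · show φ v = w
      have h1 : (Submodule.prodEquivOfIsCompl _ _ hC).symm v =
          (⟨v, Submodule.mem_span_singleton_self v⟩, 0) :=
        Submodule.prodEquivOfIsCompl_symm_apply_left _ _ hC
          ⟨v, Submodule.mem_span_singleton_self v⟩
      have h2 : (LinearEquiv.toSpanNonzeroSingleton (AdjoinRoot Φ) V v hv).symm
          ⟨v, Submodule.mem_span_singleton_self v⟩ = 1 := by
        rw [LinearEquiv.symm_apply_eq, LinearEquiv.toSpanNonzeroSingleton_one]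
      simp [φ, h1, e1, h2]
    · show φ (A x) = A (φ x)
      rw [← hρ, ← hsmul, ← hsmul, map_smul]
  · intro u
    haveI : CharP (AdjoinRoot Φ) p := charP_of_injective_algebraMap' (ZMod p) p
    haveI : Finite (AdjoinRoot Φ) := by
      haveI : Module.Finite (ZMod p) (AdjoinRoot Φ) :=
        (AdjoinRoot.powerBasis hirr.ne_zero).finite
      exact Module.finite_of_finite (ZMod p)
    obtain ⟨i, hi⟩ : ∃ i : ℕ, (p : ZMod q) ^ i = u := by
      have h1 : Subgroup.zpowers (ZMod.unitOfCoprime p hcop) = ⊤ := by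
        apply Subgroup.eq_top_of_card_eq
        rw [Nat.card_zpowers, ← orderOf_units, ZMod.coe_unitOfCoprime, hord,
          Nat.card_eq_fintype_card, ZMod.card_units]
      obtain ⟨i, hi⟩ := (mem_powers_iff_mem_zpowers (x := ZMod.unitOfCoprime p hcop)).2
        (h1 ▸ Subgroup.mem_top u)
      refine ⟨i, ?_⟩
      have := congrArg (fun z : (ZMod q)ˣ => (z : ZMod q)) hi
      simp only [Units.val_pow_eq_pow_val, ZMod.coe_unitOfCoprime] at this
      exact this
    let σ : AdjoinRoot Φ →+* AdjoinRoot Φ := iterateFrobenius (AdjoinRoot Φ) p i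
    have hσ : Function.Bijective σ := Finite.injective_iff_bijective.1 σ.injective
    let σe := RingEquiv.ofBijective σ hσ
    let b := Module.finBasis (AdjoinRoot Φ) V
    let φ : V ≃+ V := b.equivFun.toAddEquiv.trans
      ((AddEquiv.piCongrRight fun _ => σe.toAddEquiv).trans b.equivFun.symm.toAddEquiv)
    refine ⟨φ, fun x => ?_⟩
    have hsl : ∀ (c : AdjoinRoot Φ) (y : V), φ (c • y) = σ c • φ y := by
      intro c y
      apply b.equivFun.injective
      funext j
      simp [φ, σe, Finset.mul_sum, mul_assoc]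
    have hA' : (A ^ (u : ZMod q).val) = ρ (AdjoinRoot.root Φ ^ p ^ i) := by
      rw [map_pow, hρ]
      have hAq : A ^ q = 1 := by
        obtain ⟨c, hc⟩ := cyclotomic.dvd_X_pow_sub_one q (ZMod p)
        have := congrArg (aeval A) hc
        rw [map_mul, hA, zero_mul, map_sub, map_one, aeval_X_pow, sub_eq_zero] at this
        exact this
      rw [← pow_mod_of_pow hAq (p ^ i), ← ZMod.val_natCast, Nat.cast_pow, hi]
    rw [hA', ← hsmul, ← hρ, ← hsmul, hsl]
    rfl

end Cfsg.Agent.Perm
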