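import Mathlib
import Cfsg.Agent.Lib.Perm.PrimeDegree
import Cfsg.Agent.Lib.Perm.Primitive
import Cfsg.Agent.Lib.Perm.MinNormal

/-!
Groups of permutations of seven points of order prime to three.
-/

set_option autoImplicit false
set_option linter.style.haveILetI false

namespace Cfsg.Agent.Perm

open MulAction

/-- A subgroup of `S₇` of order prime to three and divisible by seven has order dividing 14. -/
theorem degree_seven {α : Type*} [Fintype α] [DecidableEq α] (hα : Fintype.card α = 7)
    (H : Subgroup (Equiv.Perm α)) (h3 : ¬ 3 ∣ Nat.card H) (h7 : 7 ∣ Nat.card H) :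
    Nat.card H ∣ 14 := by
  classical
  haveI : Fact (Nat.Prime 7) := ⟨by norm_num⟩
  obtain ⟨g, hg⟩ := exists_prime_orderOf_dvd_card' (G := H) 7 h7
  have hg' : orderOf (g : Equiv.Perm α) = 7 := by rw [Subgroup.orderOf_coe]; exact hg
  have hgc : (g : Equiv.Perm α).IsCycle :=
    Equiv.Perm.isCycle_of_prime_order (by rw [hg']; norm_num) (by
      rw [hg']; exact lt_of_le_of_lt (Finset.card_le_univ _) (by omega))
  have hsupp : (g : Equiv.Perm α).support = Finset.univ := by
    refine Finset.eq_univ_of_card _ ?_
    rw [← hgc.orderOf, hg', hα]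
  haveI : IsPretransitive H α := ⟨fun x y => by
    obtain ⟨k, hk⟩ := hgc.exists_zpow_eq (x := x) (y := y)
      (Equiv.Perm.mem_support.1 (by rw [hsupp]; exact Finset.mem_univ x))
      (Equiv.Perm.mem_support.1 (by rw [hsupp]; exact Finset.mem_univ y))
    exact ⟨g ^ k, by rw [Subgroup.smul_def, Subgroup.coe_zpow]; exact hk⟩⟩
  haveI : Nonempty α := Fintype.card_pos_iff.1 (by omega)
  obtain ⟨ω⟩ := ‹Nonempty α›
  have hst : Nat.card (stabilizer H ω) * 7 = Nat.card H := by
    rw [← (stabilizer H ω).card_mul_index, index_stabilizer_of_transitive, Nat.card_eq_fintype_card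
      (α := α), hα]
  rcases burnside_prime_degree (p := 7) hα H with hs | h2
  · haveI : IsPreprimitive H α := IsPreprimitive.of_prime_card (by
      rw [Nat.card_eq_fintype_card, hα]; norm_num)
    haveI : Nontrivial H := Finite.one_lt_card_iff_nontrivial.1
      (lt_of_lt_of_le (by norm_num) (Nat.le_of_dvd Nat.card_pos h7))
    obtain ⟨A, hA⟩ := exists_isMinNormal (G := H)
    haveI := hA.1
    haveI := hs
    have hAc : IsMulCommutative A := hA.isMulCommutative inferInstance
    haveI : IsPretransitive A α := normal_isPretransitive A hA.2.1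
    have hA7 : Nat.card A = 7 := by
      rw [← card_eq_of_regular ω (stabilizer_eq_bot_of_isMulCommutative hAc ω),
        Nat.card_eq_fintype_card, hα]
    haveI : IsCyclic A := isCyclic_of_prime_card hA7
    let φ : stabilizer H ω →* MulAut A := MulAut.conjNormal.comp (stabilizer H ω).subtype
    have hinj : Function.Injective φ := by
      rw [← MonoidHom.ker_eq_bot_iff, Subgroup.eq_bot_iff_forall]
      intro c hc
      refine Subtype.ext (eq_one_of_centralizes (M := A) (Subgroup.mem_centralizer_iff.2 fun a ha => ?_) c.2)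
      have h1 : (c : H) * a * (c : H)⁻¹ = a := by
        have e := congrArg Subtype.val (DFunLike.congr_fun (MonoidHom.mem_ker.1 hc) ⟨a, ha⟩)
        simpa [φ] using e
      exact (mul_inv_eq_iff_eq_mul.1 h1).symm
    have h6 : Nat.card (stabilizer H ω) ∣ 6 := by
      have := Subgroup.card_dvd_of_injective φ hinj
      rwa [IsCyclic.card_mulAut, hA7, Nat.totient_prime (by norm_num)] at this
    have h2' : Nat.card (stabilizer H ω) ∣ 2 :=
      ((Nat.prime_three.coprime_iff_not_dvd.2 fun d => h3 (d.trans (hst ▸ Dvd.intro 7 rfl))).symm).dvd_of_dvd_mul_left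
        (show _ ∣ 3 * 2 from h6)
    rw [← hst]
    exact Nat.mul_dvd_mul h2' dvd_rfl
  · exfalso
    refine h3 ?_
    haveI := h2
    obtain ⟨β, hβ⟩ : ∃ β, β ≠ ω := Fintype.exists_ne_of_one_lt_card (by omega) ω
    let T : Type _ := {p : α × α // p.1 ≠ p.2}
    letI : MulAction H T :=
      { smul := fun h p => ⟨(h • p.1.1, h • p.1.2), fun e => p.2 (MulAction.injective h e)⟩
        one_smul := fun p => Subtype.ext (Prod.ext (one_smul H _) (one_smul H _))
        mul_smul := fun a b p => Subtype.ext (Prod.ext (mul_smul a b _) (mul_smul a b _)) }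
    haveI : IsPretransitive H T := ⟨fun p q => by
      obtain ⟨h, e1, e2⟩ := (MulAction.is_two_pretransitive_iff (G := H) (α := α)).1 h2 p.2 q.2
      exact ⟨h, Subtype.ext (Prod.ext e1 e2)⟩⟩
    have hT : Nat.card T = 42 := by
      rw [Nat.card_eq_fintype_card, Fintype.card_subtype]
      let e := Fintype.equivFinOfCardEq hα
      rw [Finset.card_equiv (t := Finset.univ.filter fun p : Fin 7 × Fin 7 => p.1 ≠ p.2) (e.prodCongr e)
        (fun p => by simp)]
      decide
    have := Subgroup.index_dvd_card (stabilizer H (⟨(ω, β), hβ.symm⟩ : T))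
    rw [index_stabilizer_of_transitive, hT] at this
    exact (show 3 ∣ 42 by norm_num).trans this

end Cfsg.Agent.Perm
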