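/- Free modules for a group acting semilinearly through a commutative Artinian ring that it
permutes freely (normal basis and Galois descent in one step). -/
import Mathlib

set_option autoImplicit false

namespace Cfsg.Agent.Perm.FreeSemilinear

open Finset

variable {B : Type*} [CommRing B] {H : Type*} [Group H] [Fintype H]

/-- Normal-basis element at one maximal ideal, relative to its stabilizer. -/
theorem local_theta (act : H →* (B ≃+* B)) (m : Ideal B) [m.IsMaximal] (S : Subgroup H) [Fintype ↥S]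
    (hS : ∀ h ∈ S, ∀ b, act h b ∈ m ↔ b ∈ m)
    (hfree : ∀ h : H, h ≠ 1 → ∃ b, act h b - b ∉ m) :
    ∃ θ : B, ∀ d : ↥S → B ⧸ m,
      (∀ s : ↥S, ∑ t : ↥S, Ideal.Quotient.mk m (act ((s : H) * t) θ) * d t = 0) → d = 0 := by
  classical
  let : Field (B ⧸ m) := Ideal.Quotient.field m
  let qm : ↥S → (B ⧸ m) →+* (B ⧸ m) := fun s =>
    Ideal.quotientMap m (act (s : H)).toRingHom (fun b hb => (hS _ s.2 b).2 hb)
  have qm_mk : ∀ (s : ↥S) (b : B), qm s (Ideal.Quotient.mk m b) =
      Ideal.Quotient.mk m (act (s : H) b) := fun s b => rfl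
  letI : MulSemiringAction ↥S (B ⧸ m) :=
    { smul := fun s x => qm s x
      one_smul := fun x => by
        obtain ⟨b, rfl⟩ := Ideal.Quotient.mk_surjective x
        show qm 1 _ = _
        rw [qm_mk, OneMemClass.coe_one, map_one]; rfl
      mul_smul := fun s t x => by
        obtain ⟨b, rfl⟩ := Ideal.Quotient.mk_surjective x
        show qm (s * t) _ = qm s (qm t _)
        rw [qm_mk, qm_mk, qm_mk, Subgroup.coe_mul, map_mul]; rfl
      smul_zero := fun s => map_zero (qm s)
      smul_add := fun s => map_add (qm s)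
      smul_one := fun s => map_one (qm s)
      smul_mul := fun s => map_mul (qm s) }
  have hsmul : ∀ (s : ↥S) (b : B), s • Ideal.Quotient.mk m b =
      Ideal.Quotient.mk m (act (s : H) b) := qm_mk
  have hfaith : FaithfulSMul ↥S (B ⧸ m) := ⟨fun {s t} hst => by
    by_contra hne
    have h1 : ((t : H)⁻¹ * s : H) ≠ 1 := fun h => hne (Subtype.ext (inv_mul_eq_one.1 h).symm)
    obtain ⟨b, hb⟩ := hfree _ h1
    apply hb
    rw [← Ideal.Quotient.eq]
    have h2 := hsmul (t⁻¹ * s) b
    rw [Subgroup.coe_mul, Subgroup.coe_inv] at h2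
    rw [← h2, mul_smul, hst, inv_smul_smul]⟩
  have hG : IsGalois (FixedPoints.subfield ↥S (B ⧸ m)) (B ⧸ m) := inferInstance
  obtain ⟨x, hx⟩ := exists_linearIndependent_algEquiv_apply
    (FixedPoints.subfield ↥S (B ⧸ m)) (B ⧸ m)
  obtain ⟨θ, hθ⟩ := Ideal.Quotient.mk_surjective x
  let e := FixedPoints.toAlgAutMulEquiv ↥S (B ⧸ m)
  have he : ∀ (s : ↥S) (y : B ⧸ m), e s y = s • y := fun s y => rfl
  have hx' : LinearIndependent (FixedPoints.subfield ↥S (B ⧸ m)) (fun s : ↥S => s • x) := by
    have := hx.comp e e.injective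
    simpa [Function.comp_def, he] using this
  refine ⟨θ, fun d hd => ?_⟩
  have hd' : ∀ s : ↥S, ∑ t : ↥S, s • (t • x) * d t = 0 := fun s => by
    rw [← hd s]
    refine Finset.sum_congr rfl fun t _ => ?_
    rw [← mul_smul, ← hθ, hsmul, Subgroup.coe_mul]
  have htr : ∀ (a : B ⧸ m) (t : ↥S), ∑ r : ↥S, r • (a * d t) = 0 := by
    intro a
    let c : ↥S → FixedPoints.subfield ↥S (B ⧸ m) := fun t =>
      ⟨∑ r : ↥S, r • (a * d t), fun g => by
        rw [Finset.smul_sum]
        exact Fintype.sum_equiv (Equiv.mulLeft g) _ _ (fun r => by simp [mul_smul])⟩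
    have hc : ∑ t : ↥S, c t • (t • x) = 0 := by
      have h0 : ∀ r : ↥S, ∑ t : ↥S, (t • x) * (r • (a * d t)) = 0 := fun r => by
        have h1 := congrArg (fun y => r • a * r • y) (hd' r⁻¹)
        simp only [smul_zero, mul_zero, Finset.smul_sum, Finset.mul_sum] at h1
        rw [← h1]
        refine Finset.sum_congr rfl fun t _ => ?_
        rw [smul_mul', smul_mul', smul_inv_smul]
        ring
      calc ∑ t : ↥S, c t • (t • x) = ∑ t : ↥S, ∑ r : ↥S, (t • x) * (r • (a * d t)) := by
            refine Finset.sum_congr rfl fun t _ => ?_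
            rw [Algebra.smul_def, ← Finset.mul_sum, mul_comm]; rfl
        _ = 0 := by rw [Finset.sum_comm]; exact Finset.sum_eq_zero fun r _ => h0 r
    intro t
    have := Fintype.linearIndependent_iff.1 hx' c hc t
    exact congrArg Subtype.val this
  funext t
  let χ : ↥S → (B ⧸ m) →* (B ⧸ m) := fun r => (MulSemiringAction.toRingHom ↥S (B ⧸ m) r).toMonoidHom
  have hχ : Function.Injective χ := fun r r' h =>
    hfaith.eq_of_smul_eq_smul fun y => DFunLike.congr_fun h y
  have hli := (linearIndependent_monoidHom (B ⧸ m) (B ⧸ m)).comp χ hχ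
  have h := Fintype.linearIndependent_iff.1 hli (fun r => r • d t) (by
    funext a
    simp only [Finset.sum_apply, Pi.smul_apply, Function.comp_apply, smul_eq_mul, Pi.zero_apply]
    rw [← htr a t]
    refine Finset.sum_congr rfl fun r _ => ?_
    show r • d t * r • a = _
    rw [smul_mul', mul_comm]) 1
  simpa using h

/-- An element whose conjugates give an invertible matrix. -/
theorem exists_theta [IsArtinianRing B] [DecidableEq H] (act : H →* (B ≃+* B))
    (hfree : ∀ m : Ideal B, m.IsMaximal → ∀ h : H, h ≠ 1 → ∃ b, act h b - b ∉ m) :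
    ∃ θ : B, IsUnit (Matrix.of fun σ g => act (σ * g) θ : Matrix H H B).det := by
  classical
  have act_mul : ∀ (g h : H) (b : B), act (g * h) b = act g (act h b) := fun g h b => by
    rw [map_mul]; rfl
  let s : Setoid (MaximalSpectrum B) :=
    { r := fun m m' => ∃ h : H, ∀ b, b ∈ m.asIdeal ↔ act h b ∈ m'.asIdeal
      iseqv := ⟨fun m => ⟨1, fun b => by rw [map_one]; rfl⟩, by
        rintro m m' ⟨h, hh⟩
        refine ⟨h⁻¹, fun b => ?_⟩
        rw [hh, ← act_mul, mul_inv_cancel, map_one]; rfl, by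
        rintro m m' m'' ⟨h, hh⟩ ⟨g, hg⟩
        exact ⟨g * h, fun b => by rw [hh, hg, act_mul]⟩⟩ }
  let rep : MaximalSpectrum B → MaximalSpectrum B := fun m => (Quotient.mk s m).out
  let St : MaximalSpectrum B → Subgroup H := fun m =>
    { carrier := {h | ∀ b, act h b ∈ m.asIdeal ↔ b ∈ m.asIdeal}
      one_mem' := fun b => by rw [map_one]; rfl
      mul_mem' := fun {g h} hg hh b => by rw [act_mul, hg, hh]
      inv_mem' := fun {g} hg b => by
        rw [← hg, ← act_mul, mul_inv_cancel, map_one]; rfl }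
  have hloc : ∀ m : MaximalSpectrum B, ∃ θ : B, ∀ d : ↥(St m) → B ⧸ m.asIdeal,
      (∀ s : ↥(St m), ∑ t : ↥(St m),
        Ideal.Quotient.mk m.asIdeal (act ((s : H) * t) θ) * d t = 0) → d = 0 := fun m =>
    have := m.isMaximal
    local_theta act m.asIdeal (St m) (fun h hh => hh) (hfree m.asIdeal m.isMaximal)
  choose th hth using hloc
  obtain ⟨θ, hθ⟩ := Ideal.exists_forall_sub_mem_ideal (I := fun m : MaximalSpectrum B => m.asIdeal)
    (fun m m' hne => (Ideal.isCoprime_iff_sup_eq).2
      (m.isMaximal.coprime_of_ne m'.isMaximal (fun e => hne (MaximalSpectrum.ext e))))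
    (fun m => if rep m = m then th m else 0)
  refine ⟨θ, ?_⟩
  by_contra hdet
  obtain ⟨I, hImax, hI⟩ := exists_max_ideal_of_mem_nonunits hdet
  let m' : MaximalSpectrum B := ⟨I, hImax⟩
  obtain ⟨h, hh⟩ : ∃ h : H, ∀ b, b ∈ (rep m').asIdeal ↔ act h b ∈ I :=
    Quotient.exact (Quotient.out_eq (Quotient.mk s m'))
  set m := rep m' with hm
  have hrep : rep m = m := by
    show (Quotient.mk s (rep m')).out = _
    rw [show Quotient.mk s (rep m') = Quotient.mk s m' from Quotient.out_eq _]
  let : Field (B ⧸ I) := Ideal.Quotient.field I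
  let χ := Ideal.Quotient.mk I
  have hd0 : (χ.mapMatrix (Matrix.of fun σ g => act (σ * g) θ : Matrix H H B)).det = 0 := by
    rw [← RingHom.map_det]; exact Ideal.Quotient.eq_zero_iff_mem.2 hI
  obtain ⟨c, hc0, hc⟩ := Matrix.exists_mulVec_eq_zero_iff.2 hd0
  refine hc0 (funext fun g0 => ?_)
  -- the block at the representative
  have hzero : ∀ r : H, r ∉ St m → χ (act (h * r) θ) = 0 := by
    intro r hr
    rw [Ideal.Quotient.eq_zero_iff_mem, act_mul, ← hh]
    let n : MaximalSpectrum B := ⟨m.asIdeal.comap (act r).toRingHom, by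
      have := m.isMaximal
      exact Ideal.comap_isMaximal_of_surjective _ (act r).surjective⟩
    have hnm : Quotient.mk s n = Quotient.mk s m := Quotient.sound ⟨r, fun b => Iff.rfl⟩
    have hne : rep n ≠ n := by
      intro e
      have : n = m := by
        calc n = rep n := e.symm
          _ = rep m := by show (Quotient.mk s n).out = (Quotient.mk s m).out; rw [hnm]
          _ = m := hrep
      exact hr fun b => iff_of_eq (congrArg (fun u : MaximalSpectrum B => b ∈ u.asIdeal) this)
    have := hθ n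
    simp only [hne, if_false, sub_zero] at this
    exact this
  have hval : ∀ r : H, r ∈ St m → χ (act (h * r) θ) = χ (act (h * r) (th m)) := by
    intro r hr
    rw [Ideal.Quotient.eq, act_mul, act_mul, ← map_sub, ← hh, ← map_sub, hr]
    have := hθ m
    simpa only [hrep, if_true] using this
  let κ : B ⧸ m.asIdeal →+* B ⧸ I :=
    Ideal.Quotient.lift m.asIdeal (χ.comp (act h).toRingHom) fun b hb =>
      Ideal.Quotient.eq_zero_iff_mem.2 ((hh b).1 hb)
  have hκs : Function.Surjective κ := fun y => by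
    obtain ⟨b, rfl⟩ := Ideal.Quotient.mk_surjective y
    refine ⟨Ideal.Quotient.mk _ ((act h).symm b), ?_⟩
    show χ (act h ((act h).symm b)) = _
    rw [RingEquiv.apply_symm_apply]
  have := m.isMaximal
  let : Field (B ⧸ m.asIdeal) := Ideal.Quotient.field m.asIdeal
  have hκi : Function.Injective κ := κ.injective
  choose d hd using fun t : ↥(St m) => hκs (c (g0 * t))
  have hd0' : d = 0 := by
    refine hth m d fun s => hκi ?_
    rw [map_sum, map_zero]
    have hrow := congrFun hc (h * s * g0⁻¹)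
    simp only [Matrix.mulVec, dotProduct, RingHom.mapMatrix_apply, Matrix.map_apply,
      Matrix.of_apply, Pi.zero_apply] at hrow
    rw [← hrow, ← Equiv.sum_comp (Equiv.mulLeft g0)]
    rw [← Finset.sum_filter_add_sum_filter_not (univ : Finset H) (fun r => r ∈ St m)]
    have hz : ∑ r ∈ (univ : Finset H).filter (fun r => r ∉ St m),
        χ (act (h * s * g0⁻¹ * (Equiv.mulLeft g0 r)) θ) * c (Equiv.mulLeft g0 r) = 0 := by
      refine Finset.sum_eq_zero fun r hr => ?_
      rw [Finset.mem_filter] at hr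
      have e : h * s * g0⁻¹ * (Equiv.mulLeft g0 r) = h * (s * r) := by simp [mul_assoc]
      rw [e, hzero _ fun hm => hr.2 (by simpa using mul_mem (inv_mem s.2) hm), zero_mul]
    rw [hz, add_zero, Finset.sum_subtype _ (p := fun r => r ∈ St m) (fun r => by simp)]
    refine Finset.sum_congr rfl fun t _ => ?_
    have e : h * s * g0⁻¹ * (Equiv.mulLeft g0 (t : H)) = h * ((s : H) * t) := by simp [mul_assoc]
    rw [map_mul, hd t, e, hval _ (mul_mem s.2 t.2)]
    show χ (act h (act _ _)) * _ = _
    rw [← act_mul]; rfl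
  have := hd 1
  rw [hd0', Pi.zero_apply, map_zero, OneMemClass.coe_one, mul_one] at this
  exact this.symm

/-- Descent: every vector is uniquely `∑ g, g(θ) • c g` with the `c g` fixed. -/
theorem descent [DecidableEq H] {U : Type*} [AddCommGroup U] [Module B U] (act : H →* (B ≃+* B))
    (ρ : H →* AddMonoid.End U) (hsemi : ∀ h b u, ρ h (b • u) = act h b • ρ h u) (θ : B)
    (hθ : IsUnit (Matrix.of fun σ g => act (σ * g) θ : Matrix H H B).det) (u : U) :
    ∃! c : H → U, (∀ g h, ρ h (c g) = c g) ∧ ∑ g, act g θ • c g = u := by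
  let M : Matrix H H B := Matrix.of fun σ g => act (σ * g) θ
  let ap : Matrix H H B → (H → U) → H → U := fun A w σ => ∑ g, A σ g • w g
  have ap_mul : ∀ A A' w, ap A (ap A' w) = ap (A * A') w := fun A A' w => by
    funext σ
    simp only [ap, Finset.smul_sum, smul_smul, Matrix.mul_apply, Finset.sum_smul]
    rw [Finset.sum_comm]
  have ap_one : ∀ w, ap 1 w = w := fun w => by
    funext σ
    simp [ap, Matrix.one_apply, ite_smul]
  have inj : ∀ c c', ap M c = ap M c' → c = c' := fun c c' e => by
    have := congrArg (ap M⁻¹) e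
    rwa [ap_mul, ap_mul, Matrix.nonsing_inv_mul M hθ, ap_one, ap_one] at this
  let w : H → U := fun σ => ρ σ u
  let c := ap M⁻¹ w
  have hc : ap M c = w := by rw [ap_mul, Matrix.mul_nonsing_inv M hθ, ap_one]
  have hM : ∀ (d : H → U), (∀ g h, ρ h (d g) = d g) →
      (∑ g, act g θ • d g = u ↔ ap M d = w) := by
    intro d hdf
    constructor
    · intro e
      funext σ
      show ∑ g, act (σ * g) θ • d g = ρ σ u
      rw [← e, map_sum]
      exact Finset.sum_congr rfl fun g _ => by rw [hsemi, hdf, map_mul]; rfl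
    · intro e
      have := congrFun e 1
      simpa [ap, M, w, Matrix.of_apply] using this
  have hfix : ∀ g h, ρ h (c g) = c g := by
    intro g h
    have key : (fun g => ρ h (c g)) = c := inj _ _ (by
      funext σ
      rw [hc]
      have e := congrArg (ρ h) (congrFun hc (h⁻¹ * σ))
      rw [map_sum] at e
      have e2 : ρ h (w (h⁻¹ * σ)) = w σ := by
        show ρ h (ρ (h⁻¹ * σ) u) = ρ σ u
        show (ρ h * ρ (h⁻¹ * σ)) u = ρ σ u
        rw [← map_mul, mul_inv_cancel_left]
      rw [← e2, ← e]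
      refine Finset.sum_congr rfl fun g _ => ?_
      rw [hsemi]
      show act (σ * g) θ • ρ h (c g) = act h (act (h⁻¹ * σ * g) θ) • ρ h (c g)
      rw [show σ * g = h * (h⁻¹ * σ * g) by group, map_mul]; rfl)
    exact congrFun key g
  refine ⟨c, ⟨hfix, (hM c hfix).2 hc⟩, fun d hd => ?_⟩
  exact inj _ _ (((hM d hd.1).1 hd.2).trans hc.symm)

end Cfsg.Agent.Perm.FreeSemilinear
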