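import Mathlib

/-!
# Four-transitive actions with four-point stabilisers of odd order

The part of M. Hall's theorem that needs no finiteness: involutions, their pairs, and the bound on
the moved set.
-/

set_option autoImplicit false

namespace Cfsg.Agent.Perm.HallFour

variable {G : Type*} [Group G] {Ω : Type*} [MulAction G Ω]

/-- A faithful 4-transitive action in which every element fixing four points has odd order. -/
structure H4 (G : Type*) [Group G] (Ω : Type*) [MulAction G Ω] : Prop where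
  faithful : ∀ g : G, (∀ x : Ω, g • x = x) → g = 1
  trans : ∀ a b c d a' b' c' d' : Ω, [a, b, c, d].Nodup → [a', b', c', d'].Nodup →
    ∃ g : G, g • a = a' ∧ g • b = b' ∧ g • c = c' ∧ g • d = d'
  odd : ∀ (g : G) (a b c d : Ω), [a, b, c, d].Nodup → g • a = a → g • b = b → g • c = c →
    g • d = d → Odd (orderOf g)

/-- The fixed points of an element. -/
def Fx (g : G) (Ω : Type*) [MulAction G Ω] : Set Ω := {x | g • x = x}

theorem mem_Fx {g : G} {x : Ω} : x ∈ Fx g Ω ↔ g • x = x := Iff.rfl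

theorem nodup4 {a b c d : Ω} (h1 : a ≠ b) (h2 : a ≠ c) (h3 : a ≠ d) (h4 : b ≠ c) (h5 : b ≠ d)
    (h6 : c ≠ d) : [a, b, c, d].Nodup := by
  simp [h1, h2, h3, h4, h5, h6]

theorem smul_smul_of_mul_self {t : G} (ht : t * t = 1) (x : Ω) : t • t • x = x := by
  rw [smul_smul, ht, one_smul]

theorem smul_mem_Fx_of_commute {t g : G} (h : Commute t g) {x : Ω} (hx : x ∈ Fx g Ω) :
    t • x ∈ Fx g Ω := by
  rw [mem_Fx, smul_smul, ← h.eq, ← smul_smul, mem_Fx.1 hx]

theorem smul_not_mem_Fx_of_commute {t g : G} (h : Commute t g) {x : Ω} (hx : x ∉ Fx g Ω) :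
    t • x ∉ Fx g Ω := fun hm => hx (by
  have := smul_mem_Fx_of_commute h.inv_left hm
  rwa [inv_smul_smul] at this)

theorem pow_smul_eq_self {g : G} {x : Ω} (h : g • x = x) (n : ℕ) : g ^ n • x = x :=
  (MulAction.stabilizer G x).pow_mem (h : g ∈ MulAction.stabilizer G x) n

/-- An element of odd order whose square fixes a point fixes it. -/
theorem smul_of_sq_smul {g : G} (hg : Odd (orderOf g)) {x : Ω} (h : g • g • x = x) : g • x = x := by
  obtain ⟨j, hj⟩ := hg
  have e : (g * g) ^ (j + 1) = g := by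
    rw [← pow_two, ← pow_mul, show 2 * (j + 1) = orderOf g + 1 by omega, pow_succ,
      pow_orderOf_eq_one, one_mul]
  have := pow_smul_eq_self (g := g * g) (x := x) (by rw [mul_smul, h]) (j + 1)
  rwa [e] at this

theorem inv_pow_of_odd {q : G} {j : ℕ} (hj : orderOf q = 2 * j + 1) :
    (q ^ (j + 1))⁻¹ = q ^ j := by
  refine inv_eq_of_mul_eq_one_left ?_
  rw [← pow_add, show j + (j + 1) = orderOf q by omega, pow_orderOf_eq_one]

/-- `t` and `z t z` differ by an element of odd order; a power of it moves `t` to an involution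
commuting with `z`. -/
theorem adjust {z t : G} (hz : z * z = 1) (ht : t * t = 1)
    (hodd : Odd (orderOf (t * (z * t * z)))) :
    ∃ k : ℕ, (t * (t * (z * t * z)) ^ k) * (t * (t * (z * t * z)) ^ k) = 1 ∧
      Commute z (t * (t * (z * t * z)) ^ k) := by
  obtain ⟨j, hj⟩ := hodd
  have hti : t⁻¹ = t := inv_eq_of_mul_eq_one_left ht
  have hzi : z⁻¹ = z := inv_eq_of_mul_eq_one_left hz
  set q := t * (z * t * z) with hq
  have hqi : q⁻¹ = z * t * z * t := by
    rw [hq, mul_inv_rev, mul_inv_rev, mul_inv_rev, hti, hzi]; group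
  have h1 : t * q * t⁻¹ = q⁻¹ := by
    rw [hqi, hq, hti]
    calc t * (t * (z * t * z)) * t = t * t * (z * t * z * t) := by group
      _ = z * t * z * t := by rw [ht, one_mul]
  have h2 : z * q * z⁻¹ = q⁻¹ := by
    rw [hqi, hq, hzi]
    calc z * (t * (z * t * z)) * z = z * t * z * t * (z * z) := by group
      _ = z * t * z * t := by rw [hz, mul_one]
  have h1k : t * q ^ (j + 1) * t⁻¹ = (q ^ (j + 1))⁻¹ := by rw [← conj_pow, h1, inv_pow]
  have h2k : z * q ^ (j + 1) * z⁻¹ = (q ^ (j + 1))⁻¹ := by rw [← conj_pow, h2, inv_pow]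
  refine ⟨j + 1, ?_, ?_⟩
  · calc t * q ^ (j + 1) * (t * q ^ (j + 1)) = t * q ^ (j + 1) * t⁻¹ * q ^ (j + 1) := by
          rw [hti]; group
      _ = 1 := by rw [h1k, inv_mul_cancel]
  · have e : z * (t * q ^ (j + 1)) * z⁻¹ = t * q ^ (j + 1) := by
      calc z * (t * q ^ (j + 1)) * z⁻¹ = z * t * z⁻¹ * (z * q ^ (j + 1) * z⁻¹) := by group
        _ = t * q * (q ^ (j + 1))⁻¹ := by
            rw [h2k, hzi, show t * q = t * t * (z * t * z) by rw [hq]; group, ht, one_mul]
        _ = t * q ^ (j + 1) := by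
            rw [inv_pow_of_odd hj, mul_assoc, ← pow_succ']
    exact mul_inv_eq_iff_eq_mul.1 e

/-- Two involutions with a product of odd order are conjugate by a power of that product. -/
theorem conj_of_odd {z t : G} (hz : z * z = 1) (ht : t * t = 1) (hodd : Odd (orderOf (t * z))) :
    ∃ k : ℕ, (t * z) ^ k * t * ((t * z) ^ k)⁻¹ = z := by
  obtain ⟨j, hj⟩ := hodd
  have hti : t⁻¹ = t := inv_eq_of_mul_eq_one_left ht
  have hzi : z⁻¹ = z := inv_eq_of_mul_eq_one_left hz
  set q := t * z with hq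
  have h1 : t * q * t⁻¹ = q⁻¹ := by
    rw [hq, mul_inv_rev, hti, hzi, ← mul_assoc t t z, ht, one_mul]
  have h1k : ∀ n : ℕ, q ^ n * t = t * (q ^ n)⁻¹ := fun n => by
    have := (conj_pow (i := n) (a := t) (b := q)).symm
    rw [h1, inv_pow] at this
    calc q ^ n * t = t * (t * q ^ n * t⁻¹) := by rw [hti, ← mul_assoc, ← mul_assoc, ht, one_mul]
      _ = _ := by rw [this]
  refine ⟨j, ?_⟩
  rw [h1k, mul_assoc, ← mul_inv_rev, ← pow_add]
  have e : (q ^ (j + j))⁻¹ = q := by
    refine inv_eq_of_mul_eq_one_left ?_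
    rw [← pow_succ', show j + j + 1 = orderOf q by omega, pow_orderOf_eq_one]
  rw [e, hq, ← mul_assoc, ht, one_mul]

variable (h : H4 G Ω)
include h

theorem eq_one_of_fix4 {g : G} (hg : g * g = 1) {a b c d : Ω} (hn : [a, b, c, d].Nodup)
    (ha : g • a = a) (hb : g • b = b) (hc : g • c = c) (hd : g • d = d) : g = 1 := by
  have ho := h.odd g a b c d hn ha hb hc hd
  have hd2 : orderOf g ∣ 2 := orderOf_dvd_of_pow_eq_one (by rw [pow_two, hg])
  rcases (Nat.dvd_prime Nat.prime_two).1 hd2 with e | e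
  · exact orderOf_eq_one_iff.1 e
  · rw [e] at ho; exact absurd ho (by decide)

theorem card_fix_le {g : G} (hg : g * g = 1) (hg1 : g ≠ 1) (s : Finset Ω)
    (hs : ∀ x ∈ s, g • x = x) : s.card ≤ 3 := by
  classical
  by_contra hlt
  obtain ⟨u, hu, hu4⟩ := Finset.exists_subset_card_eq (s := s) (n := 4) (by omega)
  obtain ⟨a, b, c, d, h1, h2, h3, h4, h5, h6, rfl⟩ := Finset.card_eq_four.1 hu4
  refine hg1 (eq_one_of_fix4 h hg (nodup4 h1 h2 h3 h4 h5 h6) ?_ ?_ ?_ ?_) <;>
    exact hs _ (hu (by simp))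

theorem Fx_finite {g : G} (hg : g * g = 1) (hg1 : g ≠ 1) : (Fx g Ω).Finite := by
  by_contra hinf
  obtain ⟨t, ht, ht4⟩ := Set.Infinite.exists_subset_card_eq hinf 4
  have := card_fix_le h hg hg1 t fun x hx => ht hx
  omega

theorem Fx_ncard_le {g : G} (hg : g * g = 1) (hg1 : g ≠ 1) : (Fx g Ω).ncard ≤ 3 := by
  rw [Set.ncard_eq_toFinset_card _ (Fx_finite h hg hg1)]
  exact card_fix_le h hg hg1 _ fun x hx => ((Set.Finite.mem_toFinset _).1 hx : x ∈ Fx g Ω)

/-- Every transposition of two points fixing two others is induced by an involution. -/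
theorem exists_refl {a b c d : Ω} (hn : [a, b, c, d].Nodup) :
    ∃ t : G, t * t = 1 ∧ t • a = b ∧ t • b = a ∧ t • c = c ∧ t • d = d := by
  have hn' : [b, a, c, d].Nodup := by
    simp only [List.nodup_cons, List.mem_cons, List.not_mem_nil, or_false, not_or, not_false_eq_true,
      List.nodup_nil, and_true] at hn ⊢
    obtain ⟨⟨h1, h2, h3⟩, ⟨h4, h5⟩, h6⟩ := hn
    exact ⟨⟨Ne.symm h1, h4, h5⟩, ⟨h2, h3⟩, h6⟩
  obtain ⟨g, ga, gb, gc, gd⟩ := h.trans a b c d b a c d hn hn'
  have hsa : (g * g) • a = a := by rw [mul_smul, ga, gb]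
  have hsb : (g * g) • b = b := by rw [mul_smul, gb, ga]
  have hsc : (g * g) • c = c := by rw [mul_smul, gc, gc]
  have hsd : (g * g) • d = d := by rw [mul_smul, gd, gd]
  have ho := h.odd (g * g) a b c d hn hsa hsb hsc hsd
  set o := orderOf (g * g) with hoDef
  obtain ⟨i, hi⟩ := ho
  have he : g ^ o = g * (g * g) ^ i := by
    rw [hi, pow_succ', pow_mul, pow_two]
  refine ⟨g ^ o, ?_, ?_, ?_, ?_, ?_⟩
  · rw [← (Commute.refl g).mul_pow, hoDef, pow_orderOf_eq_one]
  all_goals rw [he, mul_smul]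
  · rw [pow_smul_eq_self hsa i, ga]
  · rw [pow_smul_eq_self hsb i, gb]
  · rw [pow_smul_eq_self hsc i, gc]
  · rw [pow_smul_eq_self hsd i, gd]

/-- For two pairs of an involution `z`, an involution commuting with `z` swaps the first pair and
fixes the second pointwise. -/
theorem exists_T {z : G} (hz : z * z = 1) {a c : Ω} (ha : z • a ≠ a) (hc : z • c ≠ c)
    (hca : c ≠ a) (hcz : c ≠ z • a) :
    ∃ T : G, T * T = 1 ∧ Commute z T ∧ T • a = z • a ∧ T • (z • a) = a ∧ T • c = c ∧
      T • (z • c) = z • c := by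
  have hzz := smul_smul_of_mul_self (Ω := Ω) hz
  have hn : [a, z • a, c, z • c].Nodup :=
    nodup4 (Ne.symm ha) (Ne.symm hca) (fun e => hcz (by rw [e, hzz])) (Ne.symm hcz)
      (fun e => hca ((MulAction.injective z) e).symm) (Ne.symm hc)
  obtain ⟨t, ht, t1, t2, t3, t4⟩ := exists_refl h hn
  set q := t * (z * t * z) with hq
  have q1 : q • a = a := by simp only [hq, mul_smul, t2, t1, hzz]
  have q2 : q • (z • a) = z • a := by simp only [hq, mul_smul, t1, t2, hzz]
  have q3 : q • c = c := by simp only [hq, mul_smul, t3, t4, hzz]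
  have q4 : q • (z • c) = z • c := by simp only [hq, mul_smul, t3, t4, hzz]
  obtain ⟨k, hk1, hk2⟩ := adjust hz ht (h.odd q _ _ _ _ hn q1 q2 q3 q4)
  refine ⟨_, hk1, hk2, ?_, ?_, ?_, ?_⟩
  all_goals rw [← hq, mul_smul]
  · rw [pow_smul_eq_self q1, t1]
  · rw [pow_smul_eq_self q2, t2]
  · rw [pow_smul_eq_self q3, t3]
  · rw [pow_smul_eq_self q4, t4]

/-- The partner `z * T` of `exists_T`. -/
theorem exists_T' {z : G} (hz : z * z = 1) {a c : Ω} (ha : z • a ≠ a) (hc : z • c ≠ c)
    (hca : c ≠ a) (hcz : c ≠ z • a) :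
    ∃ T : G, T * T = 1 ∧ Commute z T ∧ T • a = a ∧ T • (z • a) = z • a ∧ T • c = z • c ∧
      T • (z • c) = c := by
  obtain ⟨T, hT, hzT, T1, T2, T3, T4⟩ := exists_T h hz ha hc hca hcz
  have hzz := smul_smul_of_mul_self (Ω := Ω) hz
  refine ⟨z * T, ?_, (Commute.refl z).mul_right hzT, ?_, ?_, ?_, ?_⟩
  · rw [mul_assoc, ← mul_assoc T z, ← hzT.eq, mul_assoc z T, hT, mul_one, hz]
  all_goals rw [mul_smul]
  · rw [T1, hzz]
  · rw [T2]
  · rw [T3]
  · rw [T4, hzz]

/-- Two commuting involutions fixing a common moved pair: an element commuting with `z` which swaps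
one pair of `z` and fixes another pair pointwise fixes at most one fixed point of `z`. -/
theorem unique_fixed {z T : G} (hT : T * T = 1) {a c : Ω} (hT1 : T ≠ 1) (ha : z • a ≠ a)
    (Ta : T • a = a) (Tza : T • (z • a) = z • a) (hc : c ∈ Fx z Ω) (Tc : T • c = c) :
    ∀ d ∈ Fx z Ω, T • d = d → d = c := by
  intro d hd Td
  by_contra hdc
  refine hT1 (eq_one_of_fix4 h hT (nodup4 (Ne.symm ha) ?_ ?_ ?_ ?_ (Ne.symm hdc)) Ta Tza Tc Td)
  · rintro rfl; exact ha hc
  · rintro rfl; exact ha hd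
  · intro e
    apply ha
    have hh : z • z • a = z • a := by rw [e]; exact hc
    exact (MulAction.injective z) hh
  · intro e
    apply ha
    have hh : z • z • a = z • a := by rw [e]; exact hd
    exact (MulAction.injective z) hh

/-- The bound on the moved points of an involution `z`: the pairs other than a chosen one fall into
classes indexed by a fixed point of `z`, at most one pair in each. -/
theorem moved_bound {z : G} (hz : z * z = 1) {y₀ : Ω} (hy₀ : z • y₀ ≠ y₀)
    (hFfin : (Fx z Ω).Finite)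
    (hex : ∀ T : G, T * T = 1 → Commute z T → ∃ x ∈ Fx z Ω, T • x = x)
    (hsame : ∀ (T U : G) (x : Ω), x ∈ Fx z Ω → T * T = 1 → U * U = 1 → T ≠ 1 → U ≠ 1 →
      Commute z T → Commute z U → T • y₀ = y₀ → U • y₀ = y₀ → T • (z • y₀) = z • y₀ →
      U • (z • y₀) = z • y₀ → T • x = x → U • x = x → T = U) :
    Finite Ω ∧ Nat.card Ω ≤ 3 * (Fx z Ω).ncard + 2 := by
  classical
  have hzz := smul_smul_of_mul_self (Ω := Ω) hz
  have hz1 : z ≠ 1 := fun e => hy₀ (by rw [e, one_smul])
  let Y : Ω → Set Ω := fun x => {y | z • y ≠ y ∧ y ≠ y₀ ∧ y ≠ z • y₀ ∧ ∃ T : G, T * T = 1 ∧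
    Commute z T ∧ T • y₀ = y₀ ∧ T • (z • y₀) = z • y₀ ∧ T • y = z • y ∧ T • x = x}
  have hY : ∀ x ∈ Fx z Ω, (Y x).Finite ∧ (Y x).ncard ≤ 2 := by
    intro x hx
    rcases (Y x).eq_empty_or_nonempty with e | ⟨y, hy, hy1, hy2, T, hT, hzT, Ta, Tb, Ty, Tx⟩
    · rw [e]; simp
    have hT1 : T ≠ 1 := fun e => hy (by rw [e, one_smul] at Ty; exact Ty.symm)
    have hzT2 : z * T * (z * T) = 1 := by
      rw [mul_assoc, ← mul_assoc T z, ← hzT.eq, mul_assoc z T, hT, mul_one, hz]
    have hzT1 : z * T ≠ 1 := by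
      intro e
      have : (z * T) • y₀ = y₀ := by rw [e, one_smul]
      rw [mul_smul, Ta] at this
      exact hy₀ this
    have hxfix : x ∈ Fx (z * T) Ω := by
      rw [mem_Fx, mul_smul, Tx]; exact hx
    have hsub : insert x (Y x) ⊆ Fx (z * T) Ω := by
      intro w hw
      rcases hw with rfl | ⟨hw, hw1, hw2, U, hU, hzU, Ua, Ub, Uw, Ux⟩
      · exact hxfix
      · have hU1 : U ≠ 1 := fun e => hw (by rw [e, one_smul] at Uw; exact Uw.symm)
        rw [hsame T U x hx hT hU hT1 hU1 hzT hzU Ta Ua Tb Ub Tx Ux, mem_Fx, mul_smul, Uw, hzz]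
    have hfin := (Fx_finite h hzT2 hzT1).subset hsub
    have hnot : x ∉ Y x := fun hx' => hx'.1 hx
    have hle := Set.ncard_le_ncard hsub (Fx_finite h hzT2 hzT1)
    have hfin' : (Y x).Finite := hfin.subset (Set.subset_insert _ _)
    rw [Set.ncard_insert_of_notMem hnot hfin'] at hle
    have h3 := Fx_ncard_le h hzT2 hzT1
    exact ⟨hfin', by omega⟩
  let s : Finset Ω := {y₀, z • y₀} ∪ hFfin.toFinset ∪
    hFfin.toFinset.attach.biUnion fun x =>
      (hY x.1 ((Set.Finite.mem_toFinset _).1 x.2)).1.toFinset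
  have hall : ∀ y : Ω, y ∈ s := by
    intro y
    by_cases hyF : z • y = y
    · simp [s, mem_Fx, hyF]
    by_cases hy1 : y = y₀
    · simp [s, hy1]
    by_cases hy2 : y = z • y₀
    · simp [s, hy2]
    obtain ⟨T, hT, hzT, T1, T2, T3, -⟩ := exists_T' h hz hy₀ hyF hy1 hy2
    obtain ⟨x, hx, Tx⟩ := hex T hT hzT
    refine Finset.mem_union_right _ (Finset.mem_biUnion.2
      ⟨⟨x, (Set.Finite.mem_toFinset _).2 hx⟩, Finset.mem_attach _ _, ?_⟩)
    exact (Set.Finite.mem_toFinset _).2 ⟨hyF, hy1, hy2, T, hT, hzT, T1, T2, T3, Tx⟩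
  have hfinΩ : Finite Ω := by
    have : Fintype Ω := ⟨s, hall⟩
    infer_instance
  refine ⟨hfinΩ, ?_⟩
  have hcard : Nat.card Ω ≤ s.card := by
    have : Fintype Ω := ⟨s, hall⟩
    rw [Nat.card_eq_fintype_card, ← Finset.card_univ]
    exact Finset.card_le_card fun y _ => hall y
  refine hcard.trans ((Finset.card_union_le _ _).trans ?_)
  have h2 : (hFfin.toFinset.attach.biUnion fun x =>
      (hY x.1 ((Set.Finite.mem_toFinset _).1 x.2)).1.toFinset).card ≤
      hFfin.toFinset.attach.card * 2 := by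
    refine Finset.card_biUnion_le_card_mul _ _ _ fun x _ => ?_
    rw [← Set.ncard_eq_toFinset_card _ _]
    exact (hY x.1 ((Set.Finite.mem_toFinset _).1 x.2)).2
  have h1 : (({y₀, z • y₀} : Finset Ω) ∪ hFfin.toFinset).card ≤ 2 + hFfin.toFinset.card :=
    (Finset.card_union_le _ _).trans (Nat.add_le_add_right (Finset.card_le_two) _)
  rw [Finset.card_attach] at h2
  rw [Set.ncard_eq_toFinset_card _ hFfin]
  omega

omit h in
/-- An involution acting on a set of one or three points fixes one of them. -/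
theorem exists_fixed_three {T : G} (hT : T * T = 1) {F : Set Ω} (hF : ∀ x ∈ F, T • x ∈ F)
    (h3 : F.ncard = 3) : ∃ x ∈ F, T • x = x := by
  obtain ⟨a, b, c, hab, hac, hbc, rfl⟩ := Set.ncard_eq_three.1 h3
  have hTT := smul_smul_of_mul_self (Ω := Ω) hT
  by_contra hcon
  push Not at hcon
  have ha := hcon a (by simp)
  have hb := hcon b (by simp)
  have hc := hcon c (by simp)
  rcases hF a (by simp) with e | e | (e : T • a = c)
  · exact ha e
  · have e' : T • b = a := by rw [← e, hTT]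
    rcases hF c (by simp) with k | k | (k : T • c = c)
    · exact hbc ((MulAction.injective T) (k.trans e'.symm)).symm
    · exact hac ((MulAction.injective T) (k.trans e.symm)).symm
    · exact hc k
  · have e' : T • c = a := by rw [← e, hTT]
    rcases hF b (by simp) with k | k | (k : T • b = c)
    · exact hbc ((MulAction.injective T) (k.trans e'.symm))
    · exact hb k
    · exact hab ((MulAction.injective T) (k.trans e.symm)).symm

omit h in
/-- An element whose square is one fixes as many points as there are, modulo two. -/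
theorem Fx_parity [Finite Ω] {g : G} (hg : g * g = 1) :
    (Fx g Ω).ncard % 2 = Nat.card Ω % 2 := by
  classical
  have := Fintype.ofFinite Ω
  have : Fact (Nat.Prime 2) := ⟨Nat.prime_two⟩
  let σ : Function.End Ω := fun x => g • x
  have hf : σ ^ 2 ^ 1 = 1 := by
    rw [pow_one, pow_two]
    funext x
    exact smul_smul_of_mul_self hg x
  have e : (Fx g Ω).ncard = Fintype.card (Function.fixedPoints σ) := by
    rw [← Nat.card_eq_fintype_card, Nat.card_coe_set_eq]
    rfl
  rw [e, Nat.card_eq_fintype_card]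
  exact (Equiv.Perm.card_fixedPoints_modEq hf).symm

/-- The other two fixed points are swapped. -/
theorem swap_other {z T : G} (hT : T * T = 1) (hT1 : T ≠ 1) (hzT : Commute z T)
    {y₀ : Ω} (hy₀ : z • y₀ ≠ y₀) (Ta : T • y₀ = y₀) (Tza : T • (z • y₀) = z • y₀)
    {x b c : Ω} (hF : Fx z Ω = {x, b, c}) (hxb : x ≠ b) (Tx : T • x = x) :
    T • b = c := by
  have hb : b ∈ Fx z Ω := by rw [hF]; simp
  have hx : x ∈ Fx z Ω := by rw [hF]; simp
  have hTb := smul_mem_Fx_of_commute hzT.symm hb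
  rw [hF] at hTb
  rcases hTb with e | e | e
  · exact absurd ((MulAction.injective T) (e.trans Tx.symm)) (Ne.symm hxb)
  · exact absurd (unique_fixed h hT hT1 hy₀ Ta Tza hx Tx b hb e) (Ne.symm hxb)
  · exact e

end Cfsg.Agent.Perm.HallFour
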