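import Cfsg.Agent.Lib.Perm.HallFour
import Cfsg.Agent.Lib.Fusion.Cores
import Cfsg.Agent.Lib.Solv.UniqueSub
import Cfsg.Agent.Lib.Char.BrauerSuzuki

/-!
# M. Hall's theorem: 4-transitive groups with four-point stabilisers of odd order
-/

set_option autoImplicit false
open scoped Pointwise

namespace Cfsg.Agent.Perm.HallFour

universe u v

/-- The quotient of a finite set by a fixed-point-free involution. -/
theorem half {X : Type v} [Finite X] (f : X → X) (hf : ∀ x, f (f x) = x) (hne : ∀ x, f x ≠ x) :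
    ∃ (Q : Type v) (_ : Finite Q) (π : X → Q), Function.Surjective π ∧
      (∀ x y, π x = π y ↔ (y = x ∨ y = f x)) ∧ Nat.card X = 2 * Nat.card Q := by
  classical
  let s : Setoid X := ⟨fun x y => y = x ∨ y = f x, fun x => Or.inl rfl,
    fun {x y} hxy => hxy.elim (fun e => Or.inl e.symm) (fun e => Or.inr (by rw [e, hf])),
    fun {x y z} h1 h2 => by
      rcases h1 with rfl | rfl <;> rcases h2 with rfl | rfl
      · exact Or.inl rfl
      · exact Or.inr rfl
      · exact Or.inr rfl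
      · exact Or.inl (hf x)⟩
  refine ⟨Quotient s, inferInstance, Quotient.mk s, Quotient.mk_surjective,
    fun x y => Quotient.eq, ?_⟩
  have := Fintype.ofFinite X
  have := Fintype.ofFinite (Quotient s)
  have hfib : ∀ q : Quotient s,
      (Finset.univ.filter fun x : X => Quotient.mk s x = q).card = 2 := by
    intro q
    obtain ⟨x, rfl⟩ := Quotient.mk_surjective q
    have e : (Finset.univ.filter fun y : X => Quotient.mk s y = Quotient.mk s x) = {x, f x} := by
      ext y
      simp only [Finset.mem_filter, Finset.mem_univ, true_and, Finset.mem_insert,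
        Finset.mem_singleton]
      constructor
      · intro he
        exact Quotient.exact he.symm
      · intro he
        exact (Quotient.sound (he : s.r x y)).symm
    rw [e, Finset.card_pair (hne x).symm]
  rw [Nat.card_eq_fintype_card, Nat.card_eq_fintype_card, ← Finset.card_univ,
    Finset.card_eq_sum_card_fiberwise (f := Quotient.mk s) (t := Finset.univ)
      (fun x _ => Finset.mem_coe.2 (Finset.mem_univ _)), Finset.sum_congr rfl fun q _ => hfib q,
    Finset.sum_const, Finset.card_univ, smul_eq_mul, mul_comm]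

/-- Three fixed-point-free involutions generating a semiregular dihedral group of order eight. -/
theorem eight_dvd {X : Type v} [Finite X] (Z U T : X → X) (hZ : ∀ x, Z (Z x) = x)
    (hU : ∀ x, U (U x) = x) (hT : ∀ x, T (T x) = x) (hZU : ∀ x, Z (U x) = U (Z x))
    (hZT : ∀ x, Z (T x) = T (Z x)) (hTU : ∀ x, T (U x) = Z (U (T x)))
    (hz : ∀ x, Z x ≠ x) (hu : ∀ x, U x ≠ x) (huz : ∀ x, U x ≠ Z x) (ht : ∀ x, T x ≠ x)
    (htz : ∀ x, T x ≠ Z x) (htu : ∀ x, T x ≠ U x) (htzu : ∀ x, T x ≠ Z (U x)) :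
    8 ∣ Nat.card X := by
  classical
  obtain ⟨Q₁, _, p, hp, hpeq, hc1⟩ := half Z hZ hz
  have hpe : ∀ x, p (Z x) = p x := fun x => ((hpeq x (Z x)).2 (Or.inr rfl)).symm
  choose g hg using hp
  have hU1 : ∀ x, p (U (g (p x))) = p (U x) := by
    intro x
    rcases (hpeq _ _).1 (hg (p x)) with e | e
    · rw [← e]
    · rw [show U x = Z (U (g (p x))) by rw [hZU, ← e], hpe]
  have hT1 : ∀ x, p (T (g (p x))) = p (T x) := by
    intro x
    rcases (hpeq _ _).1 (hg (p x)) with e | e
    · rw [← e]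
    · rw [show T x = Z (T (g (p x))) by rw [hZT, ← e], hpe]
  let U₁ : Q₁ → Q₁ := fun q => p (U (g q))
  let T₁ : Q₁ → Q₁ := fun q => p (T (g q))
  have eU : ∀ x, U₁ (p x) = p (U x) := hU1
  have eT : ∀ x, T₁ (p x) = p (T x) := hT1
  have hUinv : ∀ q, U₁ (U₁ q) = q := fun q => by
    obtain ⟨x, rfl⟩ : ∃ x, p x = q := ⟨g q, hg q⟩
    rw [eU x, eU (U x), hU]
  have hUne : ∀ q, U₁ q ≠ q := fun q => by
    obtain ⟨x, rfl⟩ : ∃ x, p x = q := ⟨g q, hg q⟩
    rw [eU]
    intro e
    rcases (hpeq _ _).1 e.symm with k | k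
    · exact hu x k
    · exact huz x k
  obtain ⟨Q₂, _, r, hr, hreq, hc2⟩ := half U₁ hUinv hUne
  have hre : ∀ q, r (U₁ q) = r q := fun q => ((hreq q (U₁ q)).2 (Or.inr rfl)).symm
  have hcomm : ∀ q, T₁ (U₁ q) = U₁ (T₁ q) := fun q => by
    obtain ⟨x, rfl⟩ : ∃ x, p x = q := ⟨g q, hg q⟩
    rw [eU, eT, eT, eU, hTU, hpe]
  choose g₂ hg₂ using hr
  have hT2 : ∀ q, r (T₁ (g₂ (r q))) = r (T₁ q) := by
    intro q
    rcases (hreq _ _).1 (hg₂ (r q)) with e | e
    · rw [← e]
    · rw [show T₁ q = U₁ (T₁ (g₂ (r q))) by rw [← hcomm, ← e], hre]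
  let T₂ : Q₂ → Q₂ := fun c => r (T₁ (g₂ c))
  have eT2 : ∀ q, T₂ (r q) = r (T₁ q) := hT2
  have hTinv : ∀ c, T₂ (T₂ c) = c := fun c => by
    obtain ⟨q, rfl⟩ : ∃ q, r q = c := ⟨g₂ c, hg₂ c⟩
    obtain ⟨x, rfl⟩ : ∃ x, p x = q := ⟨g q, hg q⟩
    rw [eT2 (p x), eT x, eT2 (p (T x)), eT (T x), hT]
  have hTne : ∀ c, T₂ c ≠ c := fun c => by
    obtain ⟨q, rfl⟩ : ∃ q, r q = c := ⟨g₂ c, hg₂ c⟩
    obtain ⟨x, rfl⟩ : ∃ x, p x = q := ⟨g q, hg q⟩
    rw [eT2, eT]
    intro e
    rcases (hreq _ _).1 e.symm with k | k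
    · rcases (hpeq _ _).1 k.symm with k' | k'
      · exact ht x k'
      · exact htz x k'
    · rw [eU] at k
      rcases (hpeq _ _).1 k.symm with k' | k'
      · exact htu x k'
      · exact htzu x k'
  obtain ⟨Q₃, _, _, -, -, hc3⟩ := half T₂ hTinv hTne
  exact ⟨Nat.card Q₃, by omega⟩

theorem two_part_eq {a b v w : ℕ} (ha : Odd a) (hb : Odd b) (h : 2 ^ v * a = 2 ^ w * b) :
    v = w := by
  have h1 : 2 ^ v ∣ 2 ^ w := ((Nat.coprime_two_left.2 hb).pow_left v).dvd_of_dvd_mul_right ⟨a, h.symm⟩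
  have h2 : 2 ^ w ∣ 2 ^ v := ((Nat.coprime_two_left.2 ha).pow_left w).dvd_of_dvd_mul_right ⟨b, h⟩
  exact le_antisymm ((Nat.pow_dvd_pow_iff_le_right one_lt_two).1 h1)
    ((Nat.pow_dvd_pow_iff_le_right one_lt_two).1 h2)

variable {G : Type u} [Group G] [Finite G] {Ω : Type v} [MulAction G Ω] [Finite Ω]

/-- The pointwise stabiliser of the fixed points of `z`. -/
def GF (z : G) (Ω : Type v) [MulAction G Ω] : Subgroup G := fixingSubgroup G (Fx z Ω)

omit [Finite G] [Finite Ω] in
theorem mem_GF {z g : G} : g ∈ GF z Ω ↔ ∀ x : Ω, z • x = x → g • x = x :=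
  mem_fixingSubgroup_iff G

omit [Finite G] [Finite Ω] in
theorem self_mem_GF {z : G} : z ∈ GF z Ω := mem_GF.2 fun _ hx => hx

/-- The centraliser of `z` in `GF z`. -/
def CF (z : G) (Ω : Type v) [MulAction G Ω] : Subgroup G :=
  GF z Ω ⊓ Subgroup.centralizer {z}

omit [Finite G] [Finite Ω] in
theorem mem_CF {z g : G} : g ∈ CF z Ω ↔ g ∈ GF z Ω ∧ Commute z g := by
  rw [CF, Subgroup.mem_inf, Subgroup.mem_centralizer_singleton_iff]
  exact and_congr_right fun _ => ⟨fun e => e.symm, fun e => e.symm⟩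

omit [Finite G] [Finite Ω] in
theorem conj_mem_GF {z c g : G} (hc : Commute z c) (hg : g ∈ GF z Ω) :
    c * g * c⁻¹ ∈ GF z Ω := by
  refine mem_GF.2 fun x hx => ?_
  have hx' : c⁻¹ • x ∈ Fx z Ω := smul_mem_Fx_of_commute hc.symm.inv_left hx
  rw [mul_smul, mul_smul, mem_GF.1 hg _ hx', smul_inv_smul]

omit [Finite G] [Finite Ω] in
theorem conj_mem_CF {z c g : G} (hc : Commute z c) (hg : g ∈ CF z Ω) :
    c * g * c⁻¹ ∈ CF z Ω := by
  rw [mem_CF] at hg ⊢
  exact ⟨conj_mem_GF hc hg.1, (hc.mul_right hg.2).mul_right hc.inv_right⟩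

/-- An involution with two fixed points. -/
structure Inv2 (z : G) (Ω : Type v) [MulAction G Ω] : Prop where
  sq : z * z = 1
  ne : z ≠ 1
  two : 2 ≤ (Fx z Ω).ncard

variable (h : H4 G Ω)
include h

omit [Finite G] in
theorem f_eq {z : G} (hz : Inv2 z Ω) : (Fx z Ω).ncard = 2 + Nat.card Ω % 2 := by
  have h1 := Fx_ncard_le h hz.sq hz.ne
  have h2 := Fx_parity (Ω := Ω) hz.sq
  have h3 := hz.two
  omega

omit [Finite G] in
theorem Fx_eq_of_le {z u : G} (hz : Inv2 z Ω) (hu : u * u = 1) (hu1 : u ≠ 1)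
    (hle : Fx z Ω ⊆ Fx u Ω) : Fx u Ω = Fx z Ω := by
  have h2 : Inv2 u Ω := ⟨hu, hu1, hz.two.trans (Set.ncard_le_ncard hle)⟩
  exact (Set.eq_of_subset_of_ncard_le hle (by rw [f_eq h h2, f_eq h hz])).symm

omit [Finite G] in
theorem moved_of_Fx {z u : G} (hz : Inv2 z Ω) (hu : u * u = 1) (hu1 : u ≠ 1)
    (hu' : u ∈ GF z Ω) {x : Ω} (hx : z • x ≠ x) : u • x ≠ x := fun e =>
  hx ((Set.ext_iff.1 (Fx_eq_of_le h hz hu hu1 fun _ hy => mem_GF.1 hu' _ hy) x).1 e)

omit [Finite G] [Finite Ω] in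
theorem nodup_moved {z : G} (hz : z * z = 1) {y a b : Ω} (hy : z • y ≠ y) (ha : a ∈ Fx z Ω)
    (hb : b ∈ Fx z Ω) (hab : a ≠ b) : [y, z • y, a, b].Nodup := by
  have hzy : z • z • y ≠ z • y := fun e => hy ((MulAction.injective z) e)
  refine nodup4 (Ne.symm hy) ?_ ?_ ?_ ?_ hab
  · rintro rfl; exact hy ha
  · rintro rfl; exact hy hb
  · intro e; exact hzy (by rw [e]; exact ha)
  · intro e; exact hzy (by rw [e]; exact hb)

omit [Finite G] in
theorem exists_pair {z : G} (hz : Inv2 z Ω) : ∃ a b : Ω, a ≠ b ∧ a ∈ Fx z Ω ∧ b ∈ Fx z Ω := by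
  obtain ⟨a, b, ha, hb, hab⟩ := (Set.one_lt_ncard_iff).1 (Nat.lt_of_succ_le hz.two)
  exact ⟨a, b, hab, ha, hb⟩

/-- The centraliser of `z` in `GF z` is transitive on the moved points. -/
theorem trans_CF {z : G} (hz : Inv2 z Ω) {y w : Ω} (hy : z • y ≠ y) (hw : z • w ≠ w) :
    ∃ g ∈ CF z Ω, g • y = w := by
  classical
  obtain ⟨a, b, hab, ha, hb⟩ := exists_pair h hz
  have hzz := smul_smul_of_mul_self (Ω := Ω) hz.sq
  obtain ⟨g, g1, g2, g3, g4⟩ := h.trans y (z • y) a b w (z • w) a b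
    (nodup_moved h hz.sq hy ha hb hab) (nodup_moved h hz.sq hw ha hb hab)
  have ha' : g⁻¹ • a = a := inv_smul_eq_iff.2 g3.symm
  have hb' : g⁻¹ • b = b := inv_smul_eq_iff.2 g4.symm
  have hw' : g⁻¹ • w = y := inv_smul_eq_iff.2 g1.symm
  have hzw' : g⁻¹ • (z • w) = z • y := inv_smul_eq_iff.2 g2.symm
  set z' := g * z * g⁻¹ with hz'
  have hz'2 : z' * z' = 1 := by
    rw [hz', show g * z * g⁻¹ * (g * z * g⁻¹) = g * (z * z) * g⁻¹ by group, hz.sq, mul_one,
      mul_inv_cancel]
  set q := z' * z with hq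
  have q1 : q • w = w := by rw [hq, mul_smul, hz', mul_smul, mul_smul, hzw', hzz, g1]
  have q2 : q • (z • w) = z • w := by rw [hq, mul_smul, hzz, hz', mul_smul, mul_smul, hw', g2]
  have q3 : q • a = a := by
    rw [hq, mul_smul, (ha : z • a = a), hz', mul_smul, mul_smul, ha', (ha : z • a = a), g3]
  have q4 : q • b = b := by
    rw [hq, mul_smul, (hb : z • b = b), hz', mul_smul, mul_smul, hb', (hb : z • b = b), g4]
  obtain ⟨k, hk⟩ := conj_of_odd hz.sq hz'2
    (h.odd q w (z • w) a b (nodup_moved h hz.sq hw ha hb hab) q1 q2 q3 q4)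
  set g' := q ^ k * g with hg'
  have hcomm : Commute z g' := by
    have e : g' * z * g'⁻¹ = z := by
      rw [hg', mul_inv_rev, show q ^ k * g * z * (g⁻¹ * (q ^ k)⁻¹) = q ^ k * z' * (q ^ k)⁻¹ by
        rw [hz']; group]
      exact hk
    exact (mul_inv_eq_iff_eq_mul.1 e).symm
  have g'a : g' • a = a := by rw [hg', mul_smul, g3, pow_smul_eq_self q3]
  have g'b : g' • b = b := by rw [hg', mul_smul, g4, pow_smul_eq_self q4]
  refine ⟨g', mem_CF.2 ⟨mem_GF.2 fun x hx => ?_, hcomm⟩,
    by rw [hg', mul_smul, g1, pow_smul_eq_self q1]⟩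
  by_contra hne
  have hxa : x ≠ a := fun e => hne (e ▸ g'a)
  have hxb : x ≠ b := fun e => hne (e ▸ g'b)
  have hga : g' • x ≠ a := fun e => hxa ((MulAction.injective g') (e.trans g'a.symm))
  have hgb : g' • x ≠ b := fun e => hxb ((MulAction.injective g') (e.trans g'b.symm))
  have h4 : ({a, b, x, g' • x} : Finset Ω).card = 4 :=
    Finset.card_eq_four.2 ⟨a, b, x, g' • x, hab, Ne.symm hxa, Ne.symm hga, Ne.symm hxb,
      Ne.symm hgb, Ne.symm hne, rfl⟩
  have := card_fix_le h hz.sq hz.ne {a, b, x, g' • x} (by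
    intro v hv
    simp only [Finset.mem_insert, Finset.mem_singleton] at hv
    rcases hv with rfl | rfl | rfl | rfl
    exacts [ha, hb, hx, smul_mem_Fx_of_commute hcomm.symm hx])
  omega

/-- Elements of `GF z` fixing a moved point have odd order. -/
theorem odd_of_fix {z g : G} (hz : Inv2 z Ω) (hg : g ∈ GF z Ω) {y : Ω} (hy : z • y ≠ y)
    (hgy : g • y = y) : Odd (orderOf g) := by
  by_contra heven
  rw [Nat.not_odd_iff_even] at heven
  obtain ⟨j, hj⟩ := even_iff_two_dvd.1 heven
  have hpos := orderOf_pos g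
  set u := g ^ j with hu
  have hu2 : u * u = 1 := by rw [hu, ← pow_add, show j + j = orderOf g by omega, pow_orderOf_eq_one]
  have hu1 : u ≠ 1 := fun e => by
    have := Nat.le_of_dvd (by omega) (orderOf_dvd_of_pow_eq_one e)
    omega
  exact moved_of_Fx h hz hu2 hu1 (Subgroup.pow_mem _ hg j) hy (pow_smul_eq_self hgy j)

theorem card_sub_dvd {z : G} (hz : Inv2 z Ω) {H : Subgroup G} (hle : H ≤ GF z Ω)
    (hge : CF z Ω ≤ H) :
    ∃ o : ℕ, Odd o ∧ Nat.card H = (Nat.card Ω - (Fx z Ω).ncard) * o := by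
  classical
  obtain ⟨y, hy⟩ : ∃ y : Ω, z • y ≠ y := by
    by_contra hcon
    push Not at hcon
    exact hz.ne (h.faithful z hcon)
  have horb : MulAction.orbit H y = (Fx z Ω)ᶜ := by
    ext w
    constructor
    · rintro ⟨g, rfl⟩ (hw : z • ((g : G) • y) = (g : G) • y)
      have := mem_GF.1 (hle (inv_mem g.2)) _ hw
      rw [inv_smul_smul] at this
      exact hy (by rw [this]; exact hw)
    · intro hw
      obtain ⟨g, hg, e⟩ := trans_CF h hz hy hw
      exact ⟨⟨g, hge hg⟩, e⟩
  refine ⟨Nat.card (MulAction.stabilizer H y), ?_, ?_⟩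
  · rw [← Nat.not_even_iff_odd, even_iff_two_dvd]
    intro hd
    have : Fact (Nat.Prime 2) := ⟨Nat.prime_two⟩
    obtain ⟨s, hs⟩ := exists_prime_orderOf_dvd_card' 2 hd
    have hodd := odd_of_fix h hz (hle (s : H).2) hy (s.2 : (s : H) • y = y)
    rw [Subgroup.orderOf_coe, Subgroup.orderOf_coe, hs] at hodd
    exact absurd hodd (by decide)
  · rw [← Set.ncard_compl, ← horb, ← Nat.card_coe_set_eq, ← Nat.card_prod]
    exact Nat.card_congr (MulAction.orbitProdStabilizerEquivGroup H y).symm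

/-- An odd subgroup of `GF z` normalised by the centraliser of `z` is trivial. -/
theorem odd_trivial {z : G} (hz : Inv2 z Ω) {N : Subgroup G} (hle : N ≤ GF z Ω)
    (hodd : Odd (Nat.card N)) (hinv : ∀ c : G, Commute z c → ∀ n ∈ N, c * n * c⁻¹ ∈ N) :
    N = ⊥ := by
  classical
  refine (Subgroup.eq_bot_iff_forall N).2 fun n hn => h.faithful n fun y => ?_
  by_cases hy : z • y = y
  · exact mem_GF.1 (hle hn) y hy
  by_contra hne
  have hzz := smul_smul_of_mul_self (Ω := Ω) hz.sq
  have hz' : z * z = 1 := hz.sq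
  have hO : ∀ w ∈ MulAction.orbit N y, z • w ≠ w := by
    rintro _ ⟨m, rfl⟩ (hw : z • ((m : G) • y) = (m : G) • y)
    have := mem_GF.1 (hle (inv_mem m.2)) _ hw
    rw [inv_smul_smul] at this
    exact hy (by rw [this]; exact hw)
  have hkey : z • y ∉ MulAction.orbit N y := by
    intro hmem
    have hmaps : ∀ w ∈ MulAction.orbit N y, z • w ∈ MulAction.orbit N y := by
      rintro _ ⟨m, rfl⟩
      obtain ⟨m', hm'⟩ := hmem
      refine ⟨⟨z * m * z⁻¹, hinv z (Commute.refl z) m m.2⟩ * m', ?_⟩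
      show (z * (m : G) * z⁻¹ * (m' : G)) • y = z • ((m : G) • y)
      rw [mul_smul _ (m' : G), show (m' : G) • y = z • y from hm', mul_smul, mul_smul, inv_smul_smul]
    let σ : Equiv.Perm (MulAction.orbit N y) :=
      { toFun := fun w => ⟨z • (w : Ω), hmaps _ w.2⟩
        invFun := fun w => ⟨z • (w : Ω), hmaps _ w.2⟩
        left_inv := fun w => Subtype.ext (hzz _)
        right_inv := fun w => Subtype.ext (hzz _) }
    have := Fintype.ofFinite (MulAction.orbit N y)
    have : Fact (Nat.Prime 2) := ⟨Nat.prime_two⟩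
    have hσ : σ ^ 2 ^ 1 = 1 := by
      rw [pow_one, pow_two]
      exact Equiv.ext fun w => Subtype.ext (hzz _)
    have hdvd : Nat.card (MulAction.orbit N y) ∣ Nat.card N := by
      rw [Nat.card_congr (MulAction.orbitEquivQuotientStabilizer N y)]
      exact Subgroup.index_dvd_card _
    obtain ⟨w, hw⟩ := Equiv.Perm.exists_fixed_point_of_prime (p := 2) (n := 1) (σ := σ) (by
      rw [← Nat.card_eq_fintype_card]
      intro h2
      exact (Nat.not_even_iff_odd.2 hodd) (even_iff_two_dvd.2 (h2.trans hdvd))) hσ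
    exact hO _ w.2 (congrArg Subtype.val hw)
  set w := n • y with hw
  have hwm : w ∈ MulAction.orbit N y := ⟨⟨n, hn⟩, rfl⟩
  have hwz : w ≠ z • y := fun e => hkey (e ▸ hwm)
  obtain ⟨T, hT, hzT, T1, T2, T3, -⟩ := exists_T h hz' hy (hO w hwm) hne hwz
  refine hkey ⟨⟨T * n * T⁻¹, hinv T hzT n hn⟩⁻¹ * ⟨n, hn⟩, ?_⟩
  show ((T * n * T⁻¹)⁻¹ * n) • y = z • y
  rw [mul_smul, ← hw, inv_smul_eq_iff, mul_smul, mul_smul,
    show T⁻¹ • (z • y) = y from inv_smul_eq_iff.2 T1.symm, ← hw, T3]

/-- The odd core of a subgroup of `GF z` normalised by the centraliser of `z` is trivial. -/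
theorem core_trivial {z : G} (hz : Inv2 z Ω) {H : Subgroup G} (hle : H ≤ GF z Ω)
    (hinv : ∀ c : G, Commute z c → ∀ n ∈ H, c * n * c⁻¹ ∈ H) (N : Subgroup H) [hN : N.Normal]
    (hodd : Odd (Nat.card N)) : N = ⊥ := by
  have hle' : N ≤ Cfsg.pPrimeCore 2 H :=
    Cfsg.Agent.Fusion.le_pPrimeCore (Nat.coprime_two_right.2 hodd)
  refine eq_bot_iff.2 (hle'.trans (le_of_eq ?_))
  refine (Subgroup.map_eq_bot_iff_of_injective _ H.subtype_injective).1
    (odd_trivial h hz ((Subgroup.map_subtype_le _).trans hle) ?_ ?_)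
  · rw [Subgroup.card_map_of_injective H.subtype_injective]
    exact Nat.coprime_two_right.1 (Cfsg.Agent.Fusion.card_pPrimeCore_coprime 2 H)
  · intro c hc n hn
    obtain ⟨n', hn', rfl⟩ := hn
    let φ : H ≃* H :=
      { toFun := fun x => ⟨c * x * c⁻¹, hinv c hc x x.2⟩
        invFun := fun x => ⟨c⁻¹ * x * c, by simpa using hinv c⁻¹ hc.inv_right x x.2⟩
        left_inv := fun x => Subtype.ext (by show c⁻¹ * (c * x * c⁻¹) * c = x; group)
        right_inv := fun x => Subtype.ext (by show c * (c⁻¹ * x * c) * c⁻¹ = x; group)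
        map_mul' := fun x y => Subtype.ext (by
          show c * ((x : G) * y) * c⁻¹ = c * x * c⁻¹ * (c * y * c⁻¹); group) }
    refine ⟨φ n', ?_, rfl⟩
    rw [SetLike.mem_coe, ← Cfsg.Agent.Fusion.map_pPrimeCore_equiv φ]
    exact Subgroup.mem_map_of_mem _ hn'

/-- Burnside's theorem leaves only a Sylow `2`-subgroup. -/
theorem card_of_burnside {z : G} (hz : Inv2 z Ω) {H : Subgroup G} (hle : H ≤ GF z Ω)
    (hinv : ∀ c : G, Commute z c → ∀ n ∈ H, c * n * c⁻¹ ∈ H) (S : Sylow 2 H)
    (hS : Subgroup.normalizer ((S : Subgroup H) : Set H) ≤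
      Subgroup.centralizer ((S : Subgroup H) : Set H)) :
    Nat.card H = Nat.card (S : Subgroup H) := by
  have : Fact (Nat.Prime 2) := ⟨Nat.prime_two⟩
  have hc := MonoidHom.ker_transferSylow_isComplement' S hS
  have hbot := core_trivial h hz hle hinv (MonoidHom.transferSylow S hS).ker
    (Nat.not_even_iff_odd.1 fun he =>
      MonoidHom.not_dvd_card_ker_transferSylow S hS (even_iff_two_dvd.1 he))
  rw [← hc.card_mul_card, hbot, Subgroup.card_bot, one_mul]

theorem card_sylow {z : G} (hz : Inv2 z Ω) {H : Subgroup G} (hle : H ≤ GF z Ω)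
    (hge : CF z Ω ≤ H) (S : Sylow 2 H) {v a : ℕ} (ha : Odd a)
    (hd : Nat.card Ω - (Fx z Ω).ncard = 2 ^ v * a) : Nat.card (S : Subgroup H) = 2 ^ v := by
  have : Fact (Nat.Prime 2) := ⟨Nat.prime_two⟩
  obtain ⟨o, ho, hcard⟩ := card_sub_dvd h hz hle hge
  obtain ⟨w, hw⟩ := IsPGroup.iff_card.1 S.2
  have hidx : Odd (S : Subgroup H).index :=
    Nat.not_even_iff_odd.1 fun he => S.not_dvd_index (even_iff_two_dvd.1 he)
  have e := (S : Subgroup H).card_mul_index
  rw [hw, hcard, hd, mul_assoc] at e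
  rw [hw, two_part_eq hidx (ha.mul ho) e]

theorem two_mod_four {z : G} (hz : Inv2 z Ω) {a : ℕ} (ha : Odd a)
    (hd : Nat.card Ω - (Fx z Ω).ncard = 2 * a) : a = 1 := by
  have : Fact (Nat.Prime 2) := ⟨Nat.prime_two⟩
  let S : Sylow 2 (GF z Ω) := default
  have hS := card_sylow h hz le_rfl inf_le_left S (v := 1) ha (by rw [pow_one]; exact hd)
  have hc : Subgroup.normalizer ((S : Subgroup (GF z Ω)) : Set (GF z Ω)) ≤
      Subgroup.centralizer ((S : Subgroup (GF z Ω)) : Set (GF z Ω)) := by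
    intro g hg
    obtain ⟨u, v', huv, huS⟩ := Nat.card_eq_two_iff.1 (hS.trans (pow_one 2))
    refine Subgroup.mem_centralizer_iff.2 fun s hs => ?_
    have hconj : g * s * g⁻¹ ∈ (S : Subgroup (GF z Ω)) := (Subgroup.mem_normalizer_iff.1 hg s).1 hs
    have h2 : ∀ x y : (S : Subgroup (GF z Ω)), x ≠ 1 → y ≠ 1 → x = y := by
      intro x y hx hy
      have h1 := Set.eq_univ_iff_forall.1 huS (1 : (S : Subgroup (GF z Ω)))
      have hx' := Set.eq_univ_iff_forall.1 huS x
      have hy' := Set.eq_univ_iff_forall.1 huS y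
      simp only [Set.mem_insert_iff, Set.mem_singleton_iff] at h1 hx' hy'
      rcases h1 with e | e <;> rcases hx' with k | k <;> rcases hy' with l | l <;>
        first
          | exact k.trans l.symm
          | exact absurd (k.trans e.symm) hx
          | exact absurd (l.trans e.symm) hy
    by_cases hs1 : s = 1
    · rw [hs1, one_mul, mul_one]
    · have := h2 ⟨_, hconj⟩ ⟨s, hs⟩ (fun e => hs1 (conj_eq_one_iff.1 (congrArg Subtype.val e)))
        (fun e => hs1 (congrArg Subtype.val e))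
      exact (mul_inv_eq_iff_eq_mul.1 (congrArg Subtype.val this)).symm
  obtain ⟨o, -, hcard⟩ := card_sub_dvd h hz (le_refl (GF z Ω)) inf_le_left
  rw [card_of_burnside h hz le_rfl (fun c hc' n hn => conj_mem_GF hc' hn) S hc, hS, hd] at hcard
  have : a ∣ 1 := ⟨o, by rw [mul_assoc] at hcard; omega⟩
  exact Nat.dvd_one.1 this

theorem four_mod_eight {z : G} (hz : Inv2 z Ω) {a : ℕ} (ha : Odd a)
    (hd : Nat.card Ω - (Fx z Ω).ncard = 4 * a) : a = 1 := by
  classical
  have : Fact (Nat.Prime 2) := ⟨Nat.prime_two⟩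
  set C := CF z Ω with hC
  have hzC : z ∈ C := mem_CF.2 ⟨self_mem_GF, Commute.refl z⟩
  set z' : C := ⟨z, hzC⟩ with hz'def
  have hz'c : ∀ g : C, Commute z' g := fun g => Subtype.ext (mem_CF.1 g.2).2.eq
  have hz'1 : z' ≠ 1 := fun e => hz.ne (congrArg Subtype.val e)
  let S : Sylow 2 C := default
  have hS := card_sylow h hz inf_le_left le_rfl S (v := 2) ha (by norm_num; exact hd)
  have hzS : z' ∈ (S : Subgroup C) := by
    have hn : (Subgroup.zpowers z').Normal := by
      refine ⟨fun x hx g => ?_⟩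
      obtain ⟨k, rfl⟩ := Subgroup.mem_zpowers_iff.1 hx
      rw [((hz'c g).zpow_left k).symm.eq, mul_inv_cancel_right]
      exact ⟨k, rfl⟩
    have hp : IsPGroup 2 (Subgroup.zpowers z') := by
      refine IsPGroup.of_card (n := 1) ?_
      rw [Nat.card_zpowers, pow_one]
      exact orderOf_eq_prime (Subtype.ext (by rw [pow_two]; exact hz.sq)) hz'1
    exact hp.le_sylow_of_normal S (Subgroup.mem_zpowers z')
  set P := (S : Subgroup C) with hP
  set N := Subgroup.normalizer (P : Set C) with hN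
  have hPab : ∀ x y : C, x ∈ P → y ∈ P → x * y = y * x := by
    intro x y hx hy
    have hcm := IsPGroup.isMulCommutative_of_card_eq_prime_sq (p := 2) (G := P) hS
    exact congrArg Subtype.val (hcm.is_comm.comm (⟨x, hx⟩ : P) ⟨y, hy⟩)
  let ψ : N →* MulAut ↥(P.subgroupOf N) := MulAut.conjNormal
  have hcent : ∀ g : N, ψ g = 1 := by
    intro g
    have hker : P.subgroupOf N ≤ ψ.ker := by
      intro x hx
      refine MulEquiv.ext fun y => Subtype.ext ?_
      rw [MulAut.conjNormal_apply, MulAut.one_apply]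
      refine mul_inv_eq_iff_eq_mul.2 (Subtype.ext ?_)
      exact hPab _ _ hx y.2
    have hidx : Odd ψ.ker.index := by
      refine Odd.of_dvd_nat ?_ (Subgroup.index_dvd_of_le hker)
      refine Odd.of_dvd_nat ?_ (Subgroup.relIndex_dvd_index_of_le (Subgroup.le_normalizer (H := P)))
      exact Nat.not_even_iff_odd.1 fun he => S.not_dvd_index (even_iff_two_dvd.1 he)
    rw [Subgroup.index_ker] at hidx
    have h2 : ψ g ^ 2 = 1 := by
      refine MulEquiv.ext fun y => ?_
      rw [pow_two, MulAut.mul_apply, MulAut.one_apply]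
      -- the four elements of `P`
      by_contra hne
      set zP : ↥(P.subgroupOf N) := ⟨⟨z', Subgroup.le_normalizer hzS⟩, hzS⟩ with hzP
      have hfix : ψ g zP = zP := by
        refine Subtype.ext ?_
        rw [MulAut.conjNormal_apply]
        refine mul_inv_eq_iff_eq_mul.2 (Subtype.ext ?_)
        exact (hz'c (g : C)).symm.eq
      have hone : ψ g 1 = 1 := map_one _
      have hy1 : y ≠ 1 := fun e => hne (by rw [e, hone, hone])
      have hyz : y ≠ zP := fun e => hne (by rw [e, hfix, hfix])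
      have hgy : ψ g y ≠ y := fun e => hne (by rw [e, e])
      have hz1' : zP ≠ 1 := fun e => hz'1 (congrArg (fun t : ↥(P.subgroupOf N) => ((t : N) : C)) e)
      have inj := (ψ g).injective
      have hfive : ({1, zP, y, ψ g y, ψ g (ψ g y)} : Finset ↥(P.subgroupOf N)).card = 5 := by
        have a1 : ψ g y ≠ 1 := fun e => hy1 (inj (e.trans hone.symm))
        have a2 : ψ g (ψ g y) ≠ 1 := fun e => a1 (inj (e.trans hone.symm))
        have a3 : ψ g y ≠ zP := fun e => hyz (inj (e.trans hfix.symm))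
        have a4 : ψ g (ψ g y) ≠ zP := fun e => a3 (inj (e.trans hfix.symm))
        have a5 : ψ g (ψ g y) ≠ ψ g y := fun e => hgy (inj e)
        simp [hz1'.symm, hy1.symm, a1.symm, a2.symm, hyz.symm, a3.symm, a4.symm, hgy.symm,
          Ne.symm hne, a5.symm]
      have := Fintype.ofFinite ↥(P.subgroupOf N)
      have hle5 := Finset.card_le_univ ({1, zP, y, ψ g y, ψ g (ψ g y)} : Finset ↥(P.subgroupOf N))
      have hc4 : Nat.card ↥(P.subgroupOf N) = 4 := by
        rw [Nat.card_congr (Subgroup.subgroupOfEquivOfLe Subgroup.le_normalizer).toEquiv]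
        exact hS.trans (by norm_num)
      rw [hfive, ← Nat.card_eq_fintype_card, hc4] at hle5
      omega
    have hdvd : orderOf (ψ g) ∣ Nat.card ψ.range := Subgroup.orderOf_dvd_natCard _ ⟨g, rfl⟩
    have ho2 : orderOf (ψ g) ∣ 2 := orderOf_dvd_of_pow_eq_one h2
    rcases (Nat.dvd_prime Nat.prime_two).1 ho2 with e | e
    · exact orderOf_eq_one_iff.1 e
    · rw [e] at hdvd
      exact absurd (even_iff_two_dvd.2 hdvd) (Nat.not_even_iff_odd.2 hidx)
  have hc : N ≤ Subgroup.centralizer (P : Set C) := by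
    intro g hg
    refine Subgroup.mem_centralizer_iff.2 fun s hs => ?_
    have e := congrArg (fun t : ↥(P.subgroupOf N) => ((t : N) : C))
      (DFunLike.congr_fun (hcent ⟨g, hg⟩) ⟨⟨s, Subgroup.le_normalizer hs⟩, hs⟩)
    rw [MulAut.one_apply] at e
    simp only [ψ, MulAut.conjNormal_apply, Subgroup.coe_mul, Subgroup.coe_inv] at e
    exact (mul_inv_eq_iff_eq_mul.1 e).symm
  obtain ⟨o, -, hcard⟩ := card_sub_dvd h hz (inf_le_left : C ≤ GF z Ω) le_rfl
  rw [card_of_burnside h hz inf_le_left (fun c hc' n hn => conj_mem_CF hc' hn) S hc, hS, hd]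
    at hcard
  have : a ∣ 1 := ⟨o, by rw [mul_assoc] at hcard; omega⟩
  exact Nat.dvd_one.1 this

/-- An involution commuting with `z`, fixing one pair of `z` pointwise, fixes no moved point
outside this pair. -/
theorem no_other {z T : G} (hz : Inv2 z Ω) (hT : T * T = 1) (hT1 : T ≠ 1) (hzT : Commute z T)
    {p q : Ω} (hp : z • p ≠ p) (hq : z • q ≠ q) (hqp : q ≠ p) (hqz : q ≠ z • p)
    (Tp : T • p = p) (Tzp : T • (z • p) = z • p) : T • q ≠ q := by
  intro Tq
  have hf := f_eq h hz
  have hT2 : Inv2 T Ω := by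
    refine ⟨hT, hT1, ?_⟩
    rw [← Set.ncard_pair (Ne.symm hp)]
    refine Set.ncard_le_ncard ?_
    rintro w (rfl | rfl)
    exacts [Tp, Tzp]
  have hfT := f_eq h hT2
  have h3 : ({p, z • p, q} : Set Ω).ncard = 3 :=
    Set.ncard_eq_three.2 ⟨p, z • p, q, Ne.symm hp, Ne.symm hqp, Ne.symm hqz, rfl⟩
  have hsub : ({p, z • p, q} : Set Ω) ⊆ Fx T Ω := by
    rintro w (rfl | rfl | rfl)
    exacts [Tp, Tzp, Tq]
  have hle := Set.ncard_le_ncard hsub
  rw [h3, hfT] at hle
  have hFx3 : (Fx z Ω).ncard = 3 := by omega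
  obtain ⟨x, hx, Tx⟩ := exists_fixed_three hT
    (fun x hx => smul_mem_Fx_of_commute hzT.symm hx) hFx3
  refine hT1 (eq_one_of_fix4 h hT (nodup4 (Ne.symm hp) (Ne.symm hqp) ?_ (Ne.symm hqz) ?_ ?_) Tp Tzp Tq Tx)
  · rintro rfl; exact hp hx
  · intro e; exact hp ((MulAction.injective z) (show z • z • p = z • p by rw [e]; exact hx))
  · rintro rfl; exact hq hx

omit [Finite G] [Finite Ω] in
theorem mul_self_of_commute {a b : G} (ha : a * a = 1) (hb : b * b = 1) (hab : Commute a b) :
    a * b * (a * b) = 1 := by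
  rw [mul_assoc, ← mul_assoc b a, ← hab.eq, mul_assoc a b, hb, mul_one, ha]

/-- With at least eight moved points in number divisible by eight, `z` is the only involution of its
centraliser in `GF z`. -/
theorem unique_commuting {z u : G} (hz : Inv2 z Ω) (h8 : 8 ∣ Nat.card Ω - (Fx z Ω).ncard)
    (hu : u * u = 1) (hu1 : u ≠ 1) (huF : u ∈ GF z Ω) (hzu : Commute z u) : u = z := by
  classical
  by_contra hne
  have hzz := smul_smul_of_mul_self (Ω := Ω) hz.sq
  have huu := smul_smul_of_mul_self (Ω := Ω) hu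
  obtain ⟨y, hy⟩ : ∃ y : Ω, z • y ≠ y := by
    by_contra hcon
    push Not at hcon
    exact hz.ne (h.faithful z hcon)
  have hzu1 : z * u ≠ 1 := fun e => hne (by
    rw [mul_eq_one_iff_eq_inv'.1 e, inv_eq_of_mul_eq_one_left hz.sq])
  have hzuF : z * u ∈ GF z Ω := Subgroup.mul_mem _ self_mem_GF huF
  set w := u • y with hw
  have hwy : w ≠ y := moved_of_Fx h hz hu hu1 huF hy
  have hzw : z • w ≠ w := smul_not_mem_Fx_of_commute hzu.symm (hy : y ∉ Fx z Ω)
  have hwzy : w ≠ z • y := fun e =>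
    moved_of_Fx h hz (mul_self_of_commute h hz.sq hu hzu) hzu1 hzuF hy
      (by rw [mul_smul, ← hw, e, hzz])
  have huzy : u • (z • y) = z • w := by rw [hw, smul_smul, ← hzu.eq, mul_smul]
  have huzw : u • (z • w) = z • y := by rw [← huzy, huu]
  have huw : u • w = y := by rw [hw, huu]
  obtain ⟨T, hT, hzT, T1, T2, T3, T4⟩ := exists_T h hz.sq hy hzw hwy hwzy
  have hTT := smul_smul_of_mul_self (Ω := Ω) hT
  have hT1 : T ≠ 1 := fun e => hy (by rw [e, one_smul] at T1; exact T1.symm)
  set su := z * (T * u * T) with hsu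
  have hTuT : Commute z (T * u * T) := (hzT.mul_right hzu).mul_right hzT
  have hsu2 : su * su = 1 := by
    refine mul_self_of_commute h hz.sq ?_ hTuT
    calc T * u * T * (T * u * T) = T * (u * (T * T) * u) * T := by group
      _ = 1 := by rw [hT, mul_one, hu, mul_one, hT]
  have s1 : su • y = w := by rw [hsu, mul_smul, mul_smul, mul_smul, T1, huzy, T4, hzz]
  have s2 : su • (z • y) = z • w := by rw [hsu, mul_smul, mul_smul, mul_smul, T2, ← hw, T3]
  have s3 : su • w = y := by rw [hsu, mul_smul, mul_smul, mul_smul, T3, huw, T1, hzz]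
  have s4 : su • (z • w) = z • y := by rw [hsu, mul_smul, mul_smul, mul_smul, T4, huzw, T2]
  have hsuF : su ∈ GF z Ω := by
    refine Subgroup.mul_mem _ self_mem_GF ?_
    have := conj_mem_GF hzT huF
    rwa [inv_eq_of_mul_eq_one_left hT] at this
  set q := u * su with hq
  have hn : [y, z • y, w, z • w].Nodup :=
    nodup4 (Ne.symm hy) (Ne.symm hwy) (fun e => hwzy (by rw [e, hzz])) (Ne.symm hwzy)
      (fun e => hwy ((MulAction.injective z) e).symm) (Ne.symm hzw)
  have hodd := h.odd q y (z • y) w (z • w) hn (by rw [hq, mul_smul, s1, huw])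
    (by rw [hq, mul_smul, s2, huzw]) (by rw [hq, mul_smul, s3, hw])
    (by rw [hq, mul_smul, s4, huzy])
  have hqz : Commute z q := hzu.mul_right ((Commute.refl z).mul_right hTuT)
  have hqi : q⁻¹ = su * u := inv_eq_of_mul_eq_one_left (by
    rw [hq, show su * u * (u * su) = su * (u * u) * su by group, hu, mul_one, hsu2])
  have huq : u * q * u⁻¹ = q⁻¹ := by
    rw [hqi, hq, inv_eq_of_mul_eq_one_left hu, ← mul_assoc, hu, one_mul]
  have hTq : T * q * T⁻¹ = q⁻¹ := by
    rw [hqi, hq, inv_eq_of_mul_eq_one_left hT]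
    calc T * (u * su) * T = T * u * (z * T) * u * (T * T) := by rw [hsu]; group
      _ = T * u * T * (z * u) := by rw [hT, mul_one, hzT.eq]; group
      _ = T * u * T * z * u := by group
      _ = su * u := by rw [hsu, hTuT.eq]
  obtain ⟨j, hj⟩ := hodd
  set u' := u * q ^ (j + 1) with hu'
  have hu'qk : u * q ^ (j + 1) * u⁻¹ = (q ^ (j + 1))⁻¹ := by rw [← conj_pow, huq, inv_pow]
  have hu'2 : u' * u' = 1 := by
    rw [hu']
    calc u * q ^ (j + 1) * (u * q ^ (j + 1)) = u * q ^ (j + 1) * u⁻¹ * q ^ (j + 1) := by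
          rw [inv_eq_of_mul_eq_one_left hu]; group
      _ = 1 := by rw [hu'qk, inv_mul_cancel]
  have hzu' : Commute z u' := hzu.mul_right (hqz.pow_right _)
  have hu'F : u' ∈ GF z Ω :=
    Subgroup.mul_mem _ huF (Subgroup.pow_mem _ (Subgroup.mul_mem _ huF hsuF) _)
  have qy : q • y = y := by rw [hq, mul_smul, s1, huw]
  have qw : q • w = w := by rw [hq, mul_smul, s3, hw]
  have u'y : u' • y = w := by rw [hu', mul_smul, pow_smul_eq_self qy, hw]
  have u'w : u' • w = y := by rw [hu', mul_smul, pow_smul_eq_self qw, huw]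
  have u'zy : u' • (z • y) = z • w := by rw [smul_smul, ← hzu'.eq, mul_smul, u'y]
  have u'zw : u' • (z • w) = z • y := by rw [smul_smul, ← hzu'.eq, mul_smul, u'w]
  have hu'1 : u' ≠ 1 := fun e => hwy (by rw [e, one_smul] at u'y; exact u'y.symm)
  have hzu'1 : z * u' ≠ 1 := fun e => by
    have : (z * u') • y = y := by rw [e, one_smul]
    rw [mul_smul, u'y] at this
    exact hwzy (by rw [← hzz w, this])
  have hTu' : T * u' = z * u' * T := by
    have e1 : T * q ^ (j + 1) * T⁻¹ = (q ^ (j + 1))⁻¹ := by rw [← conj_pow, hTq, inv_pow]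
    have e2 : T * u * T = z * (u * q) := by
      rw [hq, ← mul_assoc u u, hu, one_mul, hsu, ← mul_assoc z z, hz.sq, one_mul]
    calc T * u' = T * u * T * (T * q ^ (j + 1) * T⁻¹) * T := by
          rw [hu', inv_eq_of_mul_eq_one_left hT]
          calc T * (u * q ^ (j + 1)) = T * u * (T * T) * q ^ (j + 1) * (T * T) := by
                rw [hT]; group
            _ = _ := by group
      _ = z * (u * (q * (q ^ (j + 1))⁻¹)) * T := by rw [e2, e1]; group
      _ = z * u' * T := by rw [inv_pow_of_odd hj, ← pow_succ', hu']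
  -- the points outside the quadrangle and the fixed points
  let X : Set Ω := {x | z • x ≠ x} \ {y, z • y, w, z • w}
  have hXmap : ∀ g : G, Commute z g →
      (∀ x, x ∈ ({y, z • y, w, z • w} : Set Ω) → g⁻¹ • x ∈ ({y, z • y, w, z • w} : Set Ω)) →
      ∀ x ∈ X, g • x ∈ X := by
    intro g hg hq4 x hx
    refine ⟨smul_not_mem_Fx_of_commute hg.symm (hx.1 : x ∉ Fx z Ω), fun hm => hx.2 ?_⟩
    have := hq4 _ hm
    rwa [inv_smul_smul] at this
  have hXz : ∀ x ∈ X, z • x ∈ X := hXmap z (Commute.refl z) (by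
    rw [inv_eq_of_mul_eq_one_left hz.sq]
    rintro x (rfl | rfl | rfl | rfl) <;> simp [hzz])
  have hXu : ∀ x ∈ X, u' • x ∈ X := hXmap u' hzu' (by
    rw [inv_eq_of_mul_eq_one_left hu'2]
    rintro x (rfl | rfl | rfl | rfl) <;> simp [u'y, u'zy, u'w, u'zw])
  have hXT : ∀ x ∈ X, T • x ∈ X := hXmap T hzT (by
    rw [inv_eq_of_mul_eq_one_left hT]
    rintro x (rfl | rfl | rfl | rfl) <;> simp [T1, T2, T3, T4])
  have hzu'zy : Commute z (z * T) := (Commute.refl z).mul_right hzT
  have h8X : 8 ∣ Nat.card X := by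
    refine eight_dvd (fun x => ⟨z • (x : Ω), hXz _ x.2⟩) (fun x => ⟨u' • (x : Ω), hXu _ x.2⟩)
      (fun x => ⟨T • (x : Ω), hXT _ x.2⟩) (fun x => Subtype.ext (hzz _))
      (fun x => Subtype.ext (smul_smul_of_mul_self hu'2 _)) (fun x => Subtype.ext (hTT _))
      (fun x => Subtype.ext (by show z • u' • (x : Ω) = u' • z • (x : Ω); rw [smul_smul, hzu'.eq, mul_smul]))
      (fun x => Subtype.ext (by show z • T • (x : Ω) = T • z • (x : Ω); rw [smul_smul, hzT.eq, mul_smul]))
      (fun x => Subtype.ext (by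
        show T • u' • (x : Ω) = z • u' • T • (x : Ω)
        rw [smul_smul, hTu', mul_smul, mul_smul]))
      ?_ ?_ ?_ ?_ ?_ ?_ ?_
    all_goals intro x e
    all_goals have e := congrArg Subtype.val e
    all_goals have hx := x.2.1
    all_goals have hx4 := x.2.2
    all_goals simp only [Set.mem_insert_iff, Set.mem_singleton_iff, not_or] at hx4
    · exact hx e
    · exact moved_of_Fx h hz hu'2 hu'1 hu'F hx e
    · refine moved_of_Fx h hz (mul_self_of_commute h hz.sq hu'2 hzu') hzu'1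
        (Subgroup.mul_mem _ self_mem_GF hu'F) hx ?_
      rw [mul_smul, show u' • (x : Ω) = z • (x : Ω) from e, hzz]
    · exact no_other h hz hT hT1 hzT hzw hx hx4.2.2.1 hx4.2.2.2 T3 T4 e
    · refine no_other h hz (mul_self_of_commute h hz.sq hT hzT) ?_ hzu'zy hy hx hx4.1 hx4.2.1
        (by rw [mul_smul, T1, hzz]) (by rw [mul_smul, T2]) ?_
      · intro k
        have : (z * T) • w = w := by rw [k, one_smul]
        rw [mul_smul, T3] at this
        exact hzw this
      · rw [mul_smul, show T • (x : Ω) = z • (x : Ω) from e, hzz]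
    · -- `u' * T` has square `z`
      have hk : (u' * T) • (x : Ω) = (x : Ω) := by
        rw [mul_smul, show T • (x : Ω) = u' • (x : Ω) from e, smul_smul_of_mul_self hu'2]
      have hsq : u' * T * (u' * T) = z := by
        rw [mul_assoc, ← mul_assoc T, hTu',
          show u' * (z * u' * T * T) = u' * z * u' * (T * T) by group, hT, mul_one,
          ← hzu'.eq, mul_assoc, hu'2, mul_one]
      exact hx (by rw [← hsq, mul_smul, hk, hk])
    · refine hx ?_
      have hk : (z * (u' * T)) • (x : Ω) = (x : Ω) := by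
        rw [mul_smul, mul_smul, show T • (x : Ω) = z • (u' • (x : Ω)) from e,
          smul_smul u' z, ← hzu'.eq, mul_smul, smul_smul_of_mul_self hu'2, hzz]
      have hsq : u' * T * (u' * T) = z := by
        rw [mul_assoc, ← mul_assoc T, hTu',
          show u' * (z * u' * T * T) = u' * z * u' * (T * T) by group, hT, mul_one,
          ← hzu'.eq, mul_assoc, hu'2, mul_one]
      have hsq2 : z * (u' * T) * (z * (u' * T)) = z := by
        have hc := hzu'.mul_right hzT
        calc z * (u' * T) * (z * (u' * T)) = z * (u' * T * z) * (u' * T) := by group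
          _ = z * z * (u' * T * (u' * T)) := by rw [← hc.eq]; group
          _ = z := by rw [hz.sq, one_mul, hsq]
      rw [← hsq2, mul_smul, hk, hk]
  have hcard : Nat.card X + 4 = Nat.card Ω - (Fx z Ω).ncard := by
    have h4 : ({y, z • y, w, z • w} : Set Ω).ncard = 4 := by
      have : ({y, z • y, w, z • w} : Set Ω) = (({y, z • y, w, z • w} : Finset Ω) : Set Ω) := by simp
      rw [this, Set.ncard_coe_finset]
      exact Finset.card_eq_four.2 ⟨_, _, _, _, Ne.symm hy, Ne.symm hwy,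
        fun e => hwzy (by rw [e, hzz]), Ne.symm hwzy, fun e => hwy ((MulAction.injective z) e).symm,
        Ne.symm hzw, rfl⟩
    rw [Nat.card_coe_set_eq, ← Set.ncard_compl,
      show (Fx z Ω)ᶜ = {x | z • x ≠ x} from rfl, ← h4]
    refine Set.ncard_diff_add_ncard_of_subset ?_ ?_
    · rintro x (rfl | rfl | rfl | rfl)
      exacts [hy, fun e => hy ((MulAction.injective z) e), hzw,
        fun e => hzw ((MulAction.injective z) e)]
    · exact Set.toFinite _
  omega

/-- With at least eight moved points in number divisible by eight, `GF z` centralises `z` and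
`z` is its only involution. -/
theorem unique_eight {z : G} (hz : Inv2 z Ω) (h8 : 8 ∣ Nat.card Ω - (Fx z Ω).ncard) :
    (∀ g ∈ GF z Ω, Commute z g) ∧
      ∀ u ∈ GF z Ω, u * u = 1 → u ≠ 1 → u = z := by
  classical
  have : Fact (Nat.Prime 2) := ⟨Nat.prime_two⟩
  obtain ⟨y, hy⟩ : ∃ y : Ω, z • y ≠ y := by
    by_contra hcon
    push Not at hcon
    exact hz.ne (h.faithful z hcon)
  set H := GF z Ω with hH
  set z' : H := ⟨z, self_mem_GF⟩ with hz'
  have hz'1 : z' ≠ 1 := fun e => hz.ne (congrArg Subtype.val e)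
  have hz'2 : z' * z' = 1 := Subtype.ext hz.sq
  have huni : ∀ u : H, u * u = 1 → u ≠ 1 → Commute z' u → u = z' := fun u hu hu1 hc =>
    Subtype.ext (unique_commuting h hz h8 (congrArg Subtype.val hu)
      (fun e => hu1 (Subtype.ext e)) u.2 (congrArg Subtype.val hc.eq))
  suffices hcent : ∀ g : H, Commute z' g by
    refine ⟨fun g hg => congrArg Subtype.val (hcent ⟨g, hg⟩).eq, fun u hu hu2 hu1 => ?_⟩
    exact unique_commuting h hz h8 hu2 hu1 hu (congrArg Subtype.val (hcent ⟨u, hu⟩).eq)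
  have hp : IsPGroup 2 (Subgroup.zpowers z') := by
    refine IsPGroup.of_card (n := 1) ?_
    rw [Nat.card_zpowers, pow_one]
    exact orderOf_eq_prime (by rw [pow_two]; exact hz'2) hz'1
  obtain ⟨S, hS⟩ := hp.exists_le_sylow
  have hzS : z' ∈ (S : Subgroup H) := hS (Subgroup.mem_zpowers _)
  -- the Sylow subgroup has order at least eight
  obtain ⟨k, a, ha, hka⟩ := Nat.exists_eq_two_pow_mul_odd (n := Nat.card Ω - (Fx z Ω).ncard) (by
    rw [← Set.ncard_compl]
    exact ((Set.ncard_pos).2 ⟨y, hy⟩).ne')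
  have hk3 : 3 ≤ k := by
    by_contra hlt
    have h8' : 2 ^ 3 ∣ 2 ^ k := ((Nat.coprime_two_left.2 ha).pow_left 3).dvd_of_dvd_mul_right
      (by rw [← hka]; norm_num; exact h8)
    exact hlt ((Nat.pow_dvd_pow_iff_le_right one_lt_two).1 h8')
  have hcardS : Nat.card (S : Subgroup H) = 2 ^ k :=
    card_sylow h hz le_rfl inf_le_left S ha hka
  -- the centre of the Sylow subgroup
  have : Nontrivial (S : Subgroup H) :=
    ⟨⟨⟨z', hzS⟩, 1, fun e => hz'1 (congrArg Subtype.val e)⟩⟩
  have := S.2.center_nontrivial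
  obtain ⟨c, hc⟩ : ∃ c : Subgroup.center (S : Subgroup H), orderOf c = 2 := by
    refine exists_prime_orderOf_dvd_card' 2 ?_
    obtain ⟨e, he⟩ := IsPGroup.iff_card.1 (S.2.to_subgroup (Subgroup.center (S : Subgroup H)))
    rcases Nat.eq_zero_or_pos e with rfl | hpos
    · rw [pow_zero] at he
      have := (Nat.card_eq_one_iff_unique.1 he).1
      exact absurd this (not_subsingleton _)
    · rw [he]; exact dvd_pow_self 2 hpos.ne'
  have hcz : ((c : (S : Subgroup H)) : H) = z' := by
    refine huni _ ?_ ?_ ?_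
    · have := pow_orderOf_eq_one c
      rw [hc, pow_two] at this
      exact congrArg (fun t : Subgroup.center (S : Subgroup H) => ((t : (S : Subgroup H)) : H)) this
    · intro e
      have : c = 1 := Subtype.ext (Subtype.ext e)
      rw [this, orderOf_one] at hc
      omega
    · exact congrArg Subtype.val (Subgroup.mem_center_iff.1 c.2 ⟨z', hzS⟩)
  have hSz : ∀ s ∈ (S : Subgroup H), Commute z' s := fun s hs => by
    rw [← hcz]
    exact (congrArg Subtype.val (Subgroup.mem_center_iff.1 c.2 ⟨s, hs⟩)).symm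
  have huS : Cfsg.Agent.Solv.UniqueOrderP 2 (S : Subgroup H) := by
    intro x w hx hw hw1
    have hwz : ∀ v : (S : Subgroup H), v ^ 2 = 1 → v ≠ 1 → (v : H) = z' := fun v hv hv1 =>
      huni _ (by rw [← pow_two]; exact congrArg Subtype.val hv)
        (fun e => hv1 (Subtype.ext e)) (hSz _ v.2)
    by_cases hx1 : x = 1
    · rw [hx1]; exact Subgroup.one_mem _
    · rw [show x = w from Subtype.ext ((hwz x hx hx1).trans (hwz w hw hw1).symm)]
      exact Subgroup.mem_zpowers _
  rcases Cfsg.Agent.Solv.cyclic_or_quaternion S.2 huS with hcyc | ⟨-, m, ⟨e⟩⟩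
  · have hN := IsCyclic.normalizer_le_centralizer (G := H) (P := S) (by
      refine ((Nat.minFac_eq_two_iff _).2 ?_)
      exact (dvd_pow_self 2 (by omega : k ≠ 0)).trans (hcardS ▸ Subgroup.card_subgroup_dvd_card _))
      hcyc
    have hcard := card_of_burnside h hz le_rfl (fun c hc' n hn => conj_mem_GF hc' hn) S hN
    have htop : (S : Subgroup H) = ⊤ := Subgroup.eq_top_of_card_eq _ hcard.symm
    exact fun g => hSz g (htop ▸ Subgroup.mem_top g)
  · have hm : 1 ≤ m := by
      by_contra hlt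
      have hm0 : m = 0 := by omega
      have e8 := Nat.card_congr e.toEquiv
      rw [hcardS, hm0, Nat.card_eq_fintype_card, QuaternionGroup.card] at e8
      have : 2 ^ 3 ≤ 2 ^ k := Nat.pow_le_pow_right two_pos hk3
      omega
    obtain ⟨n, rfl⟩ := Nat.exists_eq_add_of_le hm
    rw [add_comm] at e
    have hZ := Cfsg.Agent.Char.card_center_of_quaternion S n e (fun N hN hodd =>
      core_trivial h hz le_rfl (fun c hc' n hn => conj_mem_GF hc' hn) N hodd)
    obtain ⟨u, v, huv, huU⟩ := Nat.card_eq_two_iff.1 hZ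
    obtain ⟨d, hd⟩ : ∃ d : Subgroup.center H, d ≠ 1 := by
      by_cases hu1 : u = 1
      · exact ⟨v, fun e => huv (hu1.trans e.symm)⟩
      · exact ⟨u, hu1⟩
    have hd2 : (d : H) * d = 1 := by
      have : d ^ 2 = 1 := by rw [← hZ]; exact pow_card_eq_one'
      rw [← pow_two]
      exact congrArg Subtype.val this
    have hdz : (d : H) = z' := huni _ hd2 (fun e => hd (Subtype.ext e))
      (Subgroup.mem_center_iff.1 d.2 z')
    intro g
    rw [← hdz]
    exact (Subgroup.mem_center_iff.1 d.2 g).symm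

omit [Finite G] in
theorem inv2_of_two {z : G} (hz : z * z = 1) (hz1 : z ≠ 1) {a b : Ω} (hab : a ≠ b)
    (ha : z • a = a) (hb : z • b = b) : Inv2 z Ω := by
  refine ⟨hz, hz1, ?_⟩
  rw [← Set.ncard_pair hab]
  refine Set.ncard_le_ncard ?_
  rintro w (rfl | rfl)
  exacts [ha, hb]

omit [Finite G] in
theorem exists_inv2 (a b c d : Ω) (hn : [a, b, c, d].Nodup) :
    ∃ t : G, Inv2 t Ω ∧ t • a = b ∧ t • b = a ∧ t • c = c ∧ t • d = d := by
  obtain ⟨t, ht, t1, t2, t3, t4⟩ := exists_refl h hn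
  simp only [List.nodup_cons, List.mem_cons, List.not_mem_nil, or_false, not_or,
    not_false_eq_true, List.nodup_nil, and_true] at hn
  have hab : a ≠ b := hn.1.1
  exact ⟨t, inv2_of_two h ht (fun e => hab (by rw [e, one_smul] at t1; exact t1)) hn.2.2 t3 t4,
    t1, t2, t3, t4⟩

omit [Finite G] [Finite Ω] in
theorem four_points (h4 : 4 ≤ Nat.card Ω) : ∃ a b c d : Ω, [a, b, c, d].Nodup := by
  obtain ⟨e⟩ : Nonempty (Fin 4 ↪ Ω) := by
    have := Nat.finite_of_card_ne_zero (α := Ω) (by omega)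
    have := Fintype.ofFinite Ω
    exact Function.Embedding.nonempty_of_card_le (by rw [Fintype.card_fin, ← Nat.card_eq_fintype_card]; exact h4)
  exact ⟨e 0, e 1, e 2, e 3, nodup4 (e.injective.ne (by decide)) (e.injective.ne (by decide))
    (e.injective.ne (by decide)) (e.injective.ne (by decide)) (e.injective.ne (by decide))
    (e.injective.ne (by decide))⟩

/-- In odd degree `≥ 8 + 3`, two commuting-with-`z` involutions fixing the same three points agree. -/
theorem same_of_three (h8 : 8 ∣ Nat.card Ω - 3) (hn : Nat.card Ω % 2 = 1) {z T U : G} {y₀ x : Ω}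
    (hy₀ : z • y₀ ≠ y₀) (hx : x ∈ Fx z Ω) (hT : T * T = 1) (hU : U * U = 1) (hT1 : T ≠ 1)
    (hU1 : U ≠ 1) (Ta : T • y₀ = y₀) (Ua : U • y₀ = y₀) (Tb : T • (z • y₀) = z • y₀)
    (Ub : U • (z • y₀) = z • y₀) (Tx : T • x = x) (Ux : U • x = x) : T = U := by
  have hI : Inv2 T Ω := inv2_of_two h hT hT1 (Ne.symm hy₀) Ta Tb
  have hJ : Inv2 U Ω := inv2_of_two h hU hU1 (Ne.symm hy₀) Ua Ub
  have h3 : ({y₀, z • y₀, x} : Set Ω).ncard = 3 := by
    refine Set.ncard_eq_three.2 ⟨y₀, z • y₀, x, Ne.symm hy₀, ?_, ?_, rfl⟩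
    · rintro rfl; exact hy₀ hx
    · intro e; exact hy₀ ((MulAction.injective z) (show z • z • y₀ = z • y₀ by rw [e]; exact hx))
  have hfT : (Fx T Ω).ncard = 3 := by rw [f_eq h hI]; omega
  have hfU : (Fx U Ω).ncard = 3 := by rw [f_eq h hJ]; omega
  have eT : ({y₀, z • y₀, x} : Set Ω) = Fx T Ω := Set.eq_of_subset_of_ncard_le
    (by rintro w (rfl | rfl | rfl); exacts [Ta, Tb, Tx]) (by omega)
  have eU : ({y₀, z • y₀, x} : Set Ω) = Fx U Ω := Set.eq_of_subset_of_ncard_le
    (by rintro w (rfl | rfl | rfl); exacts [Ua, Ub, Ux]) (by omega)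
  refine ((unique_eight h hI (by rw [hfT]; exact h8)).2 U ?_ hU hU1).symm
  refine mem_GF.2 fun w hw => ?_
  have : w ∈ Fx U Ω := eU ▸ eT.symm ▸ hw
  exact this

/-- In even degree a 4-transitive group with four-point stabilisers of odd order has degree four or
six; in odd degree five, seven or eleven. -/
theorem degree (h4 : 4 ≤ Nat.card Ω) :
    Nat.card Ω = 4 ∨ Nat.card Ω = 5 ∨ Nat.card Ω = 6 ∨ Nat.card Ω = 7 ∨ Nat.card Ω = 11 := by
  classical
  obtain ⟨a, b, c, d, hn⟩ := four_points h h4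
  obtain ⟨z, hz, za, -, zc, zd⟩ := exists_inv2 h a b c d hn
  simp only [List.nodup_cons, List.mem_cons, List.not_mem_nil, or_false, not_or,
    not_false_eq_true, List.nodup_nil, and_true] at hn
  have hy : z • a ≠ a := by rw [za]; exact Ne.symm hn.1.1
  have hf := f_eq h hz
  obtain ⟨k, o, ho, hko⟩ := Nat.exists_eq_two_pow_mul_odd (n := Nat.card Ω - (Fx z Ω).ncard) (by
    rw [← Set.ncard_compl]
    exact ((Set.ncard_pos).2 ⟨a, hy⟩).ne')
  match k, hko with
  | 0, hko =>
    obtain ⟨j, rfl⟩ := ho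
    omega
  | 1, hko =>
    have := two_mod_four h hz ho (by rw [hko, pow_one])
    omega
  | 2, hko =>
    have := four_mod_eight h hz ho (by rw [hko]; norm_num)
    omega
  | (m + 3), hko =>
    have h8 : 8 ∣ Nat.card Ω - (Fx z Ω).ncard := ⟨2 ^ m * o, by rw [hko, pow_add]; ring⟩
    have hd8 : 8 ≤ Nat.card Ω - (Fx z Ω).ncard := Nat.le_of_dvd (by
      rw [← Set.ncard_compl]
      exact (Set.ncard_pos).2 ⟨a, hy⟩) h8
    obtain ⟨hcent, -⟩ := unique_eight h hz h8
    rcases Nat.mod_two_eq_zero_or_one (Nat.card Ω) with heven | hodd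
    · exfalso
      -- `GF z` cannot centralise `z`
      obtain ⟨w, hw⟩ : ∃ w, w ∉ ({a, z • a, c, d} : Finset Ω) := by
        by_contra hcon
        push Not at hcon
        have := Fintype.ofFinite Ω
        have hle : Fintype.card Ω ≤ ({a, z • a, c, d} : Finset Ω).card := by
          rw [← Finset.card_univ]
          exact Finset.card_le_card fun x _ => hcon x
        have h5 : ({a, z • a, c, d} : Finset Ω).card ≤ 4 := Finset.card_le_four
        rw [Nat.card_eq_fintype_card] at hd8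
        omega
      simp only [Finset.mem_insert, Finset.mem_singleton, not_or] at hw
      have hn1 := nodup_moved h hz.sq hy (zc : c ∈ Fx z Ω) (zd : d ∈ Fx z Ω) hn.2.2
      have hn2 : [a, w, c, d].Nodup := nodup4 (Ne.symm hw.1) hn.1.2.1 hn.1.2.2 hw.2.2.1 hw.2.2.2 hn.2.2
      obtain ⟨g, g1, g2, g3, g4⟩ := h.trans a (z • a) c d a w c d hn1 hn2
      have hF : Fx z Ω = {c, d} := (Set.eq_of_subset_of_ncard_le
        (by rintro v (rfl | rfl); exacts [zc, zd])
        (by rw [Set.ncard_pair hn.2.2]; omega)).symm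
      have hg : g ∈ GF z Ω := mem_GF.2 fun v hv => by
        have : v ∈ Fx z Ω := hv
        rw [hF] at this
        rcases this with rfl | rfl
        exacts [g3, g4]
      exact hw.2.1 (by rw [← g2, smul_smul, ← (hcent g hg).eq, mul_smul, g1])
    · have h3 : (Fx z Ω).ncard = 3 := by omega
      obtain ⟨-, hle⟩ := moved_bound h hz.sq hy (Fx_finite h hz.sq hz.ne)
        (fun T hT hzT => exists_fixed_three hT (fun x hx => smul_mem_Fx_of_commute hzT.symm hx) h3)
        (fun T U x hx hT hU hT1 hU1 _ _ Ta Ua Tb Ub Tx Ux =>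
          same_of_three h (h3 ▸ h8) hodd hy hx hT hU hT1 hU1 Ta Ua Tb Ub Tx Ux)
      omega

/-- In degree eleven an element fixing the fixed points of `z` and a moved point is trivial. -/
theorem rigid (h11 : Nat.card Ω = 11) {z g : G} (hz : Inv2 z Ω) (hg : g ∈ GF z Ω) {y₀ : Ω}
    (hy₀ : z • y₀ ≠ y₀) (hgy : g • y₀ = y₀) : g = 1 := by
  classical
  have hzz := smul_smul_of_mul_self (Ω := Ω) hz.sq
  have h3 : (Fx z Ω).ncard = 3 := by rw [f_eq h hz, h11]
  have h8 : 8 ∣ Nat.card Ω - 3 := by rw [h11]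
  have hn : Nat.card Ω % 2 = 1 := by rw [h11]
  have hgz : Commute z g := (unique_eight h hz (by rw [h3]; exact h8)).1 g hg
  have hgzy : g • (z • y₀) = z • y₀ := by rw [smul_smul, ← hgz.eq, mul_smul, hgy]
  have hodd := odd_of_fix h hz hg hy₀ hgy
  refine h.faithful g fun y => ?_
  by_cases hy : z • y = y
  · exact mem_GF.1 hg y hy
  by_cases hy1 : y = y₀
  · rw [hy1]; exact hgy
  by_cases hy2 : y = z • y₀
  · rw [hy2]; exact hgzy
  obtain ⟨T, hT, hzT, T1, T2, T3, T4⟩ := exists_T' h hz.sq hy₀ hy hy1 hy2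
  obtain ⟨x, hx, Tx⟩ := exists_fixed_three hT
    (fun x hx => smul_mem_Fx_of_commute hzT.symm hx) h3
  have hT1 : T ≠ 1 := fun e => hy (by rw [e, one_smul] at T3; exact T3.symm)
  have e : g * T * g⁻¹ = T := by
    have hgi : g⁻¹ • y₀ = y₀ := inv_smul_eq_iff.2 hgy.symm
    have hgi' : g⁻¹ • (z • y₀) = z • y₀ := inv_smul_eq_iff.2 hgzy.symm
    have hgi'' : g⁻¹ • x = x := inv_smul_eq_iff.2 (mem_GF.1 hg x hx).symm
    refine same_of_three h h8 hn hy₀ hx ?_ hT ?_ hT1 ?_ T1 ?_ T2 ?_ Tx
    · rw [show g * T * g⁻¹ * (g * T * g⁻¹) = g * (T * T) * g⁻¹ by group, hT, mul_one, mul_inv_cancel]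
    · intro e; exact hT1 (conj_eq_one_iff.1 e)
    · rw [mul_smul, mul_smul, hgi, T1, hgy]
    · rw [mul_smul, mul_smul, hgi', T2, hgzy]
    · rw [mul_smul, mul_smul, hgi'', Tx, mem_GF.1 hg x hx]
  have hgT : Commute g T := mul_inv_eq_iff_eq_mul.1 e
  have hzT2 : z * T * (z * T) = 1 := mul_self_of_commute h hz.sq hT hzT
  have hzT1 : z * T ≠ 1 := by
    intro e'
    have : (z * T) • y₀ = y₀ := by rw [e', one_smul]
    rw [mul_smul, T1] at this
    exact hy₀ this
  have hsub : ({x, y, z • y} : Set Ω) ⊆ Fx (z * T) Ω := by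
    rintro w (rfl | rfl | rfl)
    · rw [mem_Fx, mul_smul, Tx]; exact hx
    · rw [mem_Fx, mul_smul, T3, hzz]
    · rw [mem_Fx, mul_smul, T4]
  have hxy : x ≠ y := fun e => hy (e ▸ hx)
  have hxzy : x ≠ z • y := fun e => hy ((MulAction.injective z) (show z • z • y = z • y by rw [← e]; exact hx))
  have e3 : ({x, y, z • y} : Set Ω) = Fx (z * T) Ω := Set.eq_of_subset_of_ncard_le hsub (by
    rw [Set.ncard_eq_three.2 ⟨x, y, z • y, hxy, hxzy, Ne.symm hy, rfl⟩]
    exact Fx_ncard_le h hzT2 hzT1)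
  have hmem : g • y ∈ Fx (z * T) Ω :=
    smul_mem_Fx_of_commute (hgz.symm.mul_right hgT) (hsub (by simp))
  rw [← e3] at hmem
  rcases hmem with k | k | (k : g • y = z • y)
  · exact absurd ((MulAction.injective g) (k.trans (mem_GF.1 hg x hx).symm)) (Ne.symm hxy)
  · exact k
  · refine smul_of_sq_smul hodd ?_
    rw [k, smul_smul, ← hgz.eq, mul_smul, k, hzz]

/-- In degree eleven, for any labelling of four points: an involution `(ab)(cd)` commuting with an
element fixing them, whose fixed points contain all the points moved by that element. -/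
theorem double (h11 : Nat.card Ω = 11) {g : G} {a b c d : Ω} (hn : [a, b, c, d].Nodup)
    (ga : g • a = a) (gb : g • b = b) (gc : g • c = c) (gd : g • d = d) (hg : g ≠ 1) :
    ∃ z : G, Inv2 z Ω ∧ z • a = b ∧ z • b = a ∧ z • c = d ∧
      Fx z Ω = {x | g • x ≠ x} := by
  classical
  -- an involution fixing two of the points and interchanging the others inverts `g`
  have hinv : ∀ (p q r s : Ω) (T : G), [p, q, r, s].Nodup → T * T = 1 → T • p = q → T • q = p →
      T • r = r → T • s = s → ∀ g : G, g • p = p → g • q = q → g • r = r → g • s = s →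
      T * g * T⁻¹ = g⁻¹ := by
    intro p q r s T hn' hT Tp Tq Tr Ts g gp gq gr gs
    have hTi : T⁻¹ = T := inv_eq_of_mul_eq_one_left hT
    have hpq : p ≠ q := fun e => by simp [e] at hn'
    have hrs : r ≠ s := fun e => by simp [e] at hn'
    let K : Subgroup G := fixingSubgroup G ({p, q, r, s} : Set Ω)
    have hK : ∀ x : G, x ∈ K ↔ x • p = p ∧ x • q = q ∧ x • r = r ∧ x • s = s := by
      intro x
      simp only [K, mem_fixingSubgroup_iff, Set.mem_insert_iff, Set.mem_singleton_iff,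
        forall_eq_or_imp, forall_eq]
    have hmap : ∀ x ∈ K, T * x * T⁻¹ ∈ K := by
      intro x hx
      obtain ⟨x1, x2, x3, x4⟩ := (hK x).1 hx
      rw [hK, hTi]
      simp only [mul_smul, Tp, Tq, Tr, Ts, x1, x2, x3, x4, and_self]
    let φ : K →* K := MonoidHom.mk' (fun x => ⟨T * x * T⁻¹, hmap x x.2⟩)
      (fun x y => Subtype.ext (by
        show T * ((x : G) * y) * T⁻¹ = T * x * T⁻¹ * (T * y * T⁻¹); group))
    have hfree : MonoidHom.FixedPointFree φ := by
      intro x hx
      have hc : Commute (x : G) T := by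
        have e : T * (x : G) * T⁻¹ = x := congrArg Subtype.val hx
        exact (mul_inv_eq_iff_eq_mul.1 e).symm
      obtain ⟨x1, x2, x3, x4⟩ := (hK x).1 x.2
      have hT2 : Inv2 T Ω := inv2_of_two h hT (fun e => hpq (by rw [e, one_smul] at Tp; exact Tp))
        hrs Tr Ts
      refine Subtype.ext (rigid h h11 hT2 (mem_GF.2 fun w hw => ?_) (y₀ := p)
        (by rw [Tp]; exact Ne.symm hpq) x1)
      by_contra hne
      have hwr : w ≠ r := fun e => hne (e ▸ x3)
      have hws : w ≠ s := fun e => hne (e ▸ x4)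
      have hxr : (x : G) • w ≠ r := fun e => hwr ((MulAction.injective (x : G)) (e.trans x3.symm))
      have hxs : (x : G) • w ≠ s := fun e => hws ((MulAction.injective (x : G)) (e.trans x4.symm))
      have h4 : ({r, s, w, (x : G) • w} : Finset Ω).card = 4 :=
        Finset.card_eq_four.2 ⟨r, s, w, _, hrs, Ne.symm hwr, Ne.symm hxr, Ne.symm hws, Ne.symm hxs,
          Ne.symm hne, rfl⟩
      have := card_fix_le h hT hT2.ne {r, s, w, (x : G) • w} (by
        intro v hv
        simp only [Finset.mem_insert, Finset.mem_singleton] at hv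
        rcases hv with rfl | rfl | rfl | rfl
        exacts [Tr, Ts, hw, smul_mem_Fx_of_commute hc hw])
      omega
    have hφ2 : Function.Involutive φ := fun x => Subtype.ext (by
      show T * (T * x * T⁻¹) * T⁻¹ = x
      rw [hTi]
      calc T * (T * (x : G) * T) * T = T * T * x * (T * T) := by group
        _ = x := by rw [hT, one_mul, mul_one])
    exact congrArg Subtype.val
      (congrFun (hfree.coe_eq_inv_of_involutive hφ2) ⟨g, (hK g).2 ⟨gp, gq, gr, gs⟩⟩)
  have hn' := hn
  simp only [List.nodup_cons, List.mem_cons, List.not_mem_nil, or_false, not_or,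
    not_false_eq_true, List.nodup_nil, and_true] at hn'
  obtain ⟨⟨hab, hac, had⟩, ⟨hbc, hbd⟩, hcd⟩ := hn'
  have hn2 : [c, d, a, b].Nodup :=
    nodup4 hcd (Ne.symm hac) (Ne.symm hbc) (Ne.symm had) (Ne.symm hbd) hab
  obtain ⟨T, hT, T1, T2, T3, T4⟩ := exists_refl h hn
  obtain ⟨U, hU, U1, U2, U3, U4⟩ := exists_refl h hn2
  have eT := hinv a b c d T hn hT T1 T2 T3 T4 g ga gb gc gd
  have eU := hinv c d a b U hn2 hU U1 U2 U3 U4 g gc gd ga gb
  have hπg : Commute (T * U) g := by
    have e : T * U * g * (T * U)⁻¹ = g := by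
      rw [mul_inv_rev, show T * U * g * (U⁻¹ * T⁻¹) = T * (U * g * U⁻¹) * T⁻¹ by group, eU,
        ← conj_inv, eT, inv_inv]
    exact mul_inv_eq_iff_eq_mul.1 e
  set π := T * U with hπ
  have pa : π • a = b := by rw [hπ, mul_smul, U3, T1]
  have pb : π • b = a := by rw [hπ, mul_smul, U4, T2]
  have pc : π • c = d := by rw [hπ, mul_smul, U1, T4]
  have pd : π • d = c := by rw [hπ, mul_smul, U2, T3]
  have qa : (π * π) • a = a := by rw [mul_smul, pa, pb]
  have qb : (π * π) • b = b := by rw [mul_smul, pb, pa]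
  have qc : (π * π) • c = c := by rw [mul_smul, pc, pd]
  have qd : (π * π) • d = d := by rw [mul_smul, pd, pc]
  have ho := h.odd (π * π) a b c d hn qa qb qc qd
  set o := orderOf (π * π) with hoDef
  obtain ⟨i, hi⟩ := ho
  have he : π ^ o = π * (π * π) ^ i := by rw [hi, pow_succ', pow_mul, pow_two]
  set z := π ^ o with hzdef
  have hz2 : z * z = 1 := by rw [hzdef, ← (Commute.refl π).mul_pow, hoDef, pow_orderOf_eq_one]
  have za : z • a = b := by rw [he, mul_smul, pow_smul_eq_self qa, pa]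
  have zb : z • b = a := by rw [he, mul_smul, pow_smul_eq_self qb, pb]
  have zc : z • c = d := by rw [he, mul_smul, pow_smul_eq_self qc, pc]
  have zd : z • d = c := by rw [he, mul_smul, pow_smul_eq_self qd, pd]
  have hzg : Commute z g := hπg.pow_left o
  have hay : z • a ≠ a := by rw [za]; exact Ne.symm hab
  have hz1 : z ≠ 1 := fun e => hay (by rw [e, one_smul])
  have hFfin := Fx_finite h hz2 hz1
  have hpar := Fx_parity (Ω := Ω) hz2
  rw [h11] at hpar
  have hle3 := Fx_ncard_le h hz2 hz1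
  have h3 : (Fx z Ω).ncard = 3 := by
    by_contra hne
    have h1 : (Fx z Ω).ncard = 1 := by omega
    obtain ⟨e, he1⟩ := Set.ncard_eq_one.1 h1
    obtain ⟨-, hle⟩ := moved_bound h hz2 hay hFfin
      (fun S hS hzS => ⟨e, he1 ▸ rfl, by
        have := smul_mem_Fx_of_commute hzS.symm (he1 ▸ rfl : e ∈ Fx z Ω)
        rw [he1] at this
        exact this⟩)
      (fun S R x hx hS hR hS1 hR1 _ _ Sa Ra Sb Rb Sx Rx =>
        same_of_three h (by rw [h11]) (by rw [h11]) hay hx hS hR hS1 hR1 Sa Ra Sb Rb Sx Rx)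
    omega
  have hI : Inv2 z Ω := ⟨hz2, hz1, by omega⟩
  have hzz := smul_smul_of_mul_self (Ω := Ω) hz2
  have hodd := h.odd g a b c d hn ga gb gc gd
  have hfix : ∀ y : Ω, z • y ≠ y → g • y = y := by
    intro y hy
    by_contra hne
    have hne2 : g • g • y ≠ y := fun e => hne (smul_of_sq_smul hodd e)
    have hne3 : g • g • y ≠ g • y := fun e => hne ((MulAction.injective g) e)
    have hgv : ∀ v : Ω, z • (g • v) = g • (z • v) := fun v => by rw [smul_smul, hzg.eq, mul_smul]
    have hgy := hgv y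
    have k1 : z • y ≠ g • y := fun e => hne2 (by rw [← e, ← hgy, ← e, hzz])
    have k2 : z • y ≠ g • g • y := by
      intro e
      have e4 : g • g • g • g • y = y := by
        rw [← e, ← hgv, ← hgv, ← e, hzz]
      have := smul_of_sq_smul (g := g * g) (x := y)
        (h.odd (g * g) a b c d hn (by rw [mul_smul, ga, ga]) (by rw [mul_smul, gb, gb])
          (by rw [mul_smul, gc, gc]) (by rw [mul_smul, gd, gd]))
        (by rw [mul_smul, mul_smul]; exact e4)
      exact hne2 (by rw [← mul_smul]; exact this)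
    have k3 : z • (g • y) ≠ y := fun e => k1 (by rw [← hzz (g • y), e])
    have k4 : z • (g • y) ≠ g • y := smul_not_mem_Fx_of_commute hzg.symm (hy : y ∉ Fx z Ω)
    have k5 : z • (g • y) ≠ g • g • y := fun e => k1
      ((MulAction.injective g) (hgy.symm.trans e))
    have k6 : z • (g • y) ≠ z • y := fun e => hne ((MulAction.injective z) e)
    -- five points among the four moved points outside the quadrangle
    let R : Finset Ω := {y, g • y, g • g • y, z • y, z • (g • y)}
    have hR : R.card = 5 := by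
      simp [R, Ne.symm hne, Ne.symm hne2, Ne.symm hy, Ne.symm k3, Ne.symm hne3, Ne.symm k1,
        Ne.symm k4, Ne.symm k2, Ne.symm k5, Ne.symm k6]
    let F' : Finset Ω := hFfin.toFinset ∪ {a, b, c, d}
    have hF' : F'.card = 7 := by
      rw [Finset.card_union_of_disjoint, ← Set.ncard_eq_toFinset_card, h3,
        Finset.card_eq_four.2 ⟨a, b, c, d, hab, hac, had, hbc, hbd, hcd, rfl⟩]
      rw [Finset.disjoint_left]
      intro v hv
      rw [Set.Finite.mem_toFinset] at hv
      simp only [Finset.mem_insert, Finset.mem_singleton]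
      rintro (rfl | rfl | rfl | rfl)
      · exact hay hv
      · exact hab ((zb.symm.trans hv))
      · exact hcd (hv.symm.trans zc)
      · exact hcd (zd.symm.trans hv)
    have hg' : ∀ v, v ∉ F' → g • v ∉ F' := by
      intro v hv hm
      simp only [F', Finset.mem_union, Set.Finite.mem_toFinset, Finset.mem_insert,
        Finset.mem_singleton, not_or] at hv hm
      obtain ⟨hvF, hva, hvb, hvc, hvd⟩ := hv
      rcases hm with k | k | k | k | k
      · exact smul_not_mem_Fx_of_commute hzg.symm hvF k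
      · exact hva ((MulAction.injective g) (k.trans ga.symm))
      · exact hvb ((MulAction.injective g) (k.trans gb.symm))
      · exact hvc ((MulAction.injective g) (k.trans gc.symm))
      · exact hvd ((MulAction.injective g) (k.trans gd.symm))
    have hz' : ∀ v, v ∉ F' → z • v ∉ F' := by
      intro v hv hm
      simp only [F', Finset.mem_union, Set.Finite.mem_toFinset, Finset.mem_insert,
        Finset.mem_singleton, not_or] at hv hm
      obtain ⟨hvF, hva, hvb, hvc, hvd⟩ := hv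
      rcases hm with k | k | k | k | k
      · exact smul_not_mem_Fx_of_commute (Commute.refl z) hvF k
      · exact hvb (by rw [← hzz v, k, za])
      · exact hva (by rw [← hzz v, k, zb])
      · exact hvd (by rw [← hzz v, k, zc])
      · exact hvc (by rw [← hzz v, k, zd])
    have hyF : y ∉ F' := by
      simp only [F', Finset.mem_union, Set.Finite.mem_toFinset, Finset.mem_insert,
        Finset.mem_singleton, not_or]
      exact ⟨hy, fun e => hne (by rw [e, ga]), fun e => hne (by rw [e, gb]),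
        fun e => hne (by rw [e, gc]), fun e => hne (by rw [e, gd])⟩
    have := Fintype.ofFinite Ω
    have hdisj : Disjoint R F' := by
      rw [Finset.disjoint_left]
      intro v hv
      simp only [R, Finset.mem_insert, Finset.mem_singleton] at hv
      rcases hv with rfl | rfl | rfl | rfl | rfl
      exacts [hyF, hg' _ hyF, hg' _ (hg' _ hyF), hz' _ hyF, hz' _ (hg' _ hyF)]
    have := Finset.card_le_univ (R ∪ F')
    rw [Finset.card_union_of_disjoint hdisj, hR, hF', ← Nat.card_eq_fintype_card, h11] at this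
    omega
  refine ⟨z, hI, za, zb, zc, Set.ext fun x => ⟨fun hx => fun gx => hg ?_,
    fun hx => not_not.1 fun hzx => hx (hfix x hzx)⟩⟩
  refine rigid h h11 hI (mem_GF.2 fun w hw => ?_) hay ga
  by_contra hne
  have hwx : w ≠ x := fun e => hne (e ▸ gx)
  have hgw : g • w ∈ Fx z Ω := smul_mem_Fx_of_commute hzg.symm hw
  have hgwx : g • w ≠ x := fun e => hwx ((MulAction.injective g) (e.trans gx.symm))
  have hggw : g • g • w ∈ Fx z Ω := smul_mem_Fx_of_commute hzg.symm hgw
  have hggwx : g • g • w ≠ x := fun e => hgwx ((MulAction.injective g) (e.trans gx.symm))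
  have hFeq : ({x, w, g • w} : Set Ω) = Fx z Ω := Set.eq_of_subset_of_ncard_le
    (by rintro v (rfl | rfl | rfl); exacts [hx, hw, hgw])
    (by rw [h3, Set.ncard_eq_three.2 ⟨x, w, g • w, Ne.symm hwx, Ne.symm hgwx, Ne.symm hne, rfl⟩])
  rw [← hFeq] at hggw
  rcases hggw with k | k | (k : g • g • w = g • w)
  · exact hggwx k
  · exact hne (smul_of_sq_smul hodd k)
  · exact hne ((MulAction.injective g) k)

/-- In degree eleven the four-point stabilisers are trivial. -/
theorem stab_eleven (h11 : Nat.card Ω = 11) {g : G} {a b c d : Ω} (hn : [a, b, c, d].Nodup)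
    (ga : g • a = a) (gb : g • b = b) (gc : g • c = c) (gd : g • d = d) : g = 1 := by
  by_contra hg
  have hn' := hn
  simp only [List.nodup_cons, List.mem_cons, List.not_mem_nil, or_false, not_or,
    not_false_eq_true, List.nodup_nil, and_true] at hn'
  obtain ⟨⟨hab, hac, had⟩, ⟨hbc, hbd⟩, hcd⟩ := hn'
  have hn2 : [a, c, b, d].Nodup := nodup4 hac hab had (Ne.symm hbc) hcd hbd
  obtain ⟨z, hz, za, -, -, hF⟩ := double h h11 hn ga gb gc gd hg
  obtain ⟨w, hw, wa, -, -, hF'⟩ := double h h11 hn2 ga gc gb gd hg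
  have h3 : (Fx z Ω).ncard = 3 := by rw [f_eq h hz, h11]
  have e : w = z := (unique_eight h hz (by rw [h3, h11])).2 w
    (mem_GF.2 fun x hx => by
      have : x ∈ Fx w Ω := hF'.symm ▸ hF ▸ hx
      exact this) hw.sq hw.ne
  rw [e, za] at wa
  exact hbc wa

end Cfsg.Agent.Perm.HallFour
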