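import Cfsg.Agent.Lib.Perm.HallFourFinite

/-!
# M. Hall's theorem for permutation groups
-/

set_option autoImplicit false
open Cfsg.Agent.Perm.HallFour

namespace Cfsg.Agent.Perm.HallFourPerm

variable {α : Type*} [Fintype α] [DecidableEq α] {G : Subgroup (Equiv.Perm α)}

theorem h4_of_perm (hG : MulAction.IsMultiplyPretransitive G α 4) (x : Fin 4 ↪ α)
    (hodd : Odd (Nat.card (MulAction.stabilizer G x))) : H4 G α := by
  have emb : ∀ a b c d : α, [a, b, c, d].Nodup →
      ∃ y : Fin 4 ↪ α, y 0 = a ∧ y 1 = b ∧ y 2 = c ∧ y 3 = d := fun a b c d hn =>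
    ⟨⟨fun i => [a, b, c, d].get i, List.nodup_iff_injective_get.1 hn⟩, rfl, rfl, rfl, rfl⟩
  refine ⟨fun g hg => Subtype.ext (Equiv.ext hg), fun a b c d a' b' c' d' hn hn' => ?_,
    fun g a b c d hn ha hb hc hd => ?_⟩
  · obtain ⟨y, y0, y1, y2, y3⟩ := emb a b c d hn
    obtain ⟨z, z0, z1, z2, z3⟩ := emb a' b' c' d' hn'
    obtain ⟨g, hg⟩ := hG.exists_smul_eq y z
    refine ⟨g, ?_, ?_, ?_, ?_⟩
    · rw [← y0, ← z0, ← hg]; rfl
    · rw [← y1, ← z1, ← hg]; rfl
    · rw [← y2, ← z2, ← hg]; rfl
    · rw [← y3, ← z3, ← hg]; rfl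
  · obtain ⟨y, y0, y1, y2, y3⟩ := emb a b c d hn
    obtain ⟨k, hk⟩ := hG.exists_smul_eq x y
    have hy : g • y = y := Function.Embedding.ext fun i => by
      rw [Function.Embedding.smul_apply]
      fin_cases i
      · show g • y 0 = y 0; rw [y0]; exact ha
      · show g • y 1 = y 1; rw [y1]; exact hb
      · show g • y 2 = y 2; rw [y2]; exact hc
      · show g • y 3 = y 3; rw [y3]; exact hd
    have hmem : k⁻¹ * g * k ∈ MulAction.stabilizer G x := by
      refine MulAction.mem_stabilizer_iff.2 (Function.Embedding.ext fun i => ?_)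
      have h1 : k • x i = y i := DFunLike.congr_fun hk i
      have h2 : g • y i = y i := DFunLike.congr_fun hy i
      show (k⁻¹ * g * k) • x i = x i
      rw [mul_smul, mul_smul, h1, h2, ← h1, inv_smul_smul]
    have e : orderOf (k⁻¹ * g * k) = orderOf g := by
      have := orderOf_injective (MulAut.conj k⁻¹).toMonoidHom (MulAut.conj k⁻¹).injective g
      simpa using this
    rw [← e]
    exact hodd.of_dvd_nat (Subgroup.orderOf_dvd_natCard _ hmem)

omit [DecidableEq α] in
theorem card_eq (hG : MulAction.IsMultiplyPretransitive G α 4) (x : Fin 4 ↪ α) :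
    Nat.card G = (Fintype.card α).descFactorial 4 * Nat.card (MulAction.stabilizer G x) := by
  classical
  rw [← Nat.card_congr (MulAction.orbitProdStabilizerEquivGroup G x), Nat.card_prod]
  congr 1
  refine (Nat.card_congr ((Equiv.setCongr (Set.eq_univ_iff_forall.2 fun y => ?_)).trans
    (Equiv.Set.univ _))).trans ?_
  · exact hG.exists_smul_eq x y
  · rw [Nat.card_eq_fintype_card, Fintype.card_embedding_eq, Fintype.card_fin]

/-- The symmetric group of degree seven has no subgroup of index six. -/
theorem index_ne_six (h7 : Fintype.card α = 7) : G.index ≠ 6 := by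
  intro h6
  set K := G.normalCore with hK
  have hA : alternatingGroup α ≤ K := by
    have : IsSimpleGroup (alternatingGroup α) :=
      alternatingGroup.isSimpleGroup (by rw [Nat.card_eq_fintype_card]; omega)
    have hn : (K.subgroupOf (alternatingGroup α)).Normal := inferInstance
    rcases hn.eq_bot_or_eq_top with e | e
    · exfalso
      rw [Subgroup.subgroupOf_eq_bot] at e
      have hidx : K.index ∣ 720 := by
        have hle : K.index = Nat.card (MulAction.toPermHom (Equiv.Perm α)
            (Equiv.Perm α ⧸ G)).range := by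
          rw [← Subgroup.index_ker, ← Subgroup.normalCore_eq_ker]
        rw [hle]
        refine (Subgroup.card_subgroup_dvd_card _).trans ?_
        rw [Nat.card_perm, ← Subgroup.index, h6]
        rfl
      have hcard := K.card_mul_index
      rw [Nat.card_perm, Nat.card_eq_fintype_card (α := α), h7] at hcard
      have hK2 : Nat.card K ∣ 2 := by
        have h1 := Subgroup.relIndex_inf_mul_relIndex (alternatingGroup α) K ⊤
        have h2 : (alternatingGroup α).relIndex K ∣ (alternatingGroup α).index :=
          Subgroup.relIndex_dvd_index_of_normal _ _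
        have : Nontrivial α := Fintype.one_lt_card_iff_nontrivial.1 (by omega)
        rw [alternatingGroup.index_eq_two] at h2
        rw [← Subgroup.inf_relIndex_right, inf_comm, e.eq_bot, Subgroup.relIndex_bot_left] at h2
        exact h2
      have h5 : Nat.card K * K.index ∣ 2 * 720 := Nat.mul_dvd_mul hK2 hidx
      rw [hcard] at h5
      norm_num [Nat.factorial] at h5
    · exact Subgroup.subgroupOf_eq_top.1 e
  have := Subgroup.index_dvd_of_le (hA.trans G.normalCore_le)
  have : Nontrivial α := Fintype.one_lt_card_iff_nontrivial.1 (by omega)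
  rw [alternatingGroup.index_eq_two, h6] at *
  norm_num at *

end Cfsg.Agent.Perm.HallFourPerm
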