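import Cfsg.Agent.Lib.Local.FS.Transfer
import Mathlib

/-!
# Cocycle products over orbits avoiding a subgroup with the Engel condition
-/

set_option autoImplicit false

namespace Cfsg.Agent.Perm.HallWielandt

variable {p : ℕ} [Fact p.Prime]

theorem choose_pred_cast : ∀ j : ℕ, j < p → (((p - 1).choose j : ℕ) : ZMod p) = (-1) ^ j
  | 0, _ => by simp
  | j + 1, hj => by
    have hp : p.Prime := Fact.out
    have h := Nat.choose_succ_succ (p - 1) j
    rw [Nat.succ_eq_add_one, Nat.succ_eq_add_one, Nat.sub_add_cancel hp.one_le] at h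
    have h0 : ((p.choose (j + 1) : ℕ) : ZMod p) = 0 :=
      (ZMod.natCast_eq_zero_iff _ _).2 (hp.dvd_choose_self (Nat.succ_ne_zero j) hj)
    rw [h, Nat.cast_add, choose_pred_cast j (Nat.lt_of_succ_lt hj), add_comm] at h0
    rw [eq_neg_of_add_eq_zero_left h0, pow_succ]
    ring

/-- A `(p-1)`-fold difference is the sum of `p` consecutive values. -/
theorem prod_eq_of_iterate {A : Type*} [CommGroup A] (hA : ∀ a : A, a ^ p = 1) (F : ℕ → ℕ → A)
    (h : ∀ k i, F (k + 1) i = F k (i + 1) * (F k i)⁻¹) : F (p - 1) 0 = ∏ i ∈ Finset.range p, F 0 i := by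
  have hp : p.Prime := Fact.out
  let f : ℕ → Additive A := fun i => Additive.ofMul (F 0 i)
  have hk : ∀ k, (fwdDiff (1 : ℕ))^[k] f = fun i => Additive.ofMul (F k i) := by
    intro k
    induction k with
    | zero => rfl
    | succ k ih =>
      rw [Function.iterate_succ_apply', ih]
      funext i
      show Additive.ofMul (F k (i + 1)) - Additive.ofMul (F k i) = Additive.ofMul (F (k + 1) i)
      rw [h, ← ofMul_div, div_eq_mul_inv]
  have h1 := fwdDiff_iter_eq_sum_shift (1 : ℕ) f (p - 1) 0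
  rw [hk, Nat.sub_add_cancel hp.one_le] at h1
  apply Additive.ofMul.injective
  rw [ofMul_prod]
  refine h1.trans (Finset.sum_congr rfl fun j hj => ?_)
  rw [Finset.mem_range] at hj
  have hc : (((-1 : ℤ) ^ (p - 1 - j) * ((p - 1).choose j : ℕ) : ℤ) : ZMod p) = ((1 : ℤ) : ZMod p) := by
    push_cast
    rw [choose_pred_cast j hj, ← pow_add, Nat.sub_add_cancel (show j ≤ p - 1 by omega),
      ZMod.pow_card_sub_one_eq_one (neg_ne_zero.2 one_ne_zero)]
  obtain ⟨t, ht⟩ := (ZMod.intCast_eq_intCast_iff_dvd_sub _ _ _).1 hc.symm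
  have ha : ((p : ℤ) * t) • f j = 0 := by
    show Additive.ofMul (F 0 j ^ ((p : ℤ) * t)) = 0
    rw [zpow_mul, zpow_natCast, hA, one_zpow, ofMul_one]
  rw [show (0 : ℕ) + j • 1 = j by simp]
  show _ • f j = f j
  rw [eq_add_of_sub_eq ht, add_zsmul, ha, zero_add, one_zsmul]

variable {G A : Type*} [Group G] [CommGroup A]

/-- Norms of homomorphisms from a normal subgroup vanish under the Engel condition. -/
theorem norm_eq_one (hA : ∀ a : A, a ^ p = 1) (M : Subgroup G) [hM : M.Normal] (μ : M →* A) (u : G) (x : M)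
    (hx : (fun y : G => y⁻¹ * u⁻¹ * y * u)^[p - 1] (x : G) = 1) :
    ∏ i ∈ Finset.range p, μ ⟨u⁻¹ ^ i * x * (u⁻¹ ^ i)⁻¹, hM.conj_mem _ x.2 _⟩ = 1 := by
  let f : G → G := fun y => y⁻¹ * u⁻¹ * y * u
  have hm : ∀ k, f^[k] (x : G) ∈ M := by
    intro k
    induction k with
    | zero => exact x.2
    | succ k ih =>
      rw [Function.iterate_succ_apply']
      have e : f (f^[k] (x : G)) = (f^[k] (x : G))⁻¹ * (u⁻¹ * f^[k] (x : G) * (u⁻¹)⁻¹) := by
        simp [f, mul_assoc]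
      rw [e]
      exact M.mul_mem (M.inv_mem ih) (hM.conj_mem _ ih _)
  let F : ℕ → ℕ → A := fun k i => μ ⟨u⁻¹ ^ i * f^[k] x * (u⁻¹ ^ i)⁻¹, hM.conj_mem _ (hm k) _⟩
  have h := prod_eq_of_iterate hA F (fun k i => by
    show μ _ = μ _ * (μ _)⁻¹
    rw [mul_comm, ← map_inv, ← map_mul]
    congr 1
    apply Subtype.ext
    simp only [Subgroup.coe_mul, Subgroup.coe_inv, Function.iterate_succ_apply']
    show u⁻¹ ^ i * ((f^[k] (x : G))⁻¹ * u⁻¹ * f^[k] (x : G) * u) * (u⁻¹ ^ i)⁻¹ = _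
    rw [pow_succ]
    group)
  refine h.symm.trans ?_
  show μ _ = 1
  rw [show (⟨u⁻¹ ^ 0 * f^[p - 1] x * (u⁻¹ ^ 0)⁻¹, hM.conj_mem _ (hm _) _⟩ : M) = 1 from Subtype.ext (by
    show u⁻¹ ^ 0 * f^[p - 1] x * (u⁻¹ ^ 0)⁻¹ = 1
    rw [show f^[p - 1] (x : G) = 1 from hx]; simp), map_one]

theorem prod_iterate {Q : Type*} [MulAction G Q] {c : G → Q → A}
    (hc : ∀ a b q, c (a * b) q = c a (b • q) * c b q) (z : G) (q : Q) (n : ℕ) :
    ∏ i ∈ Finset.range n, c z (z ^ i • q) = c (z ^ n) q := by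
  induction n with
  | zero =>
    have h := hc 1 1 q
    rw [one_mul, one_smul] at h
    rw [Finset.prod_range_zero, pow_zero]
    exact mul_eq_left.1 h.symm |>.symm
  | succ n ih => rw [Finset.prod_range_succ, ih, pow_succ' z, hc, mul_comm]

variable [Finite G]

open scoped Classical in
/-- Over orbits of a p-group in which a subgroup `W` fixes no point, a cocycle has product one. -/
theorem prod_cocycle_avoid {Q : Type*} [MulAction G Q] (hA : ∀ a : A, a ^ p = 1) (c : G → Q → A)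
    (hc : ∀ a b q, c (a * b) q = c a (b • q) * c b q) (S W : Subgroup G) (hS : IsPGroup p S)
    (hiter : ∀ u ∈ S, ∀ z ∈ W, (fun y : G => y⁻¹ * z⁻¹ * y * z)^[p - 1] u = 1) (x : G)
    (hx0 : ∀ (n : ℕ) (q : Q), p ∣ n → x ^ n • q = q → c (x ^ n) q = 1) :
    ∀ (N : ℕ) (T : Subgroup G), Nat.card T = N → T ≤ S → W ≤ T → x ∈ T → ∀ X : Finset Q,
      (∀ t ∈ T, ∀ q ∈ X, t • q ∈ X) → (∀ q ∈ X, ∃ w ∈ W, w • q ≠ q) → ∏ q ∈ X, c x q = 1 := by
  have hp : p.Prime := Fact.out
  intro N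
  induction N using Nat.strong_induction_on with
  | _ N ih =>
  intro T hN hTS hWT hxT X
  induction X using Finset.strongInduction with
  | _ X ihX =>
  intro hTX hWX
  rcases X.eq_empty_or_nonempty with rfl | ⟨q₀, hq₀⟩
  · simp
  let O : Finset Q := X.filter fun q => ∃ g : T, (g : G) • q₀ = q
  have hOX : O ⊆ X := Finset.filter_subset _ _
  have hOinv : ∀ t ∈ T, ∀ q ∈ O, t • q ∈ O := by
    intro t ht q hq
    obtain ⟨hqX, g, rfl⟩ := Finset.mem_filter.1 hq
    exact Finset.mem_filter.2 ⟨hTX t ht _ hqX, ⟨t, ht⟩ * g, mul_smul t (g : G) q₀⟩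
  by_cases hOne : O ≠ X
  · rw [← Finset.prod_sdiff hOX, ihX O (lt_of_le_of_ne hOX hOne) hOinv (fun q hq => hWX q (hOX hq)), mul_one]
    refine ihX (X \ O) (Finset.sdiff_ssubset hOX ⟨q₀, Finset.mem_filter.2 ⟨hq₀, 1, one_smul _ _⟩⟩) ?_
      (fun q hq => hWX q (Finset.mem_sdiff.1 hq).1)
    intro t ht q hq
    obtain ⟨hqX, hqO⟩ := Finset.mem_sdiff.1 hq
    refine Finset.mem_sdiff.2 ⟨hTX t ht q hqX, fun h => hqO ?_⟩
    have := hOinv t⁻¹ (T.inv_mem ht) _ h
    rwa [inv_smul_smul] at this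
  push Not at hOne
  have hex : ∀ q ∈ X, ∃ g : T, (g : G) • q₀ = q := fun q hq => (Finset.mem_filter.1 (hOne.symm ▸ hq : q ∈ O)).2
  have hTp : IsPGroup p T := hS.to_le hTS
  obtain ⟨n, hn⟩ := IsPGroup.iff_card.1 hTp
  obtain ⟨a, ha⟩ := IsPGroup.iff_card.1 (hTp.to_subgroup ((MulAction.stabilizer G q₀).subgroupOf T))
  obtain ⟨w0, hw0, hw0ne⟩ := hWX q₀ hq₀
  have han : a < n := by
    have h1 : Nat.card ((MulAction.stabilizer G q₀).subgroupOf T) < Nat.card T :=
      lt_of_le_of_ne (Subgroup.card_le_card_group _) fun h => hw0ne (by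
        have h2 : (⟨w0, hWT hw0⟩ : T) ∈ (MulAction.stabilizer G q₀).subgroupOf T := by
          rw [Subgroup.eq_top_of_card_eq _ h]; trivial
        exact h2)
    rw [hn, ha] at h1
    exact (Nat.pow_lt_pow_iff_right hp.one_lt).1 h1
  obtain ⟨M, hMc, hHM⟩ := Sylow.exists_subgroup_card_pow_prime_le p (n := a) (m := n - 1)
    (by rw [hn]; exact pow_dvd_pow p (by omega)) _ ha (by omega)
  have hMi : M.index = p := by
    have h := M.index_mul_card
    rw [hn, hMc] at h
    refine Nat.eq_of_mul_eq_mul_right (pow_pos hp.pos (n - 1)) (h.trans ?_)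
    rw [← pow_succ', show n - 1 + 1 = n by omega]
  haveI hMn : M.Normal := Subgroup.normal_of_index_eq_minFac_card (by
    rw [hMi, hn, Nat.pow_minFac (by omega), hp.minFac_eq])
  let g : Q → T := fun q => if h : ∃ g : T, (g : G) • q₀ = q then h.choose else 1
  have hg : ∀ q ∈ X, (g q : G) • q₀ = q := fun q hq => by
    show ((dite _ _ _ : T) : G) • q₀ = q
    rw [dif_pos (hex q hq)]
    exact (hex q hq).choose_spec
  let β : Q → T ⧸ M := fun q => (g q : T ⧸ M)
  have hβ : ∀ (a : T), ∀ q ∈ X, β ((a : G) • q) = (a : T ⧸ M) * β q := fun a q hq => by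
    show (g ((a : G) • q) : T ⧸ M) = _
    rw [← QuotientGroup.mk_mul, QuotientGroup.eq]
    refine hHM ?_
    show ((g ((a : G) • q))⁻¹ * (a * g q) : T).1 • q₀ = q₀
    simp only [Subgroup.coe_mul, Subgroup.coe_inv, mul_smul]
    rw [inv_smul_eq_iff, hg q hq, hg _ (hTX a a.2 q hq)]
  set z : T := ⟨x, hxT⟩ with hz
  obtain hzM | hzM := em (z ∈ M)
  swap
  · let π : Equiv.Perm {q // q ∈ X} :=
      { toFun := fun q => ⟨x • (q : Q), hTX x hxT q q.2⟩
        invFun := fun q => ⟨x⁻¹ • (q : Q), hTX x⁻¹ (T.inv_mem hxT) q q.2⟩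
        left_inv := fun q => Subtype.ext (inv_smul_smul x (q : Q))
        right_inv := fun q => Subtype.ext (smul_inv_smul x (q : Q)) }
    have hπ : ∀ (i : ℕ) (q : {q // q ∈ X}), ((π ^ i) q : Q) = x ^ i • (q : Q) := fun i q => by
      induction i with
      | zero => simp
      | succ i ih =>
        rw [pow_succ', pow_succ', mul_smul, ← ih]
        rfl
    rw [← Finset.prod_coe_sort]
    refine (Cfsg.Agent.Local.FS.prod_eq_pow_card π (fun q => c x (q : Q)) 1 fun q m hm => ?_).trans (one_pow _)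
    simp only [hπ, prod_iterate hc, one_pow]
    have hm' := congrArg Subtype.val hm
    rw [hπ] at hm'
    refine hx0 m q ?_ hm'
    have h1 := hβ (z ^ m) q q.2
    rw [SubgroupClass.coe_pow, hm', right_eq_mul, QuotientGroup.mk_pow] at h1
    have h2 : orderOf (z : T ⧸ M) = p := by
      refine orderOf_eq_prime ?_ fun h => hzM ((QuotientGroup.eq_one_iff z).1 h)
      rw [← hMi, Subgroup.index_eq_card]; exact pow_card_eq_one'
    exact h2 ▸ orderOf_dvd_of_pow_eq_one h1
  let blk : T ⧸ M → Finset Q := fun j => X.filter fun q => β q = j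
  have hblk : ∀ j (m : M), ∀ q, q ∈ blk j → ((m : T) : G) • q ∈ blk j := fun j m q hq => by
    obtain ⟨hqX, hqj⟩ := Finset.mem_filter.1 hq
    exact Finset.mem_filter.2 ⟨hTX _ (m : T).2 q hqX,
      by rw [hβ _ _ hqX, (QuotientGroup.eq_one_iff (m : T)).2 m.2, one_mul, hqj]⟩
  haveI : Fintype (T ⧸ M) := Fintype.ofFinite _
  have hsum : ∏ q ∈ X, c x q = ∏ j : T ⧸ M, ∏ q ∈ blk j, c x q :=
    (Finset.prod_fiberwise X β (fun q => c x q)).symm
  by_cases hWM : W.subgroupOf T ≤ M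
  · rw [hsum]
    refine Finset.prod_eq_one fun j _ => ?_
    refine ih (Nat.card (M.map T.subtype)) ?_ (M.map T.subtype) rfl ((Subgroup.map_subtype_le M).trans hTS)
      (fun w hw => ⟨⟨w, hWT hw⟩, hWM hw, rfl⟩) ⟨z, hzM, rfl⟩ (blk j) ?_
      (fun q hq => hWX q (Finset.mem_filter.1 hq).1)
    · rw [← hN, Subgroup.card_map_of_injective T.subtype_injective, hn, hMc]
      exact Nat.pow_lt_pow_right hp.one_lt (by omega)
    · rintro _ ⟨m, hm, rfl⟩ q hq
      exact hblk j ⟨m, hm⟩ q hq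
  · obtain ⟨⟨u0, hu0T⟩, hu0W, hu0M⟩ := SetLike.not_le_iff_exists.1 hWM
    set u : T := ⟨u0, hu0T⟩ with hu
    have hshift : ∀ j (m : T), m ∈ M → ∀ f : Q → A, ∏ q ∈ blk j, f ((m : G) • q) = ∏ q ∈ blk j, f q := by
      intro j m hm f
      refine Finset.prod_bij (fun q _ => (m : G) • q) (fun q hq => hblk j ⟨m, hm⟩ q hq)
        (fun q _ q' _ h => MulAction.injective (m : G) h)
        (fun q hq => ⟨((m : G))⁻¹ • q, ?_, smul_inv_smul _ _⟩) fun q _ => rfl
      exact hblk j ⟨m⁻¹, M.inv_mem hm⟩ q hq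
    let μ : T ⧸ M → (M →* A) := fun j =>
      MonoidHom.mk' (fun m => ∏ q ∈ blk j, c ((m : T) : G) q) fun m m' => by
        simp only [Subgroup.coe_mul, hc, Finset.prod_mul_distrib]
        rw [hshift j (m' : T) m'.2 (fun q => c ((m : T) : G) q)]
    have hμ : ∀ (a : T) (j : T ⧸ M) (m : M),
        μ ((a : T ⧸ M) * j) ⟨a * m * a⁻¹, hMn.conj_mem _ m.2 _⟩ = μ j m := by
      intro a j m
      show ∏ q ∈ blk ((a : T ⧸ M) * j), c ((a * (m : T) * a⁻¹ : T) : G) q = ∏ q ∈ blk j, c ((m : T) : G) q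
      have e : ∀ q ∈ blk j, c ((a * (m : T) * a⁻¹ : T) : G) ((a : G) • q) =
          c (a : G) (((m : T) : G) • q) * c ((m : T) : G) q * (c (a : G) q)⁻¹ := by
        intro q _
        simp only [Subgroup.coe_mul, Subgroup.coe_inv]
        have h1 := hc ((a : G) * ((m : T) : G) * (a : G)⁻¹) (a : G) q
        rw [inv_mul_cancel_right, hc] at h1
        exact eq_mul_inv_of_mul_eq h1.symm
      rw [← Finset.prod_bij (s := blk j) (f := fun q => c ((a * (m : T) * a⁻¹ : T) : G) ((a : G) • q))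
        (fun q _ => (a : G) • q)
        (fun q hq => by
          obtain ⟨hqX, hqj⟩ := Finset.mem_filter.1 hq
          exact Finset.mem_filter.2 ⟨hTX _ a.2 q hqX, by rw [hβ a q hqX, hqj]⟩)
        (fun q _ q' _ h => (MulAction.injective (a : G)) h)
        (fun q hq => by
          obtain ⟨hqX, hqj⟩ := Finset.mem_filter.1 hq
          refine ⟨((a : G))⁻¹ • q, Finset.mem_filter.2 ⟨hTX _ (T.inv_mem a.2) q hqX, ?_⟩, smul_inv_smul _ _⟩
          have h1 := hβ a⁻¹ q hqX
          rw [Subgroup.coe_inv] at h1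
          rw [h1, hqj, QuotientGroup.mk_inv, inv_mul_cancel_left])
        fun q _ => rfl,
        Finset.prod_congr rfl e, Finset.prod_mul_distrib, Finset.prod_mul_distrib, Finset.prod_inv_distrib,
        hshift j (m : T) m.2 (fun q => c (a : G) q), mul_inv_cancel_comm]
    have hu' : orderOf (u : T ⧸ M) = p := by
      refine orderOf_eq_prime ?_ fun h => hu0M ((QuotientGroup.eq_one_iff u).1 h)
      rw [← hMi, Subgroup.index_eq_card]; exact pow_card_eq_one'
    have hbij : Function.Bijective fun i : Fin p => (u : T ⧸ M) ^ (i : ℕ) := by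
      rw [Nat.bijective_iff_injective_and_card]
      refine ⟨fun i j h => Fin.ext ?_, by rw [Nat.card_eq_fintype_card, Fintype.card_fin, ← hMi, Subgroup.index_eq_card]⟩
      exact pow_injOn_Iio_orderOf (by rw [Set.mem_Iio, hu']; exact i.2)
        (by rw [Set.mem_Iio, hu']; exact j.2) h
    calc ∏ q ∈ X, c x q = ∏ j : T ⧸ M, μ j ⟨z, hzM⟩ := hsum
      _ = ∏ i : Fin p, μ ((u : T ⧸ M) ^ (i : ℕ)) ⟨z, hzM⟩ :=
          (hbij.prod_comp fun j => μ j ⟨z, hzM⟩).symm
      _ = ∏ i ∈ Finset.range p, μ 1 ⟨u⁻¹ ^ i * z * (u⁻¹ ^ i)⁻¹, hMn.conj_mem _ hzM _⟩ := by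
          rw [Finset.prod_range]
          refine Finset.prod_congr rfl fun i _ => ?_
          have h1 := hμ (u⁻¹ ^ (i : ℕ)) ((u : T ⧸ M) ^ (i : ℕ)) ⟨z, hzM⟩
          rw [QuotientGroup.mk_pow, QuotientGroup.mk_inv, inv_pow, inv_mul_cancel] at h1
          exact h1.symm
      _ = 1 := by
          refine norm_eq_one hA M (μ 1) u ⟨z, hzM⟩ (Subtype.ext ?_)
          have h := hiter x (hTS hxT) u0 hu0W
          have hk : ∀ k : ℕ, (((fun y : T => y⁻¹ * u⁻¹ * y * u)^[k] z : T) : G) =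
              (fun y : G => y⁻¹ * u0⁻¹ * y * u0)^[k] x := by
            intro k
            induction k with
            | zero => rfl
            | succ k ih' =>
              rw [Function.iterate_succ_apply', Function.iterate_succ_apply', ← ih']
              rfl
          exact (hk (p - 1)).trans h

end Cfsg.Agent.Perm.HallWielandt
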