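import Cfsg.Agent.Lib.Perm.OrbitTrick

/-!
# Small-support elements from a Sylow normaliser
-/

set_option autoImplicit false

open Equiv Equiv.Perm
open scoped Pointwise commutatorElement

namespace Cfsg.Agent.Perm.KPPlusR

open Cfsg.Agent.Perm.OrbitTrick

theorem mem_normalizer_of_map {G : Type*} [Group G] [Finite G] {P : Subgroup G} {c : G}
    (h : ∀ x ∈ P, c * x * c⁻¹ ∈ P) : c ∈ Subgroup.normalizer (P : Set G) := by
  have h1 : P.map (MulAut.conj c).toMonoidHom ≤ P := by
    rintro _ ⟨b, hb, rfl⟩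
    exact h b hb
  have h2 : P.map (MulAut.conj c).toMonoidHom = P := Subgroup.eq_of_le_of_card_ge h1
    (le_of_eq (Subgroup.card_map_of_injective (MulAut.conj c).injective).symm)
  refine Subgroup.mem_normalizer_iff.2 fun b => ⟨fun hb => h b hb, fun hb => ?_⟩
  rw [← h2] at hb
  obtain ⟨a, ha, e⟩ := hb
  have : a = b := (MulAut.conj c).injective e
  exact this ▸ ha

variable {A B : Type*} [Finite A] [Finite B] {p k : ℕ} [Fact p.Prime]

/-- The subgroup of elements fixing all of `A`. -/
def fixA (G : Subgroup (Perm A × Perm B)) : Subgroup (Perm B) := G.comap (MonoidHom.inr (Perm A) (Perm B))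

theorem mem_fixA {G : Subgroup (Perm A × Perm B)} {c : Perm B} : c ∈ fixA G ↔ (1, c) ∈ G := Iff.rfl

theorem exists_setting (G : Subgroup (Perm A × Perm B)) (hk : k < p)
    (hB : Nat.card B = k * p) (htr : ∀ u v : B, ∃ c ∈ fixA G, c u = v)
    (hsurj : ∀ π : Perm A, ∃ c, (π, c) ∈ G) :
    ∃ P : Subgroup (Perm B), P ≤ fixA G ∧ Elem P p ∧
      (∀ π : Perm A, ∃ c, (π, c) ∈ G ∧ c ∈ Subgroup.normalizer (P : Set (Perm B))) ∧
      Nat.card (Quotient (MulAction.orbitRel P B)) = k := by
  have hp := (Fact.out : p.Prime)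
  set M := fixA G with hM
  obtain ⟨S⟩ : Nonempty (Sylow p M) := inferInstance
  set P := (S : Subgroup M).map M.subtype with hP
  have hPp : IsPGroup p P := S.2.map _
  haveI : MulAction.IsPretransitive M B := ⟨fun u v => by
    obtain ⟨c, hc, e⟩ := htr u v; exact ⟨⟨c, hc⟩, e⟩⟩
  have horb : ∀ c : B, Nat.card (MulAction.orbit P c) = p := by
    intro c
    obtain ⟨j, hj⟩ := hPp.card_orbit c
    change Nat.card (MulAction.orbit P c) = p ^ j at hj
    have hle : Nat.card (MulAction.orbit P c) ≤ k * p :=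
      (Nat.card_le_card_of_injective _ Subtype.val_injective).trans_eq hB
    have h2 : j ≤ 1 := by
      by_contra h
      have h1 : p * p ≤ p ^ j := le_trans (le_of_eq (sq p).symm) (Nat.pow_le_pow_right hp.pos (by omega))
      have : k * p < p * p := Nat.mul_lt_mul_of_pos_right hk hp.pos
      omega
    rcases Nat.le_one_iff_eq_zero_or_eq_one.1 h2 with rfl | rfl
    · exfalso
      rw [pow_zero] at hj
      haveI := (Nat.card_eq_one_iff_unique.1 hj).1
      have hle' : (S : Subgroup M) ≤ MulAction.stabilizer M c := fun x hx =>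
        congrArg Subtype.val (Subsingleton.elim
          (⟨(x : Perm B) c, ⟨⟨(x : Perm B), ⟨x, hx, rfl⟩⟩, rfl⟩⟩ : MulAction.orbit P c)
          ⟨c, MulAction.mem_orbit_self c⟩)
      have h1 := Subgroup.relIndex_mul_index hle'
      have h3 : (MulAction.stabilizer M c).index = k * p := by
        rw [MulAction.index_stabilizer_of_transitive M c, hB]
      exact S.not_dvd_index ⟨_, (h1.symm.trans (by rw [h3, ← mul_assoc, mul_comm _ p]))⟩
    · rw [hj, pow_one]
  have hE : Elem P p := ⟨hPp, horb⟩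
  refine ⟨P, Subgroup.map_subtype_le _, hE, fun π => ?_, ?_⟩
  · obtain ⟨c, hc⟩ := hsurj π
    have hcM : ∀ m ∈ M, c * m * c⁻¹ ∈ M := fun m hm => by
      have := G.mul_mem (G.mul_mem hc (mem_fixA.1 hm)) (G.inv_mem hc)
      rw [hM, mem_fixA]
      simpa using this
    set Q := P.map (MulAut.conj c).toMonoidHom with hQ
    have hQM : Q ≤ M := by
      rintro _ ⟨x, hx, rfl⟩
      exact hcM x (Subgroup.map_subtype_le _ hx)
    have hQcard : Nat.card (Q.subgroupOf M) = p ^ (Nat.card M).factorization p := by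
      rw [Nat.card_congr (Subgroup.subgroupOfEquivOfLe hQM).toEquiv, hQ,
        Subgroup.card_map_of_injective (MulAut.conj c).injective, hP,
        Subgroup.card_map_of_injective Subtype.val_injective]
      exact S.card_eq_multiplicity
    obtain ⟨m, hm⟩ := MulAction.exists_smul_eq M (Sylow.ofCard (Q.subgroupOf M) hQcard) S
    refine ⟨(m : Perm B) * c, ?_, mem_normalizer_of_map fun x hx => ?_⟩
    · have := G.mul_mem (mem_fixA.1 m.2) hc
      simpa using this
    · have hq : c * x * c⁻¹ ∈ Q := ⟨x, hx, rfl⟩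
      have h1 : (⟨c * x * c⁻¹, hQM hq⟩ : M) ∈ (Sylow.ofCard (Q.subgroupOf M) hQcard : Subgroup M) :=
        Subgroup.mem_subgroupOf.2 hq
      have h2 : m * ⟨c * x * c⁻¹, hQM hq⟩ * m⁻¹ ∈ (S : Subgroup M) := by
        rw [← hm]
        exact ⟨_, h1, rfl⟩
      refine ⟨_, h2, ?_⟩
      show ((m : Perm B) * (c * x * c⁻¹) * (m : Perm B)⁻¹) = _
      group
  · have h1 := Nat.card_congr (MulAction.selfEquivSigmaOrbits P B)
    haveI : Fintype (Quotient (MulAction.orbitRel P B)) := Fintype.ofFinite _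
    rw [hB, Nat.card_sigma, Finset.sum_const_nat (fun ω _ => horb _), Finset.card_univ,
      ← Nat.card_eq_fintype_card] at h1
    exact (Nat.eq_of_mul_eq_mul_right hp.pos h1).symm

theorem center_three : ∀ x : Perm (Fin 3), x ≠ 1 → ∃ g, g * x * g⁻¹ ≠ x := by decide +kernel

theorem center_four : ∀ x : Perm (Fin 4), x ≠ 1 → ∃ g, g * x * g⁻¹ ≠ x := by decide +kernel

theorem even_three : ∀ x : Perm (Fin 3), Perm.sign x = 1 → x * x * x = 1 := by decide +kernel

theorem even_four : ∀ x : Perm (Fin 4), Perm.sign x = 1 → x ≠ 1 →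
    x * x = 1 ∨ ∃ g, (x * (g * x * g⁻¹)) * (x * (g * x * g⁻¹)) = 1 ∧ x * (g * x * g⁻¹) ≠ 1 := by decide +kernel

theorem pow_ne_one_of_coprime {G : Type*} [Group G] {x : G} {n p : ℕ} (hxn : x ^ n = 1) (hx : x ≠ 1)
    (h : Nat.Coprime p n) : x ^ p ≠ 1 := fun e => hx (by
  have := pow_gcd_eq_one.2 ⟨e, hxn⟩
  rwa [h.gcd_eq_one, pow_one] at this)

/-- Either an element supported on `A`, or one supported on a single orbit of size `p`. -/
theorem core [Fintype A] [DecidableEq A] (G : Subgroup (Perm A × Perm B)) (hk0 : 1 ≤ k) (hk : k < p)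
    (hB : Nat.card B = k * p) (htr : ∀ u v : B, ∃ c ∈ fixA G, c u = v)
    (hsurj : ∀ π : Perm A, ∃ c, (π, c) ∈ G) (hkr : k < Fintype.card A) (hA3 : 3 ≤ Fintype.card A)
    (hp3 : Fintype.card A = 3 → p ≠ 3) (hp2 : p ≠ 2) :
    (∃ π : Perm A, π ≠ 1 ∧ (π, 1) ∈ G) ∨
      (∃ x ∈ fixA G, x ≠ 1 ∧ x ^ p = 1 ∧ ∃ s : Set B, s.ncard = p ∧ ∀ b, x b ≠ b → b ∈ s) := by
  classical
  have hp := (Fact.out : p.Prime)
  obtain ⟨P, hPM, hE, hN, hQ⟩ := exists_setting G hk hB htr hsurj
  by_cases hsingle : ∃ x ∈ P, x ≠ 1 ∧ ∃ c, ∀ d, d ∉ MulAction.orbit P c → x d = d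
  · obtain ⟨x, hx, hx1, c, hc⟩ := hsingle
    refine Or.inr ⟨x, hPM hx, hx1, hE.pow_p x hx, MulAction.orbit P c, ?_, fun b hb => ?_⟩
    · rw [← Nat.card_coe_set_eq]; exact hE.orb c
    · by_contra h; exact hb (hc b h)
  push Not at hsingle
  left
  let N : Subgroup (Perm A × Perm B) :=
    G ⊓ (Subgroup.normalizer (P : Set (Perm B))).comap (MonoidHom.snd (Perm A) (Perm B))
  have hnorm : ∀ (n : N) (x : Perm B), x ∈ P → (n : Perm A × Perm B).2 * x * (n : Perm A × Perm B).2⁻¹ ∈ P :=
    fun n x hx => (Subgroup.mem_normalizer_iff.1 (Subgroup.mem_inf.1 n.2).2 x).1 hx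
  have hcompat : ∀ (n : N) (a b : B), a ∈ MulAction.orbit P b →
      (n : Perm A × Perm B).2 a ∈ MulAction.orbit P ((n : Perm A × Perm B).2 b) := by
    rintro n a b ⟨w, rfl⟩
    refine ⟨⟨_, hnorm n w w.2⟩, ?_⟩
    show ((n : Perm A × Perm B).2 * (w : Perm B) * (n : Perm A × Perm B).2⁻¹) ((n : Perm A × Perm B).2 b) = _
    simp [Perm.mul_apply]
    rfl
  let mp : N → Quotient (MulAction.orbitRel P B) → Quotient (MulAction.orbitRel P B) :=
    fun n => Quotient.map' (fun b => (n : Perm A × Perm B).2 b) (fun a b h => hcompat n a b h)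
  have hmp1 : ∀ q, mp 1 q = q := fun q => Quotient.inductionOn' q fun b => rfl
  have hmpm : ∀ n m q, mp (n * m) q = mp n (mp m q) := fun n m q => Quotient.inductionOn' q fun b => rfl
  let σ : N →* Perm (Quotient (MulAction.orbitRel P B)) :=
    { toFun := fun n =>
        { toFun := mp n
          invFun := mp n⁻¹
          left_inv := fun q => by rw [← hmpm, inv_mul_cancel, hmp1]
          right_inv := fun q => by rw [← hmpm, mul_inv_cancel, hmp1] }
      map_one' := Equiv.ext hmp1
      map_mul' := fun n m => Equiv.ext (hmpm n m) }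
  let f : N →* Perm A := (MonoidHom.fst _ _).comp N.subtype
  let s : N →* Perm B := (MonoidHom.snd _ _).comp N.subtype
  have hf : Function.Surjective f := fun π => by
    obtain ⟨c, hc, hcn⟩ := hN π
    exact ⟨⟨(π, c), Subgroup.mem_inf.2 ⟨hc, hcn⟩⟩, rfl⟩
  set N0 := σ.ker
  have hfix : ∀ n ∈ N0, Fixing P (s n) := by
    intro n hn
    refine ⟨hnorm n, fun c => ?_⟩
    have key : ∀ m ∈ N0, ∀ c : B, s m c ∈ MulAction.orbit P c := fun m hm c => by
      have h1 := congrArg (fun e : Perm (Quotient (MulAction.orbitRel P B)) => e (Quotient.mk'' c))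
        (MonoidHom.mem_ker.1 hm)
      exact Quotient.exact' h1
    exact ⟨key n hn c, by have := key n⁻¹ (inv_mem hn) c; rwa [map_inv] at this⟩
  let KK : Subgroup N := N0 ⊓ (Subgroup.centralizer (P : Set (Perm B))).comap s
  have hKG : ∀ n ∈ KK, ((f n) ^ p, (1 : Perm B)) ∈ G := by
    intro n hn
    have h1 := G.pow_mem (Subgroup.mem_inf.1 n.2).1 p
    have h2 := hE.pow_p_of_central (hfix n (Subgroup.mem_inf.1 hn).1) (fun x hx =>
      (Subgroup.mem_centralizer_iff.1 (Subgroup.mem_inf.1 hn).2 x hx).symm)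
    have e : (n : Perm A × Perm B) ^ p = ((f n) ^ p, (1 : Perm B)) := Prod.ext rfl h2
    rwa [e] at h1
  have hmemKK : ∀ n m : N, n * m * n⁻¹ * m⁻¹ ∈ N0 →
      (∀ x ∈ P, s (n * m) * x * (s (n * m))⁻¹ = s (m * n) * x * (s (m * n))⁻¹) → n * m * n⁻¹ * m⁻¹ ∈ KK := by
    intro n m h0 hc
    refine Subgroup.mem_inf.2 ⟨h0, Subgroup.mem_centralizer_iff.2 fun y hy => ?_⟩
    have hy' : (s (m * n))⁻¹ * y * s (m * n) ∈ P := by
      have := hnorm (m * n)⁻¹ y hy
      simp only [Subgroup.coe_inv, Prod.snd_inv, inv_inv] at this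
      exact this
    have h1 := hc _ hy'
    rw [show s (m * n) * ((s (m * n))⁻¹ * y * s (m * n)) * (s (m * n))⁻¹ = y by group] at h1
    rw [show s (n * m * n⁻¹ * m⁻¹) = s (n * m) * (s (m * n))⁻¹ by simp only [map_mul, map_inv]; group]
    calc y * (s (n * m) * (s (m * n))⁻¹)
        = (s (n * m) * ((s (m * n))⁻¹ * y * s (m * n)) * (s (n * m))⁻¹) * (s (n * m) * (s (m * n))⁻¹) := by
          rw [h1]
      _ = s (n * m) * (s (m * n))⁻¹ * y := by group
  set J := N0.map f with hJ
  haveI hJn : J.Normal := (MonoidHom.normal_ker σ).map f hf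
  set KS := KK.map f with hKS
  suffices h : ∃ π ∈ KS, π ^ p ≠ 1 by
    obtain ⟨π, ⟨n, hn, rfl⟩, hne⟩ := h
    exact ⟨_, hne, hKG n hn⟩
  have hJidx : J.index ≤ k.factorial := by
    have h1 : J.index ∣ N0.index := Subgroup.index_map_dvd _ hf
    refine le_trans (Nat.le_of_dvd (Nat.pos_of_ne_zero Subgroup.index_ne_zero_of_finite) h1) ?_
    rw [Subgroup.index_ker, ← hQ, ← Nat.card_perm]
    exact Subgroup.card_le_card_group _
  have hcardA : Nat.card J * J.index = (Fintype.card A).factorial := by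
    rw [Subgroup.card_mul_index, Nat.card_perm, Nat.card_eq_fintype_card]
  have hkfac : (Fintype.card A) * k.factorial ≤ (Fintype.card A).factorial := by
    obtain ⟨r, hr⟩ : ∃ r, Fintype.card A = r + 1 := ⟨Fintype.card A - 1, by omega⟩
    rw [hr, Nat.factorial_succ]
    exact Nat.mul_le_mul_left _ (Nat.factorial_le (by omega))
  rcases Nat.lt_or_ge (Fintype.card A) 5 with hsmall | h5
  · -- few fixed points
    have hscal : ∀ m ∈ N0, ∃ i : ℕ, ∀ x ∈ P, s m * x * (s m)⁻¹ = x ^ i := fun m hm =>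
      hE.scalar (by rw [hQ]; omega) (fun x hx hx1 c => hsingle x hx hx1 c) (hfix m hm)
    have hKK : ∀ n m : N, m ∈ N0 → n * m * n⁻¹ * m⁻¹ ∈ KK := by
      intro n m hm
      refine hmemKK n m (mul_mem ((MonoidHom.normal_ker σ).conj_mem m hm n) (inv_mem hm)) fun x hx => ?_
      obtain ⟨i, hi⟩ := hscal m hm
      rw [map_mul, map_mul,
        show s n * s m * x * (s n * s m)⁻¹ = s n * (s m * x * (s m)⁻¹) * (s n)⁻¹ by group, hi x hx,
        show s m * s n * x * (s m * s n)⁻¹ = s m * (s n * x * (s n)⁻¹) * (s m)⁻¹ by group,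
        hi (s n * x * (s n)⁻¹) (hnorm n x hx), conj_pow]
    obtain ⟨y, hyJ, hy1⟩ : ∃ y ∈ J, y ≠ 1 := by
      by_contra h
      push Not at h
      have hJb : J = ⊥ := (Subgroup.eq_bot_iff_forall _).2 h
      rw [hJb, Subgroup.card_bot, one_mul] at hcardA
      rw [hJb] at hJidx
      have : 1 < Fintype.card A := by omega
      have hpos := Nat.factorial_pos k
      nlinarith
    have hKSn : ∀ x ∈ KS, ∀ g : Perm A, g * x * g⁻¹ ∈ KS := by
      haveI : KK.Normal := by
        refine ⟨fun n hn g => Subgroup.mem_inf.2 ⟨(MonoidHom.normal_ker σ).conj_mem n (Subgroup.mem_inf.1 hn).1 g,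
          Subgroup.mem_centralizer_iff.2 fun y hy => ?_⟩⟩
        have hy' : (s g)⁻¹ * y * s g ∈ P := by
          have := hnorm g⁻¹ y hy
          simp only [Subgroup.coe_inv, Prod.snd_inv, inv_inv] at this
          exact this
        have h1 := Subgroup.mem_centralizer_iff.1 (Subgroup.mem_inf.1 hn).2 _ hy'
        rw [map_mul, map_mul, map_inv]
        calc y * (s g * s n * (s g)⁻¹) = s g * (((s g)⁻¹ * y * s g) * s n) * (s g)⁻¹ := by group
          _ = s g * (s n * ((s g)⁻¹ * y * s g)) * (s g)⁻¹ := by rw [h1]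
          _ = s g * s n * (s g)⁻¹ * y := by group
      exact (inferInstance : KK.Normal).map f hf |>.conj_mem
    obtain ⟨t, ht, ht1, hsign⟩ : ∃ t ∈ KS, t ≠ 1 ∧ Perm.sign t = 1 := by
      obtain ⟨g, hg⟩ : ∃ g : Perm A, g * y * g⁻¹ ≠ y := by
        by_contra hno
        push Not at hno
        rcases (show Fintype.card A = 3 ∨ Fintype.card A = 4 by omega) with h | h
        · let e := (Fintype.equivFinOfCardEq h).permCongrHom
          obtain ⟨g, hg⟩ := center_three (e y) (fun h' => hy1 (e.injective (h'.trans (map_one e).symm)))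
          obtain ⟨g', rfl⟩ := e.surjective g
          exact hg (by rw [← map_mul, ← map_inv, ← map_mul, hno])
        · let e := (Fintype.equivFinOfCardEq h).permCongrHom
          obtain ⟨g, hg⟩ := center_four (e y) (fun h' => hy1 (e.injective (h'.trans (map_one e).symm)))
          obtain ⟨g', rfl⟩ := e.surjective g
          exact hg (by rw [← map_mul, ← map_inv, ← map_mul, hno])
      obtain ⟨m, hm, rfl⟩ := hyJ
      obtain ⟨n, rfl⟩ := hf g
      refine ⟨_, ⟨_, hKK n m hm, rfl⟩, fun h => hg ?_, ?_⟩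
      · rw [map_mul, map_mul, map_mul, map_inv, map_inv] at h
        exact mul_inv_eq_one.1 h
      · simp only [map_mul, map_inv]
        rw [mul_right_comm (Perm.sign (f n)) (Perm.sign (f m)) ((Perm.sign (f n))⁻¹)]
        simp
    rcases (show Fintype.card A = 3 ∨ Fintype.card A = 4 by omega) with h | h
    · refine ⟨t, ht, pow_ne_one_of_coprime (n := 3) ?_ ht1
        ((Nat.coprime_primes hp Nat.prime_three).2 (hp3 h))⟩
      let e3 := (Fintype.equivFinOfCardEq h).permCongrHom
      have := even_three (e3 t) (by show Perm.sign (Equiv.permCongr _ t) = 1; rw [sign_permCongr]; exact hsign)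
      refine e3.injective ?_
      rw [map_pow, map_one, pow_succ, pow_two]
      exact this
    · let e4 := (Fintype.equivFinOfCardEq h).permCongrHom
      have hco : Nat.Coprime p 2 := (Nat.coprime_primes hp Nat.prime_two).2 hp2
      rcases even_four (e4 t) (by show Perm.sign (Equiv.permCongr _ t) = 1; rw [sign_permCongr]; exact hsign)
        (fun h' => ht1 (e4.injective (h'.trans (map_one e4).symm))) with h2 | ⟨g, hg, hg1⟩
      · exact ⟨t, ht, pow_ne_one_of_coprime (n := 2) (e4.injective (by rw [map_pow, map_one, pow_two]; exact h2))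
          ht1 hco⟩
      · obtain ⟨g', rfl⟩ := e4.surjective g
        rw [← map_mul, ← map_inv, ← map_mul, ← map_mul] at hg hg1
        refine ⟨t * (g' * t * g'⁻¹), mul_mem ht (hKSn t ht g'), pow_ne_one_of_coprime (n := 2) ?_ ?_ hco⟩
        · exact e4.injective (by rw [pow_two, map_mul, map_one]; exact hg)
        · exact fun h' => hg1 (by rw [h', map_one])
  · -- at least five fixed points
    have hsimple : IsSimpleGroup (alternatingGroup A) :=
      alternatingGroup.isSimpleGroup (by rw [Nat.card_eq_fintype_card]; exact h5)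
    have hAJ : alternatingGroup A ≤ J := by
      rcases hsimple.eq_bot_or_eq_top_of_normal (J.subgroupOf (alternatingGroup A)) inferInstance with h | h
      · exfalso
        have hinj : Function.Injective (Perm.sign.comp J.subtype) := by
          refine (injective_iff_map_eq_one _).2 fun x hx => Subtype.ext ?_
          have : (⟨x, mem_alternatingGroup.2 hx⟩ : alternatingGroup A) ∈ J.subgroupOf (alternatingGroup A) :=
            Subgroup.mem_subgroupOf.2 x.2
          rw [h, Subgroup.mem_bot] at this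
          exact congrArg (fun w : alternatingGroup A => (w : Perm A)) this
        have h2 : Nat.card J ≤ 2 := (Nat.card_le_card_of_injective _ hinj).trans_eq (by
          rw [Nat.card_eq_fintype_card]; rfl)
        have hm := Nat.mul_le_mul h2 hJidx
        rw [hcardA] at hm
        have := Nat.factorial_pos k
        nlinarith
      · intro x hx
        have : (⟨x, hx⟩ : alternatingGroup A) ∈ J.subgroupOf (alternatingGroup A) := h ▸ Subgroup.mem_top _
        exact this
    have hKK : ⁅N0, N0⁆ ≤ KK := by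
      rw [Subgroup.commutator_le]
      intro n hn m hm
      rw [commutatorElement_def]
      refine hmemKK n m (mul_mem (mul_mem (mul_mem hn hm) (inv_mem hn)) (inv_mem hm)) fun x hx => ?_
      rw [map_mul, map_mul]
      exact hE.commutator_central (hfix n hn) (hfix m hm) hx
    have hAK : alternatingGroup A ≤ KS := by
      have h1 := _root_.commutator_alternatingGroup_eq_top (α := A) (by rw [Nat.card_eq_fintype_card]; exact h5)
      have h2 : ⁅alternatingGroup A, alternatingGroup A⁆ = alternatingGroup A := by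
        rw [← Subgroup.map_subtype_commutator, h1, ← MonoidHom.range_eq_map, Subgroup.range_subtype]
      rw [← h2]
      refine (Subgroup.commutator_mono hAJ hAJ).trans ?_
      rw [hJ, ← Subgroup.map_commutator]
      exact Subgroup.map_mono hKK
    obtain ⟨a, b, c, d, -, hab, hac, had, hbc, hbd, hcd⟩ :
        ∃ a b c d : A, True ∧ a ≠ b ∧ a ≠ c ∧ a ≠ d ∧ b ≠ c ∧ b ≠ d ∧ c ≠ d := by
      let e := (Fintype.equivFin A).symm
      refine ⟨e ⟨0, by omega⟩, e ⟨1, by omega⟩, e ⟨2, by omega⟩, e ⟨3, by omega⟩, trivial, ?_⟩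
      simp only [ne_eq, EmbeddingLike.apply_eq_iff_eq, Fin.mk.injEq]
      omega
    by_cases h3 : p = 3
    · refine ⟨swap a b * swap c d, hAK ?_, pow_ne_one_of_coprime (n := 2) ?_ ?_ (by rw [h3]; decide)⟩
      · rw [mem_alternatingGroup, map_mul, sign_swap hab, sign_swap hcd]; decide
      · have hcom : Commute (swap a b) (swap c d) :=
          (disjoint_iff_disjoint_support.2 (by
            rw [support_swap hab, support_swap hcd]; simp [hac, had, hbc, hbd, hac.symm, hbc.symm, had.symm, hbd.symm])).commute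
        rw [hcom.mul_pow, pow_two, pow_two, swap_mul_self, swap_mul_self, one_mul]
      · intro h'
        have := congrArg (fun e : Perm A => e a) h'
        simp [swap_apply_of_ne_of_ne hac had] at this
        exact hab this.symm
    · have h3c : IsThreeCycle (swap a b * swap a c) := isThreeCycle_swap_mul_swap_same hab hac hbc
      refine ⟨_, hAK h3c.mem_alternatingGroup, pow_ne_one_of_coprime (n := 3) ?_ h3c.ne_one
        ((Nat.coprime_primes hp Nat.prime_three).2 h3)⟩
      rw [← h3c.orderOf]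
      exact pow_orderOf_eq_one _

end Cfsg.Agent.Perm.KPPlusR
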