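import Mathlib

/-!
Explicit two-dimensional linear groups over a prime field that are regular on nonzero vectors.
-/

set_option autoImplicit false

namespace Cfsg.Agent.Perm.LinearReg

variable {p : ℕ}

/-- A two-by-two matrix as a quadruple. -/
abbrev Quad (p : ℕ) := ZMod p × ZMod p × ZMod p × ZMod p

/-- The product of quadruples. -/
def times (x y : Quad p) : Quad p :=
  (x.1 * y.1 + x.2.1 * y.2.2.1, x.1 * y.2.1 + x.2.1 * y.2.2.2,
   x.2.2.1 * y.1 + x.2.2.2 * y.2.2.1, x.2.2.1 * y.2.1 + x.2.2.2 * y.2.2.2)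

/-- The identity. -/
def one (p : ℕ) : Quad p := (1, 0, 0, 1)

/-- The value of a word. -/
def value {k : ℕ} (gens : Fin k → Quad p) (w : List (Fin k)) : Quad p :=
  w.foldr (fun i m => times (gens i) m) (one p)

/-- The entries of an invertible matrix. -/
def toQuad (g : GL (Fin 2) (ZMod p)) : Quad p :=
  ((g : Matrix (Fin 2) (Fin 2) (ZMod p)) 0 0, (g : Matrix (Fin 2) (Fin 2) (ZMod p)) 0 1,
   (g : Matrix (Fin 2) (Fin 2) (ZMod p)) 1 0, (g : Matrix (Fin 2) (Fin 2) (ZMod p)) 1 1)

theorem toQuad_mul (g h : GL (Fin 2) (ZMod p)) : toQuad (g * h) = times (toQuad g) (toQuad h) := by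
  simp [toQuad, times, Matrix.mul_apply, Fin.sum_univ_two]

theorem toQuad_one : toQuad (1 : GL (Fin 2) (ZMod p)) = one p := by simp [toQuad, one]

theorem toQuad_injective : Function.Injective (toQuad (p := p)) := by
  intro g h e
  simp only [toQuad, Prod.mk.injEq] at e
  refine Units.ext (Matrix.ext fun i j => ?_)
  fin_cases i <;> fin_cases j
  exacts [e.1, e.2.1, e.2.2.1, e.2.2.2]

/-- A list of words whose values form a group. -/
theorem closure_facts [Fact p.Prime] {k : ℕ} (g : Fin k → GL (Fin 2) (ZMod p)) (gens : Fin k → Quad p)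
    (hg : ∀ i, toQuad (g i) = gens i) (words : List (List (Fin k))) (n : ℕ)
    (hlen : words.length = n)
    (hnd : (words.map (value gens)).Nodup)
    (hone : one p ∈ words.map (value gens))
    (hmul : ∀ x ∈ words.map (value gens), ∀ i, times x (gens i) ∈ words.map (value gens)) :
    Nat.card (Subgroup.closure (Set.range g)) = n ∧
      ∀ a ∈ Subgroup.closure (Set.range g), toQuad a ∈ words.map (value gens) := by
  classical
  set L := words.map (value gens) with hL
  set H := Subgroup.closure (Set.range g) with hH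
  have hword : ∀ w : List (Fin k), toQuad (w.map g).prod = value gens w := by
    intro w
    induction w with
    | nil => exact toQuad_one
    | cons i w ih => rw [List.map_cons, List.prod_cons, toQuad_mul, hg, ih]; rfl
  have hwH : ∀ w : List (Fin k), (w.map g).prod ∈ H := fun w =>
    list_prod_mem (fun x hx => by
      obtain ⟨i, -, rfl⟩ := List.mem_map.1 hx
      exact Subgroup.subset_closure ⟨i, rfl⟩)
  let M : Submonoid (GL (Fin 2) (ZMod p)) :=
    { carrier := {a | ∀ x, toQuad x ∈ L → toQuad (x * a) ∈ L}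
      one_mem' := fun x hx => by rwa [mul_one]
      mul_mem' := fun {a b} ha hb x hx => by rw [← mul_assoc]; exact hb _ (ha x hx) }
  haveI : NeZero p := ⟨(Fact.out : p.Prime).ne_zero⟩
  let M' : Subgroup (GL (Fin 2) (ZMod p)) :=
    { toSubmonoid := M
      inv_mem' := fun {a} ha => by
        have e : a⁻¹ = a ^ (orderOf a - 1) := inv_eq_of_mul_eq_one_left (by
          rw [← pow_succ, Nat.sub_add_cancel (orderOf_pos a), pow_orderOf_eq_one])
        rw [e]
        exact M.pow_mem ha _ }
  have hle : H ≤ M' := (Subgroup.closure_le _).2 (by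
    rintro _ ⟨i, rfl⟩ x hx
    rw [toQuad_mul, hg]
    exact hmul _ hx i)
  have hmem : ∀ a ∈ H, toQuad a ∈ L := fun a ha => by
    have := hle ha 1 (by rw [toQuad_one]; exact hone)
    rwa [one_mul] at this
  let f : H → {x // x ∈ L} := fun a => ⟨toQuad a.1, hmem a a.2⟩
  have hf : Function.Bijective f := by
    refine ⟨fun a b e => Subtype.ext (toQuad_injective (congrArg Subtype.val e)), fun x => ?_⟩
    obtain ⟨w, -, hw⟩ := List.mem_map.1 x.2
    exact ⟨⟨_, hwH w⟩, Subtype.ext ((hword w).trans hw)⟩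
  have hcard : Nat.card H = n := by
    have e : Nat.card {x // x ∈ L} = L.toFinset.card := by
      rw [← Nat.card_eq_finsetCard]
      exact Nat.card_congr (Equiv.subtypeEquivRight fun x => List.mem_toFinset.symm)
    rw [Nat.card_eq_of_bijective f hf, e, List.toFinset_card_of_nodup hnd, hL, List.length_map, hlen]
  exact ⟨hcard, hmem⟩

/-- A finite fixed-point-free linear group of order `p ^ 2 - 1` is regular. -/
theorem regular_of_card [Fact p.Prime] (H : Subgroup (GL (Fin 2) (ZMod p))) (n : ℕ)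
    (hn : n + 1 = p * p) (hcard : Nat.card H = n)
    (hfree : ∀ (a : H) (v : Fin 2 → ZMod p), v ≠ 0 →
      Matrix.mulVec ((a : GL (Fin 2) (ZMod p)) : Matrix (Fin 2) (Fin 2) (ZMod p)) v = v → a = 1)
    (v w : Fin 2 → ZMod p) (hv : v ≠ 0) (hw : w ≠ 0) :
    ∃! h : H, Matrix.mulVec ((h : GL (Fin 2) (ZMod p)) : Matrix (Fin 2) (Fin 2) (ZMod p)) v = w := by
  classical
  haveI : NeZero p := ⟨(Fact.out : p.Prime).ne_zero⟩
  haveI : Finite H := Nat.finite_of_card_ne_zero (by
    have := (Fact.out : p.Prime).two_le; nlinarith)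
  have hinj : ∀ a : H, Matrix.mulVec ((a : GL (Fin 2) (ZMod p)) : Matrix (Fin 2) (Fin 2) (ZMod p)) v = v →
      a = 1 := fun a => hfree a v hv
  let φ : H → {x : Fin 2 → ZMod p // x ≠ 0} := fun a =>
    ⟨Matrix.mulVec ((a : GL (Fin 2) (ZMod p)) : Matrix (Fin 2) (Fin 2) (ZMod p)) v, fun h => hv (by
      have := congrArg (Matrix.mulVec (((a⁻¹ : H) : GL (Fin 2) (ZMod p)) : Matrix (Fin 2) (Fin 2) (ZMod p))) h
      rwa [Matrix.mulVec_mulVec, ← Units.val_mul, ← Subgroup.coe_mul, inv_mul_cancel, OneMemClass.coe_one,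
        Units.val_one, Matrix.one_mulVec, Matrix.mulVec_zero] at this)⟩
  have hφ : Function.Bijective φ := by
    haveI : Fintype H := Fintype.ofFinite H
    refine (Fintype.bijective_iff_injective_and_card φ).2 ⟨fun a b e => ?_, ?_⟩
    · have e' : Matrix.mulVec ((a : GL (Fin 2) (ZMod p)) : Matrix (Fin 2) (Fin 2) (ZMod p)) v =
        Matrix.mulVec ((b : GL (Fin 2) (ZMod p)) : Matrix (Fin 2) (Fin 2) (ZMod p)) v :=
        congrArg Subtype.val e
      refine (inv_mul_eq_one.1 (hinj (b⁻¹ * a) ?_)).symm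
      rw [Subgroup.coe_mul, Units.val_mul, ← Matrix.mulVec_mulVec, e', Matrix.mulVec_mulVec,
        ← Units.val_mul, ← Subgroup.coe_mul, inv_mul_cancel, OneMemClass.coe_one, Units.val_one,
        Matrix.one_mulVec]
    · rw [← Nat.card_eq_fintype_card, hcard, Fintype.card_subtype_compl, Fintype.card_subtype_eq,
        Fintype.card_fun, ZMod.card, Fintype.card_fin, sq, ← hn]
      omega
  obtain ⟨a, ha⟩ := hφ.2 ⟨w, hw⟩
  exact ⟨a, congrArg Subtype.val ha, fun b hb => hφ.1 (Subtype.ext (hb.trans (congrArg Subtype.val ha).symm))⟩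

/-- A list of words whose values form a group acting regularly on nonzero vectors. -/
theorem regular [Fact p.Prime] {k : ℕ} (g : Fin k → GL (Fin 2) (ZMod p)) (gens : Fin k → Quad p)
    (hg : ∀ i, toQuad (g i) = gens i) (words : List (List (Fin k))) (n : ℕ)
    (hn : n + 1 = p * p) (hlen : words.length = n)
    (hnd : (words.map (value gens)).Nodup)
    (hone : one p ∈ words.map (value gens))
    (hmul : ∀ x ∈ words.map (value gens), ∀ i, times x (gens i) ∈ words.map (value gens))
    (hfix : ∀ x ∈ words.map (value gens), x ≠ one p →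
      (x.1 - 1) * (x.2.2.2 - 1) - x.2.1 * x.2.2.1 ≠ 0) :
    Nat.card (Subgroup.closure (Set.range g)) = n ∧ ∀ v w : Fin 2 → ZMod p, v ≠ 0 → w ≠ 0 →
      ∃! h : Subgroup.closure (Set.range g),
        Matrix.mulVec ((h : GL (Fin 2) (ZMod p)) : Matrix (Fin 2) (Fin 2) (ZMod p)) v = w := by
  obtain ⟨hcard, hmem⟩ := closure_facts g gens hg words n hlen hnd hone hmul
  refine ⟨hcard, regular_of_card _ n hn hcard fun a v hv ha => ?_⟩
  by_contra ha1
  have hne : toQuad (a : GL (Fin 2) (ZMod p)) ≠ one p := fun e =>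
    ha1 (Subtype.ext (toQuad_injective (e.trans toQuad_one.symm)))
  have hd := hfix _ (hmem _ a.2) hne
  refine hv (Matrix.eq_zero_of_mulVec_eq_zero
    (M := ((a : GL (Fin 2) (ZMod p)) : Matrix (Fin 2) (Fin 2) (ZMod p)) - 1) ?_ ?_)
  · rw [Matrix.det_fin_two]
    simpa [toQuad] using hd
  · rw [Matrix.sub_mulVec, ha, Matrix.one_mulVec, sub_self]

/-- The code of a quadruple. -/
def enc (x : Quad p) : ℕ := ((x.1.val * p + x.2.1.val) * p + x.2.2.1.val) * p + x.2.2.2.val

theorem enc_injective [NeZero p] : Function.Injective (enc (p := p)) := by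
  rintro ⟨a, b, c, d⟩ ⟨a', b', c', d'⟩ h
  simp only [enc] at h
  have key : ∀ {u u' v v' : ℕ}, v < p → v' < p → u * p + v = u' * p + v' → u = u' ∧ v = v' := by
    intro u u' v v' hv hv' e
    have h1 := congrArg (fun n => n % p) e
    have h2 : v = v' := by simpa [Nat.mul_add_mod', Nat.mod_eq_of_lt hv, Nat.mod_eq_of_lt hv'] using h1
    subst h2
    exact ⟨Nat.eq_of_mul_eq_mul_right (NeZero.pos p) (Nat.add_right_cancel e), rfl⟩
  obtain ⟨h1, hd⟩ := key (ZMod.val_lt d) (ZMod.val_lt d') h
  obtain ⟨h2, hc⟩ := key (ZMod.val_lt c) (ZMod.val_lt c') h1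
  obtain ⟨ha, hb⟩ := key (ZMod.val_lt b) (ZMod.val_lt b') h2
  simp only [Prod.mk.injEq]
  exact ⟨ZMod.val_injective p ha, ZMod.val_injective p hb, ZMod.val_injective p hc,
    ZMod.val_injective p hd⟩

/-- The code of the determinant of `x - 1`. -/
def fixDet (x : Quad p) : ℕ := ((x.1 - 1) * (x.2.2.2 - 1) - x.2.1 * x.2.2.1).val

/-- The same, with checks by evaluation. -/
theorem regular_of_checks [Fact p.Prime] {k : ℕ} (g : Fin k → GL (Fin 2) (ZMod p))
    (gens : Fin k → Quad p) (hg : ∀ i, toQuad (g i) = gens i) (words : List (List (Fin k)))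
    (codes : List ℕ) (n : ℕ) (hn : n + 1 = p * p) (hlen : codes.length = n)
    (hcodes : (words.map (value gens)).map enc = codes)
    (hnd : codes.Nodup) (hone : enc (one p) ∈ codes)
    (hmul : ∀ i, (((words.map (value gens)).map fun x => enc (times x (gens i))).all
      fun m => codes.contains m) = true)
    (hfix : ((words.map (value gens)).all fun x => enc x == enc (one p) || !(fixDet x == 0)) = true) :
    Nat.card (Subgroup.closure (Set.range g)) = n ∧ ∀ v w : Fin 2 → ZMod p, v ≠ 0 → w ≠ 0 →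
      ∃! h : Subgroup.closure (Set.range g),
        Matrix.mulVec ((h : GL (Fin 2) (ZMod p)) : Matrix (Fin 2) (Fin 2) (ZMod p)) v = w := by
  haveI : NeZero p := ⟨(Fact.out : p.Prime).ne_zero⟩
  have hmem : ∀ y : Quad p, enc y ∈ codes → y ∈ words.map (value gens) := by
    intro y hy
    rw [← hcodes, List.mem_map] at hy
    obtain ⟨x, hx, e⟩ := hy
    exact enc_injective e ▸ hx
  refine regular g gens hg words n hn (by rw [← hlen, ← hcodes]; simp) ?_ (hmem _ hone) ?_ ?_
  · exact List.Nodup.of_map enc (hcodes.symm ▸ hnd)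
  · intro x hx i
    have := List.all_eq_true.1 (hmul i) _
      (List.mem_map_of_mem (f := fun x => enc (times x (gens i))) hx)
    exact hmem _ (List.contains_iff_mem.1 this)
  · intro x hx hne
    have := List.all_eq_true.1 hfix x hx
    rcases Bool.or_eq_true _ _ |>.mp this with h | h
    · exact absurd (enc_injective (beq_iff_eq.1 h)) hne
    · intro h0
      simp [fixDet, h0] at h

/-- The group of a list of words, extended by scalars. -/
theorem regular_scalar [Fact p.Prime] {k : ℕ} (g : Fin k → GL (Fin 2) (ZMod p))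
    (gens : Fin k → Quad p) (hg : ∀ i, toQuad (g i) = gens i) (words : List (List (Fin k)))
    (codes : List ℕ) (n : ℕ) (hlen : codes.length = n)
    (hcodes : (words.map (value gens)).map enc = codes)
    (hnd : codes.Nodup) (hone : enc (one p) ∈ codes)
    (hmul : ∀ i, (((words.map (value gens)).map fun x => enc (times x (gens i))).all
      fun m => codes.contains m) = true)
    (C : GL (Fin 2) (ZMod p)) (c : ZMod p) (hC : (C : Matrix (Fin 2) (Fin 2) (ZMod p)) = !![c, 0; 0, c])
    (m : ℕ) (hm : n * m + 1 = p * p) (hcm : c ^ m = 1)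
    (hfix : ((words.map (value gens)).all fun x => (List.range m).all fun i =>
      (enc x == enc (one p) && i == 0) ||
        !(fixDet (times (c ^ i, 0, 0, c ^ i) x) == 0)) = true) :
    Nat.card (Subgroup.closure (Set.range g ∪ {C})) = n * m ∧
      ∀ v w : Fin 2 → ZMod p, v ≠ 0 → w ≠ 0 → ∃! h : Subgroup.closure (Set.range g ∪ {C}),
        Matrix.mulVec ((h : GL (Fin 2) (ZMod p)) : Matrix (Fin 2) (Fin 2) (ZMod p)) v = w := by
  classical
  haveI : NeZero p := ⟨(Fact.out : p.Prime).ne_zero⟩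
  have hback : ∀ y : Quad p, enc y ∈ codes → y ∈ words.map (value gens) := by
    intro y hy
    rw [← hcodes, List.mem_map] at hy
    obtain ⟨x, hx, e⟩ := hy
    exact enc_injective e ▸ hx
  obtain ⟨h0, hmem⟩ := closure_facts g gens hg words n (by rw [← hlen, ← hcodes]; simp)
    (List.Nodup.of_map enc (hcodes.symm ▸ hnd)) (hback _ hone) (fun x hx i => hback _
      (List.contains_iff_mem.1 (List.all_eq_true.1 (hmul i) _
        (List.mem_map_of_mem (f := fun x => enc (times x (gens i))) hx))))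
  set H₀ := Subgroup.closure (Set.range g)
  have hqC : ∀ i : ℕ, toQuad (C ^ i) = (c ^ i, 0, 0, c ^ i) := by
    intro i
    induction i with
    | zero => simp [toQuad_one, one]
    | succ i ih => rw [pow_succ, toQuad_mul, ih]; simp [toQuad, hC, times, pow_succ]
  have hcomm : ∀ a : GL (Fin 2) (ZMod p), Commute a C := fun a => Units.ext (by
    rw [Units.val_mul, Units.val_mul, hC]
    ext i j
    fin_cases i <;> fin_cases j <;> simp [Matrix.mul_apply, Fin.sum_univ_two, mul_comm])
  have hm0 : 0 < m := by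
    rcases Nat.eq_zero_or_pos m with rfl | h
    · have := (Fact.out : p.Prime).two_le; nlinarith
    · exact h
  have hCm : C ^ m = 1 := toQuad_injective (by rw [hqC, hcm, toQuad_one]; rfl)
  have hCfin : IsOfFinOrder C := isOfFinOrder_iff_pow_eq_one.2 ⟨m, hm0, hCm⟩
  have hCord : ∀ i, C ^ i = C ^ (i % m) := fun i => pow_eq_pow_mod i hCm
  have hfree : ∀ a ∈ H₀, ∀ i : ℕ, ∀ v : Fin 2 → ZMod p, v ≠ 0 →
      Matrix.mulVec ((C ^ i * a : GL (Fin 2) (ZMod p)) : Matrix (Fin 2) (Fin 2) (ZMod p)) v = v →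
        a = 1 ∧ C ^ i = 1 := by
    intro a ha i v hv hfx
    have h1 := List.all_eq_true.1 (List.all_eq_true.1 hfix _ (hmem a ha)) (i % m)
      (List.mem_range.2 (Nat.mod_lt i hm0))
    rcases Bool.or_eq_true _ _ |>.mp h1 with h | h
    · obtain ⟨h2, h3⟩ := Bool.and_eq_true _ _ |>.mp h
      exact ⟨toQuad_injective ((enc_injective (beq_iff_eq.1 h2)).trans toQuad_one.symm),
        by rw [hCord, beq_iff_eq.1 h3, pow_zero]⟩
    · exfalso
      refine hv (Matrix.eq_zero_of_mulVec_eq_zero
        (M := ((C ^ i * a : GL (Fin 2) (ZMod p)) : Matrix (Fin 2) (Fin 2) (ZMod p)) - 1) ?_ ?_)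
      · rw [← hqC, ← toQuad_mul, ← hCord] at h
        rw [Matrix.det_fin_two]
        intro h0
        simp only [fixDet, toQuad] at h
        simp only [Matrix.sub_apply, Matrix.one_apply_eq, Matrix.one_apply_ne (show (0 : Fin 2) ≠ 1 by decide),
          Matrix.one_apply_ne (show (1 : Fin 2) ≠ 0 by decide), sub_zero] at h0
        rw [h0] at h
        simp at h
      · rw [Matrix.sub_mulVec, hfx, Matrix.one_mulVec, sub_self]
  let φ : H₀ × Subgroup.zpowers C →* GL (Fin 2) (ZMod p) :=
    MonoidHom.noncommCoprod H₀.subtype (Subgroup.zpowers C).subtype (fun a b => by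
      obtain ⟨i, hi⟩ := b.2
      show Commute (a : GL (Fin 2) (ZMod p)) b
      rw [← hi]
      exact (hcomm _).zpow_right i)
  have hrange : φ.range = Subgroup.closure (Set.range g ∪ {C}) := by
    rw [Subgroup.closure_union, ← Subgroup.zpowers_eq_closure]
    refine le_antisymm ?_ (sup_le ?_ ?_)
    · rintro _ ⟨⟨a, b⟩, rfl⟩
      exact mul_mem (Subgroup.mem_sup_left a.2) (Subgroup.mem_sup_right b.2)
    · exact fun a ha => ⟨(⟨a, ha⟩, 1), mul_one a⟩
    · exact fun b hb => ⟨(1, ⟨b, hb⟩), one_mul b⟩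
  have hfree' : ∀ (z : H₀ × Subgroup.zpowers C) (v : Fin 2 → ZMod p), v ≠ 0 →
      Matrix.mulVec ((φ z : GL (Fin 2) (ZMod p)) : Matrix (Fin 2) (Fin 2) (ZMod p)) v = v → z = 1 := by
    rintro ⟨a, ⟨b, hb⟩⟩ v hv hz
    obtain ⟨i, rfl⟩ := hCfin.mem_powers_iff_mem_zpowers.2 hb
    have hz' : Matrix.mulVec ((C ^ i * (a : GL (Fin 2) (ZMod p)) : GL (Fin 2) (ZMod p)) :
        Matrix (Fin 2) (Fin 2) (ZMod p)) v = v := by
      rw [← ((hcomm (a : GL (Fin 2) (ZMod p))).pow_right i).eq]; exact hz
    obtain ⟨e1, e2⟩ := hfree a a.2 i v hv hz'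
    exact Prod.ext (Subtype.ext e1) (Subtype.ext e2)
  obtain ⟨e₀, he₀⟩ := exists_ne (0 : Fin 2 → ZMod p)
  have hinjφ : Function.Injective φ := by
    rw [injective_iff_map_eq_one]
    exact fun z hz => hfree' z e₀ he₀ (by rw [hz, Units.val_one, Matrix.one_mulVec])
  have hord : orderOf C = m := by
    by_contra hne
    have hlt : orderOf C < m := lt_of_le_of_ne (Nat.le_of_dvd hm0 (orderOf_dvd_of_pow_eq_one hCm)) hne
    have h1 := List.all_eq_true.1 (List.all_eq_true.1 hfix _ (hback _ hone)) (orderOf C)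
      (List.mem_range.2 hlt)
    rcases Bool.or_eq_true _ _ |>.mp h1 with h | h
    · exact (orderOf_pos_iff.2 hCfin).ne' (beq_iff_eq.1 (Bool.and_eq_true _ _ |>.mp h).2)
    · rw [← hqC, pow_orderOf_eq_one, toQuad_one] at h
      simp [fixDet, times, one] at h
  have hcard : Nat.card (Subgroup.closure (Set.range g ∪ {C})) = n * m := by
    rw [← hrange, Nat.card_congr (MonoidHom.ofInjective hinjφ).toEquiv.symm, Nat.card_prod, h0,
      Nat.card_zpowers, hord]
  refine ⟨hcard, regular_of_card _ (n * m) hm hcard fun a v hv ha => ?_⟩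
  obtain ⟨z, hz⟩ := (show (a : GL (Fin 2) (ZMod p)) ∈ φ.range by rw [hrange]; exact a.2)
  have := hfree' z v hv (by rw [hz]; exact ha)
  exact Subtype.ext (by rw [← hz, this, map_one]; rfl)

end Cfsg.Agent.Perm.LinearReg
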