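import Cfsg.Prelude.Def_SolvableStructure
import Cfsg.Agent.Lib.Perm.MinNormal
import Mathlib.GroupTheory.SchurZassenhaus
import Mathlib.GroupTheory.SpecificGroups.Cyclic
import Mathlib.GroupTheory.Transfer
import Mathlib.GroupTheory.Archimedean

/-!
Supersolvable groups: inductive description, closure properties, minimal normal subgroups have
prime order, maximal subgroups have prime index, nilpotent derived subgroup, normal Sylow subgroup
for the largest prime, chains ordered by primes, and the converse of Lagrange's theorem.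
-/

set_option autoImplicit false

namespace Cfsg.Agent.Perm

open Subgroup
open scoped commutatorElement

universe u v

/-- `SSUpTo H`: there is a chain of normal subgroups of `G` from `⊥` to `H` with cyclic steps. -/
inductive SSUpTo {G : Type u} [Group G] : Subgroup G → Prop
  | bot : SSUpTo ⊥
  | step (H : Subgroup G) (g : G) : SSUpTo H → (H ⊔ zpowers g).Normal → SSUpTo (H ⊔ zpowers g)

variable {G : Type u} [Group G] {G' : Type v} [Group G']

theorem SSUpTo.normal {H : Subgroup G} (h : SSUpTo H) : H.Normal := by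
  cases h with
  | bot => infer_instance
  | step H g _ hn => exact hn

theorem isSupersolvable_iff : Cfsg.IsSupersolvable G ↔ SSUpTo (⊤ : Subgroup G) := by
  constructor
  · rintro ⟨n, H, h0, hl, hn, hs⟩
    have : ∀ i : Fin (n + 1), SSUpTo (H i) := by
      intro i
      induction i using Fin.induction with
      | zero => exact h0 ▸ .bot
      | succ j ih =>
        obtain ⟨g, hg⟩ := hs j
        exact hg ▸ .step _ g ih (hg ▸ hn j.succ)
    exact hl ▸ this (Fin.last n)
  · intro h
    have key : ∀ {K : Subgroup G}, SSUpTo K → ∃ (n : ℕ) (H : Fin (n + 1) → Subgroup G), H 0 = ⊥ ∧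
        H (Fin.last n) = K ∧ (∀ i, (H i).Normal) ∧
        ∀ i : Fin n, ∃ g : G, H i.succ = H i.castSucc ⊔ Subgroup.zpowers g := by
      intro K hK
      induction hK with
      | bot => exact ⟨0, fun _ => ⊥, rfl, rfl, fun _ => inferInstance, fun i => i.elim0⟩
      | step K g hK hn ih =>
        obtain ⟨n, H, h0, hl, hN, hs⟩ := ih
        refine ⟨n + 1, Fin.snoc H (K ⊔ zpowers g), ?_, by simp, ?_, ?_⟩
        · rw [← Fin.castSucc_zero, Fin.snoc_castSucc]; exact h0
        · intro i
          induction i using Fin.lastCases with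
          | last => simpa using hn
          | cast i => simpa using hN i
        · intro i
          induction i using Fin.lastCases with
          | last => exact ⟨g, by simp [hl]⟩
          | cast i =>
            obtain ⟨a, ha⟩ := hs i
            refine ⟨a, ?_⟩
            rw [Fin.succ_castSucc, Fin.snoc_castSucc, Fin.snoc_castSucc]
            exact ha
    exact key h

/-- Images, provided that images of normal subgroups are normal. -/
theorem SSUpTo.map {H : Subgroup G} (h : SSUpTo H) (f : G →* G')
    (hf : ∀ K : Subgroup G, K.Normal → (K.map f).Normal) : SSUpTo (H.map f) := by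
  induction h with
  | bot => rw [Subgroup.map_bot]; exact .bot
  | step H g _ hn ih =>
    rw [Subgroup.map_sup, MonoidHom.map_zpowers]
    refine .step _ _ ih ?_
    have := hf _ hn
    rwa [Subgroup.map_sup, MonoidHom.map_zpowers] at this

theorem SSUpTo.map_of_surjective {H : Subgroup G} (h : SSUpTo H) {f : G →* G'}
    (hf : Function.Surjective f) : SSUpTo (H.map f) :=
  h.map f fun _ hK => hK.map f hf

/-- Pull back of a chain along an injective homomorphism. -/
theorem SSUpTo.comap {H : Subgroup G} (h : SSUpTo H) (f : G' →* G)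
    (hf : Function.Injective f) : SSUpTo (H.comap f) := by
  induction h with
  | bot => rw [MonoidHom.comap_bot, (MonoidHom.ker_eq_bot_iff f).mpr hf]; exact .bot
  | step H g hH hn ih =>
    haveI := hH.normal
    let D : AddSubgroup ℤ :=
      { carrier := {n | ∃ k : G', ∃ a ∈ H, f k = a * g ^ n}
        zero_mem' := ⟨1, 1, one_mem H, by simp⟩
        add_mem' := by
          rintro m n ⟨k, a, ha, hk⟩ ⟨l, b, hb, hl⟩
          refine ⟨k * l, a * (g ^ m * b * (g ^ m)⁻¹), mul_mem ha (hH.normal.conj_mem b hb _), ?_⟩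
          rw [map_mul, hk, hl, zpow_add]; group
        neg_mem' := by
          rintro n ⟨k, a, ha, hk⟩
          refine ⟨k⁻¹, (g ^ n)⁻¹ * a⁻¹ * g ^ n, ?_, ?_⟩
          · simpa using hH.normal.conj_mem a⁻¹ (inv_mem ha) (g ^ n)⁻¹
          · rw [map_inv, hk, zpow_neg]; group }
    obtain ⟨d, hd⟩ := Int.subgroup_cyclic D
    have hdD : d ∈ D := hd ▸ AddSubgroup.subset_closure rfl
    obtain ⟨k₀, a₀, ha₀, hk₀⟩ := hdD
    have heq : (H ⊔ zpowers g).comap f = H.comap f ⊔ zpowers k₀ := by
      refine le_antisymm ?_ (sup_le (Subgroup.comap_mono le_sup_left) ?_)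
      · intro k hk
        rw [Subgroup.mem_comap, ← SetLike.mem_coe, Subgroup.normal_mul] at hk
        obtain ⟨a, ha, _, ⟨n, rfl⟩, hak⟩ := hk
        have hnD : n ∈ D := ⟨k, a, ha, hak.symm⟩
        rw [hd, AddSubgroup.mem_closure_singleton] at hnD
        obtain ⟨j, rfl⟩ := hnD
        have hkk : k * (k₀ ^ j)⁻¹ ∈ H.comap f := by
          rw [Subgroup.mem_comap, map_mul, map_inv, map_zpow, ← hak,
            ← QuotientGroup.eq_one_iff]
          simp only [QuotientGroup.mk_mul, QuotientGroup.mk_inv, QuotientGroup.mk_zpow, hk₀,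
            (QuotientGroup.eq_one_iff a).mpr ha, (QuotientGroup.eq_one_iff a₀).mpr ha₀, one_mul,
            smul_eq_mul, mul_comm j d, zpow_mul, mul_inv_cancel]
        have := mul_mem (mem_sup_left (T := zpowers k₀) hkk)
          (mem_sup_right (S := H.comap f) ⟨j, rfl⟩)
        simpa using this
      · rw [zpowers_le, Subgroup.mem_comap, hk₀]
        exact mul_mem (mem_sup_left ha₀) (mem_sup_right ⟨d, rfl⟩)
    rw [heq]
    exact .step _ _ ih (heq ▸ hn.comap f)

/-- Extensions. -/
theorem SSUpTo.comap_of_surjective {f : G →* G'} (hf : Function.Surjective f)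
    (hker : SSUpTo f.ker) {K : Subgroup G'} (h : SSUpTo K) : SSUpTo (K.comap f) := by
  induction h with
  | bot => rw [MonoidHom.comap_bot]; exact hker
  | step K q hK hn ih =>
    obtain ⟨g, rfl⟩ := hf q
    have heq : (K ⊔ zpowers (f g)).comap f = K.comap f ⊔ zpowers g := by
      rw [← Subgroup.map_comap_eq_self_of_surjective hf K, ← MonoidHom.map_zpowers,
        ← Subgroup.map_sup, Subgroup.comap_map_eq, Subgroup.map_comap_eq_self_of_surjective hf K]
      exact sup_eq_left.mpr ((Subgroup.ker_le_comap _ _).trans le_sup_left)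
    rw [heq]
    exact .step _ _ ih (heq ▸ hn.comap f)

theorem isSupersolvable_of_injective (h : Cfsg.IsSupersolvable G) (f : G' →* G)
    (hf : Function.Injective f) : Cfsg.IsSupersolvable G' := by
  rw [isSupersolvable_iff] at h ⊢
  simpa using h.comap f hf

theorem isSupersolvable_of_surjective (h : Cfsg.IsSupersolvable G) (f : G →* G')
    (hf : Function.Surjective f) : Cfsg.IsSupersolvable G' := by
  rw [isSupersolvable_iff] at h ⊢
  simpa [Subgroup.map_top_of_surjective f hf] using h.map_of_surjective hf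

theorem isSupersolvable_subgroup (h : Cfsg.IsSupersolvable G) (H : Subgroup G) :
    Cfsg.IsSupersolvable H := isSupersolvable_of_injective h H.subtype H.subtype_injective

theorem isSupersolvable_quotient (h : Cfsg.IsSupersolvable G) (N : Subgroup G) [N.Normal] :
    Cfsg.IsSupersolvable (G ⧸ N) :=
  isSupersolvable_of_surjective h _ (QuotientGroup.mk'_surjective N)

theorem isSupersolvable_of_subsingleton [Subsingleton G] : Cfsg.IsSupersolvable G :=
  isSupersolvable_iff.mpr (Subgroup.eq_bot_of_subsingleton (⊤ : Subgroup G) ▸ .bot)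

theorem isSupersolvable_of_cyclic_normal (N : Subgroup G) [N.Normal] [hc : IsCyclic N]
    (h : Cfsg.IsSupersolvable (G ⧸ N)) : Cfsg.IsSupersolvable G := by
  rw [isSupersolvable_iff] at h ⊢
  obtain ⟨g, hg⟩ := (Subgroup.isCyclic_iff_exists_zpowers_eq_top N).mp hc
  have hN : SSUpTo N := by
    have := SSUpTo.step (⊥ : Subgroup G) g .bot (by rw [bot_sup_eq, hg]; infer_instance)
    rwa [bot_sup_eq, hg] at this
  have := SSUpTo.comap_of_surjective (QuotientGroup.mk'_surjective N)
    (by rw [QuotientGroup.ker_mk']; exact hN) h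
  simpa using this

theorem isSupersolvable_prod (hG : Cfsg.IsSupersolvable G) (hH : Cfsg.IsSupersolvable G') :
    Cfsg.IsSupersolvable (G × G') := by
  rw [isSupersolvable_iff] at hG hH ⊢
  have h1 := hG.map (MonoidHom.inl G G') fun K hK => ⟨by
    rintro _ ⟨x, hx, rfl⟩ ⟨a, b⟩
    exact ⟨a * x * a⁻¹, hK.conj_mem x hx a, by ext <;> simp⟩⟩
  have hk : (⊤ : Subgroup G).map (MonoidHom.inl G G') = (MonoidHom.snd G G').ker := by
    ext ⟨a, b⟩
    rw [MonoidHom.mem_ker, Subgroup.mem_map]
    constructor
    · rintro ⟨c, -, h⟩; exact (congrArg Prod.snd h).symm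
    · intro h; exact ⟨a, Subgroup.mem_top a, Prod.ext rfl h.symm⟩
  rw [hk] at h1
  simpa using SSUpTo.comap_of_surjective (f := MonoidHom.snd G G') (fun b => ⟨(1, b), rfl⟩) h1 hH

theorem SSUpTo.minNormal_inf_or_cyclic [Finite G] {N H : Subgroup G} (hN : IsMinNormal N)
    (h : SSUpTo H) : N ⊓ H = ⊥ ∨ IsCyclic N := by
  induction h with
  | bot => exact Or.inl (inf_bot_eq N)
  | step H g hH hn ih =>
    rcases hN.disjoint_or_le hn with h' | h'
    · exact Or.inl (by rw [inf_comm]; exact h')
    refine ih.elim (fun hNH => Or.inr ?_) Or.inr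
    haveI := hH.normal
    let f : N →* G ⧸ H := (QuotientGroup.mk' H).comp N.subtype
    have hf : Function.Injective f := (injective_iff_map_eq_one _).mpr fun x hx =>
      Subtype.ext (Subgroup.mem_bot.mp ((SetLike.ext_iff.mp hNH (x : G)).mp
        (Subgroup.mem_inf.mpr ⟨x.2, (QuotientGroup.eq_one_iff _).mp hx⟩)))
    have hr : ∀ x : N, f x ∈ zpowers (QuotientGroup.mk' H g) := by
      intro x
      have := Subgroup.mem_map_of_mem (QuotientGroup.mk' H) (h' x.2)
      rw [Subgroup.map_sup, QuotientGroup.map_mk'_self, bot_sup_eq, MonoidHom.map_zpowers] at this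
      exact this
    exact isCyclic_of_injective (f.codRestrict _ hr) fun a b hab => hf (congrArg Subtype.val hab)

theorem IsMinNormal.card_prime_of_cyclic [Finite G] {N : Subgroup G} (hN : IsMinNormal N)
    [hc : IsCyclic N] : (Nat.card N).Prime := by
  obtain ⟨p, hp, hpow, -, k, hk, hcard⟩ := hN.exists_prime inferInstance
  have h1 : Monoid.exponent N = Nat.card N := IsCyclic.exponent_eq_card
  have h2 : Monoid.exponent N ∣ p :=
    Monoid.exponent_dvd_of_forall_pow_eq_one fun x => Subtype.ext (by simpa using hpow x x.2)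
  rw [h1] at h2
  rcases (Nat.dvd_prime hp).mp h2 with h3 | h3
  · exact absurd (Subgroup.card_eq_one.mp h3) hN.2.1
  · exact h3 ▸ hp

theorem IsMinNormal.card_prime [Finite G] (hG : Cfsg.IsSupersolvable G) {N : Subgroup G}
    (hN : IsMinNormal N) : (Nat.card N).Prime := by
  rcases (isSupersolvable_iff.mp hG).minNormal_inf_or_cyclic hN with h | h
  · rw [inf_top_eq] at h; exact absurd h hN.2.1
  · exact hN.card_prime_of_cyclic

theorem exists_normal_card_prime [Finite G] [Nontrivial G] (hG : Cfsg.IsSupersolvable G) :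
    ∃ N : Subgroup G, N.Normal ∧ (Nat.card N).Prime := by
  obtain ⟨N, hN⟩ := exists_isMinNormal (G := G)
  exact ⟨N, hN.1, hN.card_prime hG⟩

theorem card_quotient_lt [Finite G] {N : Subgroup G} (hN : N ≠ ⊥) :
    Nat.card (G ⧸ N) < Nat.card G := by
  have h1 : 1 < Nat.card N := by
    rw [Finite.one_lt_card_iff_nontrivial]; exact (Subgroup.nontrivial_iff_ne_bot N).mpr hN
  rw [N.card_eq_card_quotient_mul_card_subgroup]
  exact (lt_mul_iff_one_lt_right Nat.card_pos).mpr h1

/-- The derived subgroup is nilpotent. -/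
theorem isNilpotent_commutator (hG : Cfsg.IsSupersolvable G) :
    Group.IsNilpotent (_root_.commutator G) := by
  have key : ∀ {H : Subgroup G}, SSUpTo H → ∃ n : ℕ,
      H.subgroupOf (_root_.commutator G) ≤ Subgroup.upperCentralSeries _ n := by
    intro H h
    induction h with
    | bot => exact ⟨0, by simp⟩
    | step H g hH hn ih =>
      obtain ⟨n, hn'⟩ := ih
      haveI := hH.normal
      refine ⟨n + 1, fun x hx => ?_⟩
      rw [Subgroup.mem_upperCentralSeries_succ_iff]
      intro y
      refine hn' (Subgroup.mem_subgroupOf.mpr ?_)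
      let z : G ⧸ H := QuotientGroup.mk' H g
      have hz : (zpowers z).Normal := by
        have := hn.map (QuotientGroup.mk' H) (QuotientGroup.mk'_surjective H)
        rwa [Subgroup.map_sup, QuotientGroup.map_mk'_self, bot_sup_eq, MonoidHom.map_zpowers] at this
      have hcent : _root_.commutator (G ⧸ H) ≤ Subgroup.centralizer (zpowers z : Set (G ⧸ H)) := by
        have hker : ∀ a b : G ⧸ H, a * b * z * (a * b)⁻¹ = b * a * z * (b * a)⁻¹ := by
          intro a b
          obtain ⟨i, hi⟩ := hz.conj_mem z (mem_zpowers z) a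
          obtain ⟨j, hj⟩ := hz.conj_mem z (mem_zpowers z) b
          simp only at hi hj
          calc a * b * z * (a * b)⁻¹ = a * (b * z * b⁻¹) * a⁻¹ := by group
            _ = (z ^ i) ^ j := by rw [← hj, hi, conj_zpow]
            _ = (z ^ j) ^ i := by rw [← zpow_mul, mul_comm, zpow_mul]
            _ = b * (a * z * a⁻¹) * b⁻¹ := by rw [← hi, hj, conj_zpow]
            _ = b * a * z * (b * a)⁻¹ := by group
        rw [_root_.commutator_def, Subgroup.commutator_le]
        intro a _ b _
        rw [Subgroup.mem_centralizer_iff]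
        rintro _ ⟨k, rfl⟩
        simp only
        have h1 := hker a⁻¹ b⁻¹
        have h2 : ⁅a, b⁆ * z * ⁅a, b⁆⁻¹ = z := by
          rw [commutatorElement_def]
          calc a * b * a⁻¹ * b⁻¹ * z * (a * b * a⁻¹ * b⁻¹)⁻¹
              = a * b * (a⁻¹ * b⁻¹ * z * (a⁻¹ * b⁻¹)⁻¹) * (a * b)⁻¹ := by group
            _ = a * b * (b⁻¹ * a⁻¹ * z * (b⁻¹ * a⁻¹)⁻¹) * (a * b)⁻¹ := by rw [h1]
            _ = z := by group
        have h3 : Commute ⁅a, b⁆ z := mul_inv_eq_iff_eq_mul.mp h2
        exact ((h3.zpow_right k)).eq.symm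
      rw [← QuotientGroup.eq_one_iff]
      have hxz : QuotientGroup.mk' H (x : G) ∈ zpowers z := by
        have := Subgroup.mem_map_of_mem (QuotientGroup.mk' H) (Subgroup.mem_subgroupOf.mp hx)
        rwa [Subgroup.map_sup, QuotientGroup.map_mk'_self, bot_sup_eq, MonoidHom.map_zpowers] at this
      have hy : QuotientGroup.mk' H (y : G) ∈ _root_.commutator (G ⧸ H) := by
        have hle : (_root_.commutator G).map (QuotientGroup.mk' H) ≤ _root_.commutator (G ⧸ H) := by
          rw [_root_.commutator_def, _root_.commutator_def, Subgroup.map_commutator]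
          exact Subgroup.commutator_mono le_top le_top
        exact hle (Subgroup.mem_map_of_mem (QuotientGroup.mk' H) y.2)
      have hc := Subgroup.mem_centralizer_iff.mp (hcent hy) _ hxz
      simp only [Subgroup.coe_mul, Subgroup.coe_inv, QuotientGroup.mk_mul, QuotientGroup.mk_inv,
        commutatorElement_def]
      rw [show (QuotientGroup.mk (x : G) : G ⧸ H) * QuotientGroup.mk (y : G) =
        QuotientGroup.mk (y : G) * QuotientGroup.mk (x : G) from hc]
      group
  obtain ⟨n, hn⟩ := key (isSupersolvable_iff.mp hG)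
  rw [Subgroup.top_subgroupOf] at hn
  exact ⟨⟨n, top_le_iff.mp hn⟩⟩

/-- A subgroup of `G ⧸ N` pulled back has order `|N|` times as big. -/
theorem card_comap_mk' (N : Subgroup G) [N.Normal] (K : Subgroup (G ⧸ N)) :
    Nat.card (K.comap (QuotientGroup.mk' N)) = Nat.card N * Nat.card K := by
  rw [← Nat.card_prod]
  exact Nat.card_congr (QuotientGroup.preimageMkEquivSubgroupProdSet N K)

theorem coatom_index_prime [Finite G] (hG : Cfsg.IsSupersolvable G) :
    ∀ M : Subgroup G, IsCoatom M → M.index.Prime := by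
  suffices ∀ (n : ℕ) (G : Type u) [Group G] [Finite G], Nat.card G = n → Cfsg.IsSupersolvable G →
      ∀ M : Subgroup G, IsCoatom M → M.index.Prime from this _ G rfl hG
  intro n
  induction n using Nat.strong_induction_on with
  | _ n ih =>
    intro G _ _ hn hG M hM
    haveI : Nontrivial G := by
      by_contra h
      haveI := not_nontrivial_iff_subsingleton.mp h
      exact hM.1 (Subsingleton.elim _ _)
    obtain ⟨N, hN⟩ := exists_isMinNormal (G := G)
    haveI := hN.1
    by_cases hNM : N ≤ M
    · have hc : Subgroup.comap (QuotientGroup.mk' N) (M.map (QuotientGroup.mk' N)) = M := by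
        rw [Subgroup.comap_map_eq, QuotientGroup.ker_mk', sup_eq_left.mpr hNM]
      have hMc : IsCoatom (M.map (QuotientGroup.mk' N)) := by
        refine ⟨fun h => hM.1 (by rw [← hc, h, Subgroup.comap_top]), fun K hK => ?_⟩
        have h1 := Subgroup.comap_lt_comap_of_surjective (QuotientGroup.mk'_surjective N) |>.mpr hK
        rw [hc] at h1
        have := congrArg (Subgroup.map (QuotientGroup.mk' N)) (hM.2 _ h1)
        rwa [Subgroup.map_comap_eq_self_of_surjective (QuotientGroup.mk'_surjective N),
          Subgroup.map_top_of_surjective _ (QuotientGroup.mk'_surjective N)] at this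
      have := ih _ (hn ▸ card_quotient_lt hN.2.1) (G ⧸ N) rfl (isSupersolvable_quotient hG N) _ hMc
      rwa [Subgroup.index_map_eq _ (QuotientGroup.mk'_surjective N)
        (by rw [QuotientGroup.ker_mk']; exact hNM)] at this
    · haveI : Fact (Nat.card N).Prime := ⟨hN.card_prime hG⟩
      haveI : IsCyclic N := isCyclic_of_prime_card rfl
      exact (hN.complement_of_coatom inferInstance hM hNM).2.2.2 ▸ hN.card_prime hG

theorem sylow_le_centralizer_of_lt [Finite G] {N : Subgroup G} [N.Normal] {p : ℕ} [Fact p.Prime]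
    (hN : (Nat.card N).Prime) (hlt : Nat.card N < p + 1) (hne : Nat.card N ≠ p) (P : Sylow p G) :
    (P : Subgroup G) ≤ Subgroup.centralizer (N : Set G) := by
  intro x hx
  haveI := Fact.mk hN
  haveI : IsCyclic N := isCyclic_of_prime_card rfl
  let φ : G →* MulAut N := MulAut.conjNormal
  have h1 : orderOf (φ x) ∣ Nat.card N - 1 := by
    have := orderOf_dvd_natCard (φ x)
    rwa [IsCyclic.card_mulAut, Nat.totient_prime hN] at this
  obtain ⟨k, hk⟩ := P.isPGroup' ⟨x, hx⟩
  have h2 : orderOf (φ x) ∣ p ^ k := orderOf_dvd_of_pow_eq_one (by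
    rw [← map_pow, show x ^ p ^ k = 1 by simpa [Subtype.ext_iff] using hk, map_one])
  obtain ⟨j, -, hj⟩ := (Nat.dvd_prime_pow (Fact.out : p.Prime)).mp h2
  have hj0 : j = 0 := by
    by_contra h
    have h3 : p ∣ Nat.card N - 1 := (hj ▸ dvd_pow_self p h).trans h1
    have := hN.two_le
    have := Nat.le_of_dvd (by omega) h3
    omega
  rw [hj0, pow_zero, orderOf_eq_one_iff] at hj
  rw [Subgroup.mem_centralizer_iff]
  intro y hy
  have h4 := congrArg Subtype.val (DFunLike.congr_fun hj (⟨y, hy⟩ : N))
  simp only [φ, MulAut.conjNormal_apply, MulAut.one_apply] at h4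
  exact (mul_inv_eq_iff_eq_mul.mp h4).symm

/-- The Sylow subgroup for the largest prime is normal. -/
theorem sylow_normal_of_max [Finite G] (hG : Cfsg.IsSupersolvable G) (p : ℕ) [hp : Fact p.Prime]
    (hmax : ∀ q : ℕ, q.Prime → q ∣ Nat.card G → q ≤ p) (P : Sylow p G) :
    (P : Subgroup G).Normal := by
  suffices ∀ (n : ℕ) (G : Type u) [Group G] [Finite G], Nat.card G = n → Cfsg.IsSupersolvable G →
      (∀ q : ℕ, q.Prime → q ∣ Nat.card G → q ≤ p) → ∀ P : Sylow p G, (P : Subgroup G).Normal from
    this _ G rfl hG hmax P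
  intro n
  induction n using Nat.strong_induction_on with
  | _ n ih =>
    intro G _ _ hn hG hmax P
    rcases subsingleton_or_nontrivial G with h | h
    · exact ⟨fun x hx g => by rwa [Subsingleton.elim (g * x * g⁻¹) x]⟩
    obtain ⟨N, hNn, hNp⟩ := exists_normal_card_prime hG
    have hN1 : N ≠ ⊥ := fun h => by rw [h, Subgroup.card_bot] at hNp; exact Nat.not_prime_one hNp
    have hqle := hmax _ hNp N.card_subgroup_dvd_card
    let π := QuotientGroup.mk' N
    have hπ : Function.Surjective π := QuotientGroup.mk'_surjective N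
    haveI hQ := ih _ (hn ▸ card_quotient_lt hN1) (G ⧸ N) rfl (isSupersolvable_quotient hG N)
      (fun q hq hd => hmax q hq (hd.trans (Subgroup.card_quotient_dvd_card N))) (P.mapSurjective hπ)
    have hM : ((P : Subgroup G) ⊔ N).Normal := by
      have := hQ.comap π
      rwa [show ((P.mapSurjective hπ : Sylow p (G ⧸ N)) : Subgroup (G ⧸ N)) =
        (P : Subgroup G).map π from rfl, Subgroup.comap_map_eq, QuotientGroup.ker_mk'] at this
    by_cases hq : Nat.card N = p
    · have : N ≤ (P : Subgroup G) :=
        (IsPGroup.of_card (n := 1) (by rw [hq, pow_one])).le_sylow_of_normal P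
      rwa [sup_eq_left.mpr this] at hM
    have hle : (P : Subgroup G) ⊔ N ≤ Subgroup.normalizer ((P : Subgroup G) : Set G) := by
      refine sup_le Subgroup.le_normalizer fun y hy => ?_
      refine Subgroup.centralizer_le_normalizer _ (Subgroup.mem_centralizer_iff.mpr fun x hx => ?_)
      exact (Subgroup.mem_centralizer_iff.mp
        (sylow_le_centralizer_of_lt hNp (by omega) hq P hx) y hy).symm
    refine ⟨fun x hx g => ?_⟩
    have hy : g * x * g⁻¹ ∈ Subgroup.normalizer ((P : Subgroup G) : Set G) :=
      hle (hM.conj_mem x (mem_sup_left hx) g)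
    obtain ⟨k, hk⟩ := P.isPGroup' ⟨x, hx⟩
    have hz : IsPGroup p (zpowers (g * x * g⁻¹)) := by
      obtain ⟨j, -, hj⟩ := (Nat.dvd_prime_pow hp.out).mp (orderOf_dvd_of_pow_eq_one
        (show (g * x * g⁻¹) ^ p ^ k = 1 by
          rw [conj_pow, show x ^ p ^ k = 1 by simpa [Subtype.ext_iff] using hk, mul_one,
            mul_inv_cancel]))
      exact IsPGroup.of_card (n := j) (by rw [Nat.card_zpowers, hj])
    exact (Subgroup.mem_inf.mp ((SetLike.ext_iff.mp (hz.inf_normalizer_sylow P) _).mp
      (Subgroup.mem_inf.mpr ⟨mem_zpowers _, hy⟩))).2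

theorem exists_normal_card_max_prime [Finite G] (hG : Cfsg.IsSupersolvable G) (p : ℕ)
    [hp : Fact p.Prime] (hpd : p ∣ Nat.card G)
    (hmax : ∀ q : ℕ, q.Prime → q ∣ Nat.card G → q ≤ p) :
    ∃ N : Subgroup G, N.Normal ∧ Nat.card N = p := by
  let P : Sylow p G := default
  haveI := sylow_normal_of_max hG p hmax P
  obtain ⟨N, hN, hNP⟩ := exists_isMinNormal_le (K := (P : Subgroup G)) inferInstance
    (P.ne_bot_of_dvd_card hpd)
  obtain ⟨k, hk⟩ := IsPGroup.iff_card.mp (P.isPGroup'.to_le hNP)
  have := hN.card_prime hG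
  rw [hk] at this
  exact ⟨N, hN.1, by rw [hk, this.eq_one_of_pow, pow_one]⟩

theorem exists_max_prime {n : ℕ} (hn : 1 < n) :
    ∃ p : ℕ, p.Prime ∧ p ∣ n ∧ ∀ q : ℕ, q.Prime → q ∣ n → q ≤ p := by
  have hne : n.primeFactors.Nonempty := Nat.nonempty_primeFactors.mpr hn
  obtain ⟨h1, h2, -⟩ := Nat.mem_primeFactors.mp (n.primeFactors.max'_mem hne)
  exact ⟨_, h1, h2, fun q hq hd =>
    n.primeFactors.le_max' q (Nat.mem_primeFactors.mpr ⟨hq, hd, by omega⟩)⟩

/-- A chain of normal subgroups with prime steps, decreasing from the bottom. -/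
theorem exists_ordered_chain [Finite G] (hG : Cfsg.IsSupersolvable G) :
    ∃ (n : ℕ) (H : Fin (n + 1) → Subgroup G), H 0 = ⊥ ∧ H (Fin.last n) = ⊤ ∧ (∀ i, (H i).Normal) ∧
      (∀ i : Fin n, H i.castSucc ≤ H i.succ ∧ ((H i.castSucc).relIndex (H i.succ)).Prime) ∧
      ∀ i j : Fin n, i ≤ j → (H j.castSucc).relIndex (H j.succ) ≤
        (H i.castSucc).relIndex (H i.succ) := by
  suffices ∀ (m : ℕ) (G : Type u) [Group G] [Finite G], Nat.card G = m → Cfsg.IsSupersolvable G →
      ∃ (n : ℕ) (H : Fin (n + 1) → Subgroup G), H 0 = ⊥ ∧ H (Fin.last n) = ⊤ ∧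
        (∀ i, (H i).Normal) ∧
        (∀ i : Fin n, H i.castSucc ≤ H i.succ ∧ ((H i.castSucc).relIndex (H i.succ)).Prime ∧
          (H i.castSucc).relIndex (H i.succ) ∣ m) ∧
        ∀ i j : Fin n, i ≤ j → (H j.castSucc).relIndex (H j.succ) ≤
          (H i.castSucc).relIndex (H i.succ) by
    obtain ⟨n, H, a, b, c, d, e⟩ := this _ G rfl hG
    exact ⟨n, H, a, b, c, fun i => ⟨(d i).1, (d i).2.1⟩, e⟩
  intro m
  induction m using Nat.strong_induction_on with
  | _ m ih =>
    intro G _ _ hm hG
    rcases subsingleton_or_nontrivial G with h | h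
    · exact ⟨0, fun _ => ⊥, rfl, Subsingleton.elim _ _, fun _ => inferInstance, fun i => i.elim0,
        fun i => i.elim0⟩
    obtain ⟨p, hp, hpd, hmax⟩ := exists_max_prime (n := Nat.card G) Finite.one_lt_card
    haveI := Fact.mk hp
    obtain ⟨N, hNn, hNp⟩ := exists_normal_card_max_prime hG p hpd hmax
    have hN1 : N ≠ ⊥ := fun h => by rw [h, Subgroup.card_bot] at hNp; exact hp.ne_one hNp.symm
    obtain ⟨n, K, hK0, hKl, hKn, hKs, hKo⟩ :=
      ih _ (hm ▸ card_quotient_lt hN1) (G ⧸ N) rfl (isSupersolvable_quotient hG N)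
    let π := QuotientGroup.mk' N
    let H : Fin (n + 2) → Subgroup G := Fin.cons ⊥ fun i => (K i).comap π
    have hH0 : H 0 = ⊥ := rfl
    have hHs : ∀ i : Fin (n + 1), H i.succ = (K i).comap π := fun i => Fin.cons_succ _ _ i
    have hfirst : (H (0 : Fin (n + 1)).castSucc).relIndex (H (0 : Fin (n + 1)).succ) = p := by
      rw [Fin.castSucc_zero, hH0, hHs, hK0, Subgroup.relIndex_bot_left, MonoidHom.comap_bot,
        QuotientGroup.ker_mk', hNp]
    have hrest : ∀ i : Fin n, (H i.succ.castSucc).relIndex (H i.succ.succ) =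
        (K i.castSucc).relIndex (K i.succ) := by
      intro i
      rw [← Fin.succ_castSucc, hHs, hHs, Subgroup.relIndex_comap,
        Subgroup.map_comap_eq_self_of_surjective (QuotientGroup.mk'_surjective N)]
    refine ⟨n + 1, H, hH0, ?_, ?_, ?_, ?_⟩
    · rw [← Fin.succ_last, hHs, hKl, Subgroup.comap_top]
    · intro i
      cases i using Fin.cases with
      | zero => exact hH0 ▸ inferInstance
      | succ i => exact (hHs i) ▸ (hKn i).comap π
    · intro i
      cases i using Fin.cases with
      | zero =>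
        exact ⟨by rw [Fin.castSucc_zero, hH0]; exact bot_le, hfirst.symm ▸ hp,
          hfirst.symm ▸ hm ▸ hpd⟩
      | succ i =>
        refine ⟨?_, hrest i ▸ (hKs i).2.1,
          hrest i ▸ (hKs i).2.2.trans (hm ▸ Subgroup.card_quotient_dvd_card N)⟩
        rw [← Fin.succ_castSucc, hHs, hHs]
        exact Subgroup.comap_mono (hKs i).1
    · intro i j hij
      cases j using Fin.cases with
      | zero => rw [Fin.le_zero_iff.mp hij]
      | succ j =>
        cases i using Fin.cases with
        | zero =>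
          rw [hfirst, hrest]
          exact hmax _ (hKs j).2.1 ((hKs j).2.2.trans (Subgroup.card_quotient_dvd_card N))
        | succ i =>
          rw [hrest, hrest]
          exact hKo i j (Fin.succ_le_succ_iff.mp hij)

/-- The converse of Lagrange's theorem. -/
theorem hasSubgroupOfEveryOrder [Finite G] (hG : Cfsg.IsSupersolvable G) :
    Cfsg.HasSubgroupOfEveryOrder G := by
  suffices ∀ (m : ℕ) (G : Type u) [Group G] [Finite G], Nat.card G = m → Cfsg.IsSupersolvable G →
      Cfsg.HasSubgroupOfEveryOrder G from this _ G rfl hG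
  intro m
  induction m using Nat.strong_induction_on with
  | _ m ih =>
    intro G _ _ hm hG d hd
    rcases subsingleton_or_nontrivial G with h | h
    · rw [Nat.card_unique, Nat.dvd_one] at hd
      exact ⟨⊥, by rw [Subgroup.card_bot, hd]⟩
    obtain ⟨N, hNn, hNp⟩ := exists_normal_card_prime hG
    have hN1 : N ≠ ⊥ := fun h => by rw [h, Subgroup.card_bot] at hNp; exact Nat.not_prime_one hNp
    have hQ := ih _ (hm ▸ card_quotient_lt hN1) (G ⧸ N) rfl (isSupersolvable_quotient hG N)
    rw [N.card_eq_card_quotient_mul_card_subgroup] at hd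
    by_cases hpd : Nat.card N ∣ d
    · obtain ⟨e, rfl⟩ := hpd
      rw [mul_comm (Nat.card (G ⧸ N))] at hd
      obtain ⟨K, hK⟩ := hQ e (Nat.dvd_of_mul_dvd_mul_left hNp.pos hd)
      exact ⟨K.comap (QuotientGroup.mk' N), by rw [card_comap_mk', hK]⟩
    · have hcop : Nat.Coprime d (Nat.card N) := (hNp.coprime_iff_not_dvd.mpr hpd).symm
      obtain ⟨K, hK⟩ := hQ d (hcop.dvd_of_dvd_mul_right hd)
      let L := K.comap (QuotientGroup.mk' N)
      have hNL : N ≤ L := fun x hx => by
        simp [L, (QuotientGroup.eq_one_iff x).mpr hx, one_mem]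
      haveI : (N.subgroupOf L).Normal := inferInstance
      have hNc : Nat.card (N.subgroupOf L) = Nat.card N :=
        Nat.card_congr (Subgroup.subgroupOfEquivOfLe hNL).toEquiv
      have hidx : (N.subgroupOf L).index = d := by
        have := Subgroup.index_mul_card (N.subgroupOf L)
        rw [hNc, card_comap_mk', hK, mul_comm (Nat.card N)] at this
        exact Nat.eq_of_mul_eq_mul_right hNp.pos this
      obtain ⟨C, hC⟩ := Subgroup.exists_right_complement'_of_coprime (N := N.subgroupOf L)
        (by rw [hNc, hidx]; exact hcop.symm)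
      refine ⟨C.map L.subtype, ?_⟩
      rw [← Nat.card_congr (C.equivMapOfInjective _ L.subtype_injective).toEquiv,
        ← hC.symm.index_eq_card, hidx]

end Cfsg.Agent.Perm
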