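import Cfsg.Agent.Lib.Perm.Huppert
import Cfsg.Agent.Lib.Perm.Schmidt
import Cfsg.Agent.Lib.Perm.Supersolvable
import Cfsg.Agent.Lib.Fusion.NPC
import Cfsg.Agent.Lib.Fusion.AbelianHall
import Cfsg.Agent.Lib.Fusion.Cores

/-!
Groups in which every maximal subgroup is `p`-nilpotent or of prime index.
-/

set_option autoImplicit false
set_option linter.style.haveILetI false

open scoped commutatorElement

namespace Cfsg.Agent.Perm

universe u

variable {p : ℕ} [hp : Fact p.Prime]

theorem pCore_eq_bot_iff_normal_pgroup {H : Type u} [Group H] [Finite H]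
    (h : Cfsg.pCore p H = ⊥) {N : Subgroup H} [N.Normal] (hN : IsPGroup p N) : N = ⊥ :=
  eq_bot_iff.2 (h ▸ Fusion.le_pCore hN)

/-- A group with supersolvable structure and trivial `O_p` has a normal `p`-complement. -/
theorem hnpc_of_supersolvable_pCore_bot {H : Type u} [Group H] [Finite H]
    (hs : Cfsg.IsSupersolvable H) (h : Cfsg.pCore p H = ⊥) : Cfsg.HasNormalPComplement p H := by
  haveI := isNilpotent_commutator hs
  refine Fusion.hnpc_of_quotient (_root_.commutator H) ?_ ?_
  · obtain ⟨P⟩ := (inferInstance : Nonempty (Sylow p ↥(_root_.commutator H)))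
    haveI hPn : (P : Subgroup ↥(_root_.commutator H)).Normal := sylow_normal_of_nilpotent ‹_› P
    haveI : (P : Subgroup ↥(_root_.commutator H)).Characteristic := P.characteristic_of_normal hPn
    haveI : ((P : Subgroup ↥(_root_.commutator H)).map (_root_.commutator H).subtype).Normal :=
      ConjAct.normal_of_characteristic_of_normal
    have h1 := pCore_eq_bot_iff_normal_pgroup h (P.isPGroup'.map (_root_.commutator H).subtype)
    rw [Subgroup.map_eq_bot_iff, Subgroup.ker_subtype, le_bot_iff] at h1
    refine Nat.Coprime.symm ((Nat.Prime.coprime_iff_not_dvd hp.out).2 fun hd => ?_)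
    exact P.ne_bot_of_dvd_card hd h1
  · haveI : Group.IsNilpotent (H ⧸ _root_.commutator H) :=
      (inferInstance : Group.IsNilpotent (Abelianization H))
    exact Fusion.hnpc_of_isNilpotent

/-- If every maximal subgroup is `p`-nilpotent or of prime index, and quotients with trivial
`O_{p'}` are constrained, then `G/O_{p',p}(G)` has a normal `p`-complement. -/
theorem hnpc_quotient_of_max {G : Type u} [Group G] [Finite G]
    (hmax : ∀ M : Subgroup G, IsCoatom M → Cfsg.HasNormalPComplement p M ∨ M.index.Prime)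
    (hC : ∀ (K : Type u) [Group K] [Finite K] (f : G →* K), Function.Surjective f →
      Cfsg.pPrimeCore p K = ⊥ →
        Subgroup.centralizer (Cfsg.pCore p K : Set K) ≤ Cfsg.pCore p K) :
    Cfsg.HasNormalPComplement p
      ((G ⧸ Cfsg.pPrimeCore p G) ⧸ Cfsg.pCore p (G ⧸ Cfsg.pPrimeCore p G)) := by
  set N := Cfsg.pPrimeCore p G
  set V := Cfsg.pCore p (G ⧸ N) with hV
  set π := QuotientGroup.mk' N
  set σ := QuotientGroup.mk' V
  have hσπ : Function.Surjective (σ.comp π) :=
    (QuotientGroup.mk'_surjective V).comp (QuotientGroup.mk'_surjective N)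
  have hbot : Cfsg.pCore p ((G ⧸ N) ⧸ V) = ⊥ := Fusion.pCore_quotient_eq_bot
  by_cases hcase : ∀ M : Subgroup ((G ⧸ N) ⧸ V), IsCoatom M → M.index.Prime
  · exact hnpc_of_supersolvable_pCore_bot (isSupersolvable_of_coatom_index_prime hcase) hbot
  push Not at hcase
  obtain ⟨M, hM, hMi⟩ := hcase
  have hcoat : IsCoatom (M.comap (σ.comp π)) := by
    refine ⟨fun h => hM.1 ?_, fun K hK => ?_⟩
    · rw [← Subgroup.map_comap_eq_self_of_surjective hσπ M, h,
        Subgroup.map_top_of_surjective _ hσπ]
    · have hker : (σ.comp π).ker ≤ K := (Subgroup.ker_le_comap _ _).trans hK.le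
      have hKc : (K.map (σ.comp π)).comap (σ.comp π) = K := by
        rw [Subgroup.comap_map_eq, sup_eq_left.mpr hker]
      rw [← hKc, hM.2 (K.map (σ.comp π))
        ((Subgroup.comap_lt_comap_of_surjective hσπ).mp (hKc.symm ▸ hK)), Subgroup.comap_top]
  have hnpM : Cfsg.HasNormalPComplement p (M.comap σ) := by
    have h := (hmax _ hcoat).resolve_right (by
      rwa [Subgroup.index_comap_of_surjective M hσπ])
    have hmap : (M.comap (σ.comp π)).map π = M.comap σ := by
      rw [← Subgroup.comap_comap]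
      exact Subgroup.map_comap_eq_self_of_surjective (QuotientGroup.mk'_surjective N) _
    rw [← hmap]
    exact Fusion.hnpc_of_surjective (π.subgroupMap _) (π.subgroupMap_surjective _) h
  have hVM : V ≤ M.comap σ := le_trans (QuotientGroup.ker_mk' V).ge (Subgroup.ker_le_comap _ _)
  have hMp : IsPGroup p M := by
    set T := M.comap σ with hT
    set R := (Cfsg.pResidual p ↥T).map T.subtype with hR
    have hco : (Nat.card R).Coprime p := by
      rw [hR, Subgroup.card_map_of_injective T.subtype_injective]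
      exact Fusion.hnpc_iff.1 hnpM
    have hRV : R ≤ V := by
      refine le_trans ?_ (hC (G ⧸ N) π (QuotientGroup.mk'_surjective N)
        Fusion.pPrimeCore_quotient_eq_bot)
      rintro _ ⟨r, hr, rfl⟩
      rw [Subgroup.mem_centralizer_iff]
      intro v hv
      haveI : V.Normal := inferInstance
      have h1 : ⁅(⟨v, hVM hv⟩ : T), r⁆ ∈ Cfsg.pResidual p ↥T ⊓ V.subgroupOf T := by
        refine Subgroup.mem_inf.2 ⟨?_, ?_⟩
        · rw [commutatorElement_def]
          exact mul_mem ((inferInstance : (Cfsg.pResidual p ↥T).Normal).conj_mem r hr _)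
            (inv_mem hr)
        · rw [commutatorElement_def, mul_assoc, mul_assoc]
          refine mul_mem (show (⟨v, hVM hv⟩ : T) ∈ V.subgroupOf T from hv) ?_
          rw [← mul_assoc]
          exact (inferInstance : (V.subgroupOf T).Normal).conj_mem _
            (inv_mem (show (⟨v, hVM hv⟩ : T) ∈ V.subgroupOf T from hv)) r
      have h2 : Cfsg.pResidual p ↥T ⊓ V.subgroupOf T = ⊥ :=
        Fusion.coprime_inf_pGroup (Fusion.hnpc_iff.1 hnpM)
          ((Fusion.isPGroup_pCore p _).comap_of_injective T.subtype T.subtype_injective)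
      rw [h2, Subgroup.mem_bot, commutatorElement_eq_one_iff_mul_comm] at h1
      exact congrArg Subtype.val h1
    have hRbot : Cfsg.pResidual p ↥T = ⊥ := by
      refine (Subgroup.map_eq_bot_iff_of_injective _ T.subtype_injective).1 ?_
      have := Fusion.coprime_inf_pGroup hco (Fusion.isPGroup_pCore p (G ⧸ N))
      rwa [inf_eq_left.2 hRV] at this
    have hTp : IsPGroup p ↥T := (Fusion.isPGroup_quotient_pResidual (G := ↥T)).of_equiv
      ((QuotientGroup.quotientMulEquivOfEq hRbot).trans QuotientGroup.quotientBot)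
    have := hTp.map σ
    rwa [hT, Subgroup.map_comap_eq_self_of_surjective (QuotientGroup.mk'_surjective V)] at this
  set W := Cfsg.pPrimeCore p ((G ⧸ N) ⧸ V)
  have hW : W ≠ ⊥ := by
    intro h0
    have h1 := hC _ (σ.comp π) hσπ h0
    rw [hbot] at h1
    have h2 : (⊤ : Subgroup ((G ⧸ N) ⧸ V)) ≤ ⊥ := by
      refine le_trans (fun x _ => ?_) h1
      rw [Subgroup.mem_centralizer_iff]
      intro y hy
      rw [SetLike.mem_coe, Subgroup.mem_bot] at hy
      simp [hy]
    exact hM.1 (top_le_iff.1 (h2.trans bot_le))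
  have hWM : ¬ W ≤ M := fun hle => hW (by
    have := Fusion.coprime_inf_pGroup (Fusion.card_pPrimeCore_coprime p ((G ⧸ N) ⧸ V)) hMp
    rwa [inf_eq_left.2 hle] at this)
  refine Fusion.hnpc_of_coprime_normal_pgroup_quotient (Fusion.card_pPrimeCore_coprime p _) ?_
  refine hMp.of_surjective ((QuotientGroup.mk' W).comp M.subtype) fun y => ?_
  obtain ⟨x, rfl⟩ := QuotientGroup.mk'_surjective W y
  have hx : x ∈ W ⊔ M := by
    rw [hM.2 _ (lt_of_le_of_ne le_sup_right fun e => hWM (le_sup_left.trans e.ge))]
    trivial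
  obtain ⟨w, hw, m, hm, rfl⟩ := Subgroup.mem_sup_of_normal_left.1 hx
  refine ⟨⟨m, hm⟩, ?_⟩
  show QuotientGroup.mk' W m = QuotientGroup.mk' W (w * m)
  rw [map_mul, show QuotientGroup.mk' W w = 1 from (QuotientGroup.eq_one_iff w).2 hw, one_mul]

/-- The resulting series `1 ≤ A ≤ B ≤ C ≤ G`. -/
theorem series_of_max {G : Type u} [Group G] [Finite G]
    (hmax : ∀ M : Subgroup G, IsCoatom M → Cfsg.HasNormalPComplement p M ∨ M.index.Prime)
    (hC : ∀ (K : Type u) [Group K] [Finite K] (f : G →* K), Function.Surjective f →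
      Cfsg.pPrimeCore p K = ⊥ →
        Subgroup.centralizer (Cfsg.pCore p K : Set K) ≤ Cfsg.pCore p K) :
    ∃ A B C : Subgroup G, A.Normal ∧ B.Normal ∧ C.Normal ∧ A ≤ B ∧ B ≤ C ∧
      (Nat.card A).Coprime p ∧ (∃ k : ℕ, A.relIndex B = p ^ k) ∧ (B.relIndex C).Coprime p ∧
      ∃ k : ℕ, C.index = p ^ k := by
  have hn := Fusion.hnpc_iff.1 (hnpc_quotient_of_max hmax hC)
  set N := Cfsg.pPrimeCore p G
  set V := Cfsg.pCore p (G ⧸ N)
  set π := QuotientGroup.mk' N
  set φ := (QuotientGroup.mk' V).comp π
  have hφ : Function.Surjective φ :=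
    (QuotientGroup.mk'_surjective V).comp (QuotientGroup.mk'_surjective N)
  set R := Cfsg.pResidual p ((G ⧸ N) ⧸ V) with hR
  have hker : φ.ker = V.comap π := by
    ext x
    rw [MonoidHom.mem_ker, Subgroup.mem_comap]
    exact QuotientGroup.eq_one_iff (N := V) (π x)
  refine ⟨N, V.comap π, R.comap φ, inferInstance, inferInstance, inferInstance,
    le_trans (QuotientGroup.ker_mk' N).ge (Subgroup.ker_le_comap _ _),
    hker ▸ Subgroup.ker_le_comap φ R, Fusion.card_pPrimeCore_coprime p G, ?_, ?_, ?_⟩
  · have h := Subgroup.relIndex_ker (f := π) (K := V.comap π)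
    rw [QuotientGroup.ker_mk', Subgroup.map_comap_eq_self_of_surjective
      (QuotientGroup.mk'_surjective N)] at h
    rw [h]
    exact (Fusion.isPGroup_pCore p _).exists_card_eq
  · have h := Subgroup.relIndex_ker (f := φ) (K := R.comap φ)
    rw [hker, Subgroup.map_comap_eq_self_of_surjective hφ] at h
    rw [h]
    exact hn
  · rw [Subgroup.index_comap_of_surjective _ hφ, Subgroup.index_eq_card]
    exact (Fusion.isPGroup_quotient_pResidual).exists_card_eq

end Cfsg.Agent.Perm
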