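import Mathlib

/-!
Jordan: a subgroup of a finite group meeting every conjugacy class is the whole group.
-/

set_option autoImplicit false

namespace Cfsg.Agent.Perm

theorem eq_top_of_meets_classes {G : Type*} [Group G] [Finite G] (H : Subgroup G)
    (h : ∀ g : G, ∃ c : G, c⁻¹ * g * c ∈ H) : H = ⊤ := by
  classical
  haveI : Fintype G := Fintype.ofFinite G
  haveI : Fintype (G ⧸ H) := Fintype.ofFinite _
  by_contra hne
  have hone : 1 < Fintype.card (G ⧸ H) := by
    rw [← Nat.card_eq_fintype_card, ← Subgroup.index_eq_card]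
    have := Subgroup.index_ne_zero_of_finite (H := H)
    have := mt Subgroup.index_eq_one.1 hne
    omega
  let f : G ⧸ H → Finset G := fun q =>
    (Finset.univ : Finset G).filter fun g => q.out⁻¹ * g * q.out ∈ H ∧ g ≠ 1
  have hcover : (Finset.univ : Finset G).erase 1 ⊆ Finset.univ.biUnion f := by
    intro g hg
    obtain ⟨c, hc⟩ := h g
    refine Finset.mem_biUnion.2 ⟨QuotientGroup.mk c, Finset.mem_univ _,
      Finset.mem_filter.2 ⟨Finset.mem_univ _, ?_, Finset.ne_of_mem_erase hg⟩⟩
    obtain ⟨u, hu⟩ := QuotientGroup.mk_out_eq_mul H c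
    rw [hu, show (c * (u : G))⁻¹ * g * (c * u) = (u : G)⁻¹ * (c⁻¹ * g * c) * u by group]
    exact H.mul_mem (H.mul_mem (H.inv_mem u.2) hc) u.2
  have hf : ∀ q, (f q).card ≤ Nat.card H - 1 := by
    intro q
    rw [← Finset.card_image_of_injective (f q) (f := fun g => q.out⁻¹ * g * q.out)
      (fun a b e => by simpa using e)]
    refine le_trans (Finset.card_le_card (t := ((Finset.univ : Finset G).filter (· ∈ H)).erase 1) ?_) ?_
    · intro z hz
      obtain ⟨g, hg, rfl⟩ := Finset.mem_image.1 hz
      obtain ⟨-, hgH, hg1⟩ := Finset.mem_filter.1 hg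
      refine Finset.mem_erase.2 ⟨fun e => hg1 ?_, Finset.mem_filter.2 ⟨Finset.mem_univ _, hgH⟩⟩
      have := congrArg (fun t => q.out * t * q.out⁻¹) e
      simpa [mul_assoc] using this
    · rw [Finset.card_erase_of_mem (Finset.mem_filter.2 ⟨Finset.mem_univ _, H.one_mem⟩),
        Nat.card_eq_fintype_card, Fintype.card_subtype]
  have h1 := le_trans (Finset.card_le_card hcover) (le_trans Finset.card_biUnion_le
    (Finset.sum_le_card_nsmul _ _ _ fun q _ => hf q))
  rw [Finset.card_erase_of_mem (Finset.mem_univ _), Finset.card_univ, Finset.card_univ, smul_eq_mul,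
    ← Nat.card_eq_fintype_card (α := G), H.card_eq_card_quotient_mul_card_subgroup,
    Nat.card_eq_fintype_card (α := G ⧸ H), Nat.mul_sub, mul_one] at h1
  have h2 : Fintype.card (G ⧸ H) ≤ Fintype.card (G ⧸ H) * Nat.card H := Nat.le_mul_of_pos_right _ Nat.card_pos
  omega

end Cfsg.Agent.Perm
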