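import Cfsg.Agent.Lib.Solv.ExtraspecialTwo

/-!
# The extraspecial group of order 32 of minus type and its automorphism group
-/

set_option autoImplicit false

namespace Cfsg.Agent.Perm.MinusThirtyTwo

open Cfsg.Agent.Solv.ExtTwo

/-- Normal forms for `D₈ ∘ Q₈`. -/
@[ext] structure Mo where
  e : ZMod 2
  a : ZMod 2
  b : ZMod 2
  c : ZMod 2
  d : ZMod 2
deriving DecidableEq, Fintype

instance : Mul Mo :=
  ⟨fun x y => ⟨x.e + y.e + (x.b * y.a + x.c * (y.a + y.b) + x.d * (y.a + y.b + y.c)),
    x.a + y.a, x.b + y.b, x.c + y.c, x.d + y.d⟩⟩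

instance : One Mo := ⟨⟨0, 0, 0, 0, 0⟩⟩

instance : Inv Mo :=
  ⟨fun x => ⟨x.e + (x.b * x.a + x.c * (x.a + x.b) + x.d * (x.a + x.b + x.c)), x.a, x.b, x.c, x.d⟩⟩

theorem mul_def (x y : Mo) : x * y =
    ⟨x.e + y.e + (x.b * y.a + x.c * (y.a + y.b) + x.d * (y.a + y.b + y.c)),
      x.a + y.a, x.b + y.b, x.c + y.c, x.d + y.d⟩ := rfl

theorem one_def : (1 : Mo) = ⟨0, 0, 0, 0, 0⟩ := rfl

theorem inv_mul_aux : ∀ x : Mo, x⁻¹ * x = 1 := by decide +kernel

instance : Group Mo :=
  Group.ofLeftAxioms
    (fun x y w => by ext <;> simp only [mul_def] <;> ring)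
    (fun x => by ext <;> simp [mul_def, one_def])
    inv_mul_aux

/-- The central involution. -/
def z : Mo := ⟨1, 0, 0, 0, 0⟩

/-- The five classes of noncentral involutions. -/
def t : Fin 5 → Mo :=
  ![⟨0, 1, 0, 0, 0⟩, ⟨0, 0, 1, 0, 0⟩, ⟨0, 0, 0, 1, 0⟩, ⟨0, 0, 0, 0, 1⟩, ⟨0, 1, 1, 1, 1⟩]

theorem card_Mo : Nat.card Mo = 32 := by
  rw [Nat.card_eq_fintype_card]
  decide +kernel

theorem ext2 : Ext2 Mo z where
  ne := by decide
  central := by
    have : ∀ g : Mo, z * g = g * z := by decide +kernel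
    exact this
  center := by
    have : ∀ g : Mo, (∀ h : Mo, g * h = h * g) → g = 1 ∨ g = z := by decide +kernel
    exact fun g hg => this g hg
  sq := by decide +kernel
  comm := by decide +kernel

theorem commuting_involutions : ∀ g : Mo, g * g = 1 → ∀ h : Mo, h * h = 1 → g * h = h * g →
    g = 1 ∨ g = z ∨ h = 1 ∨ h = z ∨ h = g ∨ h = g * z := by decide +kernel

theorem isRk : IsRk Mo 4 := by
  constructor
  · refine ⟨{ carrier := {1, z, t 0, t 0 * z}, one_mem' := by simp, mul_mem' := ?_, inv_mem' := ?_ },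
      ⟨⟨⟨?_⟩⟩, ?_⟩, ?_⟩
    · have : ∀ x ∈ ({1, z, t 0, t 0 * z} : Finset Mo), ∀ y ∈ ({1, z, t 0, t 0 * z} : Finset Mo),
          x * y ∈ ({1, z, t 0, t 0 * z} : Finset Mo) := by decide +kernel
      intro x y hx hy
      simpa using this x (by simpa using hx) y (by simpa using hy)
    · have : ∀ x ∈ ({1, z, t 0, t 0 * z} : Finset Mo), x⁻¹ ∈ ({1, z, t 0, t 0 * z} : Finset Mo) := by
        decide +kernel
      intro x hx
      simpa using this x (by simpa using hx)
    · have : ∀ x ∈ ({1, z, t 0, t 0 * z} : Finset Mo), ∀ y ∈ ({1, z, t 0, t 0 * z} : Finset Mo),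
          x * y = y * x := by decide +kernel
      rintro ⟨x, hx⟩ ⟨y, hy⟩
      exact Subtype.ext (this x (by simpa using hx) y (by simpa using hy))
    · have : ∀ x ∈ ({1, z, t 0, t 0 * z} : Finset Mo), x ^ 2 = 1 := by decide +kernel
      exact fun x hx => this x (by simpa using hx)
    · show Nat.card ({1, z, t 0, t 0 * z} : Set Mo) = 4
      rw [show ({1, z, t 0, t 0 * z} : Set Mo) = (({1, z, t 0, t 0 * z} : Finset Mo) : Set Mo) by simp,
        Nat.card_coe_set_eq, Set.ncard_coe_finset]
      decide +kernel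
  · intro A hA
    have hsq : ∀ x ∈ A, x * x = 1 := fun x hx => by rw [← sq]; exact hA.2 x hx
    have hsub : ∃ g : Mo, (A : Set Mo) ⊆ (({1, z, g, g * z} : Finset Mo) : Set Mo) := by
      by_cases hg : ∃ g ∈ A, g ≠ 1 ∧ g ≠ z
      · obtain ⟨g, hgA, hg1, hgz⟩ := hg
        refine ⟨g, fun h hh => ?_⟩
        haveI := hA.1
        have hc : g * h = h * g := congrArg Subtype.val (mul_comm' (⟨g, hgA⟩ : A) ⟨h, hh⟩)
        rcases commuting_involutions g (hsq g hgA) h (hsq h hh) hc with e | e | e | e | e | e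
        · exact (hg1 e).elim
        · exact (hgz e).elim
        all_goals simp [e]
      · push Not at hg
        refine ⟨1, fun h hh => ?_⟩
        by_cases h1 : h = 1
        · simp [h1]
        · simp [hg h hh h1]
    obtain ⟨g, hg⟩ := hsub
    calc Nat.card A = Set.ncard (A : Set Mo) := Nat.card_coe_set_eq _
      _ ≤ Set.ncard (({1, z, g, g * z} : Finset Mo) : Set Mo) := Set.ncard_le_ncard hg
      _ ≤ 4 := by rw [Set.ncard_coe_finset]; exact Finset.card_le_four

universe u

/-- Every such group is the model. -/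
theorem exists_equiv {P : Type u} [Group P] [Finite P] (hex : Cfsg.IsExtraspecial 2 P)
    (h32 : Nat.card P = 32) (hminus : ∀ A : Subgroup P, Cfsg.IsElementaryAbelian 2 A → Nat.card ↥A ≤ 4) :
    Nonempty (Mo ≃* P) := by
  obtain ⟨z', hz'⟩ := of_extraspecial hex
  have hrk : IsRk P 4 := by
    rcases (main.{u, 0} 2 (by norm_num) P z' hz' (by rw [h32]; norm_num)).1 with h | h
    · exact h
    · obtain ⟨A, hA, hc⟩ := h.1
      have := hminus A hA
      rw [hc] at this
      norm_num at this
  obtain ⟨e, -⟩ := (main 2 (by norm_num) Mo z ext2 (by rw [card_Mo]; norm_num)).2 P z' hz'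
    (by rw [h32]; norm_num) 4 isRk hrk
  exact ⟨e⟩

/-- The class of an involution. -/
def idx (x : Mo) : Fin 5 :=
  if x.a = 1 ∧ x.b = 1 then 4 else if x.a = 1 then 0 else if x.b = 1 then 1 else if x.c = 1 then 2 else 3

theorem invol_eq : ∀ g : Mo, g * g = 1 → g ≠ 1 → g ≠ z → g = t (idx g) ∨ g = t (idx g) * z := by
  decide +kernel

theorem idx_t : ∀ i : Fin 5, idx (t i) = i ∧ idx (t i * z) = i := by decide +kernel

theorem t_facts : ∀ i : Fin 5, t i * t i = 1 ∧ t i ≠ 1 ∧ t i ≠ z ∧ t i ≠ t i * z := by decide +kernel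

theorem aut_z (σ : MulAut Mo) : σ z = z := by
  refine (ext2.center (σ z) fun h => ?_).resolve_left fun e => ext2.ne (σ.injective (by rw [e, map_one]))
  have := (ext2.central (σ.symm h)).map σ.toMonoidHom
  simpa using this

theorem aut_t (σ : MulAut Mo) (i : Fin 5) :
    σ (t i) = t (idx (σ (t i))) ∨ σ (t i) = t (idx (σ (t i))) * z := by
  obtain ⟨h1, h2, h3, -⟩ := t_facts i
  refine invol_eq _ (by rw [← map_mul, h1, map_one]) (fun e => h2 (σ.injective (by rw [e, map_one])))
    (fun e => h3 (σ.injective (by rw [e, aut_z])))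

theorem idx_comp (σ τ : MulAut Mo) (i : Fin 5) :
    idx ((σ * τ) (t i)) = idx (σ (t (idx (τ (t i))))) := by
  rw [MulAut.mul_apply]
  rcases aut_t τ i with e | e
  · rw [← e]
  · conv_lhs => rw [e, map_mul, aut_z]
    rcases aut_t σ (idx (τ (t i))) with f | f
    · rw [f, (idx_t _).2, (idx_t _).1]
    · rw [f, (idx_t _).2, mul_assoc, ext2.zz, mul_one, (idx_t _).1]

theorem idx_one (i : Fin 5) : idx ((1 : MulAut Mo) (t i)) = i := (idx_t i).1

/-- The action on the five classes. -/
def psi : MulAut Mo →* Equiv.Perm (Fin 5) where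
  toFun σ :=
    { toFun := fun i => idx (σ (t i))
      invFun := fun i => idx (σ⁻¹ (t i))
      left_inv := fun i => by
        show idx (σ⁻¹ (t (idx (σ (t i))))) = i
        rw [← idx_comp, inv_mul_cancel, idx_one]
      right_inv := fun i => by
        show idx (σ (t (idx (σ⁻¹ (t i))))) = i
        rw [← idx_comp, mul_inv_cancel, idx_one] }
  map_one' := Equiv.ext idx_one
  map_mul' σ τ := Equiv.ext fun i => idx_comp σ τ i

theorem psi_apply (σ : MulAut Mo) (i : Fin 5) : psi σ i = idx (σ (t i)) := rfl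

theorem gen : ∀ x : Mo, x = z ^ x.e.val * t 0 ^ x.a.val * t 1 ^ x.b.val * t 2 ^ x.c.val * t 3 ^ x.d.val := by
  decide +kernel

/-- The image of a normal form under a map given on the generators. -/
def img (u : Fin 4 → Mo) (x : Mo) : Mo :=
  z ^ x.e.val * u 0 ^ x.a.val * u 1 ^ x.b.val * u 2 ^ x.c.val * u 3 ^ x.d.val

theorem aut_img (σ : MulAut Mo) (x : Mo) : σ x = img (fun i => σ (t i.castSucc)) x := by
  conv_lhs => rw [gen x]
  rw [map_mul, map_mul, map_mul, map_mul, map_pow, map_pow, map_pow, map_pow, map_pow, aut_z]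
  rfl

theorem card_inn : Nat.card (MulAut.conj : Mo →* MulAut Mo).range = 16 := by
  have hker : (MulAut.conj : Mo →* MulAut Mo).ker = Subgroup.zpowers z := by
    ext g
    rw [MonoidHom.mem_ker]
    constructor
    · intro h
      rcases ext2.center g (fun k => mul_inv_eq_iff_eq_mul.1
          (by have := DFunLike.congr_fun h k; simpa using this)) with e | e
      · rw [e]; exact one_mem _
      · rw [e]; exact Subgroup.mem_zpowers _
    · intro h
      obtain ⟨k, rfl⟩ := Subgroup.mem_zpowers_iff.1 h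
      refine MulEquiv.ext fun y => ?_
      simp only [MulAut.conj_apply, MulAut.one_apply]
      rw [((ext2.central y).zpow_left k).eq, mul_inv_cancel_right]
  have h1 := Subgroup.index_ker (MulAut.conj : Mo →* MulAut Mo)
  have h2 := Subgroup.card_mul_index (MulAut.conj : Mo →* MulAut Mo).ker
  rw [h1, hker, Nat.card_zpowers, card_Mo,
    orderOf_eq_prime (by rw [sq]; exact ext2.zz) ext2.ne] at h2
  omega

theorem ker_psi : psi.ker = (MulAut.conj : Mo →* MulAut Mo).range := by
  refine (Subgroup.eq_of_le_of_card_ge ?_ ?_).symm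
  · rintro _ ⟨g, rfl⟩
    refine Equiv.ext fun i => ?_
    have : ∀ g : Mo, ∀ i : Fin 5, idx (g * t i * g⁻¹) = i := by decide +kernel
    exact this g i
  · rw [card_inn]
    classical
    let F : psi.ker → (Fin 4 → Bool) := fun σ i => decide ((σ : MulAut Mo) (t i.castSucc) = t i.castSucc)
    have hF : Function.Injective F := by
      intro σ τ h
      have key : ∀ i : Fin 4, (σ : MulAut Mo) (t i.castSucc) = (τ : MulAut Mo) (t i.castSucc) := by
        intro i
        have hi := congrFun h i
        simp only [F, decide_eq_decide] at hi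
        have hs := aut_t (σ : MulAut Mo) i.castSucc
        have ht := aut_t (τ : MulAut Mo) i.castSucc
        rw [← psi_apply, MonoidHom.mem_ker.1 σ.2, Equiv.Perm.one_apply] at hs
        rw [← psi_apply, MonoidHom.mem_ker.1 τ.2, Equiv.Perm.one_apply] at ht
        rcases hs with hs | hs <;> rcases ht with ht | ht
        · rw [hs, ht]
        · exact ((t_facts _).2.2.2 (by rw [← ht, hi.1 hs])).elim
        · exact ((t_facts _).2.2.2 (by rw [← hs, hi.2 ht])).elim
        · rw [hs, ht]
      exact Subtype.ext (MulEquiv.ext fun x => by rw [aut_img, aut_img, funext key])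
    have := Nat.card_le_card_of_injective F hF
    simpa [Nat.card_eq_fintype_card] using this

/-- Automorphism given on the generators. -/
def mkAut (u v : Fin 4 → Mo) (hu : ∀ x y : Mo, img u (x * y) = img u x * img u y)
    (hinv : ∀ x : Mo, img v (img u x) = x ∧ img u (img v x) = x) : MulAut Mo where
  toFun := img u
  invFun := img v
  left_inv x := (hinv x).1
  right_inv x := (hinv x).2
  map_mul' := hu

theorem psi_surjective : Function.Surjective psi := by
  have hgen := Equiv.Perm.mclosure_swap_castSucc_succ 4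
  rw [← MonoidHom.mrange_eq_top, ← top_le_iff, ← hgen, Submonoid.closure_le]
  rintro _ ⟨i, rfl⟩
  fin_cases i
  · exact ⟨mkAut ![t 1, t 0, t 2, t 3] ![t 1, t 0, t 2, t 3] (by decide +kernel) (by decide +kernel), by decide +kernel⟩
  · exact ⟨mkAut ![t 0, t 2, t 1, t 3] ![t 0, t 2, t 1, t 3] (by decide +kernel) (by decide +kernel), by decide +kernel⟩
  · exact ⟨mkAut ![t 0, t 1, t 3, t 2] ![t 0, t 1, t 3, t 2] (by decide +kernel) (by decide +kernel), by decide +kernel⟩
  · exact ⟨mkAut ![t 0, t 1, t 2, t 4] ![t 0, t 1, t 2, t 4 * z] (by decide +kernel) (by decide +kernel), by decide +kernel⟩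

theorem card_aut : Nat.card (MulAut Mo) = 1920 := by
  rw [← Subgroup.card_mul_index psi.ker, Subgroup.index_ker, ker_psi, card_inn,
    MonoidHom.range_eq_top.2 psi_surjective, Subgroup.card_top, Nat.card_perm, Nat.card_fin]
  rfl

/-- An involutory automorphism fixing exactly one class has at most four fixed points. -/
theorem fixed_facts : ∀ s : Equiv.Perm (Fin 5), s * s = 1 →
    (Finset.univ.filter fun i => s i = i).card = 1 → ∀ ε : Fin 4 → Bool,
    (∀ i : Fin 4, img (fun j => t (s j.castSucc) * bif ε j then z else 1)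
      (t (s i.castSucc) * bif ε i then z else 1) = t i.castSucc) →
    (Finset.univ.filter fun x => img (fun j => t (s j.castSucc) * bif ε j then z else 1) x = x).card ≤ 4 := by
  decide +kernel

theorem card_fixed_le (σ : MulAut Mo) (h2 : σ * σ = 1) (hs : ∃! i, psi σ i = i) :
    Nat.card {x : Mo // σ x = x} ≤ 4 := by
  set s := psi σ
  have hs2 : s * s = 1 := by rw [← map_mul, h2, map_one]
  have hcard : (Finset.univ.filter fun i => s i = i).card = 1 := by
    obtain ⟨i, hi, hu⟩ := hs
    rw [Finset.card_eq_one]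
    refine ⟨i, Finset.ext fun j => ?_⟩
    simp only [Finset.mem_filter, Finset.mem_univ, true_and, Finset.mem_singleton]
    exact ⟨fun hj => hu j hj, fun hj => hj ▸ hi⟩
  let ε : Fin 4 → Bool := fun i => decide (σ (t i.castSucc) = t (s i.castSucc) * z)
  have hu : (fun j : Fin 4 => t (s j.castSucc) * bif ε j then z else 1) = fun j => σ (t j.castSucc) := by
    funext j
    rcases aut_t σ j.castSucc with e | e
    · have : ε j = false := decide_eq_false fun h => (t_facts _).2.2.2 (e.symm.trans h)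
      rw [this, cond_false, mul_one]; exact e.symm
    · have : ε j = true := decide_eq_true e
      rw [this, cond_true]; exact e.symm
  have h := fixed_facts s hs2 hcard ε (fun i => by
    rw [hu, congrFun hu i, ← aut_img, ← MulAut.mul_apply, h2, MulAut.one_apply])
  rw [hu] at h
  rw [Nat.card_eq_fintype_card, Fintype.card_subtype]
  rw [Finset.filter_congr (fun x _ => by rw [aut_img σ x] :
    ∀ x ∈ Finset.univ, (σ x = x ↔ img (fun j => σ (t j.castSucc)) x = x))]
  exact h

set_option synthInstance.maxSize 4000 in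
theorem perm_five_facts : ∀ s : Equiv.Perm (Fin 5), s * s = 1 → s ≠ 1 → ∀ c : Equiv.Perm (Fin 5),
    c ^ 5 = 1 → c ≠ 1 → ∀ k : Fin 5, s * c * s = c ^ (k : ℕ) →
    (Finset.univ.filter fun i => s i = i).card = 1 := by decide +kernel

end Cfsg.Agent.Perm.MinusThirtyTwo
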