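import Mathlib
import Cfsg.Prelude.Def_Characters
import Cfsg.Agent.Lib.Char.Ortho

/-!
# Multiplicity-free representations

A complex representation of a finite group is multiplicity free iff its equivariant endomorphisms
commute; tools with intertwiners from irreducible representations on `Fin n → ℂ`.
-/

set_option autoImplicit false

namespace Cfsg.Agent.Perm.MultFree

open Cfsg Module

universe u v

variable {G : Type u} [Group G] [Fintype G] {V : Type v} [AddCommGroup V] [Module ℂ V]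
  [FiniteDimensional ℂ V]

variable {W : Type*} [AddCommGroup W] [Module ℂ W]

/-- `i` is equivariant. -/
def Itw (σ : Representation ℂ G W) (ρ : Representation ℂ G V) (i : W →ₗ[ℂ] V) : Prop :=
  ∀ g w, i (σ g w) = ρ g (i w)

omit [Fintype G] [FiniteDimensional ℂ V] in
theorem Itw.mem_iff {ρ : Representation ℂ G V} (S : V →ₗ[ℂ] V) :
    S ∈ (ρ.linHom ρ).invariants ↔ Itw ρ ρ S := by
  constructor
  · intro h g v
    have h1 := congrArg (fun F : V →ₗ[ℂ] V => F (ρ g v)) (h g)
    simp only [Representation.linHom_apply, LinearMap.comp_apply] at h1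
    rw [← Module.End.mul_apply (ρ g⁻¹), ← map_mul, inv_mul_cancel, map_one, Module.End.one_apply] at h1
    exact h1.symm
  · intro h g
    ext v
    simp only [Representation.linHom_apply, LinearMap.comp_apply]
    rw [h, ← Module.End.mul_apply, ← map_mul, mul_inv_cancel, map_one, Module.End.one_apply]

section Split

variable [FiniteDimensional ℂ W]

/-- An equivariant left inverse on independent equivariant maps. -/
theorem exists_average {σ : Representation ℂ G W} {ρ : Representation ℂ G V} (L : V →ₗ[ℂ] W) :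
    ∃ p : V →ₗ[ℂ] W, Itw ρ σ p ∧
      (∀ i : W →ₗ[ℂ] V, Itw σ ρ i → L ∘ₗ i = LinearMap.id → p ∘ₗ i = LinearMap.id) ∧
      (∀ i : W →ₗ[ℂ] V, Itw σ ρ i → L ∘ₗ i = 0 → p ∘ₗ i = 0) := by
  have hne : (Fintype.card G : ℂ) ≠ 0 := by simp
  refine ⟨(Fintype.card G : ℂ)⁻¹ • ∑ g : G, σ g ∘ₗ L ∘ₗ ρ g⁻¹, fun k v => ?_, fun i hi h => ?_, fun i hi h => ?_⟩
  · simp only [LinearMap.smul_apply, LinearMap.sum_apply, LinearMap.comp_apply, map_smul, map_sum]
    congr 1
    symm
    refine Fintype.sum_equiv (Equiv.mulLeft k) _ _ fun g => ?_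
    simp only [Equiv.coe_mulLeft, ← Module.End.mul_apply, mul_inv_rev, ← map_mul]
    rw [inv_mul_cancel_right]
  · ext w
    simp only [LinearMap.comp_apply, LinearMap.smul_apply, LinearMap.sum_apply, LinearMap.id_apply]
    have e : ∀ g : G, σ g (L (ρ g⁻¹ (i w))) = w := fun g => by
      rw [← hi, show L (i (σ g⁻¹ w)) = σ g⁻¹ w from congrArg (fun F : W →ₗ[ℂ] W => F (σ g⁻¹ w)) h,
        ← Module.End.mul_apply, ← map_mul, mul_inv_cancel, map_one, Module.End.one_apply]
    rw [Finset.sum_congr rfl (g := fun _ => w) fun g _ => e g, Finset.sum_const, Finset.card_univ,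
      ← Nat.cast_smul_eq_nsmul ℂ, smul_smul, inv_mul_cancel₀ hne, one_smul]
  · ext w
    simp only [LinearMap.comp_apply, LinearMap.smul_apply, LinearMap.sum_apply, LinearMap.zero_apply]
    rw [Finset.sum_eq_zero fun g _ => ?_, smul_zero]
    rw [← hi, show L (i (σ g⁻¹ w)) = 0 from congrArg (fun F : W →ₗ[ℂ] W => F (σ g⁻¹ w)) h, map_zero]

end Split

variable {n : ℕ} {σ : Representation ℂ G (Fin n → ℂ)} {ρ : Representation ℂ G V}

omit [Fintype G] [FiniteDimensional ℂ V] in
theorem Itw.injective_of_ne_zero (hσ : σ.IsIrreducible) {i : (Fin n → ℂ) →ₗ[ℂ] V} (hi : Itw σ ρ i)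
    (hne : i ≠ 0) : Function.Injective i := by
  let K : Subrepresentation σ := ⟨LinearMap.ker i, fun g v hv => by
    rw [LinearMap.mem_ker] at hv ⊢
    rw [hi, hv, map_zero]⟩
  haveI := hσ
  rcases IsSimpleOrder.eq_bot_or_eq_top K with h | h
  · exact LinearMap.ker_eq_bot.1 (congrArg Subrepresentation.toSubmodule h)
  · exact absurd (LinearMap.ker_eq_top.1 (congrArg Subrepresentation.toSubmodule h)) hne

omit [FiniteDimensional ℂ V] in
theorem Itw.exists_retraction [FiniteDimensional ℂ V] (hσ : σ.IsIrreducible) {i : (Fin n → ℂ) →ₗ[ℂ] V} (hi : Itw σ ρ i)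
    (hne : i ≠ 0) : ∃ p : V →ₗ[ℂ] (Fin n → ℂ), Itw ρ σ p ∧ p ∘ₗ i = LinearMap.id := by
  obtain ⟨L, hL⟩ := LinearMap.exists_leftInverse_of_injective i
    (LinearMap.ker_eq_bot.2 (hi.injective_of_ne_zero hσ hne))
  obtain ⟨p, hp, h1, -⟩ := exists_average (σ := σ) (ρ := ρ) L
  exact ⟨p, hp, h1 i hi hL⟩

omit [Fintype G] in
/-- The multiplicity as the dimension of the space of intertwiners. -/
def itwSpace (σ : Representation ℂ G (Fin n → ℂ)) (ρ : Representation ℂ G V) :
    Submodule ℂ ((Fin n → ℂ) →ₗ[ℂ] V) where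
  carrier := {i | Itw σ ρ i}
  zero_mem' := fun g w => by simp
  add_mem' := fun {a b} ha hb g w => by simp [ha g w, hb g w]
  smul_mem' := fun c a ha g w => by simp [ha g w]

theorem inner_eq_finrank : classInner ρ.character σ.character = (finrank ℂ (itwSpace σ ρ) : ℂ) := by
  rw [Char.classInner_rep σ ρ]
  congr 1
  exact (LinearEquiv.finrank_eq
    ({ toFun := fun i => (i : (Fin n → ℂ) →ₗ[ℂ] V).intertwiningMap_of_isIntertwiningMap σ ρ i.2
       invFun := fun f => ⟨f.toLinearMap, fun g w => congrArg (fun F : (Fin n → ℂ) →ₗ[ℂ] V => F w) (f.isIntertwining' g)⟩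
       map_add' := fun _ _ => rfl
       map_smul' := fun _ _ => rfl
       left_inv := fun _ => rfl
       right_inv := fun _ => rfl } : itwSpace σ ρ ≃ₗ[ℂ] σ.IntertwiningMap ρ)).symm

theorem exists_itw_of_inner_ne_zero (h : classInner ρ.character σ.character ≠ 0) :
    ∃ i, Itw σ ρ i ∧ i ≠ 0 := by
  rw [inner_eq_finrank, Nat.cast_ne_zero] at h
  obtain ⟨i, hi, hne⟩ := (Submodule.ne_bot_iff _).1 fun hb => h (Submodule.finrank_eq_zero.2 hb)
  exact ⟨i, hi, hne⟩

variable (ρ) in
/-- All multiplicities are at most one. -/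
def IsMultFree : Prop :=
  ∀ χ : G → ℂ, IsIrrCharacter G χ → classInner ρ.character χ = 0 ∨ classInner ρ.character χ = 1

theorem IsMultFree.scalar (h : IsMultFree ρ) (hσ : σ.IsIrreducible) {i : (Fin n → ℂ) →ₗ[ℂ] V}
    (hi : Itw σ ρ i) (hne : i ≠ 0) {S : V →ₗ[ℂ] V} (hS : Itw ρ ρ S) :
    ∃ c : ℂ, ∀ w, S (i w) = c • i w := by
  have h1 : finrank ℂ (itwSpace σ ρ) = 1 := by
    have h2 := h _ (Char.isIrrCharacter_character σ hσ)
    rw [inner_eq_finrank] at h2
    rcases h2 with e | e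
    · rw [Nat.cast_eq_zero, Submodule.finrank_eq_zero] at e
      have : i ∈ itwSpace σ ρ := hi
      rw [e, Submodule.mem_bot] at this
      exact absurd this hne
    · exact_mod_cast e
  have hne' : (⟨i, hi⟩ : itwSpace σ ρ) ≠ 0 := fun e => hne (congrArg Subtype.val e)
  obtain ⟨c, hc⟩ := (finrank_eq_one_iff_of_nonzero' _ hne').1 h1
    ⟨S ∘ₗ i, fun g w => by simp only [LinearMap.comp_apply]; rw [hi, hS]⟩
  exact ⟨c, fun w => (congrArg (fun F : itwSpace σ ρ => (F : (Fin n → ℂ) →ₗ[ℂ] V) w) hc).symm⟩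

theorem eq_zero_aux (ρ : Representation ℂ G V) (D : V →ₗ[ℂ] V)
    (h : ∀ (m : ℕ) (τ : Representation ℂ G (Fin m → ℂ)), τ.IsIrreducible →
      ∀ i, Itw τ ρ i → D ∘ₗ i = 0) :
    ∀ (d : ℕ) (U : Type v) [AddCommGroup U] [Module ℂ U] [FiniteDimensional ℂ U]
      (τ : Representation ℂ G U), finrank ℂ U = d → ∀ j, Itw τ ρ j → D ∘ₗ j = 0 := by
  intro d
  induction d using Nat.strong_induction_on with
  | _ d ih =>
    intro U _ _ _ τ hd j hj
    classical
    rcases Nat.eq_zero_or_pos d with h0 | hpos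
    · have : Subsingleton U := (finrank_zero_iff (R := ℂ)).mp (by omega)
      ext v
      rw [Subsingleton.elim v 0, map_zero, map_zero]
    by_cases hirr : τ.IsIrreducible
    · let e := (finBasis ℂ U).equivFun
      have h1 := h _ (Char.repTransport τ e)
        (Char.isIrreducible_of_equiv (Char.repTransportEquiv τ e) hirr) (j ∘ₗ e.symm.toLinearMap)
        (fun g w => by
          simp only [LinearMap.comp_apply, LinearEquiv.coe_coe, Char.repTransport_apply, LinearEquiv.symm_apply_apply]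
          exact hj g _)
      ext v
      have h2 := congrArg (fun F : (Fin _ → ℂ) →ₗ[ℂ] V => F (e v)) h1
      simpa using h2
    · have : Nontrivial U := Module.nontrivial_of_finrank_pos (R := ℂ) (by omega)
      have : Nontrivial (Subrepresentation τ) := ⟨⟨⊥, ⊤, fun hbt =>
        bot_ne_top (α := Submodule ℂ U) (congrArg Subrepresentation.toSubmodule hbt)⟩⟩
      obtain ⟨S, hS0, hS1⟩ : ∃ S : Subrepresentation τ, S ≠ ⊥ ∧ S ≠ ⊤ := by
        by_contra hne
        push Not at hne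
        exact hirr ⟨fun S => or_iff_not_imp_left.mpr (hne S)⟩
      obtain ⟨T, hT⟩ := exists_isCompl S
      have hsup : S.toSubmodule ⊔ T.toSubmodule = ⊤ :=
        congrArg Subrepresentation.toSubmodule hT.sup_eq_top
      have key : ∀ X : Subrepresentation τ, X ≠ ⊤ → ∀ v ∈ X.toSubmodule, D (j v) = 0 := by
        intro X hX v hv
        have hlt : finrank ℂ X.toSubmodule < finrank ℂ U :=
          Submodule.finrank_lt fun h' => hX (Subrepresentation.toSubmodule_injective h')
        have h0 := ih _ (by omega) X.toSubmodule X.toRepresentation rfl (j ∘ₗ X.toSubmodule.subtype)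
          (fun g w => hj g (w : U))
        exact congrArg (fun F : X.toSubmodule →ₗ[ℂ] V => F ⟨v, hv⟩) h0
      have hT1 : T ≠ ⊤ := fun h' => hS0 (by simpa [h'] using hT.inf_eq_bot)
      ext v
      obtain ⟨a, ha, b, hb, rfl⟩ := Submodule.mem_sup.mp (hsup.ge (Submodule.mem_top (x := v)))
      simp only [LinearMap.comp_apply, map_add, key S hS1 a ha, key T hT1 b hb, LinearMap.zero_apply, add_zero]

/-- An endomorphism killing every irreducible constituent vanishes. -/
theorem eq_zero_of_forall (ρ : Representation ℂ G V) (D : V →ₗ[ℂ] V)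
    (h : ∀ (m : ℕ) (τ : Representation ℂ G (Fin m → ℂ)), τ.IsIrreducible →
      ∀ i, Itw τ ρ i → ∀ w, D (i w) = 0) : D = 0 := by
  have := eq_zero_aux ρ D (fun m τ hτ i hi => LinearMap.ext (h m τ hτ i hi)) _ V ρ rfl LinearMap.id
    (fun g w => rfl)
  simpa using this

theorem IsMultFree.comm (h : IsMultFree ρ) {S T : V →ₗ[ℂ] V} (hS : Itw ρ ρ S) (hT : Itw ρ ρ T) :
    S ∘ₗ T = T ∘ₗ S := by
  refine sub_eq_zero.1 (eq_zero_of_forall ρ _ fun m τ hτ i hi w => ?_)
  rcases eq_or_ne i 0 with rfl | hne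
  · simp
  obtain ⟨a, ha⟩ := h.scalar hτ hi hne hS
  obtain ⟨b, hb⟩ := h.scalar hτ hi hne hT
  simp only [LinearMap.sub_apply, LinearMap.comp_apply, ha, hb, map_smul, smul_smul, mul_comm a b, sub_self]

theorem isMultFree_of_comm
    (h : ∀ S T : V →ₗ[ℂ] V, Itw ρ ρ S → Itw ρ ρ T → S ∘ₗ T = T ∘ₗ S) : IsMultFree ρ := by
  rintro χ ⟨n, σ, hσ, rfl⟩
  rw [inner_eq_finrank]
  suffices hle : finrank ℂ (itwSpace σ ρ) ≤ 1 by
    rcases Nat.le_one_iff_eq_zero_or_eq_one.1 hle with e | e <;> rw [e]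
    · left; exact Nat.cast_zero
    · right; exact Nat.cast_one
  by_contra hgt
  haveI : Nontrivial (itwSpace σ ρ) := Module.nontrivial_of_finrank_pos (R := ℂ) (by omega)
  obtain ⟨i₁, hi₁⟩ := exists_ne (0 : itwSpace σ ρ)
  obtain ⟨i₂, hi₂⟩ : ∃ i₂ : itwSpace σ ρ, ∀ c : ℂ, c • i₁ ≠ i₂ := by
    by_contra hno
    push Not at hno
    exact hgt ((finrank_le_one_iff (K := ℂ)).2 ⟨i₁, hno⟩)
  obtain ⟨i, hi⟩ := i₁
  obtain ⟨j, hj⟩ := i₂
  have hi0 : i ≠ 0 := fun e => hi₁ (Subtype.ext e)
  have hinj := Itw.injective_of_ne_zero hσ hi hi0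
  have hΦ : Function.Injective (LinearMap.coprod i j) := by
    rw [← LinearMap.ker_eq_bot, LinearMap.ker_eq_bot']
    rintro ⟨x, y⟩ hxy
    rw [LinearMap.coprod_apply] at hxy
    let U : Subrepresentation σ := ⟨(LinearMap.range i).comap j, fun g v hv => by
      obtain ⟨u, hu⟩ := hv
      exact ⟨σ g u, by rw [hi, hj, hu]⟩⟩
    haveI := hσ
    rcases IsSimpleOrder.eq_bot_or_eq_top U with hU | hU
    · have hy : y ∈ U.toSubmodule := ⟨-x, by rw [map_neg]; exact neg_eq_of_add_eq_zero_right hxy⟩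
      rw [show U.toSubmodule = ⊥ from congrArg Subrepresentation.toSubmodule hU, Submodule.mem_bot] at hy
      subst hy
      rw [map_zero, add_zero] at hxy
      exact Prod.ext (hinj (hxy.trans (map_zero i).symm)) rfl
    · exfalso
      obtain ⟨L, hL⟩ := LinearMap.exists_leftInverse_of_injective i (LinearMap.ker_eq_bot.2 hinj)
      have hjw : ∀ w, i (L (j w)) = j w := fun w => by
        have hw : w ∈ U.toSubmodule := by
          rw [show U.toSubmodule = ⊤ from congrArg Subrepresentation.toSubmodule hU]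
          exact Submodule.mem_top
        obtain ⟨u, hu⟩ := hw
        rw [← hu, show L (i u) = u from congrArg (fun F : (Fin n → ℂ) →ₗ[ℂ] (Fin n → ℂ) => F u) hL]
      have hk : ∀ g w, (L ∘ₗ j) (σ g w) = σ g ((L ∘ₗ j) w) := fun g w => by
        apply hinj
        simp only [LinearMap.comp_apply]
        rw [hjw, hi, hjw, hj]
      obtain ⟨c, hc⟩ := (Representation.IsIrreducible.algebraMap_intertwiningMap_bijective_of_isAlgClosed
        (ρ := σ) (k := ℂ)).2 ((L ∘ₗ j).intertwiningMap_of_isIntertwiningMap σ σ hk)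
      refine hi₂ c (Subtype.ext (LinearMap.ext fun w => ?_))
      have h1 := congrArg (fun F : σ.IntertwiningMap σ => F w) hc
      show c • i w = j w
      rw [← hjw, ← map_smul]
      exact congrArg i h1
  obtain ⟨L, hL⟩ := LinearMap.exists_leftInverse_of_injective _ (LinearMap.ker_eq_bot.2 hΦ)
  have hL' : ∀ x y, L (i x + j y) = (x, y) := fun x y => by
    have := congrArg (fun F => F (x, y)) hL
    simpa using this
  obtain ⟨p, hp, hp1, hp0⟩ := exists_average (σ := σ) (ρ := ρ) (LinearMap.fst ℂ _ _ ∘ₗ L)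
  obtain ⟨q, hq, hq1, hq0⟩ := exists_average (σ := σ) (ρ := ρ) (LinearMap.snd ℂ _ _ ∘ₗ L)
  have e1 : p ∘ₗ i = LinearMap.id := hp1 i hi (LinearMap.ext fun x => by
    simpa using congrArg Prod.fst (hL' x 0))
  have e2 : p ∘ₗ j = 0 := hp0 j hj (LinearMap.ext fun x => by simpa using congrArg Prod.fst (hL' 0 x))
  have e3 : q ∘ₗ j = LinearMap.id := hq1 j hj (LinearMap.ext fun x => by
    simpa using congrArg Prod.snd (hL' 0 x))
  have hT : Itw ρ ρ (i ∘ₗ q) := fun g v => by simp only [LinearMap.comp_apply]; rw [hq, hi]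
  have hS : Itw ρ ρ (i ∘ₗ p) := fun g v => by simp only [LinearMap.comp_apply]; rw [hp, hi]
  refine hi0 (LinearMap.ext fun w => ?_)
  have h1 := congrArg (fun F : V →ₗ[ℂ] V => F (j w)) (h _ _ hS hT)
  simp only [LinearMap.comp_apply] at h1
  rw [show p (j w) = 0 from congrArg (fun F : (Fin n → ℂ) →ₗ[ℂ] (Fin n → ℂ) => F w) e2,
    show q (j w) = w from congrArg (fun F : (Fin n → ℂ) →ₗ[ℂ] (Fin n → ℂ) => F w) e3,
    show p (i w) = w from congrArg (fun F : (Fin n → ℂ) →ₗ[ℂ] (Fin n → ℂ) => F w) e1,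
    map_zero, map_zero, map_zero] at h1
  exact h1

end Cfsg.Agent.Perm.MultFree
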