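import Cfsg.Agent.Lib.Perm.Basic
import Mathlib.GroupTheory.GroupAction.MultiplePrimitivity
import Mathlib.GroupTheory.PGroup
import Mathlib.Tactic.Group

/-!
Normal subgroups of multiply transitive groups: regular ones, and transitivity of the others.
-/

set_option autoImplicit false

namespace Cfsg.Agent.Perm

open MulAction

variable {G : Type*} [Group G] {Ω : Type*} [MulAction G Ω]

/-- Conjugation by a point stabiliser matches the action on images of the point under a
semiregular normal subgroup. -/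
theorem conj_eq_of_regular {N : Subgroup G} (hn : N.Normal) {a : Ω}
    (hsemi : ∀ m ∈ N, m • a = a → m = 1) {g m m' : G} (hg : g • a = a) (hm : m ∈ N)
    (hm' : m' ∈ N) (h : g • m • a = m' • a) : g * m * g⁻¹ = m' := by
  have h1 := hsemi _ (mul_mem (inv_mem hm') (hn.conj_mem m hm g))
    (by rw [mul_smul, mul_smul, mul_smul, inv_smul_eq_iff.2 hg.symm, h, inv_smul_smul])
  exact (inv_mul_eq_one.1 h1).symm

/-- In a 3-transitive group of degree at least 4 a regular normal subgroup has exponent 2. -/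
theorem sq_eq_one_of_regular {N : Subgroup G} (hn : N.Normal) {a : Ω}
    (h4 : ∀ x y : Ω, ∃ z, z ≠ a ∧ z ≠ x ∧ z ≠ y)
    (htwo : ∀ x y z w : Ω, x ≠ a → y ≠ a → z ≠ a → w ≠ a → x ≠ y → z ≠ w →
      ∃ g : G, g • a = a ∧ g • x = z ∧ g • y = w)
    (hsemi : ∀ m ∈ N, m • a = a → m = 1) {m : G} (hm : m ∈ N) : m * m = 1 := by
  by_contra hne
  have hm1 : m ≠ 1 := fun e => hne (by rw [e, one_mul])
  have hx : m • a ≠ a := fun e => hm1 (hsemi m hm e)
  have hy : m⁻¹ • a ≠ a := fun e => hx (inv_smul_eq_iff.1 e).symm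
  have hxy : m • a ≠ m⁻¹ • a := fun e => hne (hsemi _ (mul_mem hm hm)
    (by rw [mul_smul, e, smul_inv_smul]))
  obtain ⟨z, hza, hzx, hzy⟩ := h4 (m • a) (m⁻¹ • a)
  obtain ⟨g, hga, hgx, hgy⟩ := htwo _ _ _ _ hx hy hx hza hxy hzx.symm
  have hc := conj_eq_of_regular hn hsemi hga hm hm hgx
  have h2 : g • m⁻¹ • a = m⁻¹ • a := by
    conv_rhs => rw [← hc]
    rw [show (g * m * g⁻¹)⁻¹ = g * m⁻¹ * g⁻¹ by group, mul_smul, mul_smul,
      inv_smul_eq_iff.2 hga.symm]
  exact hzy (hgy.symm.trans h2)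

/-- The point stabilisers in a normal subgroup cannot all be regular of exponent two on the
remaining points, when there are at least four points. -/
theorem no_regular_stabilisers {N : Subgroup G} {a b x y : Ω} (hab : a ≠ b) (hax : a ≠ x)
    (hay : a ≠ y) (hbx : b ≠ x) (hby : b ≠ y) (hxy : x ≠ y)
    (htr : ∀ c u v : Ω, u ≠ c → v ≠ c → ∃ m ∈ N, m • c = c ∧ m • u = v)
    (hsemi : ∀ c u : Ω, u ≠ c → ∀ m ∈ N, m • c = c → m • u = u → m = 1)
    (hexp : ∀ c : Ω, ∀ m ∈ N, m • c = c → m * m = 1) : False := by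
  obtain ⟨g, hg, hga, hgx⟩ := htr a x y hax.symm hay.symm
  obtain ⟨h, hh, hhb, hhx⟩ := htr b x y hbx.symm hby.symm
  have hgy : g • y = x := by rw [← hgx, ← mul_smul, hexp a g hg hga, one_smul]
  have hhy : h • y = x := by rw [← hhx, ← mul_smul, hexp b h hh hhb, one_smul]
  have he := hsemi x y hxy.symm (h⁻¹ * g) (mul_mem (inv_mem hh) hg)
    (by rw [mul_smul, hgx, inv_smul_eq_iff, hhx]) (by rw [mul_smul, hgy, inv_smul_eq_iff, hhy])
  rw [inv_mul_eq_one] at he
  have := hsemi a b hab.symm g hg hga (he ▸ hhb)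
  rw [this, one_smul] at hgx
  exact hxy hgx

/-- A regular normal subgroup of exponent two in a 4-transitive group: the degree is at most 4. -/
theorem no_regular_four {N : Subgroup G} (hn : N.Normal) {a x y : Ω} (hxa : x ≠ a) (hya : y ≠ a)
    (hxy : x ≠ y) (h5 : ∀ u v w : Ω, ∃ z, z ≠ a ∧ z ≠ u ∧ z ≠ v ∧ z ≠ w)
    (htr : IsPretransitive N Ω) (hsemi : ∀ m ∈ N, m • a = a → m = 1)
    (hexp : ∀ m ∈ N, m * m = 1)
    (hthree : ∀ u v w z : Ω, u ≠ a → v ≠ a → w ≠ a → z ≠ a → u ≠ v → u ≠ w → v ≠ w → u ≠ z →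
      v ≠ z → ∃ g : G, g • a = a ∧ g • u = u ∧ g • v = v ∧ g • w = z) : False := by
  obtain ⟨⟨m, hm⟩, hmx⟩ := htr.exists_smul_eq a x
  obtain ⟨⟨k, hk⟩, hky⟩ := htr.exists_smul_eq a y
  change m • a = x at hmx
  change k • a = y at hky
  set w := (m * k) • a with hw
  have hmk : m * k ≠ 1 := fun e => hxy (by
    rw [← hmx, ← hky]
    congr 1
    calc m = m * (k * k) := by rw [hexp k hk, mul_one]
      _ = k := by rw [← mul_assoc, e, one_mul])
  have hwa : w ≠ a := fun e => hmk (hsemi _ (mul_mem hm hk) e)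
  have hwx : x ≠ w := fun e => hya (by
    rw [← hmx, hw, mul_smul] at e
    rw [← hky]
    exact (smul_left_cancel m e).symm)
  have hwy : y ≠ w := fun e => hxa (by
    have hck : m * k = k * m := by
      calc m * k = (m * k)⁻¹ := (inv_eq_of_mul_eq_one_right (hexp _ (mul_mem hm hk))).symm
        _ = k * m := by
          rw [mul_inv_rev, inv_eq_of_mul_eq_one_right (hexp k hk),
            inv_eq_of_mul_eq_one_right (hexp m hm)]
    rw [← hky, hw, hck, mul_smul] at e
    rw [← hmx]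
    exact (smul_left_cancel k e).symm)
  obtain ⟨z, hza, hzx, hzy, hzw⟩ := h5 x y w
  obtain ⟨g, hga, hgx, hgy, hgw⟩ := hthree x y w z hxa hya hwa hza hxy hwx hwy hzx.symm hzy.symm
  have c1 := conj_eq_of_regular hn hsemi hga hm hm (by rw [hmx]; exact hgx)
  have c2 := conj_eq_of_regular hn hsemi hga hk hk (by rw [hky]; exact hgy)
  have : g • w = w := by
    conv_rhs => rw [hw, ← c1, ← c2]
    rw [hw, show g * m * g⁻¹ * (g * k * g⁻¹) = g * (m * k) * g⁻¹ by group, mul_smul (g * _),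
      inv_smul_eq_iff.2 hga.symm, mul_smul g]
  exact hzw (hgw.symm.trans this)

end Cfsg.Agent.Perm
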