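import Cfsg.Agent.Lib.Perm.NormalTrans
import Cfsg.Agent.Lib.Perm.Primitive
import Cfsg.Agent.Lib.Perm.Swap

/-!
Transitivity of normal subgroups of multiply transitive and multiply primitive groups
(Wielandt, Section 11; Jordan).
-/

set_option autoImplicit false

namespace Cfsg.Agent.Perm

open MulAction
open scoped Pointwise

universe u v

variable {G : Type u} [Group G] {Ω : Type v} [MulAction G Ω]

theorem faithful_ofStabilizer [FaithfulSMul G Ω] (a : Ω) :
    FaithfulSMul (stabilizer G a) (SubMulAction.ofStabilizer G a) := by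
  refine ⟨fun {g h} he => Subtype.ext (FaithfulSMul.eq_of_smul_eq_smul (α := Ω) fun x => ?_)⟩
  by_cases hx : x = a
  · subst hx
    exact g.2.trans h.2.symm
  · exact congrArg Subtype.val (he ⟨x, hx⟩)

/-- Moving two points outside a fixed one, in a 3-transitive group. -/
theorem two_on_rest [Finite Ω] {k : ℕ} (hk : 3 ≤ k) (hn : k ≤ Nat.card Ω)
    (hG : IsMultiplyPretransitive G Ω k) (a : Ω) :
    ∀ x y z w : Ω, x ≠ a → y ≠ a → z ≠ a → w ≠ a → x ≠ y → z ≠ w →
      ∃ g : G, g • a = a ∧ g • x = z ∧ g • y = w := by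
  classical
  haveI := hG
  intro x y z w hx hy hz hw hxy hzw
  have h2 : IsMultiplyPretransitive G Ω 2 := isMultiplyPretransitive_of_le (n := k) (by omega) hn
  have h3 : IsMultiplyPretransitive G Ω 3 := isMultiplyPretransitive_of_le (n := k) hk hn
  obtain ⟨g₁, h₁, h₁x⟩ := exists_fixing_of_isMultiplyPretransitive h2 (T := {a})
    (Finset.card_singleton a ▸ rfl) (by simpa using hx : x ∉ ({a} : Finset Ω))
    (by simpa using hz : z ∉ ({a} : Finset Ω))
  have ha : g₁ • a = a := h₁ a (Finset.mem_singleton_self a)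
  obtain ⟨g₂, h₂, h₂y⟩ := exists_fixing_of_isMultiplyPretransitive h3 (T := {a, z})
    (by rw [Finset.card_pair hz.symm]) (x := g₁ • y) (y := w)
    (by
      simp only [Finset.mem_insert, Finset.mem_singleton, not_or]
      exact ⟨fun e => hy (smul_left_cancel g₁ (e.trans ha.symm)),
        fun e => hxy (smul_left_cancel g₁ (h₁x.trans e.symm))⟩)
    (by
      simp only [Finset.mem_insert, Finset.mem_singleton, not_or]
      exact ⟨hw, hzw.symm⟩)
  refine ⟨g₂ * g₁, ?_, ?_, ?_⟩
  · rw [mul_smul, ha, h₂ a (by simp)]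
  · rw [mul_smul, h₁x, h₂ z (by simp)]
  · rw [mul_smul, h₂y]

theorem exists_ne_points [Finite Ω] {a : Ω} (hn : 4 ≤ Nat.card Ω) (x y : Ω) :
    ∃ z, z ≠ a ∧ z ≠ x ∧ z ≠ y := by
  classical
  by_contra h
  push Not at h
  have : Nat.card Ω ≤ ({a, x, y} : Finset Ω).card := by
    rw [← Nat.card_eq_finsetCard]
    refine Nat.card_le_card_of_surjective Subtype.val fun z => ⟨⟨z, ?_⟩, rfl⟩
    simp only [Finset.mem_insert, Finset.mem_singleton]
    by_contra hz
    simp only [not_or] at hz
    exact hz.2.2 (h z hz.1 hz.2.1)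
  have := Finset.card_le_three (a := a) (b := x) (c := y)
  omega

/-- Lifting: a transitive subgroup whose stabiliser of a point is `j`-transitive on the rest is
`(j+1)`-transitive. -/
theorem lift_stabilizer {N : Subgroup G} (htr : IsPretransitive N Ω) (a : Ω) {j : ℕ}
    (h : IsMultiplyPretransitive (N.subgroupOf (stabilizer G a)) (SubMulAction.ofStabilizer G a) j) :
    IsMultiplyPretransitive N Ω (j + 1) := by
  rw [isMultiplyPretransitive_iff]
  intro u v
  obtain ⟨g₁, hg₁⟩ := htr.exists_smul_eq (u (Fin.last j)) a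
  obtain ⟨g₂, hg₂⟩ := htr.exists_smul_eq (v (Fin.last j)) a
  have hne : ∀ (g : N) (w : Fin (j + 1) ↪ Ω), g • w (Fin.last j) = a →
      ∀ i : Fin j, g • w i.castSucc ≠ a := fun g w hg i e =>
    (Fin.castSucc_lt_last i).ne (w.injective (smul_left_cancel g (e.trans hg.symm)))
  let mk : ∀ (g : N) (w : Fin (j + 1) ↪ Ω), g • w (Fin.last j) = a →
      Fin j ↪ SubMulAction.ofStabilizer G a := fun g w hg =>
    ⟨fun i => ⟨g • w i.castSucc, hne g w hg i⟩, fun i i' e =>
      Fin.castSucc_injective _ (w.injective (smul_left_cancel g (congrArg Subtype.val e)))⟩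
  haveI := h
  obtain ⟨s, hs⟩ := exists_smul_eq (N.subgroupOf (stabilizer G a)) (mk g₁ u hg₁) (mk g₂ v hg₂)
  refine ⟨g₂⁻¹ * ⟨((s : stabilizer G a) : G), s.2⟩ * g₁, ?_⟩
  ext i
  rw [Function.Embedding.smul_apply, mul_smul, mul_smul, inv_smul_eq_iff]
  induction i using Fin.lastCases with
  | last =>
    rw [hg₁, hg₂]
    exact (s : stabilizer G a).2
  | cast i => exact congrArg (fun f : Fin j ↪ SubMulAction.ofStabilizer G a => (f i : Ω)) hs

theorem subgroupOf_stabilizer_ne_bot {N : Subgroup G} {a : Ω} {m : G} (hm : m ∈ N)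
    (ha : m • a = a) (h1 : m ≠ 1) : N.subgroupOf (stabilizer G a) ≠ ⊥ := by
  intro h
  have : (⟨m, ha⟩ : stabilizer G a) ∈ N.subgroupOf (stabilizer G a) := hm
  rw [h, Subgroup.mem_bot] at this
  exact h1 (congrArg Subtype.val this)

/-- A point moved or not: semiregularity of a transitive normal subgroup at one point gives it at
all points. -/
theorem semiregular_all {N : Subgroup G} (hn : N.Normal) (hG : IsPretransitive G Ω) {a : Ω}
    (h : ∀ m ∈ N, m • a = a → m = 1) : ∀ (b : Ω), ∀ m ∈ N, m • b = b → m = 1 := by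
  intro b m hm hb
  obtain ⟨g, rfl⟩ := hG.exists_smul_eq a b
  have := h (g⁻¹ * m * g) (by simpa using hn.conj_mem m hm g⁻¹)
    (by rw [mul_smul, mul_smul, hb, inv_smul_smul])
  calc m = g * (g⁻¹ * m * g) * g⁻¹ := by group
    _ = 1 := by rw [this]; group

/-- Nontrivial normal subgroups of a `k`-transitive group (`1 < k < degree`) are
`(k-1)`-transitive, unless `k = 3` and they are regular of exponent two. -/
theorem normal_multiply_transitive : ∀ (k : ℕ) (G : Type u) (Ω : Type v) [Group G]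
    [MulAction G Ω] [Finite Ω] [FaithfulSMul G Ω], 1 < k → k < Nat.card Ω →
    IsMultiplyPretransitive G Ω k → ∀ N : Subgroup G, N.Normal → N ≠ ⊥ →
    IsPretransitive N Ω ∧ (IsMultiplyPretransitive N Ω (k - 1) ∨
      (k = 3 ∧ (∀ m ∈ N, m * m = 1) ∧ ∀ a : Ω, ∀ m ∈ N, m • a = a → m = 1)) := by
  intro k
  induction k with
  | zero => intros; omega
  | succ k ih =>
    intro G Ω _ _ _ _ hk hn hG N hN hN1
    haveI := hG
    haveI := hN
    have h2 : IsMultiplyPretransitive G Ω 2 :=
      isMultiplyPretransitive_of_le (n := k + 1) (by omega) hn.le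
    haveI := isPreprimitive_of_is_two_pretransitive h2
    have htr : IsPretransitive N Ω := normal_isPretransitive N hN1
    refine ⟨htr, ?_⟩
    rcases Nat.lt_or_ge k 2 with hk2 | hk2
    · left
      rw [show k + 1 - 1 = 1 by omega]
      exact is_one_pretransitive_iff.2 htr
    have h4 : 4 ≤ Nat.card Ω := by omega
    by_cases hsemi : ∃ a : Ω, ∀ m ∈ N, m • a = a → m = 1
    · obtain ⟨a, ha⟩ := hsemi
      have hall := semiregular_all hN IsPreprimitive.toIsPretransitive ha
      have hexp : ∀ m ∈ N, m * m = 1 := fun m hm => sq_eq_one_of_regular hN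
        (exists_ne_points h4) (two_on_rest (by omega) hn.le hG a) ha hm
      rcases Nat.eq_or_lt_of_le hk2 with hk3 | hk3
      · exact Or.inr ⟨by omega, hexp, hall⟩
      exfalso
      classical
      have h5 : ∀ u v w : Ω, ∃ z, z ≠ a ∧ z ≠ u ∧ z ≠ v ∧ z ≠ w := fun u v w => by
        by_contra h
        push Not at h
        have hle : Nat.card Ω ≤ ({a, u, v, w} : Finset Ω).card := by
          rw [← Nat.card_eq_finsetCard]
          refine Nat.card_le_card_of_surjective Subtype.val fun z => ⟨⟨z, ?_⟩, rfl⟩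
          simp only [Finset.mem_insert, Finset.mem_singleton]
          by_contra hz
          simp only [not_or] at hz
          exact hz.2.2.2 (h z hz.1 hz.2.1 hz.2.2.1)
        have := Finset.card_le_four (a := a) (b := u) (c := v) (d := w)
        omega
      obtain ⟨x, hxa, -, -⟩ := exists_ne_points (a := a) h4 a a
      obtain ⟨y, hya, hyx, -⟩ := exists_ne_points (a := a) h4 x x
      refine no_regular_four hN hxa hya hyx.symm h5 htr ha hexp ?_
      intro u v w z hu hv hw hz huv huw hvw huz hvz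
      have hk4 : IsMultiplyPretransitive G Ω 4 :=
        isMultiplyPretransitive_of_le (n := k + 1) (by omega) hn.le
      obtain ⟨g, hg, hgw⟩ := exists_fixing_of_isMultiplyPretransitive hk4 (T := {a, u, v})
        (Finset.card_eq_three.2 ⟨a, u, v, hu.symm, hv.symm, huv, rfl⟩ ▸ rfl)
        (x := w) (y := z)
        (by simp only [Finset.mem_insert, Finset.mem_singleton, not_or]
            exact ⟨hw, huw.symm, hvw.symm⟩)
        (by simp only [Finset.mem_insert, Finset.mem_singleton, not_or]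
            exact ⟨hz, huz.symm, hvz.symm⟩)
      exact ⟨g, hg a (by simp), hg u (by simp), hg v (by simp), hgw⟩
    · push Not at hsemi
      have hstep : ∀ a : Ω, IsPretransitive (N.subgroupOf (stabilizer G a))
          (SubMulAction.ofStabilizer G a) ∧
          (IsMultiplyPretransitive (N.subgroupOf (stabilizer G a))
            (SubMulAction.ofStabilizer G a) (k - 1) ∨
          (k = 3 ∧ (∀ m ∈ N.subgroupOf (stabilizer G a), m * m = 1) ∧
            ∀ b : SubMulAction.ofStabilizer G a, ∀ m ∈ N.subgroupOf (stabilizer G a),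
              m • b = b → m = 1)) := fun a => by
        haveI := faithful_ofStabilizer (G := G) a
        obtain ⟨m, hm, hma, hm1⟩ := hsemi a
        refine ih (stabilizer G a) (SubMulAction.ofStabilizer G a) (by omega) ?_ ?_ _ inferInstance
          (subgroupOf_stabilizer_ne_bot hm hma hm1)
        · rw [SubMulAction.nat_card_ofStabilizer_eq]; omega
        · haveI := (inferInstance : IsPreprimitive G Ω).toIsPretransitive
          exact SubMulAction.ofStabilizer.isMultiplyPretransitive.1 hG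
      by_cases hgood : ∃ a : Ω, IsMultiplyPretransitive (N.subgroupOf (stabilizer G a))
          (SubMulAction.ofStabilizer G a) (k - 1)
      · obtain ⟨a, ha⟩ := hgood
        left
        have := lift_stabilizer htr a ha
        rwa [show k + 1 - 1 = k - 1 + 1 by omega]
      · exfalso
        push Not at hgood
        haveI : Nonempty Ω := Nat.card_pos_iff.1 (by omega) |>.1
        obtain ⟨a⟩ := ‹Nonempty Ω›
        obtain ⟨b, hba, -, -⟩ := exists_ne_points (a := a) h4 a a
        obtain ⟨x, hxa, hxb, -⟩ := exists_ne_points (a := a) h4 b b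
        obtain ⟨y, hya, hyb, hyx⟩ := exists_ne_points (a := a) h4 b x
        refine no_regular_stabilisers (N := N) hba.symm hxa.symm hya.symm hxb.symm hyb.symm
          hyx.symm ?_ ?_ ?_
        · intro c u v hu hv
          obtain ⟨⟨s, hs⟩, hsu⟩ := (hstep c).1.exists_smul_eq ⟨u, hu⟩ ⟨v, hv⟩
          exact ⟨s, hs, s.2, congrArg Subtype.val hsu⟩
        · intro c u hu m hm hmc hmu
          obtain ⟨-, -, hreg⟩ := (hstep c).2.resolve_left (hgood c)
          exact congrArg Subtype.val (hreg ⟨u, hu⟩ ⟨m, hmc⟩ hm (Subtype.ext hmu))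
        · intro c m hm hmc
          obtain ⟨-, he, -⟩ := (hstep c).2.resolve_left (hgood c)
          exact congrArg Subtype.val (he ⟨m, hmc⟩ hm)

/-- In a group primitive on the points other than `a`, a regular normal subgroup has exponent 2
when the degree is not 3. -/
theorem sq_eq_one_of_primitive {N : Subgroup G} (hn : N.Normal) {a : Ω}
    (hp : IsPreprimitive (stabilizer G a) (SubMulAction.ofStabilizer G a))
    (h4 : ∀ x y : Ω, ∃ z, z ≠ a ∧ z ≠ x ∧ z ≠ y)
    (hsemi : ∀ m ∈ N, m • a = a → m = 1) {m : G} (hm : m ∈ N) : m * m = 1 := by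
  by_contra hne
  have hm1 : m ≠ 1 := fun e => hne (by rw [e, one_mul])
  have hx : m • a ≠ a := fun e => hm1 (hsemi m hm e)
  have hy : m⁻¹ • a ≠ a := fun e => hx (inv_smul_eq_iff.1 e).symm
  have hxy : m • a ≠ m⁻¹ • a := fun e => hne (hsemi _ (mul_mem hm hm)
    (by rw [mul_smul, e, smul_inv_smul]))
  have hinv : ∀ g : G, g • a = a → ∀ u ∈ N, ∀ u' ∈ N, g • u • a = u' • a →
      g • u⁻¹ • a = u'⁻¹ • a := fun g hg u hu u' hu' h => by
    rw [← conj_eq_of_regular hn hsemi hg hu hu' h,
      show (g * u * g⁻¹)⁻¹ = g * u⁻¹ * g⁻¹ by group, mul_smul, mul_smul,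
      inv_smul_eq_iff.2 hg.symm]
  let B : Set (SubMulAction.ofStabilizer G a) := {⟨m • a, hx⟩, ⟨m⁻¹ • a, hy⟩}
  have hB : IsBlock (stabilizer G a) B := by
    refine isBlock_iff_smul_eq_of_mem.2 fun g z hz hgz => ?_
    have key : (((g : G) • m • a = m • a ∧ (g : G) • m⁻¹ • a = m⁻¹ • a) ∨
        ((g : G) • m • a = m⁻¹ • a ∧ (g : G) • m⁻¹ • a = m • a)) := by
      simp only [B, Set.mem_insert_iff, Set.mem_singleton_iff] at hz hgz
      rcases hz with rfl | rfl <;> rcases hgz with h | h <;>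
        replace h := congrArg Subtype.val h
      · exact Or.inl ⟨h, hinv _ g.2 m hm m hm h⟩
      · have := hinv _ g.2 m hm m⁻¹ (inv_mem hm) h
        rw [inv_inv] at this
        exact Or.inr ⟨h, this⟩
      · have := hinv _ g.2 m⁻¹ (inv_mem hm) m hm h
        rw [inv_inv] at this
        exact Or.inr ⟨this, h⟩
      · have := hinv _ g.2 m⁻¹ (inv_mem hm) m⁻¹ (inv_mem hm) h
        rw [inv_inv] at this
        exact Or.inl ⟨this, h⟩
    have e1 : ∀ (u : Ω) (hu : u ≠ a) (w : Ω) (hw : w ≠ a), (g : G) • u = w →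
        g • (⟨u, hu⟩ : SubMulAction.ofStabilizer G a) = ⟨w, hw⟩ :=
      fun u hu w hw h => Subtype.ext h
    rcases key with ⟨h1, h2⟩ | ⟨h1, h2⟩
    · simp only [B, Set.smul_set_insert, Set.smul_set_singleton, e1 _ hx _ hx h1, e1 _ hy _ hy h2]
    · simp only [B, Set.smul_set_insert, Set.smul_set_singleton, e1 _ hx _ hy h1, e1 _ hy _ hx h2]
      exact Set.pair_comm _ _
  rcases hp.isTrivialBlock_of_isBlock hB with h | h
  · exact hxy (congrArg Subtype.val (h (Set.mem_insert _ _) (Set.mem_insert_of_mem _ rfl)))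
  · obtain ⟨z, hza, hzx, hzy⟩ := h4 (m • a) (m⁻¹ • a)
    have := Set.eq_univ_iff_forall.1 h ⟨z, hza⟩
    simp only [B, Set.mem_insert_iff, Set.mem_singleton_iff] at this
    rcases this with e | e
    · exact hzx (congrArg Subtype.val e)
    · exact hzy (congrArg Subtype.val e)

/-- A normal subgroup of a `k`-primitive group of degree at least `k+2` is `k`-transitive if
`k = 1` and it is nontrivial, or it is not semiregular. -/
theorem normal_of_multiply_primitive : ∀ (k : ℕ) (G : Type u) (Ω : Type v) [Group G]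
    [MulAction G Ω] [Finite Ω] [FaithfulSMul G Ω], 1 ≤ k → k + 2 ≤ Nat.card Ω →
    IsMultiplyPreprimitive G Ω k → ∀ N : Subgroup G, N.Normal → N ≠ ⊥ →
    IsPretransitive N Ω ∧
      ((k = 1 ∨ ∃ a : Ω, ∃ m ∈ N, m • a = a ∧ m ≠ 1) → IsMultiplyPretransitive N Ω k) := by
  intro k
  induction k with
  | zero => intros; omega
  | succ k ih =>
    intro G Ω _ _ _ _ hk hn hG N hN hN1
    haveI := hG
    haveI := hN
    have hmp : IsMultiplyPretransitive G Ω (k + 1) := hG.isMultiplyPretransitive
    rcases Nat.eq_zero_or_pos k with rfl | hk1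
    · haveI := (is_one_preprimitive_iff G Ω).1 hG
      have htr : IsPretransitive N Ω := normal_isPretransitive N hN1
      exact ⟨htr, fun _ => is_one_pretransitive_iff.2 htr⟩
    haveI := hmp
    have h2 : IsMultiplyPretransitive G Ω 2 :=
      isMultiplyPretransitive_of_le (n := k + 1) (by omega) (by omega)
    haveI := isPreprimitive_of_is_two_pretransitive h2
    haveI hGt : IsPretransitive G Ω := (inferInstance : IsPreprimitive G Ω).toIsPretransitive
    have htr : IsPretransitive N Ω := normal_isPretransitive N hN1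
    refine ⟨htr, fun hh => ?_⟩
    obtain ⟨a₀, m₀, hm₀, hma₀, hm₀1⟩ := hh.resolve_left (by omega)
    have hall : ∀ a : Ω, ∃ m ∈ N, m • a = a ∧ m ≠ 1 := fun a => by
      by_contra h
      push Not at h
      exact hm₀1 (semiregular_all hN hGt h a₀ m₀ hm₀ hma₀)
    have hstep : ∀ a : Ω, IsPretransitive (N.subgroupOf (stabilizer G a))
        (SubMulAction.ofStabilizer G a) ∧
        ((k = 1 ∨ ∃ b : SubMulAction.ofStabilizer G a, ∃ m ∈ N.subgroupOf (stabilizer G a),
            m • b = b ∧ m ≠ 1) →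
          IsMultiplyPretransitive (N.subgroupOf (stabilizer G a))
            (SubMulAction.ofStabilizer G a) k) := fun a => by
      haveI := faithful_ofStabilizer (G := G) a
      obtain ⟨m, hm, hma, hm1⟩ := hall a
      exact ih (stabilizer G a) (SubMulAction.ofStabilizer G a) hk1
        (by rw [SubMulAction.nat_card_ofStabilizer_eq]; omega)
        (isMultiplyPreprimitive_ofStabilizer G Ω (n := k) (a := a)) (N.subgroupOf (stabilizer G a))
        inferInstance (subgroupOf_stabilizer_ne_bot hm hma hm1)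
    by_cases hgood : ∃ a : Ω, k = 1 ∨ ∃ b : SubMulAction.ofStabilizer G a,
        ∃ m ∈ N.subgroupOf (stabilizer G a), m • b = b ∧ m ≠ 1
    · obtain ⟨a, ha⟩ := hgood
      exact lift_stabilizer htr a ((hstep a).2 ha)
    exfalso
    push Not at hgood
    haveI : Nonempty Ω := ⟨a₀⟩
    have hk2 : 2 ≤ k := by have := (hgood a₀).1; omega
    have h4 : 4 ≤ Nat.card Ω := by omega
    have hexp : ∀ c : Ω, ∀ m ∈ N, m • c = c → m * m = 1 := by
      intro c m hm hmc
      haveI := faithful_ofStabilizer (G := G) c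
      obtain ⟨d, hdc, -, -⟩ := exists_ne_points (a := c) h4 c c
      haveI : IsPretransitive (stabilizer G c) (SubMulAction.ofStabilizer G c) :=
        is_one_pretransitive_iff.1 (SubMulAction.ofStabilizer.isMultiplyPretransitive.1 h2)
      refine congrArg Subtype.val (sq_eq_one_of_primitive (G := stabilizer G c)
        (Ω := SubMulAction.ofStabilizer G c) (N := N.subgroupOf (stabilizer G c))
        inferInstance (a := ⟨d, hdc⟩) ?_ ?_ ?_ (m := ⟨m, hmc⟩) hm)
      · have h5 : IsMultiplyPreprimitive (stabilizer G c) (SubMulAction.ofStabilizer G c) k :=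
          isMultiplyPreprimitive_ofStabilizer G Ω (n := k) (a := c)
        rcases Nat.eq_or_lt_of_le hk2 with hk3 | hk3
        · subst hk3
          haveI := h5
          exact (is_one_preprimitive_iff _ _).1 (isMultiplyPreprimitive_ofStabilizer (stabilizer G c) (SubMulAction.ofStabilizer G c) (n := 1))
        · haveI := h5.isMultiplyPretransitive
          have h6 : IsMultiplyPretransitive (stabilizer G c) (SubMulAction.ofStabilizer G c) 3 :=
            isMultiplyPretransitive_of_le (n := k) hk3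
              (by rw [SubMulAction.nat_card_ofStabilizer_eq]; omega)
          exact isPreprimitive_of_is_two_pretransitive
            (SubMulAction.ofStabilizer.isMultiplyPretransitive.1 h6)
      · exact exists_ne_points (by rw [SubMulAction.nat_card_ofStabilizer_eq]; omega)
      · exact fun u hu hud => (hgood c).2 _ u hu hud
    classical
    obtain ⟨b, hba, -, -⟩ := exists_ne_points (a := a₀) h4 a₀ a₀
    obtain ⟨x, hxa, hxb, -⟩ := exists_ne_points (a := a₀) h4 b b
    obtain ⟨y, hya, hyb, hyx⟩ := exists_ne_points (a := a₀) h4 b x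
    refine no_regular_stabilisers (N := N) hba.symm hxa.symm hya.symm hxb.symm hyb.symm
      hyx.symm ?_ ?_ hexp
    · intro c u v hu hv
      obtain ⟨⟨s, hs⟩, hsu⟩ := (hstep c).1.exists_smul_eq ⟨u, hu⟩ ⟨v, hv⟩
      exact ⟨s, hs, s.2, congrArg Subtype.val hsu⟩
    · intro c u hu m hm hmc hmu
      exact congrArg Subtype.val ((hgood c).2 ⟨u, hu⟩ ⟨m, hmc⟩ hm (Subtype.ext hmu))

/-- Nontrivial normal subgroups of 3-transitive groups of odd degree are 3-transitive. -/
theorem normal_three_transitive_of_odd [Finite Ω] [FaithfulSMul G Ω] (hodd : Odd (Nat.card Ω))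
    (h5 : 5 ≤ Nat.card Ω) (hG : IsMultiplyPretransitive G Ω 3) {N : Subgroup G} (hN : N.Normal)
    (hN1 : N ≠ ⊥) : IsMultiplyPretransitive N Ω 3 := by
  classical
  haveI := Fintype.ofFinite Ω
  haveI : Fact (Nat.Prime 2) := ⟨Nat.prime_two⟩
  haveI hfinG : Finite G := Finite.of_injective (fun g : G => toPerm (α := G) (β := Ω) g)
    toPerm_injective
  obtain ⟨htr, h⟩ := normal_multiply_transitive 3 G Ω (by omega) (by omega) hG N hN hN1
  have hN2 : IsMultiplyPretransitive N Ω 2 := by
    rcases h with h | ⟨-, hexp, hsemi⟩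
    · exact h
    exfalso
    obtain ⟨a⟩ : Nonempty Ω := (Nat.card_pos_iff.1 (by omega)).1
    have hbij : Function.Bijective fun m : N => m • a := ⟨fun m m' e => by
      simp only at e
      refine Subtype.ext (inv_mul_eq_one.1 (hsemi a _ (mul_mem (inv_mem m'.2) m.2) ?_)).symm
      rw [mul_smul, inv_smul_eq_iff]
      exact e, htr.exists_smul_eq a⟩
    rw [← Nat.card_congr (Equiv.ofBijective _ hbij)] at hodd h5
    have hpg : IsPGroup 2 N := fun m => ⟨1, Subtype.ext (by
      rw [pow_one, pow_two]; exact hexp m m.2)⟩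
    obtain ⟨e, he⟩ := hpg.exists_card_eq
    rw [he] at hodd h5
    rcases Nat.eq_zero_or_pos e with rfl | he0
    · simp at h5
    · exact Nat.not_even_iff_odd.2 hodd ((Nat.even_pow' he0.ne').2 even_two)
  haveI := hN
  refine isMultiplyPretransitive_of_fixing fun S hS x y hx hy => ?_
  rcases Nat.lt_or_ge S.card 2 with hS2 | hS2
  · exact exists_fixing_of_isMultiplyPretransitive (G := N) (k := S.card + 1)
      (haveI := hN2; isMultiplyPretransitive_of_le (n := 2) (by omega) (by omega)) rfl hx hy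
  obtain ⟨a, b, hab, rfl⟩ := Finset.card_eq_two.1 (show S.card = 2 by omega)
  simp only [Finset.mem_insert, Finset.mem_singleton, not_or] at hx hy
  let N₂ : Ω → Ω → Subgroup G := fun u w => N ⊓ (stabilizer G u ⊓ stabilizer G w)
  suffices ∃ m ∈ N₂ a b, m • x = y by
    obtain ⟨m, ⟨hm, hma, hmb⟩, hmx⟩ := this
    refine ⟨⟨m, hm⟩, fun t ht => ?_, hmx⟩
    simp only [Finset.mem_insert, Finset.mem_singleton] at ht
    rcases ht with rfl | rfl
    · exact hma
    · exact hmb
  by_contra hxy
  have hthree : ∀ u w z : Ω, u ≠ a → u ≠ b → z ≠ a → z ≠ b →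
      ∃ g : G, g • a = a ∧ g • b = b ∧ g • u = z := fun u w z hu hu' hz hz' => by
    obtain ⟨g, hg, hgu⟩ := exists_fixing_of_isMultiplyPretransitive hG (T := {a, b})
      (by rw [Finset.card_pair hab]) (x := u) (y := z) (by simp [hu, hu']) (by simp [hz, hz'])
    exact ⟨g, hg a (by simp), hg b (by simp), hgu⟩
  -- orbit length
  set d := Nat.card (orbit (N₂ a b) x) with hd
  have horb : ∀ u, u ≠ a → u ≠ b → Nat.card (orbit (N₂ a b) u) = d := by
    intro u hu hu'
    obtain ⟨g, hga, hgb, hgu⟩ := hthree x x u hx.1 hx.2 hu hu'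
    have hconj : ∀ (g : G), g • a = a → g • b = b → ∀ m ∈ N₂ a b, g * m * g⁻¹ ∈ N₂ a b := by
      intro g hga hgb m hm
      exact ⟨hN.conj_mem m hm.1 g,
        show (g * m * g⁻¹) • a = a by
          rw [mul_smul, mul_smul, inv_smul_eq_iff.2 hga.symm, show m • a = a from hm.2.1, hga],
        show (g * m * g⁻¹) • b = b by
          rw [mul_smul, mul_smul, inv_smul_eq_iff.2 hgb.symm, show m • b = b from hm.2.2, hgb]⟩
    have hmove : ∀ (g : G) (u v : Ω), g • a = a → g • b = b → g • u = v →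
        ∀ z ∈ orbit (N₂ a b) u, g • z ∈ orbit (N₂ a b) v := by
      intro g u v hga hgb huv z hz
      obtain ⟨⟨m, hm⟩, rfl⟩ := hz
      refine ⟨⟨_, hconj g hga hgb m hm⟩, ?_⟩
      show (g * m * g⁻¹) • v = g • m • u
      rw [mul_smul, mul_smul, ← huv, inv_smul_smul]
    have hu1 := hmove g x u hga hgb hgu
    have hu2 := hmove g⁻¹ u x (inv_smul_eq_iff.2 hga.symm) (inv_smul_eq_iff.2 hgb.symm)
      (inv_smul_eq_iff.2 hgu.symm)
    exact (Nat.card_congr ⟨fun z => ⟨g • z.1, hu1 z.1 z.2⟩, fun z => ⟨g⁻¹ • z.1, hu2 z.1 z.2⟩,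
      fun z => Subtype.ext (inv_smul_smul g z.1), fun z => Subtype.ext (smul_inv_smul g z.1)⟩).symm
  have hdodd : Odd d := by
    have hdvd : d ∣ ((Finset.univ.erase a).erase b).card := by
      refine Perm.dvd_card_of_invariant (G := N₂ a b) _ (fun g u hu => ?_) fun u hu => ?_
      · simp only [Finset.mem_erase, Finset.mem_univ, and_true, ne_eq] at hu ⊢
        exact ⟨fun e => hu.1 (smul_left_cancel g (e.trans (g.2.2.2 : (g : G) • b = b).symm)),
          fun e => hu.2 (smul_left_cancel g (e.trans (g.2.2.1 : (g : G) • a = a).symm))⟩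
      · simp only [Finset.mem_erase, Finset.mem_univ, and_true, ne_eq] at hu
        rw [horb u hu.2 hu.1]
    rw [Finset.card_erase_of_mem (Finset.mem_erase.2 ⟨hab.symm, Finset.mem_univ _⟩),
      Finset.card_erase_of_mem (Finset.mem_univ _), Finset.card_univ,
      ← Nat.card_eq_fintype_card] at hdvd
    refine Odd.of_dvd_nat ?_ hdvd
    obtain ⟨c, hc⟩ := hodd
    exact ⟨c - 1, by omega⟩
  -- an element swapping `a` and `b` fixing a third point
  obtain ⟨c₀, hc₀a, hc₀b, t, htN, hta, htb, htc⟩ : ∃ c₀, c₀ ≠ a ∧ c₀ ≠ b ∧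
      ∃ t ∈ N, t • a = b ∧ t • b = a ∧ t • c₀ = c₀ := by
    obtain ⟨⟨t, ht⟩, hta, htb⟩ := is_two_pretransitive_iff.1 hN2 hab hab.symm
    change t • a = b at hta
    change t • b = a at htb
    have ho : orderOf t ≠ 0 := (orderOf_pos t).ne'
    set e := (orderOf t).factorization 2
    set o := orderOf t / 2 ^ e
    have heo : 2 ^ e * o = orderOf t := Nat.ordProj_mul_ordCompl_eq_self _ 2
    have hoodd : Odd o := by
      rw [← Nat.not_even_iff_odd, even_iff_two_dvd]
      exact Nat.not_dvd_ordCompl Nat.prime_two ho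
    have hpow : ∀ i : ℕ, (t ^ (2 * i)) • a = a ∧ (t ^ (2 * i)) • b = b := by
      intro i
      induction i with
      | zero => simp
      | succ i ihi =>
        rw [show 2 * (i + 1) = 2 * i + 1 + 1 by ring, pow_succ, pow_succ, mul_smul, mul_smul, hta,
          htb, mul_smul, mul_smul, htb, hta]
        exact ihi
    obtain ⟨i, hi⟩ := hoodd
    have hta' : (t ^ o) • a = b := by
      rw [hi, pow_succ, mul_smul, hta]; exact (hpow i).2
    have htb' : (t ^ o) • b = a := by
      rw [hi, pow_succ, mul_smul, htb]; exact (hpow i).1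
    have hpg : IsPGroup 2 (Subgroup.zpowers (t ^ o)) := by
      obtain ⟨k, hk⟩ : ∃ k, orderOf (t ^ o) = 2 ^ k := by
        have h1 : orderOf (t ^ o) ∣ 2 ^ e := orderOf_dvd_of_pow_eq_one
          (by rw [← pow_mul, mul_comm, heo, pow_orderOf_eq_one])
        obtain ⟨k, -, hk⟩ := (Nat.dvd_prime_pow Nat.prime_two).1 h1
        exact ⟨k, hk⟩
      exact IsPGroup.of_card (n := k) (by rw [Nat.card_zpowers, hk])
    have hmod := hpg.card_modEq_card_fixedPoints Ω
    have hne : (fixedPoints (Subgroup.zpowers (t ^ o)) Ω).Nonempty := by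
      rw [Set.nonempty_iff_ne_empty]
      intro he
      rw [he, Nat.card_coe_set_eq, Set.ncard_empty] at hmod
      exact Nat.not_even_iff_odd.2 hodd (even_iff_two_dvd.2 (Nat.modEq_zero_iff_dvd.1 hmod))
    obtain ⟨c, hc⟩ := hne
    have hc' : (t ^ o) • c = c := hc ⟨_, Subgroup.mem_zpowers _⟩
    refine ⟨c, fun e' => ?_, fun e' => ?_, t ^ o, pow_mem ht o, hta', htb', hc'⟩
    · subst e'; exact hab (hc'.symm.trans hta')
    · subst e'; exact hab (htb'.symm.trans hc')
  have hswap : ∀ c, c ≠ a → c ≠ b → ∃ s ∈ N, s • a = b ∧ s • b = a ∧ s • c = c := by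
    intro c hc hc'
    obtain ⟨g, hga, hgb, hgc⟩ := hthree c₀ c₀ c hc₀a hc₀b hc hc'
    refine ⟨g * t * g⁻¹, hN.conj_mem t htN g, ?_, ?_, ?_⟩
    · rw [mul_smul, mul_smul, inv_smul_eq_iff.2 hga.symm, hta, hgb]
    · rw [mul_smul, mul_smul, inv_smul_eq_iff.2 hgb.symm, htb, hga]
    · rw [mul_smul, mul_smul, inv_smul_eq_iff.2 hgc.symm, htc, hgc]
  -- the setwise stabiliser
  let T : Subgroup G :=
    { carrier := {m | m ∈ N ∧ ((m • a = a ∧ m • b = b) ∨ (m • a = b ∧ m • b = a))}
      one_mem' := ⟨one_mem N, Or.inl ⟨one_smul _ _, one_smul _ _⟩⟩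
      mul_mem' := by
        rintro u w ⟨hu, hu'⟩ ⟨hw, hw'⟩
        refine ⟨mul_mem hu hw, ?_⟩
        rcases hu' with ⟨p, q⟩ | ⟨p, q⟩ <;> rcases hw' with ⟨r, s⟩ | ⟨r, s⟩ <;>
          simp [mul_smul, p, q, r, s]
      inv_mem' := by
        rintro u ⟨hu, hu'⟩
        refine ⟨inv_mem hu, ?_⟩
        rcases hu' with ⟨p, q⟩ | ⟨p, q⟩
        · exact Or.inl ⟨inv_smul_eq_iff.2 p.symm, inv_smul_eq_iff.2 q.symm⟩
        · exact Or.inr ⟨inv_smul_eq_iff.2 q.symm, inv_smul_eq_iff.2 p.symm⟩ }
  have horbT : ∀ c, c ≠ a → c ≠ b → orbit T c = orbit (N₂ a b) c := by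
    intro c hc hc'
    ext z
    constructor
    · rintro ⟨⟨m, hm, hm'⟩, rfl⟩
      rcases hm' with ⟨p, q⟩ | ⟨p, q⟩
      · exact ⟨⟨m, hm, p, q⟩, rfl⟩
      · obtain ⟨s, hs, sa, sb, sc⟩ := hswap c hc hc'
        refine ⟨⟨m * s, mul_mem hm hs, ?_, ?_⟩, ?_⟩
        · show (m * s) • a = a
          rw [mul_smul, sa, q]
        · show (m * s) • b = b
          rw [mul_smul, sb, p]
        · show (m * s) • c = m • c
          rw [mul_smul, sc]
    · rintro ⟨⟨m, hm, p, q⟩, rfl⟩
      exact ⟨⟨m, hm, Or.inl ⟨p, q⟩⟩, rfl⟩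
  have hidx : ∀ c, c ≠ a → c ≠ b → Odd (stabilizer T c).index := by
    intro c hc hc'
    rw [index_stabilizer, ← Nat.card_coe_set_eq, horbT c hc hc', horb c hc hc']
    exact hdodd
  have hsyl : ∀ c, c ≠ a → c ≠ b → ∃ P : Sylow 2 T, ∀ m ∈ (P : Subgroup T), (m : G) • c = c := by
    intro c hc hc'
    let Q : Sylow 2 (stabilizer T c) := Classical.arbitrary _
    have hQ : IsPGroup 2 ((Q : Subgroup (stabilizer T c)).map (stabilizer T c).subtype) :=
      Q.2.map _
    obtain ⟨P, hP⟩ := hQ.exists_le_sylow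
    refine ⟨P, ?_⟩
    have hcard : (P : Subgroup T) = (Q : Subgroup (stabilizer T c)).map (stabilizer T c).subtype := by
      refine (Subgroup.eq_of_le_of_card_ge hP ?_).symm
      rw [Subgroup.card_map_of_injective (stabilizer T c).subtype_injective, P.card_eq_multiplicity,
        Q.card_eq_multiplicity, ← (stabilizer T c).index_mul_card,
        Nat.factorization_mul Subgroup.index_ne_zero_of_finite Nat.card_pos.ne',
        Finsupp.add_apply, Nat.factorization_eq_zero_of_not_dvd
          (fun h => Nat.not_even_iff_odd.2 (hidx c hc hc') (even_iff_two_dvd.2 h)), zero_add]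
    intro m hm
    rw [hcard] at hm
    obtain ⟨q, -, rfl⟩ := hm
    exact q.2
  obtain ⟨P, hP⟩ := hsyl x hx.1 hx.2
  obtain ⟨R, hR⟩ := hsyl y hy.1 hy.2
  obtain ⟨u, hu⟩ := exists_smul_eq T P R
  have hux : (u : G) • x ≠ y := by
    intro e
    obtain ⟨⟨m, hm⟩, hme⟩ : y ∈ orbit (N₂ a b) x := horbT x hx.1 hx.2 ▸ ⟨u, e⟩
    exact hxy ⟨m, hm, hme⟩
  have hRle : ∀ m ∈ (R : Subgroup T), ((m : G) • ((u : G) • x) = (u : G) • x) := by
    intro m hm
    rw [← hu] at hm
    obtain ⟨q, hq, rfl⟩ := hm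
    show ((u : G) * (q : G) * (u : G)⁻¹) • (u : G) • x = (u : G) • x
    rw [mul_smul, mul_smul, inv_smul_smul, hP q hq]
  -- orders
  have hcardN₂ : Nat.card (N₂ a b) = Nat.card (N₂ ((u : G) • x) y) := by
    obtain ⟨⟨s, hs⟩, hsa, hsb⟩ := is_two_pretransitive_iff.1 hN2 hab hux
    change s • a = (u : G) • x at hsa
    change s • b = y at hsb
    refine Nat.card_congr ⟨fun m => ⟨s * m * s⁻¹, ?_⟩, fun m => ⟨s⁻¹ * m * s, ?_⟩,
      fun m => Subtype.ext (by simp [mul_assoc]), fun m => Subtype.ext (by simp [mul_assoc])⟩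
    · refine ⟨N.mul_mem (N.mul_mem hs m.2.1) (N.inv_mem hs), ?_, ?_⟩
      · show (s * (m : G) * s⁻¹) • _ = _
        rw [← hsa, mul_smul, mul_smul, inv_smul_smul, show (m : G) • a = a from m.2.2.1]
      · show (s * (m : G) * s⁻¹) • _ = _
        rw [← hsb, mul_smul, mul_smul, inv_smul_smul, show (m : G) • b = b from m.2.2.2]
    · refine ⟨N.mul_mem (N.mul_mem (N.inv_mem hs) m.2.1) hs, ?_, ?_⟩
      · show (s⁻¹ * (m : G) * s) • a = a
        rw [mul_smul, mul_smul, hsa, show (m : G) • (u : G) • x = _ from m.2.2.1, ← hsa, inv_smul_smul]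
      · show (s⁻¹ * (m : G) * s) • b = b
        rw [mul_smul, mul_smul, hsb, show (m : G) • y = y from m.2.2.2, ← hsb, inv_smul_smul]
  have hTcard : Nat.card T = 2 * Nat.card (N₂ a b) := by
    obtain ⟨s, hs, sa, sb, -⟩ := hswap x hx.1 hx.2
    have hle : N₂ a b ≤ T := fun m hm => ⟨hm.1, Or.inl ⟨hm.2.1, hm.2.2⟩⟩
    have hi : ((N₂ a b).subgroupOf T).index = 2 := by
      rw [Subgroup.index_eq_two_iff]
      refine ⟨⟨s, hs, Or.inr ⟨sa, sb⟩⟩, fun m => ?_⟩
      obtain ⟨hm, ⟨p, q⟩ | ⟨p, q⟩⟩ := m.2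
      · refine Or.inr ⟨⟨hm, p, q⟩, fun h => ?_⟩
        have h' : ((m : G) * s) • a = a := h.2.1
        rw [mul_smul, sa, q] at h'
        exact hab h'.symm
      · refine Or.inl ⟨⟨mul_mem hm hs, ?_, ?_⟩, fun h => ?_⟩
        · show ((m : G) * s) • a = a
          rw [mul_smul, sa, q]
        · show ((m : G) * s) • b = b
          rw [mul_smul, sb, p]
        · have h' : (m : G) • a = a := h.2.1
          rw [p] at h'
          exact hab h'.symm
    rw [← ((N₂ a b).subgroupOf T).index_mul_card, hi,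
      Nat.card_congr (Subgroup.subgroupOfEquivOfLe hle).toEquiv]
  have hsub : Nat.card (R : Subgroup T) ∣ Nat.card (N₂ a b) := by
    rw [hcardN₂, ← Subgroup.card_map_of_injective T.subtype_injective]
    refine Subgroup.card_dvd_of_le ?_
    rintro _ ⟨m, hm, rfl⟩
    exact ⟨m.2.1, hRle m hm, hR m hm⟩
  rw [R.card_eq_multiplicity, hTcard, Nat.factorization_mul two_ne_zero Nat.card_pos.ne',
    Finsupp.add_apply, Nat.Prime.factorization_self Nat.prime_two,
    Nat.prime_two.pow_dvd_iff_le_factorization Nat.card_pos.ne'] at hsub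
  omega

end Cfsg.Agent.Perm
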