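import Mathlib

/-!
# Normalisers of Sylow subgroups with few orbits of prime size

`G` consists of pairs of permutations of two sets `A` (fixed points) and `B`.
-/

set_option autoImplicit false

open Equiv Equiv.Perm
open scoped Pointwise commutatorElement

namespace Cfsg.Agent.Perm.OrbitTrick

variable {B : Type*} [Finite B] {p k : ℕ} [Fact p.Prime]

/-- A p-group of permutations all of whose orbits have size p. -/
structure Elem (P : Subgroup (Perm B)) (p : ℕ) : Prop where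
  isP : IsPGroup p P
  orb : ∀ c : B, Nat.card (MulAction.orbit P c) = p

variable {P : Subgroup (Perm B)}

theorem Elem.index_stab (h : Elem P p) (c : B) : (MulAction.stabilizer P c).index = p := by
  rw [MulAction.index_stabilizer, Set.ncard_def, ← h.orb c]
  rfl

theorem Elem.stab_normal (h : Elem P p) (c : B) : (MulAction.stabilizer P c).Normal := by
  have hp := (Fact.out : p.Prime)
  refine Subgroup.normal_of_index_eq_minFac_card ?_
  rw [h.index_stab c]
  obtain ⟨i, hi⟩ := IsPGroup.iff_card.1 h.isP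
  have : i ≠ 0 := by
    rintro rfl
    have h1 := Subgroup.index_dvd_card (MulAction.stabilizer P c)
    rw [h.index_stab c, hi, pow_zero, Nat.dvd_one] at h1
    exact hp.ne_one h1
  rw [hi, Nat.pow_minFac this, hp.minFac_eq]

theorem Elem.commute (h : Elem P p) (x y : Perm B) (hx : x ∈ P) (hy : y ∈ P) : x * y = y * x := by
  refine Equiv.ext fun c => ?_
  haveI := h.stab_normal c
  haveI : IsCyclic (P ⧸ MulAction.stabilizer P c) :=
    isCyclic_of_prime_card (p := p) (by rw [← Subgroup.index_eq_card, h.index_stab c])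
  haveI := IsCyclic.isMulCommutative (α := P ⧸ MulAction.stabilizer P c)
  have h1 : ((⟨y, hy⟩ : P) * ⟨x, hx⟩)⁻¹ * ((⟨x, hx⟩ : P) * ⟨y, hy⟩) ∈ MulAction.stabilizer P c := by
    rw [← QuotientGroup.eq, QuotientGroup.mk_mul, QuotientGroup.mk_mul, mul_comm']
  rw [MulAction.mem_stabilizer_iff] at h1
  change ((y * x)⁻¹ * (x * y)) c = c at h1
  rw [Perm.mul_apply, Perm.inv_eq_iff_eq] at h1
  exact h1

theorem Elem.pow_p (h : Elem P p) (x : Perm B) (hx : x ∈ P) : x ^ p = 1 := by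
  refine Equiv.ext fun c => ?_
  haveI := h.stab_normal c
  have h1 : (⟨x, hx⟩ : P) ^ (MulAction.stabilizer P c).index ∈ MulAction.stabilizer P c :=
    Subgroup.pow_index_mem _ _
  rw [h.index_stab c, MulAction.mem_stabilizer_iff] at h1
  exact h1

theorem Elem.gen (h : Elem P p) {x₀ : Perm B} (hx₀ : x₀ ∈ P) {c : B} (hc : x₀ c ≠ c) {x : Perm B}
    (hx : x ∈ P) : ∃ m : ℕ, x c = (x₀ ^ m) c := by
  haveI := h.stab_normal c
  have hcard : Nat.card (P ⧸ MulAction.stabilizer P c) = p := by rw [← Subgroup.index_eq_card, h.index_stab c]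
  have hne : ((⟨x₀, hx₀⟩ : P) : P ⧸ MulAction.stabilizer P c) ≠ 1 := fun e => hc (by
    rw [QuotientGroup.eq_one_iff, MulAction.mem_stabilizer_iff] at e
    exact e)
  obtain ⟨m, hm⟩ := mem_powers_of_prime_card hcard hne (g' := ((⟨x, hx⟩ : P) : P ⧸ MulAction.stabilizer P c))
  refine ⟨m, ?_⟩
  have hm' : ((⟨x₀, hx₀⟩ : P) : P ⧸ MulAction.stabilizer P c) ^ m = ((⟨x, hx⟩ : P) : P ⧸ _) := hm
  rw [← QuotientGroup.mk_pow, QuotientGroup.eq, MulAction.mem_stabilizer_iff] at hm'
  change ((x₀ ^ m)⁻¹ * x) c = c at hm'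
  rw [Perm.mul_apply, Perm.inv_eq_iff_eq] at hm'
  exact hm'

theorem Elem.fixed_orbit (h : Elem P p) {y : Perm B} (hy : y ∈ P) {c d : B} (hc : y c = c)
    (hd : d ∈ MulAction.orbit P c) : y d = d := by
  obtain ⟨w, rfl⟩ := hd
  show y ((w : Perm B) c) = (w : Perm B) c
  rw [← Perm.mul_apply, h.commute y w hy w.2, Perm.mul_apply, hc]

theorem Elem.pow_apply (h : Elem P p) {x y : Perm B} (hx : x ∈ P) (hy : y ∈ P) {c : B} (e : y c = x c) (m : ℕ) :
    (y ^ m) c = (x ^ m) c := by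
  induction m with
  | zero => rfl
  | succ m ih =>
    rw [pow_succ', Perm.mul_apply, ih, ← Perm.mul_apply, h.commute y _ hy (pow_mem hx m), Perm.mul_apply, e,
      ← Perm.mul_apply, ← pow_succ]

/-- `g` normalises `P` and fixes each of its orbits. -/
def Fixing (P : Subgroup (Perm B)) (g : Perm B) : Prop :=
  (∀ x ∈ P, g * x * g⁻¹ ∈ P) ∧ ∀ c : B, g c ∈ MulAction.orbit P c ∧ g⁻¹ c ∈ MulAction.orbit P c

theorem Elem.fixer_conj (h : Elem P p) {g s : Perm B} (hg : Fixing P g) (hs : s ∈ P) {c : B} (hc : s c = c) :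
    (g * s * g⁻¹) c = c := by
  rw [Perm.mul_apply, Perm.mul_apply, h.fixed_orbit hs hc (hg.2 c).2]
  exact g.apply_symm_apply c

/-- The exponent by which `g` acts at the point `c`. -/
theorem Elem.exponent (h : Elem P p) {g : Perm B} (hg : Fixing P g) (c : B) :
    ∃ i : ℕ, ∀ x ∈ P, (g * x * g⁻¹) c = (x ^ i) c := by
  have hp := (Fact.out : p.Prime)
  obtain ⟨x₀, hx₀, hc⟩ : ∃ x₀ ∈ P, x₀ c ≠ c := by
    by_contra hno
    push Not at hno
    have : MulAction.orbit P c = {c} := by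
      ext d
      constructor
      · rintro ⟨w, rfl⟩; exact hno w w.2
      · rintro rfl; exact MulAction.mem_orbit_self _
    have h1 := h.orb c
    rw [this] at h1
    simp at h1
    exact hp.ne_one h1.symm
  obtain ⟨i, hi⟩ := h.gen hx₀ hc (hg.1 x₀ hx₀)
  refine ⟨i, fun x hx => ?_⟩
  obtain ⟨m, hm⟩ := h.gen hx₀ hc hx
  have hs : ((x₀ ^ m)⁻¹ * x) c = c := by rw [Perm.mul_apply, Perm.inv_eq_iff_eq]; exact hm
  have hsP : (x₀ ^ m)⁻¹ * x ∈ P := mul_mem (inv_mem (pow_mem hx₀ m)) hx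
  have e1 : (g * x * g⁻¹) c = ((x₀ ^ i) ^ m) c := by
    rw [show g * x * g⁻¹ = (g * x₀ ^ m * g⁻¹) * (g * ((x₀ ^ m)⁻¹ * x) * g⁻¹) by group, Perm.mul_apply,
      h.fixer_conj hg hsP hs, ← conj_pow, h.pow_apply (pow_mem hx₀ i) (hg.1 x₀ hx₀) hi m]
  rw [e1, h.pow_apply (pow_mem hx₀ m) hx hm i, ← pow_mul, ← pow_mul, mul_comm]

/-- Commutators of orbit-fixing normalising elements centralise `P`. -/
theorem Elem.commutator_central (h : Elem P p) {a b : Perm B} (ha : Fixing P a) (hb : Fixing P b) {x : Perm B}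
    (hx : x ∈ P) : (a * b) * x * (a * b)⁻¹ = (b * a) * x * (b * a)⁻¹ := by
  refine Equiv.ext fun c => ?_
  obtain ⟨i, hi⟩ := h.exponent ha c
  obtain ⟨j, hj⟩ := h.exponent hb c
  rw [show a * b * x * (a * b)⁻¹ = a * (b * x * b⁻¹) * a⁻¹ by group,
    show b * a * x * (b * a)⁻¹ = b * (a * x * a⁻¹) * b⁻¹ by group, hi _ (hb.1 x hx), hj _ (ha.1 x hx),
    h.pow_apply (pow_mem hx j) (hb.1 x hx) (hj x hx) i, h.pow_apply (pow_mem hx i) (ha.1 x hx) (hi x hx) j,
    ← pow_mul, ← pow_mul, mul_comm]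

theorem Elem.pow_p_of_central (h : Elem P p) {g : Perm B} (hg : Fixing P g)
    (hc : ∀ x ∈ P, g * x = x * g) : g ^ p = 1 := by
  refine Equiv.ext fun c => ?_
  obtain ⟨z, hz⟩ := (hg.2 c).1
  change (z : Perm B) c = g c at hz
  have key : ∀ m : ℕ, (g ^ m) c = ((z : Perm B) ^ m) c := by
    intro m
    induction m with
    | zero => rfl
    | succ m ih =>
      have hcm : Commute (g ^ m) (z : Perm B) := Commute.pow_left (hc z z.2) m
      rw [pow_succ, Perm.mul_apply, ← hz, ← Perm.mul_apply, hcm.eq, Perm.mul_apply, ih, ← Perm.mul_apply,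
        ← pow_succ']
  rw [key p, h.pow_p z z.2]

/-- With at most three orbits and no element supported on one orbit, orbit-fixing normalising elements act
by one exponent. -/
theorem Elem.scalar (h : Elem P p) (hk3 : Nat.card (Quotient (MulAction.orbitRel P B)) ≤ 3)
    (hno : ∀ x ∈ P, x ≠ 1 → ∀ c : B, ∃ d, d ∉ MulAction.orbit P c ∧ x d ≠ d)
    {g : Perm B} (hg : Fixing P g) : ∃ i : ℕ, ∀ x ∈ P, g * x * g⁻¹ = x ^ i := by
  classical
  rcases isEmpty_or_nonempty B with hB | hB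
  · exact ⟨0, fun x _ => Equiv.ext fun c => (hB.false c).elim⟩
  by_cases hsr : ∀ x ∈ P, ∀ c : B, x c = c → x = 1
  · obtain ⟨c⟩ := hB
    obtain ⟨i, hi⟩ := h.exponent hg c
    refine ⟨i, fun x hx => ?_⟩
    have h1 := hsr ((x ^ i)⁻¹ * (g * x * g⁻¹)) (mul_mem (inv_mem (pow_mem hx i)) (hg.1 x hx)) c
      (by rw [Perm.mul_apply, Perm.inv_eq_iff_eq]; exact hi x hx)
    exact (inv_mul_eq_one.1 h1).symm
  push Not at hsr
  obtain ⟨z, hz, c, hzc, hz1⟩ := hsr
  obtain ⟨d, hdc, hzd⟩ := hno z hz hz1 c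
  obtain ⟨e, hed, hze⟩ := hno z hz hz1 d
  have hec : e ∉ MulAction.orbit P c := fun he => hze (h.fixed_orbit hz hzc he)
  -- every point lies in one of the three orbits
  have hall : ∀ f : B, f ∈ MulAction.orbit P c ∨ f ∈ MulAction.orbit P d ∨ f ∈ MulAction.orbit P e := by
    intro f
    by_contra hf
    push Not at hf
    have hinj : Function.Injective (fun i : Fin 4 => (⟦![c, d, e, f] i⟧ : Quotient (MulAction.orbitRel P B))) := by
      have n1 := hdc
      have n2 := hec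
      have n3 := hed
      intro i j hij
      have hr : ![c, d, e, f] i ∈ MulAction.orbit P (![c, d, e, f] j) := Quotient.exact hij
      have hsym : ![c, d, e, f] j ∈ MulAction.orbit P (![c, d, e, f] i) := MulAction.mem_orbit_symm.1 hr
      fin_cases i <;> fin_cases j <;> simp at hr hsym ⊢ <;> tauto
    have := Nat.card_le_card_of_injective _ hinj
    simp at this
    omega
  -- a nontrivial element fixing d
  obtain ⟨z', hz', hz'd, hz'1⟩ : ∃ z' ∈ P, z' d = d ∧ z' ≠ 1 := by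
    by_contra hno'
    push Not at hno'
    have hbot : MulAction.stabilizer P d = ⊥ := eq_bot_iff.2 fun w hw =>
      Subgroup.mem_bot.2 (Subtype.ext (hno' w w.2 hw))
    have h1 := Subgroup.card_mul_index (MulAction.stabilizer P c)
    have h2 := Subgroup.card_mul_index (MulAction.stabilizer P d)
    have h4 := h.index_stab d
    rw [hbot] at h4
    rw [hbot, Subgroup.card_bot, one_mul, h4] at h2
    rw [h.index_stab c, ← h2] at h1
    have h3 : Nat.card (MulAction.stabilizer P c) = 1 :=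
      Nat.eq_of_mul_eq_mul_right (Fact.out : p.Prime).pos (by rw [one_mul]; exact h1)
    haveI := (Nat.card_eq_one_iff_unique.1 h3).1
    exact hz1 (congrArg (fun w : MulAction.stabilizer P c => ((w : P) : Perm B))
      (Subsingleton.elim (⟨⟨z, hz⟩, hzc⟩ : MulAction.stabilizer P c) 1))
  have pair : ∀ w ∈ P, ∀ u v t : B, (∀ f : B, f ∈ MulAction.orbit P u ∨ f ∈ MulAction.orbit P v ∨
      f ∈ MulAction.orbit P t) → w u = u → w v = v → w = 1 := by
    intro w hw u v t hcov hu hv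
    by_contra hw1
    obtain ⟨f, hf, hwf⟩ := hno w hw hw1 t
    rcases hcov f with h' | h' | h'
    · exact hwf (h.fixed_orbit hw hu h')
    · exact hwf (h.fixed_orbit hw hv h')
    · exact hf h'
  have hz'c : z' c ≠ c := fun e' => hz'1 (pair z' hz' c d e hall e' hz'd)
  obtain ⟨i, hi⟩ := h.exponent hg e
  have fix_of : ∀ (w : Perm B) (q : B), w ∈ P → w q = q → ∀ m : ℕ, (w ^ m) q = q := by
    intro w q hw hq m
    induction m with
    | zero => rfl
    | succ m ih => rw [pow_succ, Perm.mul_apply, hq, ih]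
  -- z and z' are scaled by i
  have hzi : g * z * g⁻¹ = z ^ i := by
    have := pair ((z ^ i)⁻¹ * (g * z * g⁻¹)) (mul_mem (inv_mem (pow_mem hz i)) (hg.1 z hz)) c e d
      (fun f => by have := hall f; tauto)
      (by rw [Perm.mul_apply, Perm.inv_eq_iff_eq, h.fixer_conj hg hz hzc, fix_of z c hz hzc])
      (by rw [Perm.mul_apply, Perm.inv_eq_iff_eq]; exact hi z hz)
    exact (inv_mul_eq_one.1 this).symm
  have hz'i : g * z' * g⁻¹ = z' ^ i := by
    have := pair ((z' ^ i)⁻¹ * (g * z' * g⁻¹)) (mul_mem (inv_mem (pow_mem hz' i)) (hg.1 z' hz')) d e c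
      (fun f => by have := hall f; tauto)
      (by rw [Perm.mul_apply, Perm.inv_eq_iff_eq, h.fixer_conj hg hz' hz'd, fix_of z' d hz' hz'd])
      (by rw [Perm.mul_apply, Perm.inv_eq_iff_eq]; exact hi z' hz')
    exact (inv_mul_eq_one.1 this).symm
  have at_point : ∀ (w : Perm B) (q : B), w ∈ P → g * w * g⁻¹ = w ^ i → w q ≠ q → ∀ x ∈ P,
      (g * x * g⁻¹) q = (x ^ i) q := by
    intro w q hw hwi hwq x hx
    obtain ⟨m, hm⟩ := h.gen hw hwq hx
    have hs : ((w ^ m)⁻¹ * x) q = q := by rw [Perm.mul_apply, Perm.inv_eq_iff_eq]; exact hm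
    have hsP : (w ^ m)⁻¹ * x ∈ P := mul_mem (inv_mem (pow_mem hw m)) hx
    rw [show g * x * g⁻¹ = (g * w ^ m * g⁻¹) * (g * ((w ^ m)⁻¹ * x) * g⁻¹) by group, Perm.mul_apply,
      h.fixer_conj hg hsP hs, ← conj_pow, hwi, h.pow_apply (pow_mem hw m) hx hm i, ← pow_mul, ← pow_mul,
      mul_comm]
  refine ⟨i, fun x hx => ?_⟩
  have := pair ((x ^ i)⁻¹ * (g * x * g⁻¹)) (mul_mem (inv_mem (pow_mem hx i)) (hg.1 x hx)) c d e hall
    (by rw [Perm.mul_apply, Perm.inv_eq_iff_eq]; exact at_point z' c hz' hz'i hz'c x hx)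
    (by rw [Perm.mul_apply, Perm.inv_eq_iff_eq]; exact at_point z d hz hzi hzd x hx)
  exact (inv_mul_eq_one.1 this).symm

end Cfsg.Agent.Perm.OrbitTrick
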