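import Mathlib.GroupTheory.SemidirectProduct
import Mathlib.GroupTheory.OrderOfElement
import Mathlib.GroupTheory.Solvable
import Mathlib.Data.Matrix.Mul
import Mathlib.LinearAlgebra.Matrix.ToLin
import Mathlib.Dynamics.PeriodicPts.Defs
import Mathlib.RingTheory.Int.Basic
import Mathlib.Algebra.Ring.GeomSum
import Mathlib.NumberTheory.Divisors
import Mathlib.Data.ZMod.Basic

/-!
Counting the solutions of `x ^ n = 1` in products and in cyclic extensions of sums of
fixed-point-free modules; groups with the same order type.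
-/

set_option autoImplicit false

namespace Cfsg.Agent.Perm.OrderType

open Finset

/-- The number of solutions of `x ^ n = 1`. -/
noncomputable def sol (G : Type*) [Monoid G] (n : ℕ) : ℕ := Nat.card {g : G // g ^ n = 1}

theorem sol_prod (G H : Type*) [Monoid G] [Monoid H] (n : ℕ) :
    sol (G × H) n = sol G n * sol H n := by
  rw [sol, sol, sol, ← Nat.card_prod]
  exact Nat.card_congr ((Equiv.subtypeEquivRight fun g => by simp [Prod.ext_iff]).trans
    Equiv.subtypeProdEquivProd)

theorem sol_pi {ι : Type*} [Fintype ι] (G : ι → Type*) [∀ i, Monoid (G i)] (n : ℕ) :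
    sol (∀ i, G i) n = ∏ i, sol (G i) n := by
  simp only [sol]
  rw [← Nat.card_pi]
  exact Nat.card_congr ((Equiv.subtypeEquivRight fun g => by
    simp [funext_iff, Pi.pow_apply]).trans Equiv.subtypePiEquivPi)

theorem sol_congr {G H : Type*} [Monoid G] [Monoid H] (e : G ≃* H) (n : ℕ) : sol G n = sol H n :=
  Nat.card_congr (e.toEquiv.subtypeEquiv fun g => by
    simp [← map_pow])

theorem card_orderOf_eq {G H : Type*} [Group G] [Group H] [Finite G] [Finite H]
    (h : ∀ n, 0 < n → sol G n = sol H n) (n : ℕ) :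
    Nat.card {g : G // orderOf g = n} = Nat.card {g : H // orderOf g = n} := by
  classical
  have := Fintype.ofFinite G
  have := Fintype.ofFinite H
  rcases Nat.eq_zero_or_pos n with rfl | hn
  · rw [Nat.card_eq_zero.2 (Or.inl ⟨fun g => (orderOf_pos g.1).ne' g.2⟩),
      Nat.card_eq_zero.2 (Or.inl ⟨fun g => (orderOf_pos g.1).ne' g.2⟩)]
  induction n using Nat.strong_induction_on with
  | _ n ih =>
    have hG := sum_card_orderOf_eq_card_pow_eq_one (G := G) hn.ne'
    have hH := sum_card_orderOf_eq_card_pow_eq_one (G := H) hn.ne'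
    have hsG : (univ.filter fun x : G => x ^ n = 1).card = sol G n := by
      rw [sol, Nat.card_eq_fintype_card, Fintype.card_subtype]
    have hsH : (univ.filter fun x : H => x ^ n = 1).card = sol H n := by
      rw [sol, Nat.card_eq_fintype_card, Fintype.card_subtype]
    rw [hsG] at hG
    rw [hsH, ← h n hn] at hH
    have hmem : n ∈ n.divisors := Nat.mem_divisors_self n hn.ne'
    rw [← Finset.sum_erase_add _ _ hmem] at hG hH
    have he : ∑ d ∈ n.divisors.erase n, (univ.filter fun x : G => orderOf x = d).card =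
        ∑ d ∈ n.divisors.erase n, (univ.filter fun x : H => orderOf x = d).card := by
      refine Finset.sum_congr rfl fun d hd => ?_
      obtain ⟨hdn, hd⟩ := Finset.mem_erase.1 hd
      have hdvd := (Nat.mem_divisors.1 hd).1
      have hdlt : d < n := lt_of_le_of_ne (Nat.le_of_dvd hn hdvd) hdn
      have := ih d hdlt (Nat.pos_of_dvd_of_pos hdvd hn)
      rwa [Nat.card_eq_fintype_card, Nat.card_eq_fintype_card, Fintype.card_subtype,
        Fintype.card_subtype] at this
    rw [Nat.card_eq_fintype_card, Nat.card_eq_fintype_card, Fintype.card_subtype, Fintype.card_subtype]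
    omega

theorem sol_gcd {G : Type*} [Group G] [Finite G] {N : ℕ} (hN : sol G N = Nat.card G) (n : ℕ) :
    sol G n = sol G (n.gcd N) := by
  classical
  have hall : ∀ g : G, g ^ N = 1 := by
    intro g
    have := Fintype.ofFinite G
    rw [sol, Nat.card_eq_fintype_card, Nat.card_eq_fintype_card, Fintype.card_subtype] at hN
    have := Finset.eq_univ_of_card _ hN
    have hg : g ∈ univ.filter fun x : G => x ^ N = 1 := by rw [this]; exact Finset.mem_univ g
    exact (Finset.mem_filter.1 hg).2
  refine Nat.card_congr (Equiv.subtypeEquivRight fun g => ⟨fun h => ?_, fun h => ?_⟩)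
  · exact pow_gcd_eq_one.2 ⟨h, hall g⟩
  · exact (pow_gcd_eq_one.1 h).1

/-- A fixed-point-free cyclic module: `A` has order `e` on `(ZMod k) ^ d` and its non-trivial
powers fix only zero. -/
structure Mdl where
  /-- characteristic -/
  k : ℕ
  /-- dimension -/
  d : ℕ
  /-- order -/
  e : ℕ
  /-- the operator -/
  A : Matrix (Fin d) (Fin d) (ZMod k)
  hk : NeZero k
  he : A ^ e = 1
  he0 : 0 < e
  hfree : ∀ ℓ : ℕ, ℓ.Prime → ℓ ∣ e → ∃ C : Matrix (Fin d) (Fin d) (ZMod k), C * (A ^ (e / ℓ) - 1) = 1
  htor : ∀ r : ℕ, r < k → Nat.card {x : ZMod k // (r : ZMod k) * x = 0} = k.gcd r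

attribute [instance] Mdl.hk

namespace Mdl

variable (M : Mdl)

/-- The underlying space. -/
abbrev V : Type := Fin M.d → ZMod M.k

theorem fixed_eq_zero {c : ℕ} (hc : ¬ M.e ∣ c) {v : M.V} (hv : Matrix.mulVec (M.A ^ c) v = v) :
    v = 0 := by
  have hiter : ∀ i : ℕ, (fun w : M.V => Matrix.mulVec M.A w)^[i] v = Matrix.mulVec (M.A ^ i) v := by
    intro i
    induction i with
    | zero => simp
    | succ i ih => rw [Function.iterate_succ_apply', ih, Matrix.mulVec_mulVec, ← pow_succ']
  have h1 : Function.IsPeriodicPt (fun w : M.V => Matrix.mulVec M.A w) c v := (hiter c).trans hv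
  have h2 : Function.IsPeriodicPt (fun w : M.V => Matrix.mulVec M.A w) M.e v := by
    show _ = v
    rw [hiter, M.he, Matrix.one_mulVec]
  set g := c.gcd M.e with hg
  have h3 : Function.IsPeriodicPt (fun w : M.V => Matrix.mulVec M.A w) g v := h1.gcd h2
  have hge : g ∣ M.e := Nat.gcd_dvd_right _ _
  have hgne : g ≠ M.e := fun h => hc (h ▸ Nat.gcd_dvd_left _ _)
  obtain ⟨t, ht⟩ := hge
  have ht1 : t ≠ 1 := fun h => hgne (by rw [ht, h, mul_one])
  obtain ⟨ℓ, hℓ, u, rfl⟩ := Nat.exists_prime_and_dvd ht1
  obtain ⟨C, hC⟩ := M.hfree ℓ hℓ ⟨g * u, by rw [ht]; ring⟩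
  have h4 : Function.IsPeriodicPt (fun w : M.V => Matrix.mulVec M.A w) (M.e / ℓ) v := by
    have : M.e / ℓ = g * u := by
      rw [ht, show g * (ℓ * u) = g * u * ℓ by ring, Nat.mul_div_cancel _ hℓ.pos]
    rw [this]
    exact h3.mul_const u
  have h5 : Matrix.mulVec (M.A ^ (M.e / ℓ) - 1) v = 0 := by
    rw [Matrix.sub_mulVec, Matrix.one_mulVec, sub_eq_zero, ← hiter]
    exact h4
  have h6 := congrArg (Matrix.mulVec C) h5
  rwa [Matrix.mulVec_mulVec, hC, Matrix.one_mulVec, Matrix.mulVec_zero] at h6

theorem card_nsmul_eq_zero (n : ℕ) : Nat.card {v : M.V // n • v = 0} = (M.k.gcd n) ^ M.d := by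
  have e : {v : M.V // n • v = 0} ≃ (Fin M.d → {x : ZMod M.k // ((n % M.k : ℕ) : ZMod M.k) * x = 0}) :=
    (Equiv.subtypeEquivRight fun v => by
      simp [funext_iff, nsmul_eq_mul, ZMod.natCast_mod]).trans Equiv.subtypePiEquivPi
  rw [Nat.card_congr e, Nat.card_pi, Finset.prod_const, Finset.card_univ, Fintype.card_fin,
    M.htor _ (Nat.mod_lt _ (Nat.pos_of_ne_zero M.hk.out)), Nat.gcd_comm, ← Nat.gcd_rec]

/-- The number of `v` killed by the norm of `A ^ c` of length `n`. -/
theorem card_norm_ker (c n : ℕ) (hcn : M.e ∣ c * n) :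
    Nat.card {v : M.V // Matrix.mulVec (∑ j ∈ Finset.range n, (M.A ^ c) ^ j) v = 0} =
      if M.e ∣ c then (M.k.gcd n) ^ M.d else M.k ^ M.d := by
  split_ifs with hc
  · have h1 : M.A ^ c = 1 := by
      obtain ⟨t, rfl⟩ := hc
      rw [pow_mul, M.he, one_pow]
    rw [h1, ← M.card_nsmul_eq_zero n]
    refine Nat.card_congr (Equiv.subtypeEquivRight fun v => ?_)
    simp [Matrix.natCast_mulVec, nsmul_eq_mul, Nat.cast_smul_eq_nsmul]
  · have h : ∀ v : M.V, Matrix.mulVec (∑ j ∈ Finset.range n, (M.A ^ c) ^ j) v = 0 := by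
      intro v
      refine M.fixed_eq_zero hc ?_
      have h1 : (M.A ^ c) ^ n = 1 := by
        obtain ⟨t, ht⟩ := hcn
        rw [← pow_mul, ht, pow_mul, M.he, one_pow]
      have h2 := mul_geom_sum (M.A ^ c) n
      rw [h1, sub_self, sub_mul, one_mul, sub_eq_zero] at h2
      rw [Matrix.mulVec_mulVec, h2]
    rw [Nat.card_congr (Equiv.subtypeUnivEquiv h), Nat.card_pi, Finset.prod_const, Finset.card_univ,
      Fintype.card_fin, Nat.card_zmod]

end Mdl

/-- A block: a cyclic group of order `m` acting on a sum of fixed-point-free modules. -/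
structure Blk where
  /-- order of the top group -/
  m : ℕ
  /-- number of modules -/
  t : ℕ
  /-- the modules -/
  M : Fin t → Mdl
  hm : NeZero m
  hdvd : ∀ j, (M j).e ∣ m

attribute [instance] Blk.hm

namespace Blk

variable (B : Blk)

/-- The normal subgroup of the block. -/
abbrev V : Type := ∀ j, (B.M j).V

/-- The action of a natural number. -/
def act (c : ℕ) : B.V →+ B.V where
  toFun v j := Matrix.mulVec ((B.M j).A ^ c) (v j)
  map_zero' := funext fun j => Matrix.mulVec_zero _
  map_add' v w := funext fun j => Matrix.mulVec_add _ _ _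

theorem act_apply (c : ℕ) (v : B.V) (j : Fin B.t) :
    B.act c v j = Matrix.mulVec ((B.M j).A ^ c) (v j) := rfl

theorem act_add (c c' : ℕ) (v : B.V) : B.act (c + c') v = B.act c (B.act c' v) := by
  funext j
  simp only [act_apply, pow_add, Matrix.mulVec_mulVec]

theorem act_mod (c : ℕ) (v : B.V) : B.act (c % B.m) v = B.act c v := by
  funext j
  simp only [act_apply]
  congr 1
  obtain ⟨s, hs⟩ := B.hdvd j
  conv_rhs => rw [← Nat.mod_add_div c B.m, pow_add, pow_mul]
  rw [show (B.M j).A ^ B.m = 1 by rw [hs, pow_mul, (B.M j).he, one_pow], one_pow, mul_one]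

theorem act_zero (v : B.V) : B.act 0 v = v := by
  funext j
  simp [act_apply]

/-- The automorphism given by an element of the top group. -/
def aut (c : ZMod B.m) : B.V ≃+ B.V :=
  AddEquiv.mk' ⟨B.act c.val, B.act (-c).val,
    fun v => by
      rw [← act_add, ← act_mod, ← ZMod.val_add, neg_add_cancel, ZMod.val_zero, act_zero],
    fun v => by
      rw [← act_add, ← act_mod, ← ZMod.val_add, add_neg_cancel, ZMod.val_zero, act_zero]⟩
    (map_add (B.act c.val))

theorem aut_apply (c : ZMod B.m) (v : B.V) : B.aut c v = B.act c.val v := rfl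

/-- The action homomorphism. -/
def φ : Multiplicative (ZMod B.m) →* MulAut (Multiplicative B.V) where
  toFun c := AddEquiv.toMultiplicative (B.aut c.toAdd)
  map_one' := by
    refine MulEquiv.ext fun v => ?_
    show Multiplicative.ofAdd (B.act (0 : ZMod B.m).val v.toAdd) = v
    rw [ZMod.val_zero, act_zero]
    rfl
  map_mul' c c' := by
    refine MulEquiv.ext fun v => ?_
    show Multiplicative.ofAdd (B.act (c.toAdd + c'.toAdd).val v.toAdd) =
      Multiplicative.ofAdd (B.act c.toAdd.val (B.act c'.toAdd.val v.toAdd))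
    rw [ZMod.val_add, act_mod, act_add]

/-- The group of a block. -/
abbrev G : Type := SemidirectProduct (Multiplicative B.V) (Multiplicative (ZMod B.m)) B.φ

instance finiteG : Finite B.G :=
  haveI : ∀ j, Finite (B.M j).V := fun j => inferInstance
  haveI : Finite B.V := Pi.finite
  haveI : Finite (ZMod B.m) := inferInstance
  haveI : Finite (Multiplicative (ZMod B.m)) := Finite.of_equiv (ZMod B.m) Multiplicative.ofAdd
  haveI : Finite (Multiplicative B.V) := Finite.of_equiv B.V Multiplicative.ofAdd
  Finite.of_equiv (Multiplicative B.V × Multiplicative (ZMod B.m)) SemidirectProduct.equivProd.symm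

theorem isSolvableG : Group.IsSolvable B.G :=
  Group.isSolvable_of_ker_le_range (SemidirectProduct.inl (φ := B.φ)) SemidirectProduct.rightHom
    (by rw [SemidirectProduct.range_inl_eq_ker_rightHom])

theorem card_G : Nat.card B.G = (∏ j, (B.M j).k ^ (B.M j).d) * B.m := by
  rw [Nat.card_congr SemidirectProduct.equivProd, Nat.card_prod,
    Nat.card_congr Multiplicative.toAdd, Nat.card_congr Multiplicative.toAdd, Nat.card_zmod,
    Nat.card_pi]
  congr 1
  refine Finset.prod_congr rfl fun j _ => ?_
  rw [Nat.card_pi, Finset.prod_const, Finset.card_univ, Fintype.card_fin, Nat.card_zmod]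

theorem pow_left (g : B.G) (n : ℕ) :
    (g ^ n).left.toAdd = (fun j => Matrix.mulVec
      (∑ i ∈ Finset.range n, ((B.M j).A ^ g.right.toAdd.val) ^ i) (g.left.toAdd j)) := by
  induction n with
  | zero => funext j; simp
  | succ n ih =>
    rw [pow_succ', SemidirectProduct.mul_left]
    show g.left.toAdd + B.act g.right.toAdd.val (g ^ n).left.toAdd = _
    rw [ih]
    funext j
    rw [Pi.add_apply, act_apply, Matrix.mulVec_mulVec, geom_sum_succ, Matrix.add_mulVec,
      Matrix.one_mulVec, add_comm]

/-- The formula for the number of solutions of `x ^ n = 1`. -/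
def solFormula (m : ℕ) (l : List (ℕ × ℕ × ℕ)) (n : ℕ) : ℕ :=
  (((List.range m).filter fun c => n * c % m = 0).map fun c =>
    (l.map fun q => if q.2.2 ∣ c then (q.1.gcd n) ^ q.2.1 else q.1 ^ q.2.1).prod).sum

/-- The numerical data of a block. -/
def data : List (ℕ × ℕ × ℕ) := List.ofFn fun j => ((B.M j).k, (B.M j).d, (B.M j).e)

theorem sol_eq (n : ℕ) : sol B.G n = solFormula B.m B.data n := by
  classical
  have e1 : {g : B.G // g ^ n = 1} ≃ Σ c : {c : ZMod B.m // (n : ZMod B.m) * c = 0},
      (∀ j, {v : (B.M j).V //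
        Matrix.mulVec (∑ i ∈ Finset.range n, ((B.M j).A ^ c.1.val) ^ i) v = 0}) :=
    { toFun := fun g => ⟨⟨g.1.right.toAdd, by
          have h := congrArg (fun x : B.G => (SemidirectProduct.rightHom x).toAdd) g.2
          simp only [map_pow, map_one, toAdd_pow, toAdd_one, SemidirectProduct.rightHom_eq_right,
            nsmul_eq_mul] at h
          exact h⟩,
        fun j => ⟨g.1.left.toAdd j, by
          have h := congrFun ((B.pow_left g.1 n).symm.trans
            (by rw [g.2]; rfl : (g.1 ^ n).left.toAdd = 0)) j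
          exact h⟩⟩
      invFun := fun x => ⟨⟨Multiplicative.ofAdd (fun j => (x.2 j).1), Multiplicative.ofAdd x.1.1⟩, by
        refine SemidirectProduct.ext (Multiplicative.toAdd.injective ?_) (Multiplicative.toAdd.injective ?_)
        · rw [B.pow_left]
          funext j
          exact (x.2 j).2
        · show (SemidirectProduct.rightHom ((⟨Multiplicative.ofAdd (fun j => (x.2 j).1), Multiplicative.ofAdd x.1.1⟩ : B.G) ^ n)).toAdd = 0
          rw [map_pow, toAdd_pow, nsmul_eq_mul]
          exact x.1.2⟩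
      left_inv := fun g => rfl
      right_inv := fun x => rfl }
  rw [sol, Nat.card_congr e1, Nat.card_sigma, solFormula]
  have hterm : ∀ c : {c : ZMod B.m // (n : ZMod B.m) * c = 0},
      Nat.card (∀ j, {v : (B.M j).V //
        Matrix.mulVec (∑ i ∈ Finset.range n, ((B.M j).A ^ c.1.val) ^ i) v = 0}) =
      (B.data.map fun q => if q.2.2 ∣ c.1.val then (q.1.gcd n) ^ q.2.1 else q.1 ^ q.2.1).prod := by
    intro c
    rw [Nat.card_pi, data, List.map_ofFn, List.prod_ofFn]
    refine Finset.prod_congr rfl fun j _ => ?_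
    refine (B.M j).card_norm_ker _ _ ((B.hdvd j).trans ?_)
    have h := c.2
    rw [← ZMod.natCast_zmod_val c.1, ← Nat.cast_mul, ZMod.natCast_eq_zero_iff] at h
    rwa [mul_comm]
  simp only [hterm]
  rw [← List.sum_toFinset _ ((List.nodup_range).filter _), ← Finset.sum_coe_sort
    ((List.range B.m).filter fun c => n * c % B.m = 0).toFinset]
  refine Fintype.sum_equiv ⟨fun c => ⟨c.1.val, by
      rw [List.mem_toFinset, List.mem_filter, List.mem_range]
      refine ⟨ZMod.val_lt _, decide_eq_true ?_⟩
      rw [← Nat.dvd_iff_mod_eq_zero, ← ZMod.natCast_eq_zero_iff, Nat.cast_mul, ZMod.natCast_zmod_val]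
      exact c.2⟩,
    fun c => ⟨(c.1 : ℕ), by
      have h := c.2
      rw [List.mem_toFinset, List.mem_filter, List.mem_range, decide_eq_true_eq] at h
      rw [← Nat.cast_mul, ZMod.natCast_eq_zero_iff, Nat.dvd_iff_mod_eq_zero]
      exact h.2⟩,
    fun c => Subtype.ext (ZMod.natCast_zmod_val _),
    fun c => Subtype.ext (ZMod.val_cast_of_lt (by
      have h := c.2
      rw [List.mem_toFinset, List.mem_filter, List.mem_range] at h
      exact h.1))⟩ _ _ fun c => rfl

end Blk

end Cfsg.Agent.Perm.OrderType
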