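import Cfsg.Agent.Lib.Perm.OrderType
import Mathlib.Tactic.IntervalCases
import Mathlib.Tactic.FinCases
import Mathlib.LinearAlgebra.Matrix.Notation

/-!
Concrete blocks for a solvable and a non-solvable group with the same order type.
-/

set_option autoImplicit false

namespace Cfsg.Agent.Perm.OrderType

def a0 : Matrix (Fin 2) (Fin 2) (ZMod 2) := Matrix.of ![![0, 1], ![1, 1]]

theorem pw0_0 : a0 ^ 0 = Matrix.of ![![1, 0], ![0, 1]] := by rw [pow_zero]; decide +kernel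

theorem pw0_1 : a0 ^ 1 = Matrix.of ![![0, 1], ![1, 1]] := by rw [pow_succ, pw0_0]; decide +kernel

theorem pw0_2 : a0 ^ 2 = Matrix.of ![![1, 1], ![1, 0]] := by rw [pow_succ, pw0_1]; decide +kernel

theorem pw0_3 : a0 ^ 3 = Matrix.of ![![1, 0], ![0, 1]] := by rw [pow_succ, pw0_2]; decide +kernel

/-- Module `(2, 2, 3)`. -/
def md0 : Mdl where
  k := 2
  d := 2
  e := 3
  A := a0
  hk := ⟨by decide⟩
  he := by rw [pw0_3]; decide +kernel
  he0 := by decide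
  hfree := by
    intro ℓ hℓ hd
    have h := Nat.mem_divisors.2 ⟨hd, (by decide : 3 ≠ 0)⟩
    rw [show Nat.divisors 3 = {1, 3} by decide +kernel] at h
    simp only [Finset.mem_insert, Finset.mem_singleton] at h
    rcases h with rfl | rfl
    · exact absurd hℓ (by decide)
    · exact ⟨Matrix.of ![![0, 1], ![1, 1]], by rw [show 3 / 3 = 1 from rfl, pw0_1]; decide +kernel⟩
  htor := by
    intro r hr
    rw [Nat.card_eq_fintype_card]
    interval_cases r <;> decide +kernel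

def a1 : Matrix (Fin 3) (Fin 3) (ZMod 2) := Matrix.of ![![0, 0, 1], ![1, 0, 0], ![0, 1, 1]]

theorem pw1_0 : a1 ^ 0 = Matrix.of ![![1, 0, 0], ![0, 1, 0], ![0, 0, 1]] := by rw [pow_zero]; decide +kernel

theorem pw1_1 : a1 ^ 1 = Matrix.of ![![0, 0, 1], ![1, 0, 0], ![0, 1, 1]] := by rw [pow_succ, pw1_0]; decide +kernel

theorem pw1_2 : a1 ^ 2 = Matrix.of ![![0, 1, 1], ![0, 0, 1], ![1, 1, 1]] := by rw [pow_succ, pw1_1]; decide +kernel

theorem pw1_3 : a1 ^ 3 = Matrix.of ![![1, 1, 1], ![0, 1, 1], ![1, 1, 0]] := by rw [pow_succ, pw1_2]; decide +kernel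

theorem pw1_4 : a1 ^ 4 = Matrix.of ![![1, 1, 0], ![1, 1, 1], ![1, 0, 1]] := by rw [pow_succ, pw1_3]; decide +kernel

theorem pw1_5 : a1 ^ 5 = Matrix.of ![![1, 0, 1], ![1, 1, 0], ![0, 1, 0]] := by rw [pow_succ, pw1_4]; decide +kernel

theorem pw1_6 : a1 ^ 6 = Matrix.of ![![0, 1, 0], ![1, 0, 1], ![1, 0, 0]] := by rw [pow_succ, pw1_5]; decide +kernel

theorem pw1_7 : a1 ^ 7 = Matrix.of ![![1, 0, 0], ![0, 1, 0], ![0, 0, 1]] := by rw [pow_succ, pw1_6]; decide +kernel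

/-- Module `(2, 3, 7)`. -/
def md1 : Mdl where
  k := 2
  d := 3
  e := 7
  A := a1
  hk := ⟨by decide⟩
  he := by rw [pw1_7]; decide +kernel
  he0 := by decide
  hfree := by
    intro ℓ hℓ hd
    have h := Nat.mem_divisors.2 ⟨hd, (by decide : 7 ≠ 0)⟩
    rw [show Nat.divisors 7 = {1, 7} by decide +kernel] at h
    simp only [Finset.mem_insert, Finset.mem_singleton] at h
    rcases h with rfl | rfl
    · exact absurd hℓ (by decide)
    · exact ⟨Matrix.of ![![0, 1, 1], ![0, 0, 1], ![1, 1, 1]], by rw [show 7 / 7 = 1 from rfl, pw1_1]; decide +kernel⟩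
  htor := by
    intro r hr
    rw [Nat.card_eq_fintype_card]
    interval_cases r <;> decide +kernel

def a2 : Matrix (Fin 6) (Fin 6) (ZMod 2) := Matrix.of ![![0, 0, 0, 0, 0, 1], ![1, 0, 0, 0, 0, 0], ![0, 1, 0, 0, 0, 1], ![0, 0, 1, 0, 0, 0], ![0, 0, 0, 1, 0, 1], ![0, 0, 0, 0, 1, 1]]

theorem pw2_0 : a2 ^ 0 = Matrix.of ![![1, 0, 0, 0, 0, 0], ![0, 1, 0, 0, 0, 0], ![0, 0, 1, 0, 0, 0], ![0, 0, 0, 1, 0, 0], ![0, 0, 0, 0, 1, 0], ![0, 0, 0, 0, 0, 1]] := by rw [pow_zero]; decide +kernel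

theorem pw2_1 : a2 ^ 1 = Matrix.of ![![0, 0, 0, 0, 0, 1], ![1, 0, 0, 0, 0, 0], ![0, 1, 0, 0, 0, 1], ![0, 0, 1, 0, 0, 0], ![0, 0, 0, 1, 0, 1], ![0, 0, 0, 0, 1, 1]] := by rw [pow_succ, pw2_0]; decide +kernel

theorem pw2_2 : a2 ^ 2 = Matrix.of ![![0, 0, 0, 0, 1, 1], ![0, 0, 0, 0, 0, 1], ![1, 0, 0, 0, 1, 1], ![0, 1, 0, 0, 0, 1], ![0, 0, 1, 0, 1, 1], ![0, 0, 0, 1, 1, 0]] := by rw [pow_succ, pw2_1]; decide +kernel

theorem pw2_3 : a2 ^ 3 = Matrix.of ![![0, 0, 0, 1, 1, 0], ![0, 0, 0, 0, 1, 1], ![0, 0, 0, 1, 1, 1], ![1, 0, 0, 0, 1, 1], ![0, 1, 0, 1, 1, 1], ![0, 0, 1, 1, 0, 1]] := by rw [pow_succ, pw2_2]; decide +kernel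

theorem pw2_4 : a2 ^ 4 = Matrix.of ![![0, 0, 1, 1, 0, 1], ![0, 0, 0, 1, 1, 0], ![0, 0, 1, 1, 1, 0], ![0, 0, 0, 1, 1, 1], ![1, 0, 1, 1, 1, 0], ![0, 1, 1, 0, 1, 0]] := by rw [pow_succ, pw2_3]; decide +kernel

theorem pw2_5 : a2 ^ 5 = Matrix.of ![![0, 1, 1, 0, 1, 0], ![0, 0, 1, 1, 0, 1], ![0, 1, 1, 1, 0, 0], ![0, 0, 1, 1, 1, 0], ![0, 1, 1, 1, 0, 1], ![1, 1, 0, 1, 0, 0]] := by rw [pow_succ, pw2_4]; decide +kernel

theorem pw2_6 : a2 ^ 6 = Matrix.of ![![1, 1, 0, 1, 0, 0], ![0, 1, 1, 0, 1, 0], ![1, 1, 1, 0, 0, 1], ![0, 1, 1, 1, 0, 0], ![1, 1, 1, 0, 1, 0], ![1, 0, 1, 0, 0, 1]] := by rw [pow_succ, pw2_5]; decide +kernel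

theorem pw2_7 : a2 ^ 7 = Matrix.of ![![1, 0, 1, 0, 0, 1], ![1, 1, 0, 1, 0, 0], ![1, 1, 0, 0, 1, 1], ![1, 1, 1, 0, 0, 1], ![1, 1, 0, 1, 0, 1], ![0, 1, 0, 0, 1, 1]] := by rw [pow_succ, pw2_6]; decide +kernel

theorem pw2_8 : a2 ^ 8 = Matrix.of ![![0, 1, 0, 0, 1, 1], ![1, 0, 1, 0, 0, 1], ![1, 0, 0, 1, 1, 1], ![1, 1, 0, 0, 1, 1], ![1, 0, 1, 0, 1, 0], ![1, 0, 0, 1, 1, 0]] := by rw [pow_succ, pw2_7]; decide +kernel

theorem pw2_9 : a2 ^ 9 = Matrix.of ![![1, 0, 0, 1, 1, 0], ![0, 1, 0, 0, 1, 1], ![0, 0, 1, 1, 1, 1], ![1, 0, 0, 1, 1, 1], ![0, 1, 0, 1, 0, 1], ![0, 0, 1, 1, 0, 0]] := by rw [pow_succ, pw2_8]; decide +kernel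

theorem pw2_10 : a2 ^ 10 = Matrix.of ![![0, 0, 1, 1, 0, 0], ![1, 0, 0, 1, 1, 0], ![0, 1, 1, 1, 1, 1], ![0, 0, 1, 1, 1, 1], ![1, 0, 1, 0, 1, 1], ![0, 1, 1, 0, 0, 1]] := by rw [pow_succ, pw2_9]; decide +kernel

theorem pw2_11 : a2 ^ 11 = Matrix.of ![![0, 1, 1, 0, 0, 1], ![0, 0, 1, 1, 0, 0], ![1, 1, 1, 1, 1, 1], ![0, 1, 1, 1, 1, 1], ![0, 1, 0, 1, 1, 0], ![1, 1, 0, 0, 1, 0]] := by rw [pow_succ, pw2_10]; decide +kernel

theorem pw2_12 : a2 ^ 12 = Matrix.of ![![1, 1, 0, 0, 1, 0], ![0, 1, 1, 0, 0, 1], ![1, 1, 1, 1, 1, 0], ![1, 1, 1, 1, 1, 1], ![1, 0, 1, 1, 0, 1], ![1, 0, 0, 1, 0, 0]] := by rw [pow_succ, pw2_11]; decide +kernel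

theorem pw2_13 : a2 ^ 13 = Matrix.of ![![1, 0, 0, 1, 0, 0], ![1, 1, 0, 0, 1, 0], ![1, 1, 1, 1, 0, 1], ![1, 1, 1, 1, 1, 0], ![0, 1, 1, 0, 1, 1], ![0, 0, 1, 0, 0, 1]] := by rw [pow_succ, pw2_12]; decide +kernel

theorem pw2_14 : a2 ^ 14 = Matrix.of ![![0, 0, 1, 0, 0, 1], ![1, 0, 0, 1, 0, 0], ![1, 1, 1, 0, 1, 1], ![1, 1, 1, 1, 0, 1], ![1, 1, 0, 1, 1, 1], ![0, 1, 0, 0, 1, 0]] := by rw [pow_succ, pw2_13]; decide +kernel

theorem pw2_15 : a2 ^ 15 = Matrix.of ![![0, 1, 0, 0, 1, 0], ![0, 0, 1, 0, 0, 1], ![1, 1, 0, 1, 1, 0], ![1, 1, 1, 0, 1, 1], ![1, 0, 1, 1, 1, 1], ![1, 0, 0, 1, 0, 1]] := by rw [pow_succ, pw2_14]; decide +kernel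

theorem pw2_16 : a2 ^ 16 = Matrix.of ![![1, 0, 0, 1, 0, 1], ![0, 1, 0, 0, 1, 0], ![1, 0, 1, 1, 0, 0], ![1, 1, 0, 1, 1, 0], ![0, 1, 1, 1, 1, 0], ![0, 0, 1, 0, 1, 0]] := by rw [pow_succ, pw2_15]; decide +kernel

theorem pw2_17 : a2 ^ 17 = Matrix.of ![![0, 0, 1, 0, 1, 0], ![1, 0, 0, 1, 0, 1], ![0, 1, 1, 0, 0, 0], ![1, 0, 1, 1, 0, 0], ![1, 1, 1, 1, 0, 0], ![0, 1, 0, 1, 0, 0]] := by rw [pow_succ, pw2_16]; decide +kernel

theorem pw2_18 : a2 ^ 18 = Matrix.of ![![0, 1, 0, 1, 0, 0], ![0, 0, 1, 0, 1, 0], ![1, 1, 0, 0, 0, 1], ![0, 1, 1, 0, 0, 0], ![1, 1, 1, 0, 0, 0], ![1, 0, 1, 0, 0, 0]] := by rw [pow_succ, pw2_17]; decide +kernel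

theorem pw2_19 : a2 ^ 19 = Matrix.of ![![1, 0, 1, 0, 0, 0], ![0, 1, 0, 1, 0, 0], ![1, 0, 0, 0, 1, 0], ![1, 1, 0, 0, 0, 1], ![1, 1, 0, 0, 0, 0], ![0, 1, 0, 0, 0, 0]] := by rw [pow_succ, pw2_18]; decide +kernel

theorem pw2_20 : a2 ^ 20 = Matrix.of ![![0, 1, 0, 0, 0, 0], ![1, 0, 1, 0, 0, 0], ![0, 0, 0, 1, 0, 0], ![1, 0, 0, 0, 1, 0], ![1, 0, 0, 0, 0, 1], ![1, 0, 0, 0, 0, 0]] := by rw [pow_succ, pw2_19]; decide +kernel

theorem pw2_21 : a2 ^ 21 = Matrix.of ![![1, 0, 0, 0, 0, 0], ![0, 1, 0, 0, 0, 0], ![0, 0, 1, 0, 0, 0], ![0, 0, 0, 1, 0, 0], ![0, 0, 0, 0, 1, 0], ![0, 0, 0, 0, 0, 1]] := by rw [pow_succ, pw2_20]; decide +kernel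

/-- Module `(2, 6, 21)`. -/
def md2 : Mdl where
  k := 2
  d := 6
  e := 21
  A := a2
  hk := ⟨by decide⟩
  he := by rw [pw2_21]; decide +kernel
  he0 := by decide
  hfree := by
    intro ℓ hℓ hd
    have h := Nat.mem_divisors.2 ⟨hd, (by decide : 21 ≠ 0)⟩
    rw [show Nat.divisors 21 = {1, 3, 7, 21} by decide +kernel] at h
    simp only [Finset.mem_insert, Finset.mem_singleton] at h
    rcases h with rfl | rfl | rfl | rfl
    · exact absurd hℓ (by decide)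
    · exact ⟨Matrix.of ![![1, 0, 1, 0, 0, 1], ![1, 1, 0, 1, 0, 0], ![1, 1, 0, 0, 1, 1], ![1, 1, 1, 0, 0, 1], ![1, 1, 0, 1, 0, 1], ![0, 1, 0, 0, 1, 1]], by rw [show 21 / 3 = 7 from rfl, pw2_7]; decide +kernel⟩
    · exact ⟨Matrix.of ![![1, 1, 0, 0, 1, 0], ![0, 1, 1, 0, 0, 1], ![1, 1, 1, 1, 1, 0], ![1, 1, 1, 1, 1, 1], ![1, 0, 1, 1, 0, 1], ![1, 0, 0, 1, 0, 0]], by rw [show 21 / 7 = 3 from rfl, pw2_3]; decide +kernel⟩
    · exact absurd hℓ (by decide)
  htor := by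
    intro r hr
    rw [Nat.card_eq_fintype_card]
    interval_cases r <;> decide +kernel

def a3 : Matrix (Fin 1) (Fin 1) (ZMod 3) := Matrix.of ![![2]]

theorem pw3_0 : a3 ^ 0 = Matrix.of ![![1]] := by rw [pow_zero]; decide +kernel

theorem pw3_1 : a3 ^ 1 = Matrix.of ![![2]] := by rw [pow_succ, pw3_0]; decide +kernel

theorem pw3_2 : a3 ^ 2 = Matrix.of ![![1]] := by rw [pow_succ, pw3_1]; decide +kernel

/-- Module `(3, 1, 2)`. -/
def md3 : Mdl where
  k := 3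
  d := 1
  e := 2
  A := a3
  hk := ⟨by decide⟩
  he := by rw [pw3_2]; decide +kernel
  he0 := by decide
  hfree := by
    intro ℓ hℓ hd
    have h := Nat.mem_divisors.2 ⟨hd, (by decide : 2 ≠ 0)⟩
    rw [show Nat.divisors 2 = {1, 2} by decide +kernel] at h
    simp only [Finset.mem_insert, Finset.mem_singleton] at h
    rcases h with rfl | rfl
    · exact absurd hℓ (by decide)
    · exact ⟨Matrix.of ![![1]], by rw [show 2 / 2 = 1 from rfl, pw3_1]; decide +kernel⟩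
  htor := by
    intro r hr
    rw [Nat.card_eq_fintype_card]
    interval_cases r <;> decide +kernel

def a4 : Matrix (Fin 2) (Fin 2) (ZMod 4) := Matrix.of ![![0, 3], ![1, 3]]

theorem pw4_0 : a4 ^ 0 = Matrix.of ![![1, 0], ![0, 1]] := by rw [pow_zero]; decide +kernel

theorem pw4_1 : a4 ^ 1 = Matrix.of ![![0, 3], ![1, 3]] := by rw [pow_succ, pw4_0]; decide +kernel

theorem pw4_2 : a4 ^ 2 = Matrix.of ![![3, 1], ![3, 0]] := by rw [pow_succ, pw4_1]; decide +kernel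

theorem pw4_3 : a4 ^ 3 = Matrix.of ![![1, 0], ![0, 1]] := by rw [pow_succ, pw4_2]; decide +kernel

/-- Module `(4, 2, 3)`. -/
def md4 : Mdl where
  k := 4
  d := 2
  e := 3
  A := a4
  hk := ⟨by decide⟩
  he := by rw [pw4_3]; decide +kernel
  he0 := by decide
  hfree := by
    intro ℓ hℓ hd
    have h := Nat.mem_divisors.2 ⟨hd, (by decide : 3 ≠ 0)⟩
    rw [show Nat.divisors 3 = {1, 3} by decide +kernel] at h
    simp only [Finset.mem_insert, Finset.mem_singleton] at h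
    rcases h with rfl | rfl
    · exact absurd hℓ (by decide)
    · exact ⟨Matrix.of ![![2, 3], ![1, 1]], by rw [show 3 / 3 = 1 from rfl, pw4_1]; decide +kernel⟩
  htor := by
    intro r hr
    rw [Nat.card_eq_fintype_card]
    interval_cases r <;> decide +kernel

def a5 : Matrix (Fin 1) (Fin 1) (ZMod 7) := Matrix.of ![![6]]

theorem pw5_0 : a5 ^ 0 = Matrix.of ![![1]] := by rw [pow_zero]; decide +kernel

theorem pw5_1 : a5 ^ 1 = Matrix.of ![![6]] := by rw [pow_succ, pw5_0]; decide +kernel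

theorem pw5_2 : a5 ^ 2 = Matrix.of ![![1]] := by rw [pow_succ, pw5_1]; decide +kernel

/-- Module `(7, 1, 2)`. -/
def md5 : Mdl where
  k := 7
  d := 1
  e := 2
  A := a5
  hk := ⟨by decide⟩
  he := by rw [pw5_2]; decide +kernel
  he0 := by decide
  hfree := by
    intro ℓ hℓ hd
    have h := Nat.mem_divisors.2 ⟨hd, (by decide : 2 ≠ 0)⟩
    rw [show Nat.divisors 2 = {1, 2} by decide +kernel] at h
    simp only [Finset.mem_insert, Finset.mem_singleton] at h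
    rcases h with rfl | rfl
    · exact absurd hℓ (by decide)
    · exact ⟨Matrix.of ![![3]], by rw [show 2 / 2 = 1 from rfl, pw5_1]; decide +kernel⟩
  htor := by
    intro r hr
    rw [Nat.card_eq_fintype_card]
    interval_cases r <;> decide +kernel

def a6 : Matrix (Fin 1) (Fin 1) (ZMod 7) := Matrix.of ![![2]]

theorem pw6_0 : a6 ^ 0 = Matrix.of ![![1]] := by rw [pow_zero]; decide +kernel

theorem pw6_1 : a6 ^ 1 = Matrix.of ![![2]] := by rw [pow_succ, pw6_0]; decide +kernel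

theorem pw6_2 : a6 ^ 2 = Matrix.of ![![4]] := by rw [pow_succ, pw6_1]; decide +kernel

theorem pw6_3 : a6 ^ 3 = Matrix.of ![![1]] := by rw [pow_succ, pw6_2]; decide +kernel

/-- Module `(7, 1, 3)`. -/
def md6 : Mdl where
  k := 7
  d := 1
  e := 3
  A := a6
  hk := ⟨by decide⟩
  he := by rw [pw6_3]; decide +kernel
  he0 := by decide
  hfree := by
    intro ℓ hℓ hd
    have h := Nat.mem_divisors.2 ⟨hd, (by decide : 3 ≠ 0)⟩
    rw [show Nat.divisors 3 = {1, 3} by decide +kernel] at h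
    simp only [Finset.mem_insert, Finset.mem_singleton] at h
    rcases h with rfl | rfl
    · exact absurd hℓ (by decide)
    · exact ⟨Matrix.of ![![1]], by rw [show 3 / 3 = 1 from rfl, pw6_1]; decide +kernel⟩
  htor := by
    intro r hr
    rw [Nat.card_eq_fintype_card]
    interval_cases r <;> decide +kernel

def a7 : Matrix (Fin 1) (Fin 1) (ZMod 7) := Matrix.of ![![3]]

theorem pw7_0 : a7 ^ 0 = Matrix.of ![![1]] := by rw [pow_zero]; decide +kernel

theorem pw7_1 : a7 ^ 1 = Matrix.of ![![3]] := by rw [pow_succ, pw7_0]; decide +kernel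

theorem pw7_2 : a7 ^ 2 = Matrix.of ![![2]] := by rw [pow_succ, pw7_1]; decide +kernel

theorem pw7_3 : a7 ^ 3 = Matrix.of ![![6]] := by rw [pow_succ, pw7_2]; decide +kernel

theorem pw7_4 : a7 ^ 4 = Matrix.of ![![4]] := by rw [pow_succ, pw7_3]; decide +kernel

theorem pw7_5 : a7 ^ 5 = Matrix.of ![![5]] := by rw [pow_succ, pw7_4]; decide +kernel

theorem pw7_6 : a7 ^ 6 = Matrix.of ![![1]] := by rw [pow_succ, pw7_5]; decide +kernel

/-- Module `(7, 1, 6)`. -/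
def md7 : Mdl where
  k := 7
  d := 1
  e := 6
  A := a7
  hk := ⟨by decide⟩
  he := by rw [pw7_6]; decide +kernel
  he0 := by decide
  hfree := by
    intro ℓ hℓ hd
    have h := Nat.mem_divisors.2 ⟨hd, (by decide : 6 ≠ 0)⟩
    rw [show Nat.divisors 6 = {1, 2, 3, 6} by decide +kernel] at h
    simp only [Finset.mem_insert, Finset.mem_singleton] at h
    rcases h with rfl | rfl | rfl | rfl
    · exact absurd hℓ (by decide)
    · exact ⟨Matrix.of ![![3]], by rw [show 6 / 2 = 3 from rfl, pw7_3]; decide +kernel⟩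
    · exact ⟨Matrix.of ![![1]], by rw [show 6 / 3 = 2 from rfl, pw7_2]; decide +kernel⟩
    · exact absurd hℓ (by decide)
  htor := by
    intro r hr
    rw [Nat.card_eq_fintype_card]
    interval_cases r <;> decide +kernel

def a8 : Matrix (Fin 2) (Fin 2) (ZMod 7) := Matrix.of ![![0, 6], ![1, 0]]

theorem pw8_0 : a8 ^ 0 = Matrix.of ![![1, 0], ![0, 1]] := by rw [pow_zero]; decide +kernel

theorem pw8_1 : a8 ^ 1 = Matrix.of ![![0, 6], ![1, 0]] := by rw [pow_succ, pw8_0]; decide +kernel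

theorem pw8_2 : a8 ^ 2 = Matrix.of ![![6, 0], ![0, 6]] := by rw [pow_succ, pw8_1]; decide +kernel

theorem pw8_3 : a8 ^ 3 = Matrix.of ![![0, 1], ![6, 0]] := by rw [pow_succ, pw8_2]; decide +kernel

theorem pw8_4 : a8 ^ 4 = Matrix.of ![![1, 0], ![0, 1]] := by rw [pow_succ, pw8_3]; decide +kernel

/-- Module `(7, 2, 4)`. -/
def md8 : Mdl where
  k := 7
  d := 2
  e := 4
  A := a8
  hk := ⟨by decide⟩
  he := by rw [pw8_4]; decide +kernel
  he0 := by decide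
  hfree := by
    intro ℓ hℓ hd
    have h := Nat.mem_divisors.2 ⟨hd, (by decide : 4 ≠ 0)⟩
    rw [show Nat.divisors 4 = {1, 2, 4} by decide +kernel] at h
    simp only [Finset.mem_insert, Finset.mem_singleton] at h
    rcases h with rfl | rfl | rfl
    · exact absurd hℓ (by decide)
    · exact ⟨Matrix.of ![![3, 0], ![0, 3]], by rw [show 4 / 2 = 2 from rfl, pw8_2]; decide +kernel⟩
    · exact absurd hℓ (by decide)
  htor := by
    intro r hr
    rw [Nat.card_eq_fintype_card]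
    interval_cases r <;> decide +kernel

def a9 : Matrix (Fin 2) (Fin 2) (ZMod 7) := Matrix.of ![![0, 3], ![1, 0]]

theorem pw9_0 : a9 ^ 0 = Matrix.of ![![1, 0], ![0, 1]] := by rw [pow_zero]; decide +kernel

theorem pw9_1 : a9 ^ 1 = Matrix.of ![![0, 3], ![1, 0]] := by rw [pow_succ, pw9_0]; decide +kernel

theorem pw9_2 : a9 ^ 2 = Matrix.of ![![3, 0], ![0, 3]] := by rw [pow_succ, pw9_1]; decide +kernel

theorem pw9_3 : a9 ^ 3 = Matrix.of ![![0, 2], ![3, 0]] := by rw [pow_succ, pw9_2]; decide +kernel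

theorem pw9_4 : a9 ^ 4 = Matrix.of ![![2, 0], ![0, 2]] := by rw [pow_succ, pw9_3]; decide +kernel

theorem pw9_5 : a9 ^ 5 = Matrix.of ![![0, 6], ![2, 0]] := by rw [pow_succ, pw9_4]; decide +kernel

theorem pw9_6 : a9 ^ 6 = Matrix.of ![![6, 0], ![0, 6]] := by rw [pow_succ, pw9_5]; decide +kernel

theorem pw9_7 : a9 ^ 7 = Matrix.of ![![0, 4], ![6, 0]] := by rw [pow_succ, pw9_6]; decide +kernel

theorem pw9_8 : a9 ^ 8 = Matrix.of ![![4, 0], ![0, 4]] := by rw [pow_succ, pw9_7]; decide +kernel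

theorem pw9_9 : a9 ^ 9 = Matrix.of ![![0, 5], ![4, 0]] := by rw [pow_succ, pw9_8]; decide +kernel

theorem pw9_10 : a9 ^ 10 = Matrix.of ![![5, 0], ![0, 5]] := by rw [pow_succ, pw9_9]; decide +kernel

theorem pw9_11 : a9 ^ 11 = Matrix.of ![![0, 1], ![5, 0]] := by rw [pow_succ, pw9_10]; decide +kernel

theorem pw9_12 : a9 ^ 12 = Matrix.of ![![1, 0], ![0, 1]] := by rw [pow_succ, pw9_11]; decide +kernel

/-- Module `(7, 2, 12)`. -/
def md9 : Mdl where
  k := 7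
  d := 2
  e := 12
  A := a9
  hk := ⟨by decide⟩
  he := by rw [pw9_12]; decide +kernel
  he0 := by decide
  hfree := by
    intro ℓ hℓ hd
    have h := Nat.mem_divisors.2 ⟨hd, (by decide : 12 ≠ 0)⟩
    rw [show Nat.divisors 12 = {1, 2, 3, 4, 6, 12} by decide +kernel] at h
    simp only [Finset.mem_insert, Finset.mem_singleton] at h
    rcases h with rfl | rfl | rfl | rfl | rfl | rfl
    · exact absurd hℓ (by decide)
    · exact ⟨Matrix.of ![![3, 0], ![0, 3]], by rw [show 12 / 2 = 6 from rfl, pw9_6]; decide +kernel⟩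
    · exact ⟨Matrix.of ![![1, 0], ![0, 1]], by rw [show 12 / 3 = 4 from rfl, pw9_4]; decide +kernel⟩
    · exact absurd hℓ (by decide)
    · exact absurd hℓ (by decide)
    · exact absurd hℓ (by decide)
  htor := by
    intro r hr
    rw [Nat.card_eq_fintype_card]
    interval_cases r <;> decide +kernel

/-- Exponents. -/
def expP : Fin 20 → ℕ := ![54, 18, 20, 18, 48, 12, 6, 6, 11, 36, 36, 12, 12, 6, 12, 12, 6, 6, 6, 6]

/-- Block P0. -/
def bP0 : Blk where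
  m := 4
  t := 0
  M := ![]
  hm := ⟨by decide⟩
  hdvd := by intro j; fin_cases j <;> decide

/-- Block P1. -/
def bP1 : Blk where
  m := 4
  t := 1
  M := ![md3]
  hm := ⟨by decide⟩
  hdvd := by intro j; fin_cases j <;> decide

/-- Block P2. -/
def bP2 : Blk where
  m := 3
  t := 1
  M := ![md6]
  hm := ⟨by decide⟩
  hdvd := by intro j; fin_cases j <;> decide

/-- Block P3. -/
def bP3 : Blk where
  m := 2
  t := 2
  M := ![md3, md3]
  hm := ⟨by decide⟩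
  hdvd := by intro j; fin_cases j <;> decide

/-- Block P4. -/
def bP4 : Blk where
  m := 6
  t := 1
  M := ![md7]
  hm := ⟨by decide⟩
  hdvd := by intro j; fin_cases j <;> decide

/-- Block P5. -/
def bP5 : Blk where
  m := 3
  t := 2
  M := ![md0, md6]
  hm := ⟨by decide⟩
  hdvd := by intro j; fin_cases j <;> decide

/-- Block P6. -/
def bP6 : Blk where
  m := 3
  t := 1
  M := ![md0]
  hm := ⟨by decide⟩
  hdvd := by intro j; fin_cases j <;> decide

/-- Block P7. -/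
def bP7 : Blk where
  m := 2
  t := 2
  M := ![md3, md5]
  hm := ⟨by decide⟩
  hdvd := by intro j; fin_cases j <;> decide

/-- Block P8. -/
def bP8 : Blk where
  m := 2
  t := 2
  M := ![md5, md5]
  hm := ⟨by decide⟩
  hdvd := by intro j; fin_cases j <;> decide

/-- Block P9. -/
def bP9 : Blk where
  m := 4
  t := 3
  M := ![md3, md3, md5]
  hm := ⟨by decide⟩
  hdvd := by intro j; fin_cases j <;> decide

/-- Block P10. -/
def bP10 : Blk where
  m := 12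
  t := 2
  M := ![md7, md5]
  hm := ⟨by decide⟩
  hdvd := by intro j; fin_cases j <;> decide

/-- Block P11. -/
def bP11 : Blk where
  m := 3
  t := 2
  M := ![md4, md6]
  hm := ⟨by decide⟩
  hdvd := by intro j; fin_cases j <;> decide

/-- Block P12. -/
def bP12 : Blk where
  m := 12
  t := 2
  M := ![md7, md7]
  hm := ⟨by decide⟩
  hdvd := by intro j; fin_cases j <;> decide

/-- Block P13. -/
def bP13 : Blk where
  m := 12
  t := 1
  M := ![md9]
  hm := ⟨by decide⟩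
  hdvd := by intro j; fin_cases j <;> decide

/-- Block P14. -/
def bP14 : Blk where
  m := 3
  t := 3
  M := ![md0, md0, md4]
  hm := ⟨by decide⟩
  hdvd := by intro j; fin_cases j <;> decide

/-- Block P15. -/
def bP15 : Blk where
  m := 3
  t := 3
  M := ![md4, md4, md6]
  hm := ⟨by decide⟩
  hdvd := by intro j; fin_cases j <;> decide

/-- Block P16. -/
def bP16 : Blk where
  m := 7
  t := 1
  M := ![md1]
  hm := ⟨by decide⟩
  hdvd := by intro j; fin_cases j <;> decide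

/-- Block P17. -/
def bP17 : Blk where
  m := 7
  t := 2
  M := ![md1, md1]
  hm := ⟨by decide⟩
  hdvd := by intro j; fin_cases j <;> decide

/-- Block P18. -/
def bP18 : Blk where
  m := 6
  t := 3
  M := ![md7, md7, md7]
  hm := ⟨by decide⟩
  hdvd := by intro j; fin_cases j <;> decide

/-- Block P19. -/
def bP19 : Blk where
  m := 12
  t := 2
  M := ![md9, md5]
  hm := ⟨by decide⟩
  hdvd := by intro j; fin_cases j <;> decide

/-- The blocks. -/
def blkP : Fin 20 → Blk := ![bP0, bP1, bP2, bP3, bP4, bP5, bP6, bP7, bP8, bP9, bP10, bP11, bP12, bP13, bP14, bP15, bP16, bP17, bP18, bP19]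

/-- Exponents. -/
def expN : Fin 22 → ℕ := ![24, 12, 6, 8, 42, 15, 6, 6, 3, 84, 21, 12, 14, 12, 12, 12, 12, 6, 6, 6, 6, 6]

/-- Block N0. -/
def bN0 : Blk where
  m := 2
  t := 0
  M := ![]
  hm := ⟨by decide⟩
  hdvd := by intro j; fin_cases j <;> decide

/-- Block N1. -/
def bN1 : Blk where
  m := 3
  t := 0
  M := ![]
  hm := ⟨by decide⟩
  hdvd := by intro j; fin_cases j <;> decide

/-- Block N2. -/
def bN2 : Blk where
  m := 2
  t := 1
  M := ![md3]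
  hm := ⟨by decide⟩
  hdvd := by intro j; fin_cases j <;> decide

/-- Block N3. -/
def bN3 : Blk where
  m := 7
  t := 0
  M := ![]
  hm := ⟨by decide⟩
  hdvd := by intro j; fin_cases j <;> decide

/-- Block N4. -/
def bN4 : Blk where
  m := 4
  t := 2
  M := ![md3, md3]
  hm := ⟨by decide⟩
  hdvd := by intro j; fin_cases j <;> decide

/-- Block N5. -/
def bN5 : Blk where
  m := 2
  t := 1
  M := ![md5]
  hm := ⟨by decide⟩
  hdvd := by intro j; fin_cases j <;> decide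

/-- Block N6. -/
def bN6 : Blk where
  m := 3
  t := 1
  M := ![md4]
  hm := ⟨by decide⟩
  hdvd := by intro j; fin_cases j <;> decide

/-- Block N7. -/
def bN7 : Blk where
  m := 4
  t := 2
  M := ![md3, md5]
  hm := ⟨by decide⟩
  hdvd := by intro j; fin_cases j <;> decide

/-- Block N8. -/
def bN8 : Blk where
  m := 4
  t := 1
  M := ![md5]
  hm := ⟨by decide⟩
  hdvd := by intro j; fin_cases j <;> decide

/-- Block N9. -/
def bN9 : Blk where
  m := 12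
  t := 1
  M := ![md7]
  hm := ⟨by decide⟩
  hdvd := by intro j; fin_cases j <;> decide

/-- Block N10. -/
def bN10 : Blk where
  m := 4
  t := 2
  M := ![md5, md5]
  hm := ⟨by decide⟩
  hdvd := by intro j; fin_cases j <;> decide

/-- Block N11. -/
def bN11 : Blk where
  m := 2
  t := 3
  M := ![md3, md3, md5]
  hm := ⟨by decide⟩
  hdvd := by intro j; fin_cases j <;> decide

/-- Block N12. -/
def bN12 : Blk where
  m := 6
  t := 2
  M := ![md7, md5]
  hm := ⟨by decide⟩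
  hdvd := by intro j; fin_cases j <;> decide

/-- Block N13. -/
def bN13 : Blk where
  m := 3
  t := 4
  M := ![md0, md0, md4, md6]
  hm := ⟨by decide⟩
  hdvd := by intro j; fin_cases j <;> decide

/-- Block N14. -/
def bN14 : Blk where
  m := 3
  t := 3
  M := ![md0, md0, md6]
  hm := ⟨by decide⟩
  hdvd := by intro j; fin_cases j <;> decide

/-- Block N15. -/
def bN15 : Blk where
  m := 3
  t := 2
  M := ![md4, md4]
  hm := ⟨by decide⟩
  hdvd := by intro j; fin_cases j <;> decide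

/-- Block N16. -/
def bN16 : Blk where
  m := 6
  t := 2
  M := ![md7, md7]
  hm := ⟨by decide⟩
  hdvd := by intro j; fin_cases j <;> decide

/-- Block N17. -/
def bN17 : Blk where
  m := 4
  t := 3
  M := ![md3, md5, md5]
  hm := ⟨by decide⟩
  hdvd := by intro j; fin_cases j <;> decide

/-- Block N18. -/
def bN18 : Blk where
  m := 21
  t := 2
  M := ![md2, md0]
  hm := ⟨by decide⟩
  hdvd := by intro j; fin_cases j <;> decide

/-- Block N19. -/
def bN19 : Blk where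
  m := 6
  t := 4
  M := ![md7, md7, md6, md5]
  hm := ⟨by decide⟩
  hdvd := by intro j; fin_cases j <;> decide

/-- Block N20. -/
def bN20 : Blk where
  m := 3
  t := 2
  M := ![md6, md6]
  hm := ⟨by decide⟩
  hdvd := by intro j; fin_cases j <;> decide

/-- Block N21. -/
def bN21 : Blk where
  m := 12
  t := 2
  M := ![md7, md8]
  hm := ⟨by decide⟩
  hdvd := by intro j; fin_cases j <;> decide

/-- The blocks. -/
def blkN : Fin 22 → Blk := ![bN0, bN1, bN2, bN3, bN4, bN5, bN6, bN7, bN8, bN9, bN10, bN11, bN12, bN13, bN14, bN15, bN16, bN17, bN18, bN19, bN20, bN21]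

end Cfsg.Agent.Perm.OrderType
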