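import Cfsg.Agent.Lib.Perm.OrderType
import Mathlib.LinearAlgebra.Matrix.GeneralLinearGroup.Defs
import Mathlib.LinearAlgebra.Matrix.Notation
import Mathlib.Tactic.FinCases

/-!
The group of invertible 3 × 3 matrices over two elements: solutions of `x ^ n = 1`, non-solvability.
-/

set_option autoImplicit false

namespace Cfsg.Agent.Perm.OrderType

open Finset
open scoped commutatorElement

/-- The general linear group of degree three over two elements. -/
abbrev L32 : Type := Matrix.GeneralLinearGroup (Fin 3) (ZMod 2)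

/-- A row as a number. -/
def encRow (v : Fin 3 → ZMod 2) : ℕ := (v 0).val + 2 * (v 1).val + 4 * (v 2).val

/-- A matrix as three numbers. -/
def enc (M : Matrix (Fin 3) (Fin 3) (ZMod 2)) : ℕ × ℕ × ℕ := (encRow (M 0), encRow (M 1), encRow (M 2))

/-- Row times matrix. -/
def rowMul (r : ℕ) (N : ℕ × ℕ × ℕ) : ℕ :=
  Nat.xor (Nat.xor (r % 2 * N.1) (r / 2 % 2 * N.2.1)) (r / 4 % 2 * N.2.2)

/-- Product of encoded matrices. -/
def encMul (M N : ℕ × ℕ × ℕ) : ℕ × ℕ × ℕ := (rowMul M.1 N, rowMul M.2.1 N, rowMul M.2.2 N)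

/-- Power of an encoded matrix. -/
def encPow (M : ℕ × ℕ × ℕ) : ℕ → ℕ × ℕ × ℕ
  | 0 => (1, 2, 4)
  | n + 1 => encMul (encPow M n) M

theorem encRow_mul : ∀ r a b c : Fin 3 → ZMod 2,
    encRow (fun j => r 0 * a j + r 1 * b j + r 2 * c j) =
      rowMul (encRow r) (encRow a, encRow b, encRow c) := by
  unfold encRow rowMul
  decide +kernel

theorem enc_mul (M N : Matrix (Fin 3) (Fin 3) (ZMod 2)) : enc (M * N) = encMul (enc M) (enc N) := by
  have h : ∀ i, encRow ((M * N) i) = rowMul (encRow (M i)) (enc N) := by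
    intro i
    rw [enc, ← encRow_mul]
    congr 1
    funext j
    rw [Matrix.mul_apply, Fin.sum_univ_three]
  simp only [enc, encMul] at h ⊢
  rw [h 0, h 1, h 2]

theorem enc_one : enc 1 = (1, 2, 4) := by decide +kernel

theorem enc_pow (M : Matrix (Fin 3) (Fin 3) (ZMod 2)) (n : ℕ) : enc (M ^ n) = encPow (enc M) n := by
  induction n with
  | zero => rw [pow_zero, enc_one]; rfl
  | succ n ih => rw [pow_succ, enc_mul, ih]; rfl

/-- The encoded matrices. -/
def tab : Finset (ℕ × ℕ × ℕ) := range 8 ×ˢ range 8 ×ˢ range 8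

theorem encRow_inj : ∀ v w : Fin 3 → ZMod 2, encRow v = encRow w → v = w := by
  unfold encRow; decide +kernel

theorem encRow_lt : ∀ v : Fin 3 → ZMod 2, encRow v < 8 := by
  unfold encRow; decide +kernel

theorem encRow_surj : ∀ r : Fin 8, ∃ v : Fin 3 → ZMod 2, encRow v = r.val := by
  unfold encRow; decide +kernel

theorem enc_inj {M N : Matrix (Fin 3) (Fin 3) (ZMod 2)} (h : enc M = enc N) : M = N := by
  simp only [enc, Prod.mk.injEq] at h
  funext i
  fin_cases i
  · exact encRow_inj _ _ h.1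
  · exact encRow_inj _ _ h.2.1
  · exact encRow_inj _ _ h.2.2

theorem sol_L32 {n : ℕ} (hn : 0 < n) :
    sol L32 n = (tab.filter fun M => encPow M n = (1, 2, 4)).card := by
  classical
  have e : {g : L32 // g ^ n = 1} ≃ {M : Matrix (Fin 3) (Fin 3) (ZMod 2) // M ^ n = 1} :=
    { toFun := fun g => ⟨g.1.val, by rw [← Units.val_pow_eq_pow_val, g.2, Units.val_one]⟩
      invFun := fun M => ⟨Units.ofPowEqOne M.1 n M.2 hn.ne', Units.ext M.2⟩
      left_inv := fun g => Subtype.ext (Units.ext rfl)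
      right_inv := fun M => rfl }
  rw [sol, Nat.card_congr e, Nat.card_eq_fintype_card, Fintype.card_subtype]
  refine Finset.card_bij (fun M _ => enc M) (fun M hM => ?_) (fun M _ N _ h => enc_inj h) fun t ht => ?_
  · rw [Finset.mem_filter] at hM ⊢
    refine ⟨?_, by rw [← enc_pow, hM.2, enc_one]⟩
    simp [tab, enc, encRow_lt]
  · rw [Finset.mem_filter] at ht
    obtain ⟨ht, hp⟩ := ht
    simp only [tab, Finset.mem_product, Finset.mem_range] at ht
    obtain ⟨u, hu⟩ := encRow_surj ⟨t.1, ht.1⟩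
    obtain ⟨v, hv⟩ := encRow_surj ⟨t.2.1, ht.2.1⟩
    obtain ⟨w, hw⟩ := encRow_surj ⟨t.2.2, ht.2.2⟩
    have he : enc (Matrix.of ![u, v, w]) = t := by
      show (encRow u, encRow v, encRow w) = t
      rw [hu, hv, hw]
    refine ⟨Matrix.of ![u, v, w], Finset.mem_filter.2 ⟨Finset.mem_univ _, enc_inj ?_⟩, he⟩
    rw [enc_pow, he, hp, enc_one]

theorem not_isSolvable_L32 : ¬ Group.IsSolvable L32 := by
  let x : L32 := ⟨!![0, 0, 1; 0, 1, 0; 1, 0, 0], !![0, 0, 1; 0, 1, 0; 1, 0, 0],
    by decide +kernel, by decide +kernel⟩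
  let g : L32 := ⟨!![1, 1, 0; 1, 1, 1; 1, 0, 0], !![0, 0, 1; 1, 0, 1; 1, 1, 0],
    by decide +kernel, by decide +kernel⟩
  let h : L32 := ⟨!![1, 1, 0; 1, 0, 0; 0, 1, 1], !![0, 1, 0; 1, 1, 0; 1, 1, 1],
    by decide +kernel, by decide +kernel⟩
  have key : x = ⁅g * x * g⁻¹, h * x * h⁻¹⁆ := by
    refine Units.ext ?_
    simp only [commutatorElement_def, Units.val_mul, mul_inv_rev, inv_inv]
    decide +kernel
  have hx : x ≠ 1 := fun e => absurd (congrArg Units.val e) (by decide +kernel)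
  refine not_isSolvable_of_mem_derivedSeries hx fun n => ?_
  induction n with
  | zero => exact Subgroup.mem_top x
  | succ n ih =>
    rw [key]
    exact Subgroup.commutator_mem_commutator ((derivedSeries_normal _ _).conj_mem _ ih _)
      ((derivedSeries_normal _ _).conj_mem _ ih _)

end Cfsg.Agent.Perm.OrderType
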