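import Mathlib
import Cfsg.Agent.Lib.Fusion.Dihedral

/-!
# Subgroups with a normal Sylow subgroup and cyclic quotient
-/

set_option autoImplicit false

open scoped Pointwise commutatorElement

namespace Cfsg.Agent.Perm.PByCyclic

variable {G : Type*} [Group G] [Finite G] {p : ℕ} [Fact p.Prime]

/-- Every Sylow subgroup is normal with cyclic quotient. -/
def Hyp (p : ℕ) (H : Type*) [Group H] : Prop :=
  (∀ S : Sylow p H, (S : Subgroup H).Normal) ∧
    ∀ (S : Sylow p H) [(S : Subgroup H).Normal], IsCyclic (H ⧸ (S : Subgroup H))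

theorem hyp_of_normal {H : Type*} [Group H] [Finite H] (N : Subgroup H) [N.Normal] (hN : IsPGroup p N)
    [IsCyclic (H ⧸ N)] : Hyp p H := by
  haveI := IsCyclic.isMulCommutative (α := H ⧸ N)
  have hle : ∀ S : Sylow p H, N ≤ (S : Subgroup H) := fun S => by
    have h1 : IsPGroup p ↥((S : Subgroup H) ⊔ N) := S.2.to_sup_of_normal_right hN
    have h2 := S.3 h1 le_sup_left
    exact le_of_le_of_eq le_sup_right h2
  have hcomm : ∀ a b : H, a * b * a⁻¹ * b⁻¹ ∈ N := fun a b => by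
    rw [← QuotientGroup.eq_one_iff]
    rw [QuotientGroup.mk_mul, QuotientGroup.mk_mul, QuotientGroup.mk_mul, QuotientGroup.mk_inv,
      QuotientGroup.mk_inv, mul_comm' (a : H ⧸ N) (b : H ⧸ N)]
    group
  refine ⟨fun S => ⟨fun n hn g => ?_⟩, fun S hS => ?_⟩
  · have := hle S (hcomm g n)
    have h2 := (S : Subgroup H).mul_mem this hn
    simpa using h2
  · exact isCyclic_of_surjective (QuotientGroup.map N (S : Subgroup H) (MonoidHom.id H) (hle S))
      (by
        intro q
        induction q using QuotientGroup.induction_on with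
        | H g => exact ⟨(g : H ⧸ N), rfl⟩)

/-- A p-subgroup extended by an element normalising it. -/
theorem hyp_sup (S : Subgroup G) (hS : IsPGroup p S) {x : G}
    (hx : x ∈ Subgroup.normalizer (S : Set G)) : Hyp p ↥(S ⊔ Subgroup.zpowers x) := by
  set H := S ⊔ Subgroup.zpowers x with hHdef
  haveI hnorm : (S.subgroupOf H).Normal :=
    (Subgroup.normal_subgroupOf_iff_le_normalizer le_sup_left).2
      (sup_le Subgroup.le_normalizer (Subgroup.zpowers_le.2 hx))
  have hp' : IsPGroup p ↥(S.subgroupOf H) :=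
    hS.of_equiv (Subgroup.subgroupOfEquivOfLe le_sup_left).symm
  let xh : ↥H := ⟨x, le_sup_right (a := S) (Subgroup.mem_zpowers x)⟩
  haveI : IsCyclic (↥H ⧸ S.subgroupOf H) := by
    refine ⟨(xh : ↥H ⧸ S.subgroupOf H), fun q => ?_⟩
    induction q using QuotientGroup.induction_on with
    | H g =>
      let K := (Subgroup.zpowers (xh : ↥H ⧸ S.subgroupOf H)).comap (QuotientGroup.mk' (S.subgroupOf H))
      have hK : H ≤ K.map H.subtype := by
        refine sup_le (fun s hs => ?_) (Subgroup.zpowers_le.2 ⟨xh, Subgroup.mem_zpowers _, rfl⟩)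
        have hs' : (⟨s, le_sup_left (b := Subgroup.zpowers x) hs⟩ : ↥H) ∈ S.subgroupOf H :=
          Subgroup.mem_subgroupOf.2 hs
        refine ⟨⟨s, le_sup_left (b := Subgroup.zpowers x) hs⟩, ?_, rfl⟩
        show ((⟨s, _⟩ : ↥H) : ↥H ⧸ S.subgroupOf H) ∈ Subgroup.zpowers (xh : ↥H ⧸ S.subgroupOf H)
        rw [(QuotientGroup.eq_one_iff _).2 hs']
        exact one_mem _
      obtain ⟨g', hg', e⟩ := hK g.2
      have : g' = g := Subtype.ext e
      exact this ▸ hg'
  exact hyp_of_normal (S.subgroupOf H) hp'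

/-- An automorphism of p'-order of a cyclic p-group fixing the socle is trivial. -/
theorem commute_of_fix {s y : G} {j : ℕ} (hs : orderOf s = p ^ (j + 1))
    (hy : ¬ p ∣ orderOf y) (hn : y * s * y⁻¹ ∈ Subgroup.zpowers s)
    (hf : Commute y (s ^ p ^ j)) : Commute y s := by
  obtain ⟨k, hk⟩ := Subgroup.mem_zpowers_iff.1 hn
  have hp := (Fact.out : p.Prime)
  have h1 : s ^ (k * (p ^ j : ℕ)) = s ^ ((p ^ j : ℕ) : ℤ) := by
    rw [zpow_mul, hk, zpow_natCast, zpow_natCast, conj_pow, hf.eq, mul_inv_cancel_right]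
  have h2 : (p : ℤ) ∣ k - 1 := by
    rw [← mul_inv_eq_one, ← zpow_sub] at h1
    have h3 := orderOf_dvd_iff_zpow_eq_one.2 h1
    rw [hs] at h3
    push_cast at h3
    rw [pow_succ, show k * (p : ℤ) ^ j - (p : ℤ) ^ j = (p : ℤ) ^ j * (k - 1) by ring] at h3
    exact (mul_dvd_mul_iff_left (pow_ne_zero _ (by exact_mod_cast hp.ne_zero))).1 h3
  have h3 := dvd_sub_pow_of_dvd_sub h2 j
  rw [one_pow] at h3
  have hit : ∀ m : ℕ, y ^ m * s * (y ^ m)⁻¹ = s ^ (k ^ m) := by
    intro m
    induction m with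
    | zero => simp
    | succ m ih =>
      rw [pow_succ, mul_inv_rev, show y ^ m * y * s * (y⁻¹ * (y ^ m)⁻¹) =
        y ^ m * (y * s * y⁻¹) * (y ^ m)⁻¹ by group, ← hk, ← conj_zpow, ih, ← zpow_mul,
        pow_succ k m]
  have h4 : Commute (y ^ p ^ j) s := by
    have e : s ^ (k ^ (p ^ j)) = s := by
      have : s ^ (k ^ (p ^ j) - 1) = 1 := by
        rw [← orderOf_dvd_iff_zpow_eq_one, hs]
        exact_mod_cast h3
      rw [zpow_sub, zpow_one, mul_inv_eq_one] at this
      exact this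
    exact mul_inv_eq_iff_eq_mul.1 ((hit _).trans e)
  have hcop : (p ^ j).Coprime (orderOf y) := Nat.Coprime.pow_left j (hp.coprime_iff_not_dvd.2 hy)
  obtain ⟨t, ht⟩ := exists_pow_eq_self_of_coprime hcop
  exact ht ▸ h4.pow_left t

/-- A p'-element generating modulo a normal Sylow subgroup. -/
theorem exists_lift {H : Type*} [Group H] [Finite H] (S : Subgroup H) [S.Normal]
    (hidx : ¬ p ∣ S.index) [IsCyclic (H ⧸ S)] :
    ∃ y : H, ¬ p ∣ orderOf y ∧ S ⊔ Subgroup.zpowers y = ⊤ ∧ Nat.card H ≤ Nat.card S * orderOf y := by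
  have hp := (Fact.out : p.Prime)
  obtain ⟨q, hq⟩ := IsCyclic.exists_ofOrder_eq_natCard (α := H ⧸ S)
  obtain ⟨h, rfl⟩ := QuotientGroup.mk_surjective q
  obtain ⟨a, m, hm, ha⟩ := Nat.exists_eq_pow_mul_and_not_dvd (orderOf_pos h).ne' p hp.ne_one
  have ho : orderOf (h ^ p ^ a) = m := by
    rw [orderOf_pow_of_dvd (pow_ne_zero _ hp.ne_zero) ⟨m, ha⟩, ha,
      Nat.mul_div_cancel_left _ (pow_pos hp.pos _)]
  have hbar : orderOf ((h ^ p ^ a : H) : H ⧸ S) = Nat.card (H ⧸ S) := by
    rw [QuotientGroup.mk_pow, Nat.Coprime.orderOf_pow, hq]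
    rw [hq, ← Subgroup.index_eq_card]
    exact (Nat.Coprime.pow_left a (hp.coprime_iff_not_dvd.2 hidx)).symm
  refine ⟨h ^ p ^ a, by rw [ho]; exact hm, ?_, ?_⟩
  · refine eq_top_iff.2 fun g _ => ?_
    have htop : Subgroup.zpowers ((h ^ p ^ a : H) : H ⧸ S) = ⊤ :=
      Subgroup.eq_top_of_card_eq _ (by rw [Nat.card_zpowers, hbar])
    have hg : (g : H ⧸ S) ∈ Subgroup.zpowers ((h ^ p ^ a : H) : H ⧸ S) := htop ▸ Subgroup.mem_top _
    obtain ⟨k, hk⟩ := Subgroup.mem_zpowers_iff.1 hg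
    have hS : g * ((h ^ p ^ a) ^ k)⁻¹ ∈ S := by
      rw [← QuotientGroup.eq_one_iff, QuotientGroup.mk_mul, QuotientGroup.mk_inv, QuotientGroup.mk_zpow,
        hk, mul_inv_cancel]
    have := Subgroup.mul_mem_sup hS (zpow_mem (Subgroup.mem_zpowers (h ^ p ^ a)) k)
    simpa using this
  · rw [← Subgroup.card_mul_index S, Subgroup.index_eq_card, ← hbar]
    exact Nat.mul_le_mul_left _ (Nat.le_of_dvd (orderOf_pos _) (orderOf_map_dvd (QuotientGroup.mk' S) _))

/-- A group generated by commuting cyclic parts of coprime orders is cyclic. -/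
theorem cyclic_of_commute {H : Type*} [Group H] [Finite H] {s y : H} (hc : Commute s y)
    (hco : (orderOf s).Coprime (orderOf y)) (hle : Nat.card H ≤ orderOf s * orderOf y) : IsCyclic H := by
  refine isCyclic_of_orderOf_eq_card (s * y) (le_antisymm (Nat.le_of_dvd Nat.card_pos (orderOf_dvd_natCard _)) ?_)
  rw [hc.orderOf_mul_eq_mul_orderOf_of_coprime hco]
  exact hle

end Cfsg.Agent.Perm.PByCyclic
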