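import Mathlib

/-!
# Permutations of prime order: classes and invariant subsets
-/

set_option autoImplicit false

namespace Cfsg.Agent.Perm.PrimeOrderPerm

open Equiv

theorem exists_of_replicate (n j r : ℕ) (hr : 2 ≤ r) (hj : j * r ≤ n) :
    ∃ g : Perm (Fin n), g.cycleType = Multiset.replicate j r := by
  refine (Equiv.Perm.exists_with_cycleType_iff (Fin n)).2 ⟨?_, fun a ha => ?_⟩
  · simpa [Multiset.sum_replicate] using hj
  · rw [Multiset.eq_of_mem_replicate ha]; exact hr

theorem derangement_classes (n : ℕ) (hn : 1 ≤ n) :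
    Nat.card {c : ConjClasses (Perm (Fin n)) // ∃ g : Perm (Fin n),
      ConjClasses.mk g = c ∧ (orderOf g).Prime ∧ ∀ i : Fin n, g i ≠ i} = n.primeFactors.card := by
  classical
  have hex : ∀ p : n.primeFactors, ∃ g : Perm (Fin n),
      g.cycleType = Multiset.replicate (n / p) (p : ℕ) := fun p =>
    exists_of_replicate n _ _ (Nat.prime_of_mem_primeFactors p.2).two_le (Nat.div_mul_le_self _ _)
  choose g hg using hex
  have hord : ∀ p : n.primeFactors, orderOf (g p) = p ∧ ∀ i, g p i ≠ i := by
    intro p
    have hp := Nat.prime_of_mem_primeFactors p.2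
    have hpn := Nat.dvd_of_mem_primeFactors p.2
    have hpos : 1 ≤ n / p := Nat.div_pos (Nat.le_of_dvd (by omega) hpn) hp.pos
    constructor
    · rw [← Equiv.Perm.lcm_cycleType, hg]
      refine Nat.dvd_antisymm (Multiset.lcm_dvd.2 fun a ha => by rw [Multiset.eq_of_mem_replicate ha]) ?_
      exact Multiset.dvd_lcm (Multiset.mem_replicate.2 ⟨by omega, rfl⟩)
    · intro i
      have hsum : (g p).support.card = n := by
        rw [← Equiv.Perm.sum_cycleType, hg, Multiset.sum_replicate, smul_eq_mul, Nat.div_mul_cancel hpn]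
      have := (Finset.eq_univ_of_card _ (hsum.trans (Fintype.card_fin n).symm)) ▸ Finset.mem_univ i
      exact Equiv.Perm.mem_support.1 this
  let Φ : n.primeFactors → {c : ConjClasses (Perm (Fin n)) // ∃ g : Perm (Fin n),
      ConjClasses.mk g = c ∧ (orderOf g).Prime ∧ ∀ i : Fin n, g i ≠ i} := fun p =>
    ⟨ConjClasses.mk (g p), g p, rfl, (hord p).1.symm ▸ Nat.prime_of_mem_primeFactors p.2, (hord p).2⟩
  have hb : Function.Bijective Φ := by
    constructor
    · intro p q h
      have hc : IsConj (g p) (g q) := ConjClasses.mk_eq_mk_iff_isConj.1 (congrArg Subtype.val h)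
      apply Subtype.ext
      rw [← (hord p).1, ← (hord q).1, ← Equiv.Perm.lcm_cycleType, ← Equiv.Perm.lcm_cycleType,
        Equiv.Perm.isConj_iff_cycleType_eq.1 hc]
    · rintro ⟨c, τ, rfl, hτ, hfp⟩
      obtain ⟨k, hk⟩ := Equiv.Perm.cycleType_prime_order hτ
      have hsum : n = (k + 1) * orderOf τ := by
        have h := Equiv.Perm.sum_cycleType τ
        rw [hk, Multiset.sum_replicate, smul_eq_mul, show τ.support = Finset.univ from
          Finset.eq_univ_iff_forall.2 fun i => Equiv.Perm.mem_support.2 (hfp i), Finset.card_univ,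
          Fintype.card_fin] at h
        exact h.symm
      have hmem : orderOf τ ∈ n.primeFactors :=
        Nat.mem_primeFactors.2 ⟨hτ, ⟨k + 1, hsum.trans (mul_comm _ _)⟩, by omega⟩
      refine ⟨⟨_, hmem⟩, Subtype.ext (ConjClasses.mk_eq_mk_iff_isConj.2
        (Equiv.Perm.isConj_iff_cycleType_eq.2 ?_))⟩
      rw [hg, hk]
      congr 1
      exact Nat.div_eq_of_eq_mul_left hτ.pos hsum
  rw [← Nat.card_congr (Equiv.ofBijective Φ hb), Nat.card_eq_fintype_card, Fintype.card_coe]

theorem invariant_iff {n k r : ℕ} (hr : r.Prime) (hrn : r ≤ n) (hk : k ≤ n) :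
    (∀ σ : Perm (Fin n), orderOf σ = r → ∃ s : Finset (Fin n), s.card = k ∧ s.image σ = s) ↔
      k % r ≤ n % r := by
  classical
  have : Fact r.Prime := ⟨hr⟩
  have hq : 1 ≤ n / r := Nat.div_pos hrn hr.pos
  constructor
  · intro h
    obtain ⟨σ, hσ⟩ := exists_of_replicate n (n / r) r hr.two_le (Nat.div_mul_le_self _ _)
    have hord : orderOf σ = r := by
      rw [← Equiv.Perm.lcm_cycleType, hσ]
      refine Nat.dvd_antisymm (Multiset.lcm_dvd.2 fun a ha => by rw [Multiset.eq_of_mem_replicate ha]) ?_
      exact Multiset.dvd_lcm (Multiset.mem_replicate.2 ⟨by omega, rfl⟩)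
    obtain ⟨s, hs, himg⟩ := h σ hord
    have hinv : ∀ x, x ∈ s ↔ σ x ∈ s := by
      intro x
      constructor
      · intro hx; rw [← himg]; exact Finset.mem_image_of_mem σ hx
      · intro hx
        rw [← himg, Finset.mem_image] at hx
        obtain ⟨y, hy, e⟩ := hx
        rwa [← σ.injective e]
    let τ : Perm s := σ.subtypePerm fun x => (hinv x).symm
    have hτ : τ ^ r = 1 := by
      apply Equiv.ext
      intro x
      apply Subtype.ext
      have : σ ^ r = 1 := by rw [← hord, pow_orderOf_eq_one]
      rw [Equiv.Perm.subtypePerm_pow]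
      simp [this]
    have hdvd : r ∣ τ.support.card := by
      rw [← Equiv.Perm.sum_cycleType]
      exact Multiset.dvd_sum fun a ha => by rw [Equiv.Perm.pow_prime_eq_one_iff.1 hτ a ha]
    have hfix : τ.supportᶜ.card ≤ n % r := by
      have h1 : σ.supportᶜ.card = n % r := by
        rw [Finset.card_compl, Fintype.card_fin, ← Equiv.Perm.sum_cycleType, hσ, Multiset.sum_replicate,
          smul_eq_mul]
        have := Nat.div_add_mod n r
        rw [mul_comm] at this
        omega
      rw [← h1]
      refine Finset.card_le_card_of_injOn (fun x : s => (x : Fin n)) (fun x hx => ?_)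
        (fun x _ y _ e => Subtype.ext e)
      simp only [Finset.coe_compl, Set.mem_compl_iff, SetLike.mem_coe, Equiv.Perm.mem_support, not_not] at hx ⊢
      exact congrArg Subtype.val hx
    have htot : τ.support.card + τ.supportᶜ.card = k := by
      rw [Finset.card_add_card_compl, Fintype.card_coe, hs]
    obtain ⟨t, ht⟩ := hdvd
    rw [ht] at htot
    have hlt : τ.supportᶜ.card < r := lt_of_le_of_lt hfix (Nat.mod_lt _ hr.pos)
    have : k % r = τ.supportᶜ.card := by
      rw [← htot, Nat.add_comm, Nat.add_mul_mod_self_left, Nat.mod_eq_of_lt hlt]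
    omega
  · intro hle σ hσ
    obtain ⟨j', hj⟩ := Equiv.Perm.cycleType_prime_order (σ := σ) (hσ.symm ▸ hr)
    rw [hσ] at hj
    obtain ⟨j, rfl⟩ : ∃ j, j = j' + 1 := ⟨_, rfl⟩
    have hsup : σ.support.card = (j' + 1) * r := by
      rw [← Equiv.Perm.sum_cycleType, hj, Multiset.sum_replicate, smul_eq_mul]
    have hjle : (j' + 1) * r ≤ n := hsup ▸ σ.support.card_le_univ.trans (Fintype.card_fin n).le
    let a := min (j' + 1) (k / r)
    have hcyc : σ.cycleFactorsFinset.card = j' + 1 := by
      have := congrArg Multiset.card hj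
      rw [Equiv.Perm.cycleType_def, Multiset.card_map, Multiset.card_replicate] at this
      exact this
    obtain ⟨A, hA, hAc⟩ := Finset.exists_subset_card_eq (s := σ.cycleFactorsFinset) (n := a)
      (hcyc ▸ min_le_left _ _)
    have hUc : (A.biUnion fun c => c.support).card = a * r := by
      rw [Finset.card_biUnion fun c hc d hd hcd =>
        Equiv.Perm.disjoint_iff_disjoint_support.1
          (Equiv.Perm.cycleFactorsFinset_pairwise_disjoint σ (hA hc) (hA hd) hcd)]
      rw [Finset.sum_congr rfl fun c hc => ?_, Finset.sum_const, hAc, smul_eq_mul]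
      have hm : c.support.card ∈ σ.cycleType := by
        rw [Equiv.Perm.cycleType_def]
        exact Multiset.mem_map.2 ⟨c, hA hc, rfl⟩
      rw [hj] at hm
      exact Multiset.eq_of_mem_replicate hm
    have hfix : k - a * r ≤ σ.supportᶜ.card := by
      rw [Finset.card_compl, Fintype.card_fin, hsup]
      rcases le_total (k / r) (j' + 1) with h | h
      · rw [show a = k / r from min_eq_right h]
        have h1 := Nat.div_add_mod k r
        have h2 := Nat.div_add_mod n r
        have h3 : (j' + 1) * r ≤ (n / r) * r :=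
          Nat.mul_le_mul_right r ((Nat.le_div_iff_mul_le hr.pos).2 hjle)
        rw [mul_comm] at h1 h2
        omega
      · rw [show a = j' + 1 from min_eq_left h]
        omega
    obtain ⟨B, hB, hBc⟩ := Finset.exists_subset_card_eq hfix
    have hak : a * r ≤ k :=
      (Nat.mul_le_mul_right r (min_le_right _ _)).trans (Nat.div_mul_le_self _ _)
    refine ⟨(A.biUnion fun c => c.support) ∪ B, ?_, ?_⟩
    · rw [Finset.card_union_of_disjoint ?_, hUc, hBc]
      · omega
      · rw [Finset.disjoint_left]
        intro x hx hxB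
        obtain ⟨c, hc, hxc⟩ := Finset.mem_biUnion.1 hx
        exact Finset.mem_compl.1 (hB hxB) (Equiv.Perm.mem_cycleFactorsFinset_support_le (hA hc) hxc)
    · refine Finset.eq_of_subset_of_card_le ?_ (le_of_eq (Finset.card_image_of_injective _ σ.injective).symm)
      intro y hy
      obtain ⟨x, hx, rfl⟩ := Finset.mem_image.1 hy
      rcases Finset.mem_union.1 hx with hx | hx
      · obtain ⟨c, hc, hxc⟩ := Finset.mem_biUnion.1 hx
        refine Finset.mem_union_left _ (Finset.mem_biUnion.2 ⟨c, hc, ?_⟩)
        rw [← (Equiv.Perm.mem_cycleFactorsFinset_iff.1 (hA hc)).2 x hxc]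
        exact Equiv.Perm.apply_mem_support.2 hxc
      · refine Finset.mem_union_right _ ?_
        have h := Finset.mem_compl.1 (hB hx)
        rw [Equiv.Perm.notMem_support] at h
        rwa [h]

theorem mod_lt_of_dvd_choose {n k r : ℕ} (hr : r.Prime) (h : r ∣ n.choose k) (hkr : k < r) :
    n % r < k := by
  by_contra hc
  push Not at hc
  have : Fact r.Prime := ⟨hr⟩
  have hL := Choose.choose_modEq_choose_mod_mul_choose_div_nat (p := r) (n := n) (k := k)
  rw [Nat.mod_eq_of_lt hkr, Nat.div_eq_of_lt hkr, Nat.choose_zero_right, mul_one] at hL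
  have hd : r ∣ (n % r).choose k := (Nat.ModEq.dvd_iff hL dvd_rfl).1 h
  have : r ∣ (n % r).factorial := by
    rw [← Nat.choose_mul_factorial_mul_factorial hc, mul_assoc]
    exact hd.trans (dvd_mul_right _ _)
  have := hr.dvd_factorial.1 this
  have := Nat.mod_lt n hr.pos
  omega

theorem le_of_dvd_choose {n k r : ℕ} (hr : r.Prime) (h : r ∣ n.choose k) (hk : k ≤ n) : r ≤ n := by
  apply hr.dvd_factorial.1
  rw [← Nat.choose_mul_factorial_mul_factorial hk, mul_assoc]
  exact h.trans (dvd_mul_right _ _)

end Cfsg.Agent.Perm.PrimeOrderPerm
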