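import Mathlib
import Cfsg.Prelude.Def_PLocal
import Cfsg.Agent.Lib.Perm.NilpFrattini

/-!
# Regular p-groups: powers and elements of bounded order
-/

set_option autoImplicit false

open scoped commutatorElement

namespace Cfsg.Agent.Perm

variable {G : Type*} [Group G] [Finite G] {p : ℕ} [hp : Fact p.Prime]

omit [Finite G] hp in
theorem powerClosure_eq_bot_of_pow_eq_one {D : Subgroup G} {k : ℕ} (h : ∀ g ∈ D, g ^ p ^ k = 1) :
    Cfsg.powerClosure p k D = ⊥ := by
  rw [Cfsg.powerClosure, Subgroup.closure_eq_bot_iff]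
  rintro _ ⟨x, hx, rfl⟩
  exact Set.mem_singleton_iff.2 (h x hx)

theorem regular_pow_mul_aux (hG : Cfsg.IsRegularPGroup p G) (k : ℕ) :
    ∀ n : ℕ, ∀ H : Subgroup G, Nat.card H = n → ∀ x ∈ H, ∀ y ∈ H,
      x ^ p ^ k = 1 → y ^ p ^ k = 1 →
      (x * y) ^ p ^ k = 1 ∧ ∀ g ∈ ⁅Subgroup.closure ({x, y} : Set G), Subgroup.closure ({x, y} : Set G)⁆,
        g ^ p ^ k = 1 := by
  intro n
  induction n using Nat.strong_induction_on with
  | _ n IH =>
  intro H0 hn x hx y hy hxq hyq
  set H := Subgroup.closure ({x, y} : Set G) with hH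
  have hxH : x ∈ H := Subgroup.subset_closure (Or.inl rfl)
  have hyH : y ∈ H := Subgroup.subset_closure (Or.inr rfl)
  have hHle : H ≤ H0 := (Subgroup.closure_le _).2 (by rintro g (rfl | rfl) <;> assumption)
  suffices hD : ∀ g ∈ ⁅H, H⁆, g ^ p ^ k = 1 by
    obtain ⟨c, hc, he⟩ := hG.2 x y k
    rw [powerClosure_eq_bot_of_pow_eq_one hD, Subgroup.mem_bot] at hc
    exact ⟨by rw [he, hxq, hyq, hc, one_mul, one_mul], hD⟩
  by_cases hlt : Nat.card H < n
  · exact fun g hg => (IH _ hlt H rfl x hxH y hyH hxq hyq).2 g hg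
  have hcard : Nat.card H = n := le_antisymm (hn ▸ Subgroup.card_le_of_le hHle) (not_lt.1 hlt)
  clear hlt
  by_cases hxy : x * y = y * x
  · intro g hg
    have hb : ⁅H, H⁆ = ⊥ := by
      rw [Subgroup.commutator_eq_bot_iff_le_centralizer, hH, Subgroup.centralizer_closure,
        Subgroup.closure_le]
      rintro a (rfl | rfl) b (rfl | rfl)
      exacts [rfl, hxy.symm, hxy, rfl]
    rw [hb, Subgroup.mem_bot] at hg
    rw [hg, one_pow]
  -- proper subgroups
  haveI : Group.IsNilpotent H := (hG.1.to_subgroup H).isNilpotent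
  set D : Subgroup H := commutator H with hD
  have hDmap : D.map H.subtype = ⁅H, H⁆ := Subgroup.map_subtype_commutator H
  set x' : H := ⟨x, hxH⟩
  set y' : H := ⟨y, hyH⟩
  have htop : Subgroup.closure ({x', y'} : Set H) = ⊤ := by
    apply Subgroup.map_injective H.subtype_injective
    rw [MonoidHom.map_closure, ← MonoidHom.range_eq_map, Subgroup.range_subtype, Set.image_pair]
    rfl
  set L : Subgroup H := Subgroup.zpowers x' ⊔ D with hL
  have hLne : L ≠ ⊤ := by
    intro h
    have h1 : Subgroup.zpowers x' = ⊤ :=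
      frattini_nongenerating (eq_top_iff.2 (h ▸ sup_le_sup_left commutator_le_frattini _))
    have h2 : y' ∈ Subgroup.zpowers x' := h1 ▸ Subgroup.mem_top _
    obtain ⟨i, hi⟩ := Subgroup.mem_zpowers_iff.1 h2
    have h3 : (x : G) ^ i = y := congrArg Subtype.val hi
    exact hxy (by rw [← h3]; exact ((Commute.refl x).zpow_right i).eq)
  have hlt : ∀ M : Subgroup H, M ≠ ⊤ → Nat.card (M.map H.subtype) < n := fun M hM => by
    rw [Subgroup.card_map_of_injective H.subtype_injective, ← hcard]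
    exact lt_of_le_of_ne (Nat.le_of_dvd Nat.card_pos (Subgroup.card_subgroup_dvd_card M))
      fun h => hM (Subgroup.eq_top_of_card_eq M h)
  have hcomm : (⁅x', y'⁆ : H) ^ p ^ k = 1 := by
    have hz : y' * x'⁻¹ * y'⁻¹ ∈ L := by
      have h1 : ⁅y', x'⁻¹⁆ ∈ D := Subgroup.commutator_mem_commutator trivial trivial
      have h2 := mul_mem (Subgroup.mem_sup_right (S := Subgroup.zpowers x') h1)
        (Subgroup.mem_sup_left (T := D) (inv_mem (Subgroup.mem_zpowers x')))
      rw [← hL, commutatorElement_def] at h2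
      simpa [mul_assoc] using h2
    have h := (IH _ (hlt L hLne) _ rfl x
      ⟨x', Subgroup.mem_sup_left (Subgroup.mem_zpowers x'), rfl⟩ (y * x⁻¹ * y⁻¹)
      ⟨_, hz, rfl⟩ hxq (by rw [conj_pow, inv_pow, hxq, inv_one, mul_one, mul_inv_cancel])).1
    refine Subtype.ext ?_
    show (x * y * x⁻¹ * y⁻¹) ^ p ^ k = 1
    rwa [← mul_assoc, ← mul_assoc] at h
  have hDne : D ≠ ⊤ := fun h => hLne (top_le_iff.1 (h ▸ (le_sup_right : D ≤ L)))
  let K : Subgroup H :=
    { carrier := {g | g ∈ D ∧ g ^ p ^ k = 1}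
      one_mem' := ⟨one_mem _, one_pow _⟩
      mul_mem' := fun {a b} ha hb => ⟨mul_mem ha.1 hb.1, Subtype.ext (IH _ (hlt D hDne) _ rfl (a : G)
        ⟨a, ha.1, rfl⟩ (b : G) ⟨b, hb.1, rfl⟩ (congrArg Subtype.val ha.2) (congrArg Subtype.val hb.2)).1⟩
      inv_mem' := fun {a} ha => ⟨inv_mem ha.1, by rw [inv_pow, ha.2, inv_one]⟩ }
  haveI : K.Normal := ⟨fun a ha g => ⟨Subgroup.Normal.conj_mem inferInstance a ha.1 g,
    by rw [conj_pow, ha.2, mul_one, mul_inv_cancel]⟩⟩
  have hDK : D ≤ K := by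
    have hc : Commute (QuotientGroup.mk' K x') (QuotientGroup.mk' K y') := by
      rw [← commutatorElement_eq_one_iff_commute, ← map_commutatorElement, QuotientGroup.mk'_apply,
        QuotientGroup.eq_one_iff]
      exact ⟨Subgroup.commutator_mem_commutator trivial trivial, hcomm⟩
    have hb : (D.map (QuotientGroup.mk' K)) = ⊥ := by
      rw [hD, commutator_def, Subgroup.map_commutator, Subgroup.commutator_eq_bot_iff_le_centralizer,
        ← htop, MonoidHom.map_closure, Subgroup.centralizer_closure, Subgroup.closure_le, Set.image_pair]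
      rintro a (rfl | rfl) b (rfl | rfl)
      exacts [rfl, hc.eq.symm, hc.eq, rfl]
    rwa [Subgroup.map_eq_bot_iff, QuotientGroup.ker_mk'] at hb
  intro g hg
  rw [← hDmap] at hg
  obtain ⟨a, ha, rfl⟩ := hg
  exact congrArg Subtype.val (hDK ha).2

theorem regular_pow_mul (hG : Cfsg.IsRegularPGroup p G) {k : ℕ} {x y : G}
    (hx : x ^ p ^ k = 1) (hy : y ^ p ^ k = 1) : (x * y) ^ p ^ k = 1 :=
  (regular_pow_mul_aux hG k _ ⊤ rfl x (Subgroup.mem_top x) y (Subgroup.mem_top y) hx hy).1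

/-- The elements killed by `p ^ k` form a subgroup. -/
def regularOmega (hG : Cfsg.IsRegularPGroup p G) (k : ℕ) : Subgroup G where
  carrier := {g | g ^ p ^ k = 1}
  one_mem' := one_pow _
  mul_mem' := fun ha hb => regular_pow_mul hG ha hb
  inv_mem' := fun {a} ha => by
    show a⁻¹ ^ p ^ k = 1
    rw [inv_pow, show a ^ p ^ k = 1 from ha, inv_one]

theorem regular_pow_eq_of_pow_eq_one (hG : Cfsg.IsRegularPGroup p G) {k : ℕ} {a b : G}
    (h : (a⁻¹ * b) ^ p ^ k = 1) : a ^ p ^ k = b ^ p ^ k := by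
  set u := a⁻¹ * b with hu
  obtain ⟨c, hc, he⟩ := hG.2 a u k
  have hab : a * u = b := by rw [hu, mul_inv_cancel_left]
  rw [hab, h, mul_one] at he
  suffices hD : ∀ g ∈ ⁅Subgroup.closure ({a, u} : Set G), Subgroup.closure ({a, u} : Set G)⁆,
      g ^ p ^ k = 1 by
    rw [powerClosure_eq_bot_of_pow_eq_one hD, Subgroup.mem_bot] at hc
    rw [he, hc, mul_one]
  set H := Subgroup.closure ({a, u} : Set G) with hH
  set W := regularOmega hG k
  haveI hW : W.Normal := ⟨fun x hx g => by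
    show (g * x * g⁻¹) ^ p ^ k = 1
    rw [conj_pow, show x ^ p ^ k = 1 from hx, mul_one, mul_inv_cancel]⟩
  have hc2 : Commute (QuotientGroup.mk' W a) (QuotientGroup.mk' W u) := by
    rw [show QuotientGroup.mk' W u = 1 from (QuotientGroup.eq_one_iff u).2 h]
    exact Commute.one_right _
  have hb : (⁅H, H⁆).map (QuotientGroup.mk' W) = ⊥ := by
    rw [Subgroup.map_commutator, Subgroup.commutator_eq_bot_iff_le_centralizer, hH,
      MonoidHom.map_closure, Subgroup.centralizer_closure, Subgroup.closure_le, Set.image_pair]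
    rintro s (rfl | rfl) t (rfl | rfl)
    exacts [rfl, hc2.eq.symm, hc2.eq, rfl]
  rw [Subgroup.map_eq_bot_iff, QuotientGroup.ker_mk'] at hb
  exact fun g hg => hb hg

theorem regular_pow_eq_one_of_pow_eq_aux (hG : Cfsg.IsRegularPGroup p G) (k : ℕ) :
    ∀ n : ℕ, ∀ H : Subgroup G, Nat.card H = n → ∀ a ∈ H, ∀ b ∈ H,
      a ^ p ^ k = b ^ p ^ k → (a⁻¹ * b) ^ p ^ k = 1 := by
  intro n
  induction n using Nat.strong_induction_on with
  | _ n IH =>
  intro H0 hn a ha b hb hab
  set H := Subgroup.closure ({a, b} : Set G) with hH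
  have haH : a ∈ H := Subgroup.subset_closure (Or.inl rfl)
  have hbH : b ∈ H := Subgroup.subset_closure (Or.inr rfl)
  have hHle : H ≤ H0 := (Subgroup.closure_le _).2 (by rintro g (rfl | rfl) <;> assumption)
  by_cases hlt : Nat.card H < n
  · exact IH _ hlt H rfl a haH b hbH hab
  have hcard : Nat.card H = n := le_antisymm (hn ▸ Subgroup.card_le_of_le hHle) (not_lt.1 hlt)
  clear hlt
  by_cases hcm : a * b = b * a
  · have h1 : Commute a⁻¹ b := (show Commute a b from hcm).inv_left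
    rw [h1.mul_pow, inv_pow, hab, inv_mul_cancel]
  haveI : Group.IsNilpotent H := (hG.1.to_subgroup H).isNilpotent
  set a' : H := ⟨a, haH⟩
  set b' : H := ⟨b, hbH⟩
  set L : Subgroup H := Subgroup.zpowers a' ⊔ commutator H with hL
  have hLne : L ≠ ⊤ := by
    intro h
    have h1 : Subgroup.zpowers a' = ⊤ :=
      frattini_nongenerating (eq_top_iff.2 (h ▸ sup_le_sup_left commutator_le_frattini _))
    have h2 : b' ∈ Subgroup.zpowers a' := h1 ▸ Subgroup.mem_top _
    obtain ⟨i, hi⟩ := Subgroup.mem_zpowers_iff.1 h2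
    have h3 : (a : G) ^ i = b := congrArg Subtype.val hi
    exact hcm (by rw [← h3]; exact ((Commute.refl a).zpow_right i).eq)
  have hLlt : Nat.card (L.map H.subtype) < n := by
    rw [Subgroup.card_map_of_injective H.subtype_injective, ← hcard]
    exact lt_of_le_of_ne (Nat.le_of_dvd Nat.card_pos (Subgroup.card_subgroup_dvd_card L))
      fun h => hLne (Subgroup.eq_top_of_card_eq L h)
  have hmem : b'⁻¹ * a' * b' ∈ L := by
    have h1 : ⁅b'⁻¹, a'⁆ ∈ commutator H := Subgroup.commutator_mem_commutator trivial trivial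
    have h2 := mul_mem (Subgroup.mem_sup_right (S := Subgroup.zpowers a') h1)
      (Subgroup.mem_sup_left (T := commutator H) (Subgroup.mem_zpowers a'))
    rw [← hL, commutatorElement_def] at h2
    simpa [mul_assoc] using h2
  have hcen : (b⁻¹ * a * b) ^ p ^ k = a ^ p ^ k := by
    have h1 : b⁻¹ * a * b = b⁻¹ * a * b⁻¹⁻¹ := by rw [inv_inv]
    rw [h1, conj_pow, hab, inv_inv, mul_assoc, ((Commute.refl b).pow_left _).eq, inv_mul_cancel_left]
  have hw := IH _ hLlt _ rfl a ⟨a', Subgroup.mem_sup_left (Subgroup.mem_zpowers a'), rfl⟩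
    (b⁻¹ * a * b) ⟨_, hmem, rfl⟩ hcen.symm
  obtain ⟨c, hc, he⟩ := hG.2 a⁻¹ b k
  have hd : ∀ g ∈ ⁅Subgroup.closure ({a⁻¹, b} : Set G), Subgroup.closure ({a⁻¹, b} : Set G)⁆,
      g ^ p ^ k = 1 := by
    set W := regularOmega hG k
    haveI hW : W.Normal := ⟨fun x hx g => by
      show (g * x * g⁻¹) ^ p ^ k = 1
      rw [conj_pow, show x ^ p ^ k = 1 from hx, mul_one, mul_inv_cancel]⟩
    have hc2 : Commute (QuotientGroup.mk' W a⁻¹) (QuotientGroup.mk' W b) := by
      rw [map_inv]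
      refine Commute.inv_left ?_
      show QuotientGroup.mk' W a * QuotientGroup.mk' W b = QuotientGroup.mk' W b * QuotientGroup.mk' W a
      rw [← map_mul, ← map_mul]
      refine (QuotientGroup.eq.2 ?_).symm
      show ((b * a)⁻¹ * (a * b)) ^ p ^ k = 1
      rw [← hw]
      group
    have hb : (⁅Subgroup.closure ({a⁻¹, b} : Set G), Subgroup.closure ({a⁻¹, b} : Set G)⁆).map
        (QuotientGroup.mk' W) = ⊥ := by
      rw [Subgroup.map_commutator, Subgroup.commutator_eq_bot_iff_le_centralizer,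
        MonoidHom.map_closure, Subgroup.centralizer_closure, Subgroup.closure_le, Set.image_pair]
      rintro s (rfl | rfl) t (rfl | rfl)
      exacts [rfl, hc2.eq.symm, hc2.eq, rfl]
    rw [Subgroup.map_eq_bot_iff, QuotientGroup.ker_mk'] at hb
    exact fun g hg => hb hg
  rw [powerClosure_eq_bot_of_pow_eq_one hd, Subgroup.mem_bot] at hc
  rw [he, hc, mul_one, inv_pow, hab, inv_mul_cancel]

theorem regular_pow_eq_iff (hG : Cfsg.IsRegularPGroup p G) (a b : G) (k : ℕ) :
    a ^ p ^ k = b ^ p ^ k ↔ (a⁻¹ * b) ^ p ^ k = 1 :=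
  ⟨regular_pow_eq_one_of_pow_eq_aux hG k _ ⊤ rfl a (Subgroup.mem_top a) b (Subgroup.mem_top b),
    regular_pow_eq_of_pow_eq_one hG⟩

end Cfsg.Agent.Perm
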