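import Cfsg.Agent.Lib.Perm.CubicFpf

/-!
A solvable group of order prime to six with a fixed-point-free action of `S₃`, represented in an
algebra compatibly with `S₃` so that `S₃` has no fixed vectors: if an invariant abelian normal
subgroup has no fixed vectors, then the derived group acts trivially.
-/

set_option autoImplicit false
set_option linter.style.haveILetI false

open scoped commutatorElement IsMulCommutative

namespace Cfsg.Agent.Perm.S3Module

open S3Fpf

universe u v w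

variable {K : Type u} [Field K] {R : Type v} [Ring R] [Algebra K R] {G : Type w} [Group G]

section Corner

omit [Algebra K R]

/-- The component of a homomorphism cut out by an idempotent commuting with it. -/
noncomputable def cornerFun (ρ : G →* Rˣ) (F : R) (hF : F * F = F)
    (hc : ∀ g, Commute (ρ g : R) F) : G →* R where
  toFun g := (ρ g : R) * F + (1 - F)
  map_one' := by simp
  map_mul' a b := by
    have h1 : F * ((ρ b : R) * F) = (ρ b : R) * F := by
      rw [← mul_assoc, ← (hc b).eq, mul_assoc, hF]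
    have h2 : (1 - F) * ((ρ b : R) * F) = 0 := by rw [sub_mul, one_mul, h1, sub_self]
    have h4 : F * (1 - F) = 0 := by rw [mul_sub, mul_one, hF, sub_self]
    have h5 : (1 - F) * (1 - F) = 1 - F := by rw [sub_mul, one_mul, h4, sub_zero]
    rw [map_mul, Units.val_mul, add_mul, mul_add, mul_add, h2, h5, mul_assoc (ρ a : R) F (1 - F),
      h4, mul_zero, add_zero, zero_add, mul_assoc (ρ a : R) F, h1, mul_assoc]

/-- The component of a homomorphism cut out by an idempotent, as units. -/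
noncomputable def corner (ρ : G →* Rˣ) (F : R) (hF : F * F = F)
    (hc : ∀ g, Commute (ρ g : R) F) : G →* Rˣ :=
  (cornerFun ρ F hF hc).toHomUnits

theorem corner_val (ρ : G →* Rˣ) (F : R) (hF : F * F = F) (hc : ∀ g, Commute (ρ g : R) F) (g : G) :
    ((corner ρ F hF hc g : Rˣ) : R) = (ρ g : R) * F + (1 - F) := rfl

theorem corner_mul (ρ : G →* Rˣ) (F : R) (hF : F * F = F) (hc : ∀ g, Commute (ρ g : R) F) (g : G) :
    ((corner ρ F hF hc g : Rˣ) : R) * F = (ρ g : R) * F := by
  rw [corner_val, add_mul, mul_assoc, sub_mul, one_mul, hF, sub_self, add_zero]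

theorem corner_conj (ρ : G →* Rˣ) (F : R) (hF : F * F = F) (hc : ∀ g, Commute (ρ g : R) F)
    {u : R} (hu : Commute u F) {a : G → G} (h : ∀ g, u * (ρ g : R) = (ρ (a g) : R) * u) (g : G) :
    u * (corner ρ F hF hc g : R) = (corner ρ F hF hc (a g) : R) * u := by
  rw [corner_val, corner_val, mul_add, add_mul, ← mul_assoc, h, mul_assoc, hu.eq, ← mul_assoc,
    mul_sub, mul_one, sub_mul, one_mul, hu.eq]

end Corner

/-- The action data on the group and on the algebra. -/
structure Setup (α τ : MulAut G) (ρ : G →* Rˣ) (Ta Tt : Rˣ) : Prop where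
  data : S3Fpf.Data α τ
  ta3 : Ta ^ 3 = 1
  tt2 : Tt * Tt = 1
  rel : Tt * Ta = Ta * Ta * Tt
  conja : ∀ g, Ta * ρ g = ρ (α g) * Ta
  conjt : ∀ g, Tt * ρ g = ρ (τ g) * Tt
  fixed : (1 + (Ta : R) + (Ta : R) * Ta) * (1 + (Tt : R)) = 0

omit [Algebra K R] in
theorem Setup.rot {α τ : MulAut G} {ρ : G →* Rˣ} {Ta Tt : Rˣ} (h : Setup α τ ρ Ta Tt) :
    Setup α (τ * α) ρ Ta (Tt * Ta) where
  data := h.data.rot
  ta3 := h.ta3
  tt2 := by
    calc Tt * Ta * (Tt * Ta) = Ta * Ta * (Tt * Tt) * Ta := by rw [h.rel]; simp only [mul_assoc]; rw [h.rel]; simp only [mul_assoc]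
      _ = 1 := by rw [h.tt2, mul_one, mul_assoc, ← pow_three, h.ta3]
  rel := by
    rw [h.rel]
    simp only [mul_assoc]
    rw [h.rel]
    simp only [mul_assoc]
  conja := h.conja
  conjt g := by rw [mul_assoc, h.conja, ← mul_assoc, h.conjt, mul_assoc]; rfl
  fixed := by
    have h3 : (Ta : R) * (Ta * Ta) = 1 := by
      rw [← Units.val_mul, ← Units.val_mul, ← pow_three, h.ta3, Units.val_one]
    have e : ((Tt * Ta : Rˣ) : R) = (Ta : R) * Ta * Tt := by rw [h.rel, Units.val_mul, Units.val_mul]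
    have e2 : (1 + (Ta : R) + (Ta : R) * Ta) * ((Ta : R) * Ta) = 1 + (Ta : R) + (Ta : R) * Ta := by
      rw [add_mul, add_mul, one_mul, h3, mul_assoc (Ta : R) Ta, h3, mul_one]
      abel
    rw [e, mul_add, mul_one, ← mul_assoc (1 + (Ta : R) + (Ta : R) * Ta) ((Ta : R) * Ta), e2]
    have := h.fixed
    rwa [mul_add, mul_one] at this

section Orbit

variable (M : Subgroup G) [M.Normal]

/-- Automorphisms preserving `M`. -/
def stab : Subgroup (MulAut G) where
  carrier := {β | ∀ m, β m ∈ M ↔ m ∈ M}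
  one_mem' m := Iff.rfl
  mul_mem' {a b} ha hb m := (ha (b m)).trans (hb m)
  inv_mem' {a} ha m := by
    rw [← ha (a⁻¹ m)]
    show a (a.symm m) ∈ M ↔ m ∈ M
    rw [MulEquiv.apply_symm_apply]

/-- Inner automorphisms preserve `M`. -/
def cg : G →* stab M where
  toFun g := ⟨MulAut.conj g, fun m => by
    refine ⟨fun h => ?_, fun h => ‹M.Normal›.conj_mem m h g⟩
    have := ‹M.Normal›.conj_mem _ h g⁻¹
    simpa [mul_assoc] using this⟩
  map_one' := Subtype.ext (map_one _)
  map_mul' a b := Subtype.ext (map_mul _ a b)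

/-- Restriction to `M`. -/
def res (a : stab M) : M ≃* M where
  toFun m := ⟨a.1 m.1, (a.2 m.1).2 m.2⟩
  invFun m := ⟨a.1.symm m.1, ((a⁻¹).2 m.1).2 m.2⟩
  left_inv m := Subtype.ext (a.1.symm_apply_apply _)
  right_inv m := Subtype.ext (a.1.apply_symm_apply _)
  map_mul' m n := Subtype.ext (map_mul a.1 _ _)

/-- The action on weights. -/
def tw : stab M →* Equiv.Perm (M →* Kˣ) where
  toFun a :=
    { toFun := fun l => l.comp (res M a).symm.toMonoidHom
      invFun := fun l => l.comp (res M a).toMonoidHom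
      left_inv := fun l => MonoidHom.ext fun m => congrArg l ((res M a).symm_apply_apply m)
      right_inv := fun l => MonoidHom.ext fun m => congrArg l ((res M a).apply_symm_apply m) }
  map_one' := Equiv.ext fun l => rfl
  map_mul' a b := Equiv.ext fun l => rfl

theorem tw_apply (a : stab M) (l : M →* Kˣ) (m : M) :
    tw M a l m = l ⟨(a⁻¹).1 m.1, ((a⁻¹).2 m.1).2 m.2⟩ := rfl

theorem stab_cg (a : stab M) (g : G) : a * cg M g = cg M (a.1 g) * a := by
  refine Subtype.ext (MulEquiv.ext fun x => ?_)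
  show a.1 (g * x * g⁻¹) = a.1 g * a.1 x * (a.1 g)⁻¹
  rw [map_mul, map_mul, map_inv]

/-- The orbit of a weight. -/
def orb (l : M →* Kˣ) : Set (M →* Kˣ) := Set.range fun g : G => tw M (cg M g) l

theorem mem_orb_self (l : M →* Kˣ) : l ∈ orb M l := ⟨1, by simp⟩

theorem orb_eq_of_mem {l l' : M →* Kˣ} (h : l' ∈ orb M l) : orb M l' = orb M l := by
  obtain ⟨g, rfl⟩ := h
  ext x
  constructor
  · rintro ⟨k, rfl⟩
    exact ⟨k * g, by simp [Equiv.Perm.mul_apply]⟩
  · rintro ⟨k, rfl⟩
    exact ⟨k * g⁻¹, by simp [Equiv.Perm.mul_apply]⟩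

theorem orb_tw (a : stab M) (l : M →* Kˣ) : orb M (tw M a l) = tw M a '' orb M l := by
  ext x
  constructor
  · rintro ⟨k, rfl⟩
    refine ⟨_, ⟨a.1.symm k, rfl⟩, ?_⟩
    rw [← Equiv.Perm.mul_apply, ← map_mul, stab_cg, MulEquiv.apply_symm_apply, map_mul,
      Equiv.Perm.mul_apply]
  · rintro ⟨_, ⟨k, rfl⟩, rfl⟩
    refine ⟨a.1 k, ?_⟩
    simp only
    rw [← Equiv.Perm.mul_apply, ← map_mul, ← stab_cg, map_mul, Equiv.Perm.mul_apply]

theorem tw_mem_orb {a : stab M} {l x : M →* Kˣ} (h : tw M a l ∈ orb M l) (hx : x ∈ orb M l) :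
    tw M a x ∈ orb M l := by
  have : tw M a x ∈ orb M (tw M a l) := by rw [orb_tw]; exact ⟨x, hx, rfl⟩
  rwa [orb_eq_of_mem M h] at this

theorem exists_fixed_in_orbit {H : Type*} [Group H] [Finite H] {X : Type*} (π : H →* Equiv.Perm X)
    (x : X) (β : Equiv.Perm X) {p : ℕ} [hp : Fact p.Prime] (hβ : β ^ p = 1)
    (hH : ¬ p ∣ Nat.card H) (hmaps : ∀ g, ∃ g', β (π g x) = π g' x) :
    ∃ g, β (π g x) = π g x := by
  classical
  letI : MulAction H X := MulAction.compHom X π
  let O := MulAction.orbit H x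
  haveI : Finite O := Finite.of_surjective (fun g : H => (⟨g • x, ⟨g, rfl⟩⟩ : O))
    (by rintro ⟨_, g, rfl⟩; exact ⟨g, rfl⟩)
  haveI := Fintype.ofFinite O
  have hO : ∀ y, y ∈ O → β y ∈ O := by
    rintro _ ⟨g, rfl⟩
    obtain ⟨g', hg'⟩ := hmaps g
    exact ⟨g', hg'.symm⟩
  let σ : O → O := fun y => ⟨β y.1, hO _ y.2⟩
  let e : Equiv.Perm O := Equiv.ofBijective σ
    (Finite.injective_iff_bijective.1 fun a b hab => Subtype.ext (β.injective (congrArg Subtype.val hab)))
  have hit : ∀ (k : ℕ) (y : O), ((e ^ k) y).1 = (β ^ k) y.1 := by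
    intro k
    induction k with
    | zero => intro y; rfl
    | succ k ih =>
      intro y
      rw [pow_succ', pow_succ', Equiv.Perm.mul_apply, Equiv.Perm.mul_apply, ← ih]
      rfl
  have he : e ^ p ^ 1 = 1 := by
    ext y
    rw [pow_one, hit, hβ]
    rfl
  have hcard : ¬ p ∣ Fintype.card O := by
    rw [← Nat.card_eq_fintype_card, Nat.card_coe_set_eq, ← MulAction.index_stabilizer]
    exact fun d => hH (d.trans (Subgroup.index_dvd_card _))
  obtain ⟨⟨y, g, hg⟩, hy⟩ := Equiv.Perm.exists_fixed_point_of_prime hcard he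
  have hy2 : β y = y := congrArg Subtype.val hy
  refine ⟨g, ?_⟩
  have hg2 : π g x = y := hg
  rw [hg2, hy2]

end Orbit

section Proof

variable [IsAlgClosed K] {α τ : MulAut G} {ρ : G →* Rˣ} {Ta Tt : Rˣ} (M : Subgroup G) [M.Normal]
  [IsMulCommutative M] [Fintype M]

/-- `ρ` on `M`. -/
noncomputable def fM (ρ : G →* Rˣ) : M →* R := (Units.coeHom R).comp (ρ.comp M.subtype)

open scoped Classical in
/-- The orbit idempotent. -/
noncomputable def orbIdem [Fintype G] (ρ : G →* Rˣ) (l : M →* Kˣ) : R :=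
  ∑ x ∈ (Finset.univ : Finset G).image (fun g => tw M (cg M g) l), WeightIdem.idem (fM M ρ) x

omit [IsAlgClosed K] in
theorem idem_conj (a : stab M) (u : Rˣ) (hu : ∀ g, u * ρ g = ρ (a.1 g) * u) (l : M →* Kˣ) :
    (u : R) * WeightIdem.idem (fM M ρ) l = WeightIdem.idem (fM M ρ) (tw M a l) * u :=
  WeightIdem.conj_idem (fM M ρ) l (res M a) (u : R) fun m => by
    show (u : R) * (ρ m.1 : Rˣ) = ((ρ (a.1 m.1) : Rˣ) : R) * u
    rw [← Units.val_mul, hu, Units.val_mul]

variable [Fintype G]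

omit [IsAlgClosed K] in
theorem coe_image (l : M →* Kˣ) [DecidableEq (M →* Kˣ)] :
    (((Finset.univ : Finset G).image (fun g => tw M (cg M g) l) : Finset _) : Set (M →* Kˣ)) =
      orb M l := by
  simp [orb]

omit [IsAlgClosed K] in
theorem orbIdem_conj (a : stab M) (u : Rˣ) (hu : ∀ g, u * ρ g = ρ (a.1 g) * u) (l : M →* Kˣ) :
    (u : R) * orbIdem M ρ l = orbIdem M ρ (tw M a l) * u := by
  classical
  have himg : (Finset.univ : Finset G).image (fun g => tw M (cg M g) (tw M a l)) =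
      ((Finset.univ : Finset G).image (fun g => tw M (cg M g) l)).image (tw M a) := by
    refine Finset.coe_injective ?_
    rw [Finset.coe_image (f := tw M a), coe_image, coe_image, orb_tw]
  rw [orbIdem, orbIdem, himg, Finset.sum_image fun x _ y _ h => (tw M a).injective h,
    Finset.mul_sum, Finset.sum_mul]
  exact Finset.sum_congr rfl fun x _ => idem_conj M a u hu x

omit [IsAlgClosed K] in
theorem orbIdem_eq {l l' : M →* Kˣ} (h : l' ∈ orb M l) :
    orbIdem M ρ l' = orbIdem M ρ l := by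
  classical
  rw [orbIdem, orbIdem]
  congr 1
  exact Finset.coe_injective (by rw [coe_image, coe_image, orb_eq_of_mem M h])

omit [IsAlgClosed K] in
theorem orbIdem_comm (l : M →* Kˣ) (g : G) : Commute (ρ g : R) (orbIdem M ρ l) := by
  have h := orbIdem_conj M (cg M g) (ρ g) (fun k => by
    show ρ g * ρ k = ρ (g * k * g⁻¹) * ρ g
    rw [← map_mul, ← map_mul, inv_mul_cancel_right]) l
  rwa [orbIdem_eq M ⟨g, rfl⟩] at h

omit [IsAlgClosed K] in
theorem idem_mul_orbIdem (hM : (Fintype.card M : K) ≠ 0) (x l : M →* Kˣ) [Decidable (x ∈ orb M l)] :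
    WeightIdem.idem (fM M ρ) x * orbIdem M ρ l =
      if x ∈ orb M l then WeightIdem.idem (fM M ρ) x else 0 := by
  classical
  rw [orbIdem, Finset.mul_sum]
  simp only [WeightIdem.idem_mul_idem _ hM, Finset.sum_ite_eq]
  congr 1
  rw [← coe_image M l, Finset.mem_coe]

omit [IsAlgClosed K] in
theorem orbIdem_sq (hM : (Fintype.card M : K) ≠ 0) (l : M →* Kˣ) :
    orbIdem M ρ l * orbIdem M ρ l = orbIdem M ρ l := by
  classical
  conv_lhs => arg 1; rw [orbIdem]
  rw [Finset.sum_mul, orbIdem]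
  refine Finset.sum_congr rfl fun x hx => ?_
  have hx2 : x ∈ orb M l := by rw [← coe_image M l, Finset.mem_coe]; exact hx
  exact (idem_mul_orbIdem M hM x l).trans (if_pos hx2)

omit [IsAlgClosed K] in
theorem orbIdem_orth (hM : (Fintype.card M : K) ≠ 0) {l l' : M →* Kˣ} (h : l' ∉ orb M l) :
    orbIdem M ρ l * orbIdem M ρ l' = 0 := by
  classical
  conv_lhs => arg 1; rw [orbIdem]
  rw [Finset.sum_mul]
  refine Finset.sum_eq_zero fun x hx => ?_
  have hx2 : x ∈ orb M l := by rw [← coe_image M l, Finset.mem_coe]; exact hx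
  refine (idem_mul_orbIdem M hM x l').trans (if_neg fun hx3 => h ?_)
  rw [← orb_eq_of_mem M hx2, orb_eq_of_mem M hx3]
  exact mem_orb_self M l'

omit [IsAlgClosed K] in
theorem orbIdem_mul_idem (hM : (Fintype.card M : K) ≠ 0) (l : M →* Kˣ) :
    orbIdem M ρ l * WeightIdem.idem (fM M ρ) l = WeightIdem.idem (fM M ρ) l := by
  classical
  rw [orbIdem, Finset.sum_mul]
  simp only [WeightIdem.idem_mul_idem _ hM, Finset.sum_ite_eq']
  rw [if_pos]
  rw [← Finset.mem_coe, coe_image]
  exact mem_orb_self M l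

omit [IsAlgClosed K] in
theorem sandwich_zero (hM : (Fintype.card M : K) ≠ 0) (a : stab M) (u : Rˣ)
    (hu : ∀ g, u * ρ g = ρ (a.1 g) * u) {l : M →* Kˣ} (h : tw M a l ∉ orb M l) :
    orbIdem M ρ l * ((u : R) * orbIdem M ρ l) = 0 := by
  rw [orbIdem_conj M a u hu, ← mul_assoc, orbIdem_orth M hM h, zero_mul]

/-- An orbit fixed by the involution but not by `α`. -/
theorem case_swap [Group.IsSolvable G] (h : Setup α τ ρ Ta Tt) (hM : (Fintype.card M : K) ≠ 0)
    (a t : stab M) (ha : a.1 = α) (ht : t.1 = τ) {l : M →* Kˣ}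
    (h1 : tw M a l ∉ orb M l) (h2 : tw M t l ∈ orb M l) (g k : G) :
    (ρ ⁅g, k⁆ : R) * orbIdem M ρ l = orbIdem M ρ l := by
  set E := orbIdem M ρ l with hEdef
  have hua : ∀ x, Ta * ρ x = ρ (a.1 x) * Ta := by rw [ha]; exact h.conja
  have hut : ∀ x, Tt * ρ x = ρ (t.1 x) * Tt := by rw [ht]; exact h.conjt
  have hEE : E * E = E := orbIdem_sq M hM l
  have hTt : Commute (Tt : R) E := by
    have := orbIdem_conj M t Tt hut l
    rwa [orbIdem_eq M h2] at this
  have h1' : tw M (a * a) l ∉ orb M l := by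
    intro hh
    refine h1 ?_
    have haaa : a * (a * a) = 1 := Subtype.ext (MulEquiv.ext fun x => by
      show a.1 (a.1 (a.1 x)) = x
      rw [ha, h.data.cube])
    have h3 : tw M a (tw M (a * a) l) ∈ orb M (tw M a l) := by
      rw [orb_tw]; exact ⟨_, hh, rfl⟩
    rw [← Equiv.Perm.mul_apply, ← map_mul, haaa, map_one, Equiv.Perm.one_apply] at h3
    rw [orb_eq_of_mem M h3]
    exact mem_orb_self M _
  have z1 : E * ((Ta : R) * E) = 0 := sandwich_zero M hM a Ta hua h1
  have z2 : E * ((Ta : R) * Ta * E) = 0 := by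
    have := sandwich_zero (l := l) M hM (a * a) (Ta * Ta) (fun x => by
      show Ta * Ta * ρ x = ρ (a.1 (a.1 x)) * (Ta * Ta)
      rw [mul_assoc, hua, ← mul_assoc, hua, mul_assoc]) h1'
    rwa [Units.val_mul] at this
  have hneg : E * (1 + (Tt : R)) = 0 := by
    have h0 : E * ((1 + (Ta : R) + (Ta : R) * Ta) * (1 + (Tt : R))) * E = 0 := by
      rw [h.fixed, mul_zero, zero_mul]
    have hc : Commute (1 + (Tt : R)) E := (Commute.one_left E).add_left hTt
    have hS : E * ((1 + (Ta : R) + (Ta : R) * Ta) * E) = E := by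
      rw [add_mul, add_mul, one_mul, mul_add, mul_add, hEE, z1, z2, add_zero, add_zero]
    rw [mul_assoc, mul_assoc, hc.eq, ← mul_assoc (1 + (Ta : R) + (Ta : R) * Ta), ← mul_assoc,
      hS] at h0
    exact h0
  have hEt : E * (Tt : R) = -E := by
    rw [mul_add, mul_one] at hneg
    exact eq_neg_of_add_eq_zero_right hneg
  let π := corner ρ E hEE (orbIdem_comm M l)
  have hπτ : ∀ x, π.rangeRestrict (τ x) = π.rangeRestrict x := by
    intro x
    refine Subtype.ext (Units.ext ?_)
    show (ρ (τ x) : R) * E + (1 - E) = (ρ x : R) * E + (1 - E)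
    have e1 : (ρ (τ x) : R) * E * Tt = (Tt : R) * E * ρ x := by
      rw [mul_assoc, ← hTt.eq, ← mul_assoc, ← Units.val_mul, ← h.conjt, Units.val_mul, mul_assoc,
        (orbIdem_comm M l x).eq, ← mul_assoc]
    rw [mul_assoc, hEt, hTt.eq, hEt, mul_neg, neg_mul, ← (orbIdem_comm M l x).eq, neg_inj] at e1
    rw [e1]
  have hab := h.data.three_copies π.rangeRestrict π.rangeRestrict_surjective hπτ
  have hc : π ⁅g, k⁆ = 1 := by
    rw [map_commutatorElement]
    exact commutatorElement_eq_one_iff_mul_comm.2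
      (congrArg Subtype.val (hab (π.rangeRestrict g) (π.rangeRestrict k)))
  have := corner_mul ρ E hEE (orbIdem_comm M l) ⁅g, k⁆
  rw [show corner ρ E hEE (orbIdem_comm M l) ⁅g, k⁆ = 1 from hc, Units.val_one, one_mul] at this
  exact this.symm

set_option maxHeartbeats 800000 in
/-- An orbit fixed by `α` but not by the involution. -/
theorem case_rot [Group.IsSolvable G] (h : Setup α τ ρ Ta Tt)
    (hG : (Nat.card (commutator G) : K) ≠ 0) (hM : (Fintype.card M : K) ≠ 0)
    (a t : stab M) (ha : a.1 = α) (ht : t.1 = τ) {l : M →* Kˣ}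
    (h1 : tw M a l ∈ orb M l) (h2 : tw M t l ∉ orb M l) (g k : G) :
    (ρ ⁅g, k⁆ : R) * orbIdem M ρ l = orbIdem M ρ l := by
  classical
  set E := orbIdem M ρ l with hEdef
  set E2 := orbIdem M ρ (tw M t l) with hE2def
  have hua : ∀ x, Ta * ρ x = ρ (a.1 x) * Ta := by rw [ha]; exact h.conja
  have hut : ∀ x, Tt * ρ x = ρ (t.1 x) * Tt := by rw [ht]; exact h.conjt
  have hEE : E * E = E := orbIdem_sq M hM l
  have hE2E2 : E2 * E2 = E2 := orbIdem_sq M hM _
  have h12 : E * E2 = 0 := orbIdem_orth M hM h2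
  have h2' : l ∉ orb M (tw M t l) := fun hh => h2 (by
    rw [orb_eq_of_mem M hh]; exact mem_orb_self M _)
  have h21 : E2 * E = 0 := orbIdem_orth M hM h2'
  have cTa : Commute (Ta : R) E := by
    have := orbIdem_conj M a Ta hua l
    rwa [orbIdem_eq M h1] at this
  have cTa2 : Commute (Ta : R) E2 := by
    have e := orbIdem_conj M a Ta hua (tw M t l)
    have hat : a * t = t * (a * a) := Subtype.ext (MulEquiv.ext fun x => by
      show a.1 (t.1 x) = t.1 (a.1 (a.1 x))
      rw [ha, ht, h.data.rel'])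
    have hmem : tw M a (tw M t l) ∈ orb M (tw M t l) := by
      rw [orb_tw, ← Equiv.Perm.mul_apply, ← map_mul, hat, map_mul, map_mul,
        Equiv.Perm.mul_apply, Equiv.Perm.mul_apply]
      exact ⟨_, tw_mem_orb M h1 h1, rfl⟩
    rwa [orbIdem_eq M hmem] at e
  have sTt : (Tt : R) * E = E2 * Tt := orbIdem_conj M t Tt hut l
  have sTt2 : (Tt : R) * E2 = E * Tt := by
    have e := orbIdem_conj M t Tt hut (tw M t l)
    have htt : t * t = 1 := Subtype.ext (MulEquiv.ext fun x => by
      show t.1 (t.1 x) = x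
      rw [ht, h.data.sq])
    rwa [← Equiv.Perm.mul_apply (tw M t), ← map_mul, htt, map_one, Equiv.Perm.one_apply] at e
  set S : R := 1 + (Ta : R) + (Ta : R) * Ta with hS
  have cS : Commute S E := ((Commute.one_left E).add_left cTa).add_left (cTa.mul_left cTa)
  have hES : E * S = 0 := by
    have h0 : E * (S * (1 + (Tt : R))) * E = 0 := by rw [h.fixed, mul_zero, zero_mul]
    rw [mul_add, mul_one, mul_add, add_mul, mul_assoc E S E, cS.eq, ← mul_assoc, hEE,
      mul_assoc E (S * (Tt : R)), mul_assoc S, sTt, ← mul_assoc S, ← mul_assoc E, ← mul_assoc E,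
      ← cS.eq, mul_assoc S E E2, h12, mul_zero, zero_mul, add_zero] at h0
    rw [← cS.eq]
    exact h0
  have hTtS : (Tt : R) * S = S * Tt := by
    have r1 : (Tt : R) * Ta = (Ta : R) * Ta * Tt := by
      rw [← Units.val_mul, ← Units.val_mul, ← Units.val_mul, h.rel]
    have r2 : (Tt : R) * ((Ta : R) * Ta) = (Ta : R) * Tt := by
      rw [← mul_assoc, r1, mul_assoc _ (Tt : R), r1, ← mul_assoc, ← mul_assoc]
      have h3 : (Ta : R) * Ta * Ta = 1 := by
        rw [mul_assoc, ← Units.val_mul, ← Units.val_mul, ← pow_three, h.ta3, Units.val_one]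
      rw [h3, one_mul]
    rw [hS, mul_add, mul_add, mul_one, add_mul, add_mul, one_mul, r1, r2]
    abel
  have hE2S : E2 * S = 0 := by
    have e1 : E2 * S * (Tt : R) = 0 := by
      rw [mul_assoc, ← hTtS, ← mul_assoc, ← sTt, mul_assoc, hES, mul_zero]
    exact (Units.mul_left_eq_zero Tt).1 e1
  obtain ⟨F, hFdef⟩ : ∃ F, F = E + E2 := ⟨_, rfl⟩
  have hFF : F * F = F := by
    rw [hFdef, add_mul, mul_add, mul_add, hEE, hE2E2, h12, h21, add_zero, zero_add]
  have hFc : ∀ x, Commute (ρ x : R) F := fun x =>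
    hFdef ▸ (orbIdem_comm M l x).add_right (orbIdem_comm M _ x)
  have cTaF : Commute (Ta : R) F := hFdef ▸ cTa.add_right cTa2
  have cTtF : Commute (Tt : R) F := by
    show (Tt : R) * F = F * Tt
    rw [hFdef]
    rw [mul_add, add_mul, sTt, sTt2, add_comm]
  have hFS : F * S = 0 := by rw [hFdef, add_mul, hES, hE2S, add_zero]
  obtain ⟨ω, hω⟩ : ∃ ω : K, ω * ω + ω + 1 = 0 := by
    obtain ⟨ω, hω⟩ := IsAlgClosed.exists_root
      (Polynomial.X ^ 2 + Polynomial.X + 1 : Polynomial K) (by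
        rw [show (Polynomial.X ^ 2 + Polynomial.X + 1 : Polynomial K).degree = 2 by compute_degree!]
        exact two_ne_zero)
    refine ⟨ω, ?_⟩
    simpa [pow_two] using hω
  set y : R := (Ta : R) * F + ω • (1 - F) with hy
  have hy2 : y * y + y + 1 = 0 := by
    have p1 : (Ta : R) * F * ((Ta : R) * F) = (Ta : R) * Ta * F := by
      rw [mul_assoc, ← mul_assoc F, ← cTaF.eq, mul_assoc (Ta : R) F F, hFF, ← mul_assoc]
    have q0 : F * (1 - F) = 0 := by rw [mul_sub, mul_one, hFF, sub_self]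
    have p2 : (Ta : R) * F * (1 - F) = 0 := by rw [mul_assoc, q0, mul_zero]
    have p3 : (1 - F) * ((Ta : R) * F) = 0 := by
      rw [← mul_assoc, sub_mul, one_mul, ← cTaF.eq, sub_mul, mul_assoc, hFF, sub_self]
    have p4 : (1 - F) * (1 - F) = 1 - F := by rw [sub_mul, one_mul, q0, sub_zero]
    have p5 : (Ta : R) * Ta * F + (Ta : R) * F + F = 0 := by
      have cS2 : Commute S F := ((Commute.one_left F).add_left cTaF).add_left (cTaF.mul_left cTaF)
      calc (Ta : R) * Ta * F + (Ta : R) * F + F = S * F := by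
            rw [hS, add_mul, add_mul, one_mul]; abel
        _ = 0 := by rw [cS2.eq, hFS]
    calc y * y + y + 1 = ((Ta : R) * Ta * F + (Ta : R) * F + F) + (ω * ω + ω + 1) • (1 - F) := by
          rw [hy, add_mul, mul_add, mul_add, p1, mul_smul_comm, p2, smul_zero, smul_mul_assoc, p3,
            smul_zero, smul_mul_assoc, mul_smul_comm, p4, smul_smul, add_smul, add_smul, one_smul]
          abel
      _ = 0 := by rw [p5, hω, zero_smul, add_zero]
  let x : Rˣ := ⟨y, -1 - y,
    by rw [mul_sub, mul_neg, mul_one]; linear_combination (norm := noncomm_ring) -hy2,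
    by rw [sub_mul, neg_mul, one_mul]; linear_combination (norm := noncomm_ring) -hy2⟩
  let π := corner ρ F hFF hFc
  have hπa : ∀ q, x * π q = π (α q) * x := by
    intro q
    ext
    rw [Units.val_mul, Units.val_mul]
    show y * ((π q : Rˣ) : R) = ((π (α q) : Rˣ) : R) * y
    have e1 := corner_conj ρ F hFF hFc cTaF (a := α) (fun z => by
      rw [← Units.val_mul, h.conja, Units.val_mul]) q
    have ef : ∀ z, ((π z : Rˣ) : R) * F = F * ((π z : Rˣ) : R) := fun z => by
      rw [corner_mul]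
      show _ = F * ((ρ z : R) * F + (1 - F))
      rw [mul_add, ← mul_assoc, ← (hFc z).eq, mul_assoc, hFF, mul_sub, mul_one, hFF, sub_self,
        add_zero]
    have e2 : ∀ z, ((π z : Rˣ) : R) * (1 - F) = 1 - F ∧ (1 - F) * ((π z : Rˣ) : R) = 1 - F := by
      intro z
      have a1 : ((π z : Rˣ) : R) * (1 - F) = 1 - F := by
        rw [mul_sub, mul_one, corner_mul, corner_val, add_sub_cancel_left]
      refine ⟨a1, ?_⟩
      rw [sub_mul, one_mul, ← ef, ← mul_one_sub, a1]
    rw [hy, add_mul, mul_add, smul_mul_assoc, mul_smul_comm, (e2 q).2, (e2 _).1, mul_assoc,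
      ← ef, ← mul_assoc, e1, mul_assoc]
  have hπt : ∀ q, Tt * π q = π (τ q) * Tt := fun q => Units.ext
    (corner_conj ρ F hFF hFc cTtF (a := τ) (fun z => by
      rw [← Units.val_mul, h.conjt, Units.val_mul]) q)
  have hfix : ∀ Q : Subgroup G, (∀ q ∈ Q, α q ∈ Q) → (Nat.card Q : K) ≠ 0 →
      ∀ q ∈ Q, π (α q) = π q := by
    intro Q hQa hQ q hq
    have hd : Nat.card (Q.map π) ∣ Nat.card Q := Subgroup.card_dvd_of_surjective (π.subgroupMap Q) (π.subgroupMap_surjective Q)
    haveI : Finite (Q.map π) := Finite.of_surjective _ (π.subgroupMap_surjective Q)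
    have hgood : CubicFpf.Good K (Q.map π) :=
      ⟨inferInstance, Group.isSolvable_of_surjective (f := π.subgroupMap Q) (π.subgroupMap_surjective Q),
        h.data.coprime_six.coprime_dvd_left (hd.trans Q.card_subgroup_dvd_card),
        CubicFpf.cast_ne_of_dvd hd hQ⟩
    have := CubicFpf.centralizes _ (Q.map π) rfl hgood x hy2 (by
      rintro _ ⟨z, hz, rfl⟩
      exact ⟨α z, hQa z hz, by rw [eq_mul_inv_iff_mul_eq, hπa]⟩) _ ⟨q, hq, rfl⟩
    rw [hπa] at this
    exact mul_right_cancel this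
  -- the quotient by the kernel
  let N : Subgroup G := π.ker
  have hNa : ∀ n ∈ N, α n ∈ N := by
    intro n hn
    have := hπa n
    rw [show π n = 1 from hn, mul_one] at this
    exact mul_eq_right.1 this.symm
  have hNt : ∀ n ∈ N, τ n ∈ N := by
    intro n hn
    have := hπt n
    rw [show π n = 1 from hn, mul_one] at this
    exact mul_eq_right.1 this.symm
  have hb := h.data.quotient N hNa hNt
  set α' := S3Fpf.Data.quo α N hNa with hα'
  set τ' := S3Fpf.Data.quo τ N hNt with hτ'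
  let D : Subgroup (G ⧸ N) := (commutator G).map (QuotientGroup.mk' N)
  have hchar : ∀ β : MulAut G, ∀ d ∈ commutator G, β d ∈ commutator G := fun β d hd => by
    have : (commutator G).map β.toMonoidHom ≤ commutator G := by
      rw [commutator_def, Subgroup.map_commutator]
      exact Subgroup.commutator_mono le_top le_top
    exact this ⟨d, hd, rfl⟩
  have hDa : ∀ d ∈ D, α' d = d := by
    rintro _ ⟨d, hd, rfl⟩
    show α' (d : G ⧸ N) = (d : G ⧸ N)
    rw [hα', S3Fpf.Data.quo_mk]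
    refine (QuotientGroup.eq_iff_div_mem).2 ?_
    show π (α d / d) = 1
    rw [map_div, hfix (commutator G) (hchar α) hG d hd, div_self']
  have hDt : ∀ d ∈ D, τ' d ∈ D := by
    rintro _ ⟨d, hd, rfl⟩
    refine ⟨τ d, hchar τ d hd, ?_⟩
    show ((τ d : G) : G ⧸ N) = τ' (d : G ⧸ N)
    rw [hτ', S3Fpf.Data.quo_mk]
  haveI : D.Normal := Subgroup.Normal.map inferInstance _ (QuotientGroup.mk'_surjective N)
  let C : Subgroup (G ⧸ N) := Subgroup.centralizer (D : Set (G ⧸ N))
  have hcen : ∀ z : G ⧸ N, ∀ d ∈ D, Commute d z := by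
    intro z
    have hmem : z ∈ C := by
      refine hb.mem_of_fixed_mod C ?_ ?_ ?_ ?_
      · intro c hc
        refine Subgroup.mem_centralizer_iff.2 fun d hd => ?_
        rw [← hDa d hd, ← map_mul, ← map_mul, Subgroup.mem_centralizer_iff.1 hc d hd]
      · intro c hc
        refine Subgroup.mem_centralizer_iff.2 fun d hd => ?_
        have e1 := congrArg τ' (Subgroup.mem_centralizer_iff.1 hc _ (hDt d hd))
        rwa [map_mul, map_mul, hb.sq] at e1
      · refine Subgroup.mem_centralizer_iff.2 fun d hd => ?_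
        have hd2 : z * d * z⁻¹ ∈ D := ‹D.Normal›.conj_mem d hd z
        have e1 : α' z * d * (α' z)⁻¹ = z * d * z⁻¹ := by
          conv_rhs => rw [← hDa _ hd2]
          rw [map_mul, map_mul, map_inv, hDa d hd]
        calc d * (z⁻¹ * α' z) = z⁻¹ * (z * d * z⁻¹) * α' z := by group
          _ = z⁻¹ * (α' z * d * (α' z)⁻¹) * α' z := by rw [e1]
          _ = z⁻¹ * α' z * d := by group
      · refine Subgroup.mem_centralizer_iff.2 fun d hd => ?_
        have hd2 : z * d * z⁻¹ ∈ D := ‹D.Normal›.conj_mem d hd z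
        have e0 := hb.inverts D hDt hDa hd2
        rw [map_mul, map_mul, map_inv, hb.inverts D hDt hDa hd] at e0
        have e1 : τ' z * d * (τ' z)⁻¹ = z * d * z⁻¹ := by
          rw [← inv_inj, ← e0]
          group
        calc d * (z⁻¹ * τ' z) = z⁻¹ * (z * d * z⁻¹) * τ' z := by group
          _ = z⁻¹ * (τ' z * d * (τ' z)⁻¹) * τ' z := by rw [e1]
          _ = z⁻¹ * τ' z * d := by group
    exact fun d hd => Subgroup.mem_centralizer_iff.1 hmem d hd
  have hc2 : ∀ p q z : G ⧸ N, Commute ⁅p, q⁆ z := by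
    intro p q z
    refine hcen z _ ?_
    obtain ⟨p, rfl⟩ := QuotientGroup.mk'_surjective N p
    obtain ⟨q, rfl⟩ := QuotientGroup.mk'_surjective N q
    refine ⟨⁅p, q⁆, Subgroup.commutator_mem_commutator (Subgroup.mem_top _) (Subgroup.mem_top _), ?_⟩
    rw [map_commutatorElement]
  obtain ⟨m, j, hjm, hm0, hj⟩ : ∃ m j : ℕ, j * m = Nat.card G ∧ (m : K) ≠ 0 ∧
      j.Coprime (Nat.card (commutator G)) := by
    obtain ⟨r, hr⟩ := CharP.exists K
    rcases CharP.char_is_prime_or_zero K r with hp | rfl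
    · refine ⟨ordCompl[r] (Nat.card G), ordProj[r] (Nat.card G), Nat.ordProj_mul_ordCompl_eq_self _ _,
        ?_, ?_⟩
      · rw [Ne, CharP.cast_eq_zero_iff K r]
        exact Nat.not_dvd_ordCompl hp Nat.card_pos.ne'
      · refine Nat.Coprime.pow_left _ (hp.coprime_iff_not_dvd.2 ?_)
        rw [← CharP.cast_eq_zero_iff K r]
        exact hG
    · haveI := CharP.charP_to_charZero K
      exact ⟨Nat.card G, 1, one_mul _, Nat.cast_ne_zero.2 Nat.card_pos.ne', Nat.coprime_one_left _⟩
  let Q : Subgroup G := (powMonoidHom m : Abelianization G →* Abelianization G).ker.comap Abelianization.of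
  have hQ : ∀ z, z ∈ Q ↔ z ^ m ∈ commutator G := fun z => by
    rw [← Abelianization.ker_of, MonoidHom.mem_ker, map_pow]; rfl
  have hQa : ∀ q ∈ Q, α q ∈ Q := fun q hq => by
    rw [hQ] at hq ⊢; rw [← map_pow]; exact hchar α _ hq
  have hQt : ∀ q ∈ Q, τ q ∈ Q := fun q hq => by
    rw [hQ] at hq ⊢; rw [← map_pow]; exact hchar τ _ hq
  have hQne : (Nat.card Q : K) ≠ 0 := by
    obtain ⟨r, hr⟩ := CharP.exists K
    rw [Ne, CharP.cast_eq_zero_iff K r]
    intro hdvd
    rcases CharP.char_is_prime_or_zero K r with hp | rfl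
    · haveI := Fact.mk hp
      obtain ⟨z, hz⟩ := exists_prime_orderOf_dvd_card' r hdvd
      have hz2 : z.1 ^ m ∈ commutator G := (hQ z.1).1 z.2
      have hoz : orderOf z.1 = r := by rw [Subgroup.orderOf_coe, hz]
      have hcop : r.Coprime m := hp.coprime_iff_not_dvd.2 (by rw [← CharP.cast_eq_zero_iff K r]; exact hm0)
      obtain ⟨i, hi⟩ := exists_pow_eq_self_of_coprime (x := z.1) (n := m) (by rw [hoz]; exact hcop.symm)
      have hz3 : z.1 ∈ commutator G := hi ▸ (commutator G).pow_mem hz2 i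
      have := (commutator G).orderOf_dvd_natCard hz3
      rw [hoz, ← CharP.cast_eq_zero_iff K r] at this
      exact hG this
    · exact Nat.card_pos.ne' (Nat.eq_zero_of_zero_dvd hdvd)
  let Q' : Subgroup (G ⧸ N) := Q.map (QuotientGroup.mk' N)
  have hQ'a : ∀ z ∈ Q', α' z = z := by
    rintro _ ⟨z, hz, rfl⟩
    show α' (z : G ⧸ N) = (z : G ⧸ N)
    rw [hα', S3Fpf.Data.quo_mk]
    refine (QuotientGroup.eq_iff_div_mem).2 ?_
    show π (α z / z) = 1
    rw [map_div, hfix Q hQa hQne z hz, div_self']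
  have hQ't : ∀ z ∈ Q', τ' z ∈ Q' := by
    rintro _ ⟨z, hz, rfl⟩
    refine ⟨τ z, hQt z hz, ?_⟩
    show ((τ z : G) : G ⧸ N) = τ' (z : G ⧸ N)
    rw [hτ', S3Fpf.Data.quo_mk]
  have hpow : ∀ z : G, ((z : G) : G ⧸ N) ^ j ∈ Q' := fun z =>
    ⟨z ^ j, (hQ _).2 (by rw [← pow_mul, hjm, pow_card_eq_one']; exact Subgroup.one_mem _), by simp⟩
  have hcomm := hb.comm_of_fixed Q' hQ't hQ'a (hpow g) (hpow k)
  have e1 : ⁅(g : G ⧸ N), (k : G ⧸ N)⁆ ^ (j * j) = 1 := by
    rw [pow_mul, ← S3Fpf.comm_pow_left hc2, ← S3Fpf.comm_pow_right hc2]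
    exact commutatorElement_eq_one_iff_mul_comm.2 hcomm
  have e2 : orderOf ⁅(g : G ⧸ N), (k : G ⧸ N)⁆ ∣ Nat.card (commutator G) := by
    rw [show ⁅(g : G ⧸ N), (k : G ⧸ N)⁆ = QuotientGroup.mk' N ⁅g, k⁆ from
      (map_commutatorElement (QuotientGroup.mk' N) g k).symm]
    exact (orderOf_map_dvd _ _).trans
      ((commutator G).orderOf_dvd_natCard
        (Subgroup.commutator_mem_commutator (Subgroup.mem_top _) (Subgroup.mem_top _)))
  have e3 : ⁅(g : G ⧸ N), (k : G ⧸ N)⁆ = 1 :=
    orderOf_eq_one_iff.1 (Nat.eq_one_of_dvd_coprimes (hj.mul_left hj).symm e2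
      (orderOf_dvd_of_pow_eq_one e1))
  have e4 : ⁅g, k⁆ ∈ N := by
    rw [← QuotientGroup.eq_one_iff]
    show QuotientGroup.mk' N ⁅g, k⁆ = 1
    rw [map_commutatorElement]
    exact e3
  have e5 := corner_mul ρ F hFF hFc ⁅g, k⁆
  rw [show corner ρ F hFF hFc ⁅g, k⁆ = 1 from e4, Units.val_one, one_mul] at e5
  have e6 : F * E = E := by rw [hFdef, add_mul, hEE, h21, add_zero]
  calc (ρ ⁅g, k⁆ : R) * E = (ρ ⁅g, k⁆ : R) * F * E := by rw [mul_assoc, e6]
    _ = E := by rw [← e5, e6]

omit [IsAlgClosed K] [IsMulCommutative M] [Fintype M] [Fintype G] in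
/-- A stabilized orbit contains a weight fixed by all of `S₃`, which must be trivial. -/
theorem case_fixed [Finite G] [IsMulCommutative M] (hd : S3Fpf.Data α τ) (a t : stab M) (ha : a.1 = α)
    (ht : t.1 = τ) {l : M →* Kˣ} (h1 : tw M a l ∈ orb M l) (h2 : tw M t l ∈ orb M l) : l = 1 := by
  haveI : Fact (Nat.Prime 3) := ⟨Nat.prime_three⟩
  haveI : Fact (Nat.Prime 2) := ⟨Nat.prime_two⟩
  have haaa : a ^ 3 = 1 := Subtype.ext (MulEquiv.ext fun x => by
    rw [pow_three]
    show a.1 (a.1 (a.1 x)) = x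
    rw [ha, hd.cube])
  have htt : t ^ 2 = 1 := Subtype.ext (MulEquiv.ext fun x => by
    rw [pow_two]
    show t.1 (t.1 x) = x
    rw [ht, hd.sq])
  have hsh : ∀ (b : stab M) (x : G) (y : M →* Kˣ),
      tw M b (tw M (cg M x) y) = tw M (cg M (b.1 x)) (tw M b y) := fun b x y => by
    rw [← Equiv.Perm.mul_apply, ← map_mul, stab_cg, map_mul, Equiv.Perm.mul_apply]
  obtain ⟨g₀, hg₀⟩ := exists_fixed_in_orbit ((tw M).comp (cg M)) l (tw M a) (p := 3)
    (by rw [← map_pow, haaa, map_one]) hd.cop3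
    (fun x => by
      obtain ⟨c, hc⟩ := tw_mem_orb M h1 ⟨x, rfl⟩
      exact ⟨c, hc.symm⟩)
  set μ := tw M (cg M g₀) l with hμ
  have hμa : tw M a μ = μ := hg₀
  have hμl : μ ∈ orb M l := ⟨g₀, rfl⟩
  obtain ⟨g₁, hg₁⟩ : tw M t μ ∈ orb M μ := by
    rw [orb_eq_of_mem M hμl]; exact tw_mem_orb M h2 hμl
  -- stabilizer of `μ`
  let S : Subgroup G :=
    { carrier := {x | tw M (cg M x) μ = μ}
      one_mem' := by simp
      mul_mem' := fun {x y} hx hy => by
        simp only [Set.mem_ofPred_eq] at hx hy ⊢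
        rw [map_mul, map_mul, Equiv.Perm.mul_apply, hy, hx]
      inv_mem' := fun {x} hx => by
        simp only [Set.mem_ofPred_eq] at hx ⊢
        rw [map_inv, map_inv, Equiv.Perm.inv_def, Equiv.symm_apply_eq, hx] }
  have hSa : ∀ x ∈ S, α x ∈ S := by
    intro x hx
    have e := hsh a x μ
    rw [show tw M (cg M x) μ = μ from hx, hμa, ha] at e
    exact e.symm
  have hg₁' : g₁⁻¹ * α g₁ ∈ S := by
    have hat : a * t = t * (a * a) := Subtype.ext (MulEquiv.ext fun x => by
      show a.1 (t.1 x) = t.1 (a.1 (a.1 x))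
      rw [ha, ht, hd.rel'])
    have e : tw M a (tw M t μ) = tw M t μ := by
      rw [← Equiv.Perm.mul_apply, ← map_mul, hat, map_mul, map_mul, Equiv.Perm.mul_apply,
        Equiv.Perm.mul_apply, hμa, hμa]
    have hg₁2 : tw M (cg M g₁) μ = tw M t μ := hg₁
    rw [← hg₁2, hsh, hμa, ha] at e
    show tw M (cg M (g₁⁻¹ * α g₁)) μ = μ
    rw [map_mul, map_mul, Equiv.Perm.mul_apply, e, map_inv, map_inv, Equiv.Perm.inv_def,
      Equiv.symm_apply_apply]
  obtain ⟨n, hn, hfix⟩ := S3Fpf.exists_fixed_coset α (p := 3) (fun x => hd.cube x) S hSa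
    (hd.not_dvd_sub S).2 hg₁'
  let C : Subgroup G := α.toMonoidHom.eqLocus (MonoidHom.id G)
  have hh : tw M t μ = tw M (cg M (g₁ * n)) μ := by
    rw [map_mul, map_mul, Equiv.Perm.mul_apply, show tw M (cg M n) μ = μ from hn]
    exact hg₁.symm
  obtain ⟨c, hc⟩ := exists_fixed_in_orbit (((tw M).comp (cg M)).comp C.subtype) μ (tw M t) (p := 2)
    (by rw [← map_pow, htt, map_one]) (hd.not_dvd_sub C).1
    (fun x => by
      have hxα : α x.1 = x.1 := x.2
      refine ⟨⟨τ x.1 * (g₁ * n), ?_⟩, ?_⟩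
      · show α (τ x.1 * (g₁ * n)) = τ x.1 * (g₁ * n)
        rw [map_mul, hfix, hd.rel', hxα, hxα]
      · show tw M t (tw M (cg M x.1) μ) = tw M (cg M (τ x.1 * (g₁ * n))) μ
        rw [hsh, hh, ht]
        simp [map_mul, Equiv.Perm.mul_apply])
  set ν := tw M (cg M c.1) μ with hν
  have hνt : tw M t ν = ν := hc
  have hνa : tw M a ν = ν := by rw [hν, hsh, hμa, ha, show α c.1 = c.1 from c.2]
  have hfa : ∀ m : M, ν (res M a m) = ν m := fun m => by
    conv_lhs => rw [← hνa]
    exact congrArg ν ((res M a).symm_apply_apply m)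
  have hft : ∀ m : M, ν (res M t m) = ν m := fun m => by
    conv_lhs => rw [← hνt]
    exact congrArg ν ((res M t).symm_apply_apply m)
  have hν1 : ν = 1 := by
    ext m : 1
    set q := m * res M a m * res M a (res M a m) with hq
    have hr3 : res M a (res M a (res M a m)) = m := Subtype.ext (by
      show a.1 (a.1 (a.1 m.1)) = m.1
      rw [ha, hd.cube])
    have hqa : res M a q = q := by
      rw [hq, map_mul, map_mul, hr3, mul_comm _ m, mul_assoc]
    set w := q * res M t q with hw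
    have hwa : res M a w = w := by
      have : res M a (res M t q) = res M t (res M a (res M a q)) := Subtype.ext (by
        show a.1 (t.1 q.1) = t.1 (a.1 (a.1 q.1))
        rw [ha, ht, hd.rel'])
      rw [hw, map_mul, hqa, this, hqa, hqa]
    have hwt : res M t w = w := by
      have : res M t (res M t q) = q := Subtype.ext (by
        show t.1 (t.1 q.1) = q.1
        rw [ht, hd.sq])
      rw [hw, map_mul, this, mul_comm]
    have hw1 : w = 1 := Subtype.ext (hd.fpf w.1
      (by rw [← ha]; exact congrArg Subtype.val hwa) (by rw [← ht]; exact congrArg Subtype.val hwt))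
    have h6 : ν m ^ 6 = 1 := by
      have := congrArg ν hw1
      simp only [hw, hq, map_mul, map_one, hft, hfa] at this
      rw [← this]
      simp [pow_succ, mul_assoc]
    have hdv : orderOf (ν m) ∣ Nat.card G :=
      (orderOf_map_dvd ν m).trans ((orderOf_dvd_natCard m).trans M.card_subgroup_dvd_card)
    have := Nat.eq_one_of_dvd_coprimes hd.coprime_six hdv (orderOf_dvd_of_pow_eq_one h6)
    simpa using orderOf_eq_one_iff.1 this
  have hl : orb M l = orb M ν := by
    rw [hν, orb_eq_of_mem M ⟨c.1, rfl⟩, orb_eq_of_mem M hμl]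
  obtain ⟨x, hx⟩ : l ∈ orb M ν := by rw [← hl]; exact mem_orb_self M l
  rw [hν1] at hx
  rw [← hx]
  exact MonoidHom.ext fun m => rfl

/-- **Main module theorem.** -/
theorem derived_trivial [Group.IsSolvable G] (h : Setup α τ ρ Ta Tt)
    (hG : (Nat.card (commutator G) : K) ≠ 0) (hMa : ∀ m, α m ∈ M ↔ m ∈ M)
    (hMt : ∀ m, τ m ∈ M ↔ m ∈ M) (hM : (Fintype.card M : K) ≠ 0)
    (hsum : ∑ m : M, (ρ m.1 : R) = 0) (g k : G) : ρ ⁅g, k⁆ = 1 := by
  classical
  refine Units.ext ?_
  rw [Units.val_one]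
  refine WeightIdem.ext_idem (K := K) (fM M ρ) hM fun l hl => ?_
  suffices hE : (ρ ⁅g, k⁆ : R) * orbIdem M ρ l = orbIdem M ρ l by
    rw [one_mul]
    conv_lhs => rw [← orbIdem_mul_idem M hM l, ← mul_assoc, hE, orbIdem_mul_idem M hM l]
  let a : stab M := ⟨α, hMa⟩
  let t : stab M := ⟨τ, hMt⟩
  by_cases h1 : tw M a l ∈ orb M l
  · by_cases h2 : tw M t l ∈ orb M l
    · exfalso
      refine hl ?_
      rw [case_fixed M h.data a t rfl rfl h1 h2, WeightIdem.idem]
      simp only [MonoidHom.one_apply, Units.val_one, one_smul]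
      rw [show (∑ m : M, fM M ρ m) = 0 from hsum, smul_zero]
    · exact case_rot M h hG hM a t rfl rfl h1 h2 g k
  by_cases h2 : tw M t l ∈ orb M l
  · exact case_swap M h hM a t rfl rfl h1 h2 g k
  by_cases h3 : tw M (t * a) l ∈ orb M l
  · exact case_swap M h.rot hM a (t * a) rfl rfl h1 h3 g k
  by_cases h4 : tw M (t * a * a) l ∈ orb M l
  · exact case_swap M h.rot.rot hM a (t * a * a) rfl rfl h1 h4 g k
  set E := orbIdem M ρ l with hE
  have hE0 : E = 0 := by
    have hua : ∀ x, Ta * ρ x = ρ (a.1 x) * Ta := h.conja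
    have hut : ∀ x, Tt * ρ x = ρ (t.1 x) * Tt := h.conjt
    have h1' : tw M (a * a) l ∉ orb M l := by
      intro hh
      refine h1 ?_
      have haaa : a * (a * a) = 1 := Subtype.ext (MulEquiv.ext h.data.cube)
      have h5 : tw M a (tw M (a * a) l) ∈ orb M (tw M a l) := by
        rw [orb_tw]; exact ⟨_, hh, rfl⟩
      rw [← Equiv.Perm.mul_apply, ← map_mul, haaa, map_one, Equiv.Perm.one_apply] at h5
      rw [orb_eq_of_mem M h5]
      exact mem_orb_self M _
    have z1 := sandwich_zero M hM a Ta hua h1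
    have z2 := sandwich_zero (l := l) M hM (a * a) (Ta * Ta) (fun x => by
      show Ta * Ta * ρ x = ρ (a.1 (a.1 x)) * (Ta * Ta)
      rw [mul_assoc, hua, ← mul_assoc, hua, mul_assoc]) h1'
    have z3 := sandwich_zero M hM t Tt hut h2
    have z4 := sandwich_zero M hM (t * a) (Tt * Ta) h.rot.conjt h3
    have z5 := sandwich_zero M hM (t * a * a) (Tt * Ta * Ta) h.rot.rot.conjt h4
    have r1 : (Ta : R) * Tt = ((Tt * Ta * Ta : Rˣ) : R) := by
      rw [← Units.val_mul, h.rel, mul_assoc _ Tt Ta, h.rel]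
      congr 1
      have h3 := h.ta3
      rw [pow_three] at h3
      calc Ta * Tt = Ta * (Ta * Ta) * (Ta * Tt) := by rw [h3, one_mul]
        _ = _ := by simp only [mul_assoc]
    have r2 : (Ta : R) * Ta * Tt = ((Tt * Ta : Rˣ) : R) := by
      rw [h.rel, Units.val_mul, Units.val_mul]
    have h0 : E * ((1 + (Ta : R) + (Ta : R) * Ta) * (1 + (Tt : R))) * E = 0 := by
      rw [h.fixed, mul_zero, zero_mul]
    simp only [mul_add, add_mul, one_mul, mul_one, mul_assoc] at h0
    simp only [← mul_assoc (Ta : R)] at h0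
    rw [r1, r2] at h0
    rw [Units.val_mul] at z2
    rw [hE] at h0 ⊢
    simp only [mul_assoc, Units.val_mul] at h0 z1 z2 z3 z4 z5
    simpa [z1, z2, z3, z4, z5, orbIdem_sq M hM l] using h0
  rw [hE0, mul_zero]

end Proof

end Cfsg.Agent.Perm.S3Module
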