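import Cfsg.Agent.Lib.Perm.SubnormalizerCount

/-!
# The subnormalizer count along a p-series
-/

set_option autoImplicit false

namespace Cfsg.Agent.Perm.SubnormalizerChain

open Cfsg.Agent.Perm.SubnormalizerCount

universe u

/-- Order of the centralizer of `H` in the section `B / A`. -/
noncomputable def centFactor {G : Type u} [Group G] (H A B : Subgroup G) : ℕ :=
  Nat.card {u : G // u ∈ B ∧ ∀ h ∈ H, h * u * h⁻¹ * u⁻¹ ∈ A} / Nat.card A

theorem centFactor_map {G : Type u} [Group G] [Finite G] (M H A B : Subgroup G) [M.Normal] (hA : M ≤ A)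
    (hB : M ≤ B) :
    centFactor (H.map (QuotientGroup.mk' M)) (A.map (QuotientGroup.mk' M)) (B.map (QuotientGroup.mk' M)) =
      centFactor H A B := by
  set π := QuotientGroup.mk' M with hπ
  have hAc : (A.map π).comap π = A := Subgroup.comap_map_eq_self (by rw [hπ, QuotientGroup.ker_mk']; exact hA)
  have hBc : (B.map π).comap π = B := Subgroup.comap_map_eq_self (by rw [hπ, QuotientGroup.ker_mk']; exact hB)
  have hcard : ∀ S : Subgroup G, M ≤ S → Nat.card S = Nat.card M * Nat.card (S.map π) := by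
    intro S hS
    have hc : (S.map π).comap π = S := Subgroup.comap_map_eq_self (by rw [hπ, QuotientGroup.ker_mk']; exact hS)
    have h := Nat.card_congr (QuotientGroup.preimageMkEquivSubgroupProdSet M ((S.map π : Subgroup (G ⧸ M)) : Set _))
    rw [Nat.card_prod] at h
    have e : Nat.card S = Nat.card ((S.map π).comap π) := by rw [hc]
    exact e.trans h
  let U : Set (G ⧸ M) := {q | q ∈ B.map π ∧ ∀ h ∈ H.map π, h * q * h⁻¹ * q⁻¹ ∈ A.map π}
  have hiff : ∀ u : G, (u ∈ B ∧ ∀ h ∈ H, h * u * h⁻¹ * u⁻¹ ∈ A) ↔ (u : G ⧸ M) ∈ U := by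
    intro u
    show _ ↔ (u : G ⧸ M) ∈ B.map π ∧ ∀ h ∈ H.map π, _
    constructor
    · rintro ⟨h1, h2⟩
      refine ⟨⟨u, h1, rfl⟩, ?_⟩
      rintro _ ⟨h, hh, rfl⟩
      exact ⟨_, h2 h hh, by simp [hπ]⟩
    · rintro ⟨h1, h2⟩
      refine ⟨hBc ▸ (h1 : u ∈ (B.map π).comap π), fun h hh => hAc ▸ ?_⟩
      show π (h * u * h⁻¹ * u⁻¹) ∈ A.map π
      rw [map_mul, map_mul, map_mul, map_inv, map_inv]
      exact h2 _ ⟨h, hh, rfl⟩
  have hU : Nat.card {u : G // u ∈ B ∧ ∀ h ∈ H, h * u * h⁻¹ * u⁻¹ ∈ A} = Nat.card M * Nat.card U :=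
    ((Nat.card_congr (Equiv.subtypeEquivRight hiff)).trans
      (Nat.card_congr (QuotientGroup.preimageMkEquivSubgroupProdSet M U))).trans (Nat.card_prod _ _)
  rw [centFactor, centFactor, hU, hcard A hA, Nat.mul_div_mul_left _ _ Nat.card_pos]
  rfl

theorem count (p : ℕ) [Fact p.Prime] : ∀ (n : ℕ) {G : Type u} [Group G] [Finite G] (H : Subgroup G),
    IsPGroup p H → ∀ (P : Sylow p G) (M : Fin (n + 1) → Subgroup G), M 0 = ⊥ → M (Fin.last n) = ⊤ →
      Monotone M → (∀ i, (M i).Normal) →
      (∀ i : Fin n, (∃ m : ℕ, (M i.castSucc).relIndex (M i.succ) = p ^ m) ∨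
        ((M i.castSucc).relIndex (M i.succ)).Coprime p) →
      Nat.card (Good p H) = Nat.card (P : Subgroup G) *
        ∏ i : Fin n, (if ((M i.castSucc).relIndex (M i.succ)).Coprime p then
          centFactor H (M i.castSucc) (M i.succ) else 1) := by
  intro n
  induction n with
  | zero =>
    intro G _ _ H _ P M h0 hn _ _ _
    have htb : (⊤ : Subgroup G) = ⊥ := by rw [← hn, ← h0]; rfl
    haveI : Subsingleton G := ⟨fun a b => by
      have ha : a ∈ (⊤ : Subgroup G) := Subgroup.mem_top a
      have hb : b ∈ (⊤ : Subgroup G) := Subgroup.mem_top b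
      rw [htb, Subgroup.mem_bot] at ha hb
      rw [ha, hb]⟩
    haveI : Nonempty (Good p H) := ⟨⟨1, by
      intro x
      exact ⟨0, Subsingleton.elim _ _⟩⟩⟩
    simp [Nat.card_unique]
  | succ n ih =>
    intro G _ _ H hH P M h0 hn hmono hnormal hfac
    set M1 := M (0 : Fin (n + 1)).succ with hM1
    haveI := hnormal (0 : Fin (n + 1)).succ
    haveI : M1.Normal := hnormal _
    set π := QuotientGroup.mk' M1 with hπ
    have hle : ∀ i : Fin (n + 1), M1 ≤ M i.succ := fun i => hmono (Fin.succ_le_succ_iff.2 (Fin.zero_le i))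
    let M' : Fin (n + 1) → Subgroup (G ⧸ M1) := fun i => (M i.succ).map π
    have hc : ∀ i : Fin (n + 1), (M' i).comap π = M i.succ := fun i =>
      Subgroup.comap_map_eq_self (by rw [hπ, QuotientGroup.ker_mk']; exact hle i)
    have hcs : ∀ i : Fin n, i.castSucc.succ = i.succ.castSucc := fun i => Fin.succ_castSucc i
    have hrel : ∀ i : Fin n, (M' i.castSucc).relIndex (M' i.succ) =
        (M i.succ.castSucc).relIndex (M i.succ.succ) := fun i => by
      rw [← hcs i, ← hc i.castSucc, Subgroup.relIndex_comap]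
    obtain ⟨Pb⟩ : Nonempty (Sylow p (G ⧸ M1)) := inferInstance
    have hind := ih (H.map π) (hH.map π) Pb M' (by
        show (M (0 : Fin (n + 1)).succ).map π = ⊥
        rw [Subgroup.map_eq_bot_iff, hπ, QuotientGroup.ker_mk'])
      (by
        show (M (Fin.last n).succ).map π = ⊤
        rw [Fin.succ_last, hn, Subgroup.map_top_of_surjective π (QuotientGroup.mk'_surjective M1)])
      (fun a b h => Subgroup.map_mono (hmono (Fin.succ_le_succ_iff.2 h)))
      (fun i => (hnormal _).map π (QuotientGroup.mk'_surjective M1))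
      (fun i => by rw [hrel]; exact hfac i.succ)
    have hprod : ∏ i : Fin n, (if ((M' i.castSucc).relIndex (M' i.succ)).Coprime p then
          centFactor (H.map π) (M' i.castSucc) (M' i.succ) else 1) =
        ∏ i : Fin n, (if ((M i.succ.castSucc).relIndex (M i.succ.succ)).Coprime p then
          centFactor H (M i.succ.castSucc) (M i.succ.succ) else 1) := by
      refine Finset.prod_congr rfl fun i _ => ?_
      rw [hrel, ← hcs i]
      congr 1
      exact centFactor_map M1 H _ _ (hle _) (hle _)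
    have hindex : (M (0 : Fin (n + 1)).castSucc).relIndex M1 = Nat.card M1 := by
      rw [Fin.castSucc_zero, h0, Subgroup.relIndex_bot_left]
    have hPcard : Nat.card (P : Subgroup G) = p ^ ((Nat.card M1).factorization p) * Nat.card (Pb : Subgroup (G ⧸ M1)) := by
      rw [P.card_eq_multiplicity, Pb.card_eq_multiplicity, ← pow_add, ← Subgroup.card_mul_index M1,
        Subgroup.index_eq_card, Nat.factorization_mul Nat.card_pos.ne' Nat.card_pos.ne', Finsupp.add_apply]
    rw [Fin.prod_univ_succ, ← hprod]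
    by_cases hco : ((M (0 : Fin (n + 1)).castSucc).relIndex M1).Coprime p
    · rw [if_pos hco]
      rw [hindex] at hco
      rw [card_good_coprime M1 hco H hH, hind, hPcard, Nat.factorization_eq_zero_of_not_dvd
        ((Fact.out : p.Prime).coprime_iff_not_dvd.1 hco.symm), pow_zero, one_mul]
      have hcf : centFactor H (M (0 : Fin (n + 1)).castSucc) M1 =
          Nat.card {u : G // u ∈ M1 ∧ ∀ h ∈ H, h * u = u * h} := by
        rw [centFactor, Fin.castSucc_zero, h0, Subgroup.card_bot, Nat.div_one]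
        refine Nat.card_congr (Equiv.subtypeEquivRight fun u => and_congr_right fun _ => ?_)
        exact forall₂_congr fun h _ => by rw [Subgroup.mem_bot, mul_inv_eq_one, mul_inv_eq_iff_eq_mul]
      rw [hcf]
      ring
    · rw [if_neg hco, one_mul]
      obtain ⟨m, hm⟩ := (hfac 0).resolve_right hco
      rw [hindex] at hm
      rw [card_good_p M1 (IsPGroup.of_card hm) H, hind, hPcard, hm, Nat.Prime.factorization_pow (Fact.out : p.Prime),
        Finsupp.single_eq_same]
      ring

end Cfsg.Agent.Perm.SubnormalizerChain
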