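import Cfsg.Agent.Lib.Perm.Subnormalizer

/-!
# Counting the subnormalizer of a p-subgroup along a normal subgroup
-/

set_option autoImplicit false

open scoped Pointwise

namespace Cfsg.Agent.Perm.SubnormalizerCount

universe u

variable {G : Type u} [Group G]

/-- The smallest subgroup containing `H` normalised by `g`. -/
def K (H : Subgroup G) (g : G) : Subgroup G :=
  Subgroup.closure {x | ∃ i : ℤ, ∃ h ∈ H, x = g ^ i * h * (g ^ i)⁻¹}

theorem le_K (H : Subgroup G) (g : G) : H ≤ K H g :=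
  fun h hh => Subgroup.subset_closure ⟨0, h, hh, by simp⟩

theorem K_le {H R : Subgroup G} {g : G} (hH : H ≤ R) (hg : g ∈ Subgroup.normalizer (R : Set G)) : K H g ≤ R := by
  rw [K, Subgroup.closure_le]
  rintro x ⟨i, h, hh, rfl⟩
  exact (Subgroup.mem_normalizer_iff.1 (zpow_mem hg i) h).1 (hH hh)

theorem mem_normalizer_K [Finite G] (H : Subgroup G) (g : G) : g ∈ Subgroup.normalizer (K H g : Set G) := by
  have h1 : (K H g).map (MulAut.conj g).toMonoidHom ≤ K H g := by
    rw [K, MonoidHom.map_closure, Subgroup.closure_le]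
    rintro x ⟨y, ⟨i, h, hh, rfl⟩, rfl⟩
    refine Subgroup.subset_closure ⟨1 + i, h, hh, ?_⟩
    show g * (g ^ i * h * (g ^ i)⁻¹) * g⁻¹ = _
    rw [zpow_add, zpow_one]
    group
  have h2 : (K H g).map (MulAut.conj g).toMonoidHom = K H g := Subgroup.eq_of_le_of_card_ge h1
    (le_of_eq (Subgroup.card_map_of_injective (MulAut.conj g).injective).symm)
  refine Subgroup.mem_normalizer_iff.2 fun b => ⟨fun hb => h1 ⟨b, hb, rfl⟩, fun hb => ?_⟩
  rw [← h2] at hb
  obtain ⟨a, ha, e⟩ := hb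
  have : a = b := (MulAut.conj g).injective e
  exact this ▸ ha

theorem map_K {G' : Type*} [Group G'] (f : G →* G') (H : Subgroup G) (g : G) :
    (K H g).map f = K (H.map f) (f g) := by
  rw [K, K, MonoidHom.map_closure]
  congr 1
  ext x
  constructor
  · rintro ⟨y, ⟨i, h, hh, rfl⟩, rfl⟩
    exact ⟨i, f h, ⟨h, hh, rfl⟩, by rw [map_mul, map_mul, map_inv, map_zpow]⟩
  · rintro ⟨i, _, ⟨h, hh, rfl⟩, rfl⟩
    exact ⟨g ^ i * h * (g ^ i)⁻¹, ⟨i, h, hh, rfl⟩, by rw [map_mul, map_mul, map_inv, map_zpow]⟩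

variable [Finite G] {p : ℕ} [Fact p.Prime]

theorem subnormal_iff {H : Subgroup G} (hH : IsPGroup p H) (g : G) :
    (H.subgroupOf (H ⊔ Subgroup.zpowers g)).IsSubnormal ↔ IsPGroup p (K H g) := by
  rw [Cfsg.Agent.Perm.subnormalizer_iff hH]
  exact ⟨fun ⟨R, h1, h2, h3⟩ => h2.to_le (K_le h1 h3), fun h => ⟨_, le_K H g, h, mem_normalizer_K H g⟩⟩

/-- The subnormalizer. -/
abbrev Good (p : ℕ) (H : Subgroup G) : Type u := {g : G // IsPGroup p (K H g)}

omit [Finite G] [Fact p.Prime] in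
theorem image_good (M : Subgroup G) [M.Normal] {H : Subgroup G} {g : G} (h : IsPGroup p (K H g)) :
    IsPGroup p (K (H.map (QuotientGroup.mk' M)) (g : G ⧸ M)) := by
  have := h.map (QuotientGroup.mk' M)
  rwa [map_K] at this

/-- Factor of p-power order. -/
theorem card_good_p (M : Subgroup G) [M.Normal] (hM : IsPGroup p M) (H : Subgroup G) :
    Nat.card (Good p H) = Nat.card M * Nat.card (Good p (H.map (QuotientGroup.mk' M))) := by
  have hiff : ∀ g : G, IsPGroup p (K H g) ↔ IsPGroup p (K (H.map (QuotientGroup.mk' M)) (g : G ⧸ M)) := by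
    intro g
    refine ⟨image_good M, fun h => ?_⟩
    have h1 : IsPGroup p ((K (H.map (QuotientGroup.mk' M)) (g : G ⧸ M)).comap (QuotientGroup.mk' M)) :=
      h.comap_of_ker_isPGroup _ (by rw [QuotientGroup.ker_mk']; exact hM)
    refine h1.to_le ?_
    rw [show (g : G ⧸ M) = QuotientGroup.mk' M g from rfl, ← map_K]
    exact Subgroup.le_comap_map _ _
  let e : Good p H ≃ {g : G // (g : G ⧸ M) ∈ {q : G ⧸ M | IsPGroup p (K (H.map (QuotientGroup.mk' M)) q)}} :=
    Equiv.subtypeEquivRight hiff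
  rw [Nat.card_congr e]
  exact (Nat.card_congr (QuotientGroup.preimageMkEquivSubgroupProdSet M
    {q : G ⧸ M | IsPGroup p (K (H.map (QuotientGroup.mk' M)) q)})).trans (Nat.card_prod _ _)

set_option maxHeartbeats 1000000 in
/-- Factor of order prime to p. -/
theorem card_good_coprime (M : Subgroup G) [M.Normal] (hM : (Nat.card M).Coprime p) (H : Subgroup G)
    (hH : IsPGroup p H) :
    Nat.card (Good p H) =
      Nat.card {u : G // u ∈ M ∧ ∀ h ∈ H, h * u = u * h} * Nat.card (Good p (H.map (QuotientGroup.mk' M))) := by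
  classical
  set π := QuotientGroup.mk' M with hπ
  let f : Good p H → Good p (H.map π) := fun g => ⟨(g.1 : G ⧸ M), image_good M g.2⟩
  set c := Nat.card {u : G // u ∈ M ∧ ∀ h ∈ H, h * u = u * h} with hc
  suffices hfib : ∀ q : Good p (H.map π), Nat.card {g : Good p H // f g = q} = c by
    haveI := Fintype.ofFinite (Good p (H.map π))
    rw [← Nat.card_congr (Equiv.sigmaFiberEquiv f), Nat.card_sigma]
    rw [Finset.sum_const_nat (fun q _ => hfib q), Finset.card_univ, ← Nat.card_eq_fintype_card, mul_comm]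
  rintro ⟨q, hq⟩
  obtain ⟨g0, rfl⟩ := QuotientGroup.mk_surjective q
  set Kb := K (H.map π) (g0 : G ⧸ M) with hKb
  set X := Kb.comap π with hX
  have hMX : M ≤ X := fun m hm => by
    show π m ∈ Kb
    rw [hπ, QuotientGroup.mk'_apply, (QuotientGroup.eq_one_iff m).2 hm]
    exact one_mem _
  have hHX : H ≤ X := fun h hh => le_K _ _ ⟨h, hh, rfl⟩
  obtain ⟨S, hS⟩ := (hH.comap_of_injective X.subtype X.subtype_injective : IsPGroup p (H.subgroupOf X)).exists_le_sylow
  set R := (S : Subgroup X).map X.subtype with hR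
  have hRX : R ≤ X := Subgroup.map_subtype_le _
  have hRp : IsPGroup p R := S.2.map _
  have hHR : H ≤ R := fun h hh => ⟨⟨h, hHX hh⟩, hS (Subgroup.mem_subgroupOf.2 hh), rfl⟩
  -- R maps bijectively onto the image
  have hMR : ∀ m ∈ M, m ∈ R → m = 1 := by
    intro m hm hmR
    obtain ⟨k, hk⟩ := IsPGroup.iff_card.1 hRp
    have h1 : orderOf m ∣ Nat.card M := Subgroup.orderOf_dvd_natCard M hm
    have h2 : orderOf m ∣ Nat.card R := Subgroup.orderOf_dvd_natCard R hmR
    rw [hk] at h2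
    exact orderOf_eq_one_iff.1 (Nat.eq_one_of_dvd_coprimes (hM.pow_right k) h1 h2)
  have hcardX : Nat.card X = Nat.card Kb * Nat.card M := by
    have h := Nat.card_congr (QuotientGroup.preimageMkEquivSubgroupProdSet M (Kb : Set (G ⧸ M)))
    rw [Nat.card_prod, mul_comm] at h
    exact h
  have hRcard : Nat.card R = Nat.card Kb := by
    obtain ⟨a, ha⟩ := IsPGroup.iff_card.1 hq
    rw [hR, Subgroup.card_map_of_injective X.subtype_injective, S.card_eq_multiplicity, hcardX, ha,
      Nat.factorization_mul (pow_ne_zero _ (Fact.out : p.Prime).ne_zero) Nat.card_pos.ne',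
      Nat.Prime.factorization_pow (Fact.out : p.Prime), Finsupp.add_apply, Finsupp.single_eq_same,
      Nat.factorization_eq_zero_of_not_dvd
        ((Fact.out : p.Prime).coprime_iff_not_dvd.1 hM.symm), add_zero]
  have hdecomp : ∀ x ∈ X, ∃ m ∈ M, ∃ r ∈ R, x = m * r := by
    have hsurj : Function.Surjective (fun r : R => (⟨π r, hRX r.2⟩ : Kb)) := by
      refine (Function.Injective.bijective_of_nat_card_le (fun r r' e => Subtype.ext ?_) hRcard.ge).2
      have e' : π r = π r' := congrArg Subtype.val e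
      have : (r : G)⁻¹ * r' ∈ M := QuotientGroup.eq.1 e'
      exact inv_mul_eq_one.1 (hMR _ this (mul_mem (inv_mem r.2) r'.2))
    intro x hx
    obtain ⟨r, hr⟩ := hsurj ⟨π x, hx⟩
    have hr' : π r = π x := congrArg Subtype.val hr
    refine ⟨x * (r : G)⁻¹, ?_, r, r.2, by group⟩
    rw [← QuotientGroup.eq_one_iff]
    show π (x * (r : G)⁻¹) = 1
    rw [map_mul, map_inv, hr', mul_inv_cancel]
  -- g0 normalises X
  have hXn : ∀ x ∈ X, g0 * x * g0⁻¹ ∈ X := fun x hx => by
    show π (g0 * x * g0⁻¹) ∈ Kb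
    rw [map_mul, map_mul, map_inv]
    exact (Subgroup.mem_normalizer_iff.1 (mem_normalizer_K _ _) (π x)).1 hx
  -- adjust to normalise R
  obtain ⟨g1, hg1, hg1R⟩ : ∃ g1 : G, (g1 : G ⧸ M) = (g0 : G ⧸ M) ∧ ∀ r ∈ R, g1 * r * g1⁻¹ ∈ R := by
    set R' := R.map (MulAut.conj g0).toMonoidHom with hR'
    have hR'X : R' ≤ X := by rintro _ ⟨r, hr, rfl⟩; exact hXn r (hRX hr)
    have hcard : Nat.card (R'.subgroupOf X) = p ^ (Nat.card X).factorization p := by
      rw [Nat.card_congr (Subgroup.subgroupOfEquivOfLe hR'X).toEquiv, hR',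
        Subgroup.card_map_of_injective (MulAut.conj g0).injective, hR,
        Subgroup.card_map_of_injective X.subtype_injective]
      exact S.card_eq_multiplicity
    obtain ⟨x, hx⟩ := MulAction.exists_smul_eq X (Sylow.ofCard (R'.subgroupOf X) hcard) S
    have hxR : ∀ r ∈ R, (x : G) * (g0 * r * g0⁻¹) * (x : G)⁻¹ ∈ R := fun r hr => by
      have h0 : g0 * r * g0⁻¹ ∈ R' := ⟨r, hr, rfl⟩
      have h1 : x * ⟨g0 * r * g0⁻¹, hR'X h0⟩ * x⁻¹ ∈ (S : Subgroup X) := by
        rw [← hx]; exact ⟨_, (Subgroup.mem_subgroupOf.2 h0 :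
          (⟨g0 * r * g0⁻¹, hR'X h0⟩ : X) ∈ (Sylow.ofCard (R'.subgroupOf X) hcard : Subgroup X)), rfl⟩
      exact ⟨_, h1, rfl⟩
    obtain ⟨m, hm, r', hr', hxe⟩ := hdecomp x⁻¹ (X.inv_mem x.2)
    refine ⟨m⁻¹ * g0, ?_, fun r hr => ?_⟩
    · rw [QuotientGroup.eq, mul_inv_rev, inv_inv, mul_assoc]
      simpa [mul_assoc] using ‹M.Normal›.conj_mem m hm g0⁻¹
    · have hx' : (x : G) = r'⁻¹ * m⁻¹ := by rw [← inv_inv (x : G), hxe, mul_inv_rev]
      have := hxR r hr
      rw [hx'] at this
      have h2 := R.mul_mem (R.mul_mem hr' this) (R.inv_mem hr')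
      simpa [mul_assoc] using h2
  -- the centralizer of H in M and its subgroup centralising R
  let CM : Subgroup G := M ⊓ Subgroup.centralizer (H : Set G)
  let D : Subgroup CM := (Subgroup.centralizer (R : Set G)).subgroupOf CM
  have hcCM : c = Nat.card CM := by
    refine Nat.card_congr (Equiv.subtypeEquivRight fun u => ?_)
    rw [Subgroup.mem_inf, Subgroup.mem_centralizer_iff]
    exact Iff.rfl
  have hconjR : ∀ (m : G), m ∈ M → (∀ h ∈ H, m * h * m⁻¹ ∈ R) → m ∈ Subgroup.centralizer (H : Set G) := by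
    intro m hm hmh
    refine Subgroup.mem_centralizer_iff.2 fun h hh => ?_
    have h1 : m * h * m⁻¹ * h⁻¹ ∈ M := by
      rw [show m * h * m⁻¹ * h⁻¹ = m * (h * m⁻¹ * h⁻¹) by group]
      exact mul_mem hm (‹M.Normal›.conj_mem _ (inv_mem hm) h)
    have := hMR _ h1 (mul_mem (hmh h hh) (inv_mem (hHR hh)))
    rw [mul_inv_eq_one] at this
    exact ((mul_inv_eq_iff_eq_mul.1 this)).symm
  have hnormR : ∀ d ∈ M, (∀ r ∈ R, d * r * d⁻¹ ∈ R) → d ∈ Subgroup.centralizer (R : Set G) := by
    intro d hd hdR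
    refine Subgroup.mem_centralizer_iff.2 fun r hr => ?_
    have h1 : d * r * d⁻¹ * r⁻¹ ∈ M := by
      rw [show d * r * d⁻¹ * r⁻¹ = d * (r * d⁻¹ * r⁻¹) by group]
      exact mul_mem hd (‹M.Normal›.conj_mem _ (inv_mem hd) r)
    have := hMR _ h1 (mul_mem (hdR r hr) (inv_mem hr))
    rw [mul_inv_eq_one] at this
    exact ((mul_inv_eq_iff_eq_mul.1 this)).symm
  have hpG : ∀ (t : CM) (d : D), ∀ x ∈ R.map (MulAut.conj (t : G)).toMonoidHom,
      ((t : G) * g1 * ((d : CM) : G) * (t : G)⁻¹) * x * ((t : G) * g1 * ((d : CM) : G) * (t : G)⁻¹)⁻¹ ∈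
        R.map (MulAut.conj (t : G)).toMonoidHom := by
    rintro t d _ ⟨r, hr, rfl⟩
    refine ⟨g1 * r * g1⁻¹, hg1R r hr, ?_⟩
    have hd : ((d : CM) : G) * r * ((d : CM) : G)⁻¹ = r := by
      have h' : r * ((d : CM) : G) = ((d : CM) : G) * r :=
        Subgroup.mem_centralizer_iff.1 (Subgroup.mem_subgroupOf.1 d.2) r hr
      rw [← h', mul_inv_cancel_right]
    show (t : G) * (g1 * r * g1⁻¹) * (t : G)⁻¹ = _ * ((t : G) * r * (t : G)⁻¹) * _
    conv_lhs => rw [← hd]
    group
  have hKeq : ∀ (t : CM) (d : D), K H ((t : G) * g1 * ((d : CM) : G) * (t : G)⁻¹) =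
      R.map (MulAut.conj (t : G)).toMonoidHom ∧
      (((t : G) * g1 * ((d : CM) : G) * (t : G)⁻¹ : G) : G ⧸ M) = (g0 : G ⧸ M) := by
    intro t d
    have him : (((t : G) * g1 * ((d : CM) : G) * (t : G)⁻¹ : G) : G ⧸ M) = (g0 : G ⧸ M) := by
      have ht : ((t : G) : G ⧸ M) = 1 := (QuotientGroup.eq_one_iff _).2 (Subgroup.mem_inf.1 t.2).1
      have hd : (((d : CM) : G) : G ⧸ M) = 1 := (QuotientGroup.eq_one_iff _).2 (Subgroup.mem_inf.1 (d : CM).2).1
      rw [QuotientGroup.mk_mul, QuotientGroup.mk_mul, QuotientGroup.mk_mul, QuotientGroup.mk_inv, ht, hd, hg1]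
      group
    refine ⟨Subgroup.eq_of_le_of_card_ge (K_le ?_ ?_) ?_, him⟩
    · intro h hh
      refine ⟨h, hHR hh, ?_⟩
      show (t : G) * h * (t : G)⁻¹ = h
      rw [← Subgroup.mem_centralizer_iff.1 (Subgroup.mem_inf.1 t.2).2 h hh, mul_inv_cancel_right]
    · set g := (t : G) * g1 * ((d : CM) : G) * (t : G)⁻¹
      set R' := R.map (MulAut.conj (t : G)).toMonoidHom with hR'
      have h1 : R'.map (MulAut.conj g).toMonoidHom ≤ R' := by
        rintro _ ⟨x, hx, rfl⟩; exact hpG t d x hx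
      have h2 : R'.map (MulAut.conj g).toMonoidHom = R' := Subgroup.eq_of_le_of_card_ge h1
        (le_of_eq (Subgroup.card_map_of_injective (MulAut.conj g).injective).symm)
      refine Subgroup.mem_normalizer_iff.2 fun b => ⟨fun hb => hpG t d b hb, fun hb => ?_⟩
      have hb' : g * b * g⁻¹ ∈ R'.map (MulAut.conj g).toMonoidHom := by rw [h2]; exact hb
      obtain ⟨a, ha, e⟩ := hb'
      have : a = b := (MulAut.conj g).injective e
      exact this ▸ ha
    · rw [Subgroup.card_map_of_injective (MulAut.conj (t : G)).injective, hRcard]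
      have h1 := Subgroup.card_dvd_of_surjective (π.subgroupMap (K H ((t : G) * g1 * ((d : CM) : G) * (t : G)⁻¹)))
        (π.subgroupMap_surjective _)
      rw [map_K, show π ((t : G) * g1 * ((d : CM) : G) * (t : G)⁻¹) = (g0 : G ⧸ M) from him] at h1
      exact Nat.le_of_dvd Nat.card_pos h1
  let φ : (CM ⧸ D) × D → {g : Good p H // f g = ⟨(g0 : G ⧸ M), hq⟩} := fun x =>
    ⟨⟨(x.1.out : G) * g1 * ((x.2 : CM) : G) * (x.1.out : G)⁻¹, by
      rw [(hKeq x.1.out x.2).1]; exact hRp.map _⟩, Subtype.ext (hKeq x.1.out x.2).2⟩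
  have hbij : Function.Bijective φ := by
    constructor
    · rintro ⟨a, d⟩ ⟨a', d'⟩ e
      have e1 : (a.out : G) * g1 * ((d : CM) : G) * (a.out : G)⁻¹ =
          (a'.out : G) * g1 * ((d' : CM) : G) * (a'.out : G)⁻¹ := congrArg (fun g => g.1.1) e
      have e2 : R.map (MulAut.conj (a.out : G)).toMonoidHom = R.map (MulAut.conj (a'.out : G)).toMonoidHom := by
        rw [← (hKeq a.out d).1, ← (hKeq a'.out d').1, e1]
      have hcos : a'.out⁻¹ * a.out ∈ D := by
        refine Subgroup.mem_subgroupOf.2 (hnormR _ ?_ fun r hr => ?_)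
        · exact (Subgroup.mem_inf.1 (a'.out⁻¹ * a.out).2).1
        · have : (a.out : G) * r * (a.out : G)⁻¹ ∈ R.map (MulAut.conj (a'.out : G)).toMonoidHom :=
            e2 ▸ ⟨r, hr, rfl⟩
          obtain ⟨r', hr', e3⟩ := this
          have e4 : (a'.out : G) * r' * (a'.out : G)⁻¹ = (a.out : G) * r * (a.out : G)⁻¹ := e3
          rw [Subgroup.coe_mul, Subgroup.coe_inv,
            show (a'.out : G)⁻¹ * (a.out : G) * r * ((a'.out : G)⁻¹ * (a.out : G))⁻¹ =
              (a'.out : G)⁻¹ * ((a.out : G) * r * (a.out : G)⁻¹) * (a'.out : G) by group, ← e4,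
            show (a'.out : G)⁻¹ * ((a'.out : G) * r' * (a'.out : G)⁻¹) * (a'.out : G) = r' by group]
          exact hr'
      have ha : a = a' := by
        rw [← a.out_eq', ← a'.out_eq']
        exact (QuotientGroup.eq.2 hcos).symm
      subst ha
      have e5 : ((d : CM) : G) = ((d' : CM) : G) :=
        mul_left_cancel (mul_right_cancel e1)
      exact Prod.ext rfl (Subtype.ext (Subtype.ext e5))
    · rintro ⟨⟨g, hg⟩, hgq⟩
      have hgq' : (g : G ⧸ M) = (g0 : G ⧸ M) := congrArg Subtype.val hgq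
      have hKX : K H g ≤ X := by
        refine K_le hHX ?_
        refine Subgroup.mem_normalizer_iff.2 fun b => ?_
        show π b ∈ Kb ↔ π (g * b * g⁻¹) ∈ Kb
        rw [map_mul, map_mul, map_inv, show π g = (g0 : G ⧸ M) from hgq']
        exact Subgroup.mem_normalizer_iff.1 (mem_normalizer_K _ _) _
      obtain ⟨S', hS'⟩ := (hg.comap_of_injective X.subtype X.subtype_injective :
        IsPGroup p ((K H g).subgroupOf X)).exists_le_sylow
      obtain ⟨x, hx⟩ := MulAction.exists_smul_eq X S S'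
      obtain ⟨m, hm, r', hr', hxe⟩ := hdecomp x x.2
      have hKm : K H g ≤ R.map (MulAut.conj m).toMonoidHom := by
        intro y hy
        have h1 : (⟨y, hKX hy⟩ : X) ∈ (S' : Subgroup X) := hS' (Subgroup.mem_subgroupOf.2 hy)
        rw [← hx] at h1
        obtain ⟨s, hs, e⟩ := h1
        have e' : (x : G) * (s : G) * (x : G)⁻¹ = y := congrArg Subtype.val e
        refine ⟨r' * s * r'⁻¹, mul_mem (mul_mem hr' ⟨s, hs, rfl⟩) (inv_mem hr'), ?_⟩
        show m * (r' * s * r'⁻¹) * m⁻¹ = y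
        rw [← e', hxe]; group
      have hKeq' : K H g = R.map (MulAut.conj m).toMonoidHom := by
        refine Subgroup.eq_of_le_of_card_ge hKm ?_
        rw [Subgroup.card_map_of_injective (MulAut.conj m).injective, hRcard]
        have h1 := Subgroup.card_dvd_of_surjective (π.subgroupMap (K H g)) (π.subgroupMap_surjective _)
        rw [map_K, show π g = (g0 : G ⧸ M) from hgq'] at h1
        exact Nat.le_of_dvd Nat.card_pos h1
      have hmC : m⁻¹ ∈ Subgroup.centralizer (H : Set G) := hconjR _ (inv_mem hm) fun h hh => by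
        obtain ⟨r, hr, e⟩ := hKeq' ▸ le_K H g hh
        have e' : m * r * m⁻¹ = h := e
        rw [← e', show m⁻¹ * (m * r * m⁻¹) * m⁻¹⁻¹ = r by group]
        exact hr
      let mC : CM := ⟨m, Subgroup.mem_inf.2 ⟨hm, by simpa using inv_mem hmC⟩⟩
      set a : CM ⧸ D := QuotientGroup.mk mC with ha
      set t := a.out with ht
      have hta : t⁻¹ * mC ∈ D := QuotientGroup.eq.1 (a.out_eq'.trans ha)
      -- conjugating by t or by m gives the same subgroup
      have hKt : K H g = R.map (MulAut.conj (t : G)).toMonoidHom := by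
        rw [hKeq']
        refine Subgroup.eq_of_le_of_card_ge ?_ (le_of_eq ?_)
        · rintro _ ⟨r, hr, rfl⟩
          refine ⟨r, hr, ?_⟩
          have h1 := Subgroup.mem_centralizer_iff.1 (Subgroup.mem_subgroupOf.1 hta) r hr
          have h1' : r * ((t : G)⁻¹ * m) = ((t : G)⁻¹ * m) * r := by simpa [mC] using h1
          show (t : G) * r * (t : G)⁻¹ = m * r * m⁻¹
          calc (t : G) * r * (t : G)⁻¹ = (t : G) * (r * ((t : G)⁻¹ * m)) * m⁻¹ := by group
            _ = (t : G) * (((t : G)⁻¹ * m) * r) * m⁻¹ := by rw [h1']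
            _ = m * r * m⁻¹ := by group
        · exact (Subgroup.card_map_of_injective (f := (MulAut.conj (t : G)).toMonoidHom)
              (MulAut.conj (t : G)).injective).trans
            (Subgroup.card_map_of_injective (f := (MulAut.conj m).toMonoidHom) (MulAut.conj m).injective).symm
      have hgt : ∀ r ∈ R, ((t : G)⁻¹ * g * (t : G)) * r * ((t : G)⁻¹ * g * (t : G))⁻¹ ∈ R := fun r hr => by
        have h1 : (t : G) * r * (t : G)⁻¹ ∈ K H g := hKt ▸ ⟨r, hr, rfl⟩
        have h2 := (Subgroup.mem_normalizer_iff.1 (mem_normalizer_K H g) _).1 h1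
        rw [hKt] at h2
        obtain ⟨r2, hr2, e⟩ := h2
        have e' : (t : G) * r2 * (t : G)⁻¹ = g * ((t : G) * r * (t : G)⁻¹) * g⁻¹ := e
        rw [show (t : G)⁻¹ * g * (t : G) * r * ((t : G)⁻¹ * g * (t : G))⁻¹ =
            (t : G)⁻¹ * (g * ((t : G) * r * (t : G)⁻¹) * g⁻¹) * (t : G) by group, ← e',
          show (t : G)⁻¹ * ((t : G) * r2 * (t : G)⁻¹) * (t : G) = r2 by group]
        exact hr2
      set d0 := g1⁻¹ * ((t : G)⁻¹ * g * (t : G)) with hd0
      have hd0M : d0 ∈ M := by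
        rw [← QuotientGroup.eq_one_iff, hd0]
        simp only [QuotientGroup.mk_mul, QuotientGroup.mk_inv,
          (QuotientGroup.eq_one_iff (t : G)).2 (Subgroup.mem_inf.1 t.2).1, hg1, hgq']
        group
      have hd0C : d0 ∈ Subgroup.centralizer (R : Set G) := by
        refine hnormR d0 hd0M fun r hr => ?_
        have hinv : ∀ r ∈ R, g1⁻¹ * r * g1 ∈ R := by
          intro r hr
          have hmap : R.map (MulAut.conj g1).toMonoidHom = R := Subgroup.eq_of_le_of_card_ge
            (by rintro _ ⟨y, hy, rfl⟩; exact hg1R y hy)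
            (le_of_eq (Subgroup.card_map_of_injective (MulAut.conj g1).injective).symm)
          rw [← hmap] at hr
          obtain ⟨y, hy, rfl⟩ := hr
          show g1⁻¹ * (g1 * y * g1⁻¹) * g1 ∈ R
          rw [show g1⁻¹ * (g1 * y * g1⁻¹) * g1 = y by group]
          exact hy
        have := hinv _ (hgt r hr)
        convert this using 1
        rw [hd0]; group
      let d : D := ⟨⟨d0, Subgroup.mem_inf.2 ⟨hd0M, Subgroup.centralizer_le (SetLike.coe_subset_coe.2 hHR) hd0C⟩⟩,
        Subgroup.mem_subgroupOf.2 hd0C⟩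
      refine ⟨⟨a, d⟩, Subtype.ext (Subtype.ext ?_)⟩
      show (t : G) * g1 * d0 * (t : G)⁻¹ = g
      rw [hd0]; group
  rw [← Nat.card_eq_of_bijective φ hbij, hcCM, Nat.card_prod, Subgroup.card_eq_card_quotient_mul_card_subgroup D]

end Cfsg.Agent.Perm.SubnormalizerCount
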