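import Mathlib.GroupTheory.Sylow
import Mathlib.GroupTheory.Transfer
import Mathlib.GroupTheory.Perm.Sign
import Mathlib.GroupTheory.Perm.Cycle.Type
import Mathlib.GroupTheory.SpecificGroups.Cyclic
import Mathlib.RingTheory.IntegralDomain
import Mathlib.RingTheory.ZMod.UnitsCyclic

/-!
Elementary facts on groups with a given number of Sylow `p`-subgroups: reduction to a group that
acts faithfully on its Sylow subgroups and is generated by `p`-elements, and the structure of such
a group when there are `2 p + 1` Sylow subgroups (M. Hall's argument).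
-/

set_option autoImplicit false

namespace Cfsg.Agent.Perm.SylowCount

open MulAction Subgroup Pointwise

universe u

/-- The set of `p`-elements. -/
def pElts (p : ℕ) (G : Type u) [Group G] : Set G := {g : G | ∃ k : ℕ, g ^ p ^ k = 1}

/-- `G` acts faithfully on its Sylow `p`-subgroups and is generated by `p`-elements. -/
def IsReduced (p : ℕ) (G : Type u) [Group G] : Prop :=
  (∀ g : G, (∀ P : Sylow p G, g • P = P) → g = 1) ∧ Subgroup.closure (pElts p G) = ⊤

variable {G : Type u} [Group G] {p : ℕ} [hp : Fact p.Prime]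

omit hp in
theorem pElts_conj {g : G} (hg : g ∈ pElts p G) (x : G) : x * g * x⁻¹ ∈ pElts p G := by
  obtain ⟨k, hk⟩ := hg
  exact ⟨k, by rw [conj_pow, hk]; simp⟩

omit hp in
instance closure_pElts_normal : (Subgroup.closure (pElts p G)).Normal := by
  refine ⟨fun n hn x => ?_⟩
  refine Subgroup.closure_induction (p := fun n _ => x * n * x⁻¹ ∈ Subgroup.closure (pElts p G))
    ?_ ?_ ?_ ?_ hn
  · exact fun y hy => Subgroup.subset_closure (pElts_conj hy x)
  · simp
  · intro a b _ _ ha hb
    have h : x * (a * b) * x⁻¹ = x * a * x⁻¹ * (x * b * x⁻¹) := by group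
    rw [h]; exact mul_mem ha hb
  · intro a _ ha
    have h : x * a⁻¹ * x⁻¹ = (x * a * x⁻¹)⁻¹ := by group
    rw [h]; exact inv_mem ha

omit hp in
theorem sylow_le_closure_pElts (P : Sylow p G) : (P : Subgroup G) ≤ Subgroup.closure (pElts p G) := by
  intro x hx
  obtain ⟨k, hk⟩ := P.isPGroup' ⟨x, hx⟩
  exact Subgroup.subset_closure ⟨k, by simpa [Subtype.ext_iff] using hk⟩

variable [Finite G]

omit hp in
theorem card_sylow_of_forall_le (H : Subgroup G) (hH : ∀ P : Sylow p G, (P : Subgroup G) ≤ H) :
    Nat.card (Sylow p H) = Nat.card (Sylow p G) := by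
  symm
  refine Nat.card_congr (Equiv.ofBijective (fun P => P.subtype (hH P)) ⟨?_, ?_⟩)
  · intro P Q h; exact Sylow.subtype_injective h
  · intro Q
    obtain ⟨P, hP⟩ := Sylow.exists_comap_subtype_eq Q
    exact ⟨P, Sylow.ext (by rw [Sylow.coe_subtype]; exact hP)⟩

/-- The intersection of the normalisers of all Sylow `p`-subgroups. -/
def sylowKer (p : ℕ) (G : Type u) [Group G] : Subgroup G where
  carrier := {g : G | ∀ P : Sylow p G, g • P = P}
  one_mem' := fun P => one_smul G P
  mul_mem' := fun ha hb P => by rw [mul_smul, hb P, ha P]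
  inv_mem' := fun {a} ha P => by rw [inv_smul_eq_iff, ha P]

omit hp [Finite G] in
instance sylowKer_normal : (sylowKer p G).Normal := by
  refine ⟨fun n hn g P => ?_⟩
  rw [mul_smul, mul_smul, hn, smul_inv_smul]

theorem exists_reduced (G : Type u) [Group G] [Finite G] (p : ℕ) [Fact p.Prime] :
    ∃ (H : Type u) (_ : Group H) (_ : Finite H),
      IsReduced p H ∧ Nat.card (Sylow p H) = Nat.card (Sylow p G) := by
  let H := Subgroup.closure (pElts p G)
  have hcard : Nat.card (Sylow p H) = Nat.card (Sylow p G) :=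
    card_sylow_of_forall_le H sylow_le_closure_pElts
  let K := sylowKer p H
  have hK : ∀ P : Sylow p H, K ≤ Subgroup.normalizer ((P : Subgroup H) : Set H) := fun P g hg =>
    Sylow.smul_eq_iff_mem_normalizer.mp (hg P)
  let π := QuotientGroup.mk' K
  have hπ : Function.Surjective π := QuotientGroup.mk'_surjective K
  let m : Sylow p H → Sylow p (H ⧸ K) := fun P => P.mapSurjective hπ
  have hm : Function.Injective m := by
    intro P Q h
    have h' : (P : Subgroup H).map π = (Q : Subgroup H).map π :=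
      congrArg (fun S : Sylow p (H ⧸ K) => (S : Subgroup (H ⧸ K))) h
    have hQ : (Q : Subgroup H) ≤ (P : Subgroup H) ⊔ K := by
      have := congrArg (Subgroup.comap π) h'
      rw [Subgroup.comap_map_eq, Subgroup.comap_map_eq, QuotientGroup.ker_mk'] at this
      rw [this]; exact le_sup_left
    have hN : (Q : Subgroup H) ≤ Subgroup.normalizer ((P : Subgroup H) : Set H) :=
      hQ.trans (sup_le Subgroup.le_normalizer (hK P))
    have hle : (Q : Subgroup H) ≤ P := fun w hw =>
      (Subgroup.mem_inf.mp ((SetLike.ext_iff.mp (Q.isPGroup'.inf_normalizer_sylow P) w).mp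
        (Subgroup.mem_inf.mpr ⟨hw, hN hw⟩))).2
    exact Sylow.ext (Q.is_maximal' P.isPGroup' hle)
  refine ⟨H ⧸ K, inferInstance, inferInstance, ⟨?_, ?_⟩, ?_⟩
  · intro g hg
    induction g using QuotientGroup.induction_on with
    | _ z =>
      refine (QuotientGroup.eq_one_iff z).mpr fun P => hm ?_
      have := hg (m P)
      refine Sylow.ext ?_
      have h1 : ((m P : Sylow p (H ⧸ K)) : Subgroup (H ⧸ K)) = (P : Subgroup H).map π := rfl
      have h2 : ((m (z • P) : Sylow p (H ⧸ K)) : Subgroup (H ⧸ K))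
          = ((z • P : Sylow p H) : Subgroup H).map π := rfl
      rw [h1, h2]
      have h3 := congrArg (fun S : Sylow p (H ⧸ K) => (S : Subgroup (H ⧸ K))) this
      simp only [Sylow.coe_subgroup_smul, h1] at h3
      rw [Sylow.coe_subgroup_smul]
      refine Eq.trans ?_ h3
      ext y
      simp only [Subgroup.mem_map, Subgroup.mem_smul_pointwise_iff_exists]
      constructor
      · rintro ⟨_, ⟨w, hw, rfl⟩, rfl⟩
        exact ⟨π w, ⟨w, hw, rfl⟩, by simp [π]⟩
      · rintro ⟨_, ⟨w, hw, rfl⟩, rfl⟩
        exact ⟨MulAut.conj z • w, ⟨w, hw, rfl⟩, by simp [π]⟩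
  · have h0 : Subgroup.closure (pElts p H) = ⊤ := by
      have h1 : Subgroup.closure ((↑) ⁻¹' pElts p G : Set H) = ⊤ :=
        Subgroup.closure_closure_coe_preimage
      refine top_le_iff.mp (h1 ▸ Subgroup.closure_mono ?_)
      rintro x ⟨k, hk⟩
      exact ⟨k, Subtype.ext (by simpa using hk)⟩
    have h2 : (⊤ : Subgroup (H ⧸ K)) ≤ (Subgroup.closure (pElts p H)).map π := by
      rw [h0, Subgroup.map_top_of_surjective π hπ]
    refine top_le_iff.mp (h2.trans ?_)
    rw [MonoidHom.map_closure]
    refine Subgroup.closure_mono ?_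
    rintro _ ⟨x, ⟨k, hk⟩, rfl⟩
    exact ⟨k, by rw [← map_pow, hk, map_one]⟩
  · rw [← hcard]
    exact (Nat.card_congr (Equiv.ofBijective m ⟨hm, Sylow.mapSurjective_surjective hπ p⟩)).symm

omit hp [Finite G] in
theorem eq_of_mem_of_smul_eq {P Q : Sylow p G} {x : G} (hx : x ∈ P) (h : x • Q = Q) :
    x ∈ Q := by
  obtain ⟨k, hk⟩ := P.isPGroup' ⟨x, hx⟩
  have hz : IsPGroup p (zpowers x) := P.isPGroup'.to_le (zpowers_le.mpr hx)
  exact (Subgroup.mem_inf.mp ((SetLike.ext_iff.mp (hz.inf_normalizer_sylow Q) x).mp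
    (Subgroup.mem_inf.mpr ⟨mem_zpowers x, Sylow.smul_eq_iff_mem_normalizer.mp h⟩))).2

/-- No group acting faithfully on at most `p ^ 2` Sylow subgroups has these of order `p ^ 2`. -/
theorem card_sylow_ne_sq (hfaith : ∀ g : G, (∀ P : Sylow p G, g • P = P) → g = 1)
    (hn : Nat.card (Sylow p G) ≤ p ^ 2) (P : Sylow p G) : Nat.card P ≠ p ^ 2 := by
  intro hP
  have hcard : ∀ Q : Sylow p G, Nat.card Q = p ^ 2 := fun Q => by
    rw [← hP]; exact Nat.card_congr (Q.equiv P).toEquiv
  have hcomm : ∀ Q : Sylow p G, IsMulCommutative Q := fun Q =>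
    IsPGroup.isMulCommutative_of_card_eq_prime_sq (hcard Q)
  -- two distinct Sylow subgroups meet in a nontrivial element
  have hmeet : ∀ A B : Sylow p G, ∃ x : G, x ∈ A ∧ x ∈ B ∧ x ≠ 1 := by
    intro A B
    by_contra hno
    push Not at hno
    have hinj : Function.Injective (fun a : A => (a : G) • B) := by
      intro a a' h
      have h' : ((a'⁻¹ * a : A) : G) • B = B := by
        change ((a' : G)⁻¹ * (a : G)) • B = B
        replace h : (a : G) • B = (a' : G) • B := h
        rw [mul_smul, h, inv_smul_smul]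
      have hone := hno _ (a'⁻¹ * a : A).2 (eq_of_mem_of_smul_eq (a'⁻¹ * a : A).2 h')
      exact (inv_mul_eq_one.mp (Subtype.ext hone)).symm
    have h1 := Nat.card_le_card_of_injective _ hinj
    have h2 : Nat.card (Sylow p G) = p ^ 2 := le_antisymm hn (hcard A ▸ h1)
    exact not_dvd_card_sylow p G (h2 ▸ dvd_pow_self p two_ne_zero)
  obtain ⟨Q, hQ⟩ : ∃ Q : Sylow p G, Q ≠ P := by
    by_contra h
    push Not at h
    have hne : Nontrivial P := by
      rw [← Finite.one_lt_card_iff_nontrivial]
      rw [hP]; exact Nat.one_lt_pow two_ne_zero hp.out.one_lt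
    obtain ⟨x, hx⟩ := exists_ne (1 : P)
    exact hx (Subtype.ext (hfaith x fun R => by rw [h ((x : G) • R), h R]))
  obtain ⟨x, hxP, hxQ, hx1⟩ := hmeet P Q
  -- some Sylow subgroup avoids `x`
  obtain ⟨R, hR⟩ : ∃ R : Sylow p G, x ∉ R := by
    by_contra h
    push Not at h
    exact hx1 (hfaith x fun R => Sylow.smul_eq_iff_mem_normalizer.mpr
      (Subgroup.le_normalizer (h R)))
  obtain ⟨y, hyP, hyR, hy1⟩ := hmeet P R
  obtain ⟨z, hzQ, hzR, hz1⟩ := hmeet Q R
  have hzx : Commute z x := by
    simpa [Commute, SemiconjBy, Subtype.ext_iff] using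
      (hcomm Q).is_comm.comm (⟨z, hzQ⟩ : Q) ⟨x, hxQ⟩
  have hzy : Commute z y := by
    simpa [Commute, SemiconjBy, Subtype.ext_iff] using
      (hcomm R).is_comm.comm (⟨z, hzR⟩ : R) ⟨y, hyR⟩
  -- `x` and `y` generate `P`
  have hgen : (P : Subgroup G) ≤ closure {x, y} := by
    set D := closure ({x, y} : Set G)
    have hD : D ≤ P := by
      rw [closure_le]; rintro w (rfl | rfl) <;> assumption
    obtain ⟨j, hj, hjc⟩ := (Nat.dvd_prime_pow hp.out).mp (hP ▸ card_dvd_of_le hD)
    have hxD : x ∈ D := subset_closure (Set.mem_insert _ _)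
    have hyD : y ∈ D := subset_closure (Set.mem_insert_of_mem _ rfl)
    interval_cases j
    · have : D = ⊥ := card_eq_one.mp (by simpa using hjc)
      exact absurd (by rw [this] at hxD; exact hxD) hx1
    · exfalso
      have hDp : Nat.card D = p := by simpa using hjc
      have hdiv : Nat.card ↥(D ⊓ (R : Subgroup G)) ∣ p := by
        have hd := card_dvd_of_le (inf_le_left : D ⊓ (R : Subgroup G) ≤ D)
        rwa [hDp] at hd
      rcases (Nat.dvd_prime hp.out).mp hdiv with h1 | h1
      · have := card_eq_one.mp h1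
        exact hy1 ((Subgroup.eq_bot_iff_forall _).mp this y ⟨hyD, hyR⟩)
      · have : D ⊓ (R : Subgroup G) = D := eq_of_le_of_card_ge inf_le_left (by rw [h1, hDp])
        exact hR ((this ▸ inf_le_right : D ≤ (R : Subgroup G)) hxD)
    · exact (eq_of_le_of_card_ge hD (by rw [hP, hjc])).ge
  have hzP : z ∈ P := by
    refine eq_of_mem_of_smul_eq hzQ (Sylow.smul_eq_iff_mem_normalizer.mpr ?_)
    refine Subgroup.mem_normalizer_iff.mpr fun w => ?_
    have key : ∀ w ∈ (P : Subgroup G), Commute z w := fun w hw => by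
      have : w ∈ Subgroup.centralizer {z} := by
        refine (closure_le (K := Subgroup.centralizer {z})).mpr ?_ (hgen hw)
        rintro v (rfl | rfl)
        · exact Subgroup.mem_centralizer_iff.mpr fun h hh => by subst hh; exact hzx
        · exact Subgroup.mem_centralizer_iff.mpr fun h hh => by subst hh; exact hzy
      exact Subgroup.mem_centralizer_iff.mp this z rfl
    constructor
    · intro hw
      rw [(key w hw).eq, mul_inv_cancel_right]; exact hw
    · intro hw
      have := (key _ hw).eq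
      have h2 : w = z * w * z⁻¹ := by
        calc w = z⁻¹ * (z * w * z⁻¹ * z) := by group
          _ = z⁻¹ * (z * (z * w * z⁻¹)) := by rw [this]
          _ = z * w * z⁻¹ := by group
      rwa [← h2] at hw
  -- `z` then lies in `P`, `Q`, `R`; so `x` lies in `R`
  have hpord : ∀ A B : Sylow p G, A ≠ B → Nat.card ↥((A : Subgroup G) ⊓ (B : Subgroup G)) ∣ p := by
    intro A B hAB
    obtain ⟨j, hj, hjc⟩ := (Nat.dvd_prime_pow hp.out).mp
      (hcard A ▸ card_dvd_of_le (inf_le_left : (A : Subgroup G) ⊓ B ≤ A))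
    rw [hjc]
    interval_cases j
    · simp
    · simp
    · exfalso
      refine hAB (Sylow.ext ?_)
      have h := eq_of_le_of_card_ge (inf_le_left : (A : Subgroup G) ⊓ B ≤ A) (by rw [hjc, hcard A])
      exact (A.is_maximal' B.isPGroup' (h ▸ inf_le_right)).symm
  set I : Subgroup G := (P : Subgroup G) ⊓ (Q : Subgroup G)
  have hIR : I ⊓ (R : Subgroup G) = I := by
    refine eq_of_le_of_card_ge inf_le_left ?_
    rcases (Nat.dvd_prime hp.out).mp (hpord P Q hQ.symm) with h | h
    · rw [h]; exact Nat.card_pos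
    · have hd := card_dvd_of_le (inf_le_left : I ⊓ R ≤ I)
      rw [h] at hd
      rcases (Nat.dvd_prime hp.out).mp hd with h' | h'
      · exact absurd ((Subgroup.eq_bot_iff_forall _).mp (card_eq_one.mp h') z ⟨⟨hzP, hzQ⟩, hzR⟩) hz1
      · rw [h, h']
  exact hR ((inf_eq_left.mp hIR) ⟨hxP, hxQ⟩)

omit hp [Finite G] in
theorem smul_eq_self_of_mem {P : Sylow p G} {x : G} (hx : x ∈ P) : x • P = P :=
  Sylow.smul_eq_iff_mem_normalizer.mpr (Subgroup.le_normalizer hx)

/-- In a group acting faithfully on `2 p + 1` Sylow `p`-subgroups, all of order `p`, and generated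
by `p`-elements, the Sylow subgroups are self-centralising. -/
theorem centralizer_eq_self (hp2 : p ≠ 2) (hred : IsReduced p G)
    (hn : Nat.card (Sylow p G) = 2 * p + 1) (P : Sylow p G) (hP : Nat.card P = p) :
    Subgroup.centralizer ((P : Subgroup G) : Set G) = P := by
  classical
  have hPcyc : IsCyclic P := isCyclic_of_prime_card hP
  have hPab : IsMulCommutative P := inferInstance
  refine le_antisymm ?_ (fun x hx => Subgroup.mem_centralizer_iff.mpr fun y hy => by
    simpa [Subtype.ext_iff] using hPab.is_comm.comm (⟨y, hy⟩ : P) ⟨x, hx⟩)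
  by_contra hne
  obtain ⟨x, hxP, hx1⟩ : ∃ x : G, x ∈ P ∧ x ≠ 1 := by
    have : Nontrivial P := by
      rw [← Finite.one_lt_card_iff_nontrivial, hP]; exact hp.out.one_lt
    obtain ⟨x, hx⟩ := exists_ne (1 : P)
    exact ⟨x, x.2, fun h => hx (Subtype.ext h)⟩
  have hxz : zpowers x = (P : Subgroup G) :=
    eq_of_le_of_card_ge (zpowers_le.mpr hxP) (by
      rw [hP, Nat.card_zpowers]
      rcases (Nat.dvd_prime hp.out).mp (hP ▸ Subgroup.orderOf_dvd_natCard _ hxP) with h | h
      · exact absurd (orderOf_eq_one_iff.mp h) hx1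
      · rw [h])
  have hox : orderOf x = p := by rw [← Nat.card_zpowers, hxz, hP]
  have hxp : x ^ p = 1 := by
    have := pow_orderOf_eq_one x
    rwa [hox] at this
  -- the fixed points and orbits of `x`
  have hfix : ∀ Q : Sylow p G, x • Q = Q → Q = P := fun Q hQ => by
    have h1 := eq_of_mem_of_smul_eq hxP hQ
    exact (Sylow.ext (eq_of_le_of_card_ge (hxz ▸ zpowers_le.mpr h1) (le_of_eq
      (Nat.card_congr (Q.equiv P).toEquiv)))).symm
  have hfree : ∀ Q : Sylow p G, Q ≠ P → ∀ k : ℕ, x ^ k • Q = Q → p ∣ k := by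
    intro Q hQ k hk
    by_contra hpk
    refine hQ (hfix Q ?_)
    have h1 := eq_of_mem_of_smul_eq (pow_mem hxP k) hk
    have hk' : Nat.Coprime (orderOf x) k := by
      rw [hox]; exact hp.out.coprime_iff_not_dvd.mpr hpk
    obtain ⟨m, hm⟩ := exists_pow_eq_self_of_coprime hk'.symm
    exact smul_eq_self_of_mem (hm ▸ pow_mem h1 m)
  -- a `p'`-element centralising `x` and mapping a point into its orbit fixes it
  have horb : ∀ c : G, Commute c x → ¬ p ∣ orderOf c → ∀ Q : Sylow p G, Q ≠ P →
      ∀ k : ℕ, c • Q = x ^ k • Q → c • Q = Q := by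
    intro c hc hcp Q hQ k hk
    have hj : ∀ j : ℕ, c ^ j • Q = x ^ (j * k) • Q := by
      intro j
      induction j with
      | zero => simp
      | succ j ih =>
        rw [pow_succ, mul_smul, hk, ← mul_smul, (hc.pow_pow j k).eq, mul_smul, ih, ← mul_smul,
          ← pow_add, Nat.succ_mul, Nat.add_comm]
    have := hj (orderOf c)
    rw [pow_orderOf_eq_one, one_smul] at this
    have hd := (Nat.Prime.dvd_mul hp.out).mp (hfree Q hQ _ this.symm)
    obtain ⟨m, rfl⟩ := hd.resolve_left hcp
    rw [hk, pow_mul, hxp, one_pow, one_smul]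
  -- an element of the centraliser of order prime to `p`
  obtain ⟨c, hc, hcP⟩ : ∃ c, c ∈ Subgroup.centralizer ((P : Subgroup G) : Set G) ∧
      c ∉ (P : Subgroup G) := by
    by_contra h
    push Not at h
    exact hne h
  have hcx : Commute c x := ((Subgroup.mem_centralizer_iff.mp hc) x hxP).symm
  obtain ⟨c, hcx, hcp, hc1⟩ : ∃ c : G, Commute c x ∧ ¬ p ∣ orderOf c ∧ c ≠ 1 := by
    obtain ⟨a, m, hm, heq⟩ := Nat.exists_eq_pow_mul_and_not_dvd
      (orderOf_pos c).ne' p hp.out.ne_one
    refine ⟨c ^ p ^ a, hcx.pow_left _, ?_, ?_⟩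
    · rw [orderOf_pow_of_dvd (pow_ne_zero _ hp.out.ne_zero) (heq ▸ dvd_mul_right _ _), heq,
        Nat.mul_div_cancel_left _ (pow_pos hp.out.pos _)]
      exact hm
    · intro h
      apply hcP
      have hz : IsPGroup p (zpowers c) := IsPGroup.iff_card.mpr (by
        obtain ⟨j, -, hj⟩ := (Nat.dvd_prime_pow hp.out).mp (orderOf_dvd_of_pow_eq_one h)
        exact ⟨j, by rw [Nat.card_zpowers, hj]⟩)
      have hs : zpowers c ≤ Subgroup.normalizer ((P : Subgroup G) : Set G) := by
        rw [zpowers_le]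
        exact Subgroup.centralizer_le_normalizer _ hc
      exact (Subgroup.mem_inf.mp ((SetLike.ext_iff.mp (hz.inf_normalizer_sylow P) c).mp
        (Subgroup.mem_inf.mpr ⟨mem_zpowers c, hs (mem_zpowers c)⟩))).2
  have hcfix : c • P = P := by
    refine Sylow.smul_eq_iff_mem_normalizer.mpr (Subgroup.centralizer_le_normalizer _ ?_)
    rw [Subgroup.mem_centralizer_iff]
    intro y hy
    replace hy := Subgroup.mem_zpowers_iff.mp ((SetLike.ext_iff.mp hxz y).mpr hy)
    obtain ⟨k, rfl⟩ := hy
    exact ((hcx.zpow_right k)).eq.symm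
  let O : Sylow p G → Finset (Sylow p G) := fun Q => (Finset.range p).image (fun k => x ^ k • Q)
  have hOmem : ∀ Q R : Sylow p G, R ∈ O Q → ∃ k : ℕ, R = x ^ k • Q := fun Q R h => by
    obtain ⟨k, -, hk⟩ := Finset.mem_image.mp h
    exact ⟨k, hk.symm⟩
  have hOcard : ∀ Q, Q ≠ P → (O Q).card = p := by
    intro Q hQ
    rw [Finset.card_image_of_injOn, Finset.card_range]
    have key : ∀ i d : ℕ, i + d < p → x ^ i • Q = x ^ (i + d) • Q → d = 0 := by
      intro i d hd hid
      rw [pow_add, mul_smul] at hid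
      have := hfree Q hQ d ((MulAction.injective (x ^ i)) hid).symm
      rcases Nat.eq_zero_or_pos d with h | h
      · exact h
      · exact absurd (Nat.le_of_dvd h this) (by omega)
    intro i hi j hj hij
    simp only [Finset.coe_range, Set.mem_Iio] at hi hj
    rcases le_total i j with hle | hle
    · obtain ⟨d, rfl⟩ := Nat.exists_eq_add_of_le hle
      rw [key i d hj hij, Nat.add_zero]
    · obtain ⟨d, rfl⟩ := Nat.exists_eq_add_of_le hle
      rw [key j d hi hij.symm, Nat.add_zero]
  have hOP : ∀ Q, Q ≠ P → ∀ R ∈ O Q, R ≠ P := by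
    intro Q hQ R hR h
    obtain ⟨k, hk⟩ := hOmem Q R hR
    refine hQ ?_
    rw [← smul_left_cancel_iff (x ^ k), smul_eq_self_of_mem (pow_mem hxP k), ← hk, h]
  have hmove : ∀ Q, Q ≠ P → c • Q ≠ P := fun Q hQ h => hQ (by
    rw [← smul_left_cancel_iff c, h, hcfix])
  have hcover : ∀ Q R, Q ≠ P → R ≠ P → (∀ k, R ≠ x ^ k • Q) →
      ∀ S, S ≠ P → S ∈ O Q ∨ S ∈ O R := by
    intro Q R hQ hR hne S hS
    have hd : Disjoint (O Q) (O R) := by
      rw [Finset.disjoint_left]
      intro T hT hT'
      obtain ⟨i, rfl⟩ := hOmem Q T hT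
      obtain ⟨j, hj⟩ := hOmem R _ hT'
      refine hne ((p - 1) * j + i) ?_
      rw [pow_add, mul_smul, hj, ← mul_smul, ← pow_add]
      have h0 : (p - 1) * j + j = p * j := by
        conv_rhs => rw [show p = p - 1 + 1 by have := hp.out.pos; omega]
        ring
      rw [h0, pow_mul, hxp, one_pow, one_smul]
    haveI := Fintype.ofFinite (Sylow p G)
    have hu : insert P (O Q ∪ O R) = Finset.univ := by
      apply Finset.eq_univ_of_card
      rw [Finset.card_insert_of_notMem, Finset.card_union_of_disjoint hd, hOcard Q hQ,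
        hOcard R hR, ← Nat.card_eq_fintype_card, hn]
      · omega
      · intro h
        rcases Finset.mem_union.mp h with h | h
        · exact hOP Q hQ P h rfl
        · exact hOP R hR P h rfl
    have := hu ▸ Finset.mem_univ S
    simpa [hS] using this
  -- no fixed point but `P`
  have hnofix : ∀ Q, Q ≠ P → c • Q ≠ Q := by
    intro Q hQ hcQ
    refine hc1 (hred.1 c fun S => ?_)
    by_cases hS : S = P
    · rw [hS, hcfix]
    have hfixorb : ∀ T, T ≠ P → c • T = T → ∀ k : ℕ, c • x ^ k • T = x ^ k • T := by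
      intro T _ h k
      rw [← mul_smul, (hcx.pow_right k).eq, mul_smul, h]
    by_cases hk : ∃ k, S = x ^ k • Q
    · obtain ⟨k, rfl⟩ := hk
      exact hfixorb Q hQ hcQ k
    push Not at hk
    rcases hcover Q S hQ hS hk (c • S) (hmove S hS) with h | h
    · obtain ⟨k, h⟩ := hOmem _ _ h
      exfalso
      refine hk k (MulAction.injective c ?_)
      simp only [h, hfixorb Q hQ hcQ k]
    · obtain ⟨k, h⟩ := hOmem _ _ h
      exact horb c hcx hcp S hS k h
  -- `c ^ 2` fixes every point
  have hsq : c ^ 2 = 1 := by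
    refine hred.1 _ fun Q => ?_
    by_cases hQ : Q = P
    · rw [hQ, sq, mul_smul, hcfix, hcfix]
    have hk : ∀ k, c • Q ≠ x ^ k • Q := fun k h => hnofix Q hQ (horb c hcx hcp Q hQ k h)
    have hc2 : Commute (c ^ 2) x := hcx.pow_left 2
    have hc2p : ¬ p ∣ orderOf (c ^ 2) := fun h => hcp (h.trans (orderOf_pow_dvd 2))
    rcases hcover Q (c • Q) hQ (hmove Q hQ) hk (c • c • Q) (hmove _ (hmove Q hQ)) with h | h
    · obtain ⟨k, h⟩ := hOmem _ _ h
      rw [← mul_smul, ← sq] at h
      exact horb _ hc2 hc2p Q hQ k h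
    · obtain ⟨k, h⟩ := hOmem _ _ h
      exact absurd (horb c hcx hcp (c • Q) (hmove Q hQ) k h) (hnofix _ (hmove Q hQ))
  -- parity
  haveI := Fintype.ofFinite (Sylow p G)
  let σ : Equiv.Perm (Sylow p G) := MulAction.toPermHom G (Sylow p G) c
  have hσ : σ ^ 2 = 1 := by simp only [σ, ← map_pow, hsq, map_one]
  have hsupp : σ.support = Finset.univ.erase P := by
    ext Q
    simp only [Equiv.Perm.mem_support, Finset.mem_erase, Finset.mem_univ, and_true, σ,
      MulAction.toPermHom_apply, MulAction.toPerm_apply]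
    exact ⟨fun h hQ => h (hQ ▸ hcfix), hnofix Q⟩
  have hsign : Equiv.Perm.sign σ = 1 := by
    have hsub : Subgroup.closure (pElts p G) ≤
        (Equiv.Perm.sign.comp (MulAction.toPermHom G (Sylow p G))).ker := by
      rw [closure_le]
      rintro y ⟨k, hk⟩
      simp only [SetLike.mem_coe, MonoidHom.mem_ker]
      set s := (Equiv.Perm.sign.comp (MulAction.toPermHom G (Sylow p G))) y
      have h1 : s ^ p ^ k = 1 := by rw [← map_pow, hk, map_one]
      rcases Int.units_eq_one_or s with h | h
      · exact h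
      · rw [h, ((hp.out.odd_of_ne_two hp2).pow).neg_one_pow] at h1
        exact absurd h1 (by decide)
    rw [hred.2] at hsub
    exact MonoidHom.mem_ker.mp (hsub (Subgroup.mem_top c))
  have hσ1 : σ ≠ 1 := by
    intro h
    have h2 : σ.support = ∅ := by rw [h, Equiv.Perm.support_one]
    rw [hsupp] at h2
    have := congrArg Finset.card h2
    rw [Finset.card_erase_of_mem (Finset.mem_univ _), Finset.card_univ, Finset.card_empty,
      ← Nat.card_eq_fintype_card, hn] at this
    have := hp.out.two_le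
    omega
  obtain ⟨m, hm⟩ := Equiv.Perm.cycleType_prime_order (σ := σ) (by
    rw [orderOf_eq_prime hσ hσ1]; exact Nat.prime_two)
  rw [orderOf_eq_prime hσ hσ1] at hm
  have hsum := Equiv.Perm.sum_cycleType σ
  rw [hm, Multiset.sum_replicate, hsupp, Finset.card_erase_of_mem (Finset.mem_univ _),
    Finset.card_univ, ← Nat.card_eq_fintype_card, hn, smul_eq_mul] at hsum
  rw [Equiv.Perm.sign_of_cycleType, hm, Multiset.sum_replicate, Multiset.card_replicate,
    smul_eq_mul] at hsign
  have hodd := hp.out.odd_of_ne_two hp2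
  have : Odd ((m + 1) * 2 + (m + 1)) := by
    rw [show m + 1 = p by omega]
    rcases hodd with ⟨t, ht⟩
    exact ⟨3 * t + 1, by omega⟩
  rw [this.neg_one_pow] at hsign
  exact absurd hsign (by decide)

/-- A self-centralising Sylow subgroup of prime order normalises no subgroup of order
`≢ 1 (mod p)` that is disjoint from it. -/
theorem sylow_not_normal {q : ℕ} [Fact q.Prime] (hqp : q ≠ p) (P : Sylow p G)
    (hC : Subgroup.centralizer ((P : Subgroup G) : Set G) = P) (T : Sylow q G)
    (hT : ¬ Nat.card T ≡ 1 [MOD p]) : ¬ Nat.card (Sylow q G) = 1 := by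
  intro h1
  haveI : Subsingleton (Sylow q G) := (Nat.card_eq_one_iff_unique.mp h1).1
  haveI : (T : Subgroup G).Normal := T.normal_of_subsingleton
  let α : MulAction P (T : Subgroup G) :=
    { smul := fun a t => ⟨(a : G) * t * (a : G)⁻¹, Subgroup.Normal.conj_mem ‹_› _ t.2 _⟩
      one_smul := fun t => Subtype.ext (by change (1 : G) * t * (1 : G)⁻¹ = t; group)
      mul_smul := fun a b t => Subtype.ext (by
        change ((a * b : P) : G) * t * ((a * b : P) : G)⁻¹ = a * (b * t * (b : G)⁻¹) * (a : G)⁻¹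
        rw [Subgroup.coe_mul]; group) }
  have hmod := P.isPGroup'.card_modEq_card_fixedPoints (T : Subgroup G)
  have hfix : ∀ t : (T : Subgroup G), t ∈ MulAction.fixedPoints P (T : Subgroup G) → t = 1 := by
    intro t ht
    have htC : (t : G) ∈ Subgroup.centralizer ((P : Subgroup G) : Set G) := by
      rw [Subgroup.mem_centralizer_iff]
      intro a ha
      have h := congrArg (fun s : (T : Subgroup G) => (s : G)) (ht ⟨a, ha⟩)
      exact mul_inv_eq_iff_eq_mul.mp h
    rw [hC] at htC
    have hd := IsPGroup.disjoint_of_ne q p hqp (T : Subgroup G) P T.isPGroup' P.isPGroup'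
    exact Subtype.ext (Subgroup.disjoint_def.mp hd t.2 htC)
  refine hT (hmod.trans ?_)
  have h0 : Nat.card (MulAction.fixedPoints P (T : Subgroup G)) = 1 :=
    Nat.card_eq_one_iff_exists.mpr ⟨⟨1, fun a => Subtype.ext (by
      change (a : G) * 1 * (a : G)⁻¹ = 1; group)⟩, fun t => Subtype.ext (hfix t t.2)⟩
  rw [h0]

/-- The structure of a reduced group with `2 p + 1` Sylow `p`-subgroups. -/
theorem structure_two_p_add_one (hp2 : p ≠ 2) (hred : IsReduced p G)
    (hn : Nat.card (Sylow p G) = 2 * p + 1) (hp3 : ¬ p ^ 3 ∣ (2 * p + 1).factorial) :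
    ∀ P : Sylow p G, Nat.card P = p ∧ Subgroup.centralizer ((P : Subgroup G) : Set G) = P ∧
      ∃ e, e ∣ p - 1 ∧ Odd e ∧
        Nat.card (Subgroup.normalizer ((P : Subgroup G) : Set G)) = p * e ∧
        Nat.card G = (2 * p + 1) * (p * e) := by
  intro P
  classical
  have := Fintype.ofFinite (Sylow p G)
  have hinj : Function.Injective (MulAction.toPermHom G (Sylow p G)) :=
    (injective_iff_map_eq_one _).mpr fun g hg => hred.1 g fun Q => by
      have := congrArg (fun σ : Equiv.Perm (Sylow p G) => σ Q) hg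
      simpa using this
  have hdvd : Nat.card P ∣ (2 * p + 1).factorial := by
    have h1 := Subgroup.card_dvd_of_injective _ hinj
    rw [Nat.card_eq_fintype_card (α := Equiv.Perm (Sylow p G)), Fintype.card_perm,
      ← Nat.card_eq_fintype_card, hn] at h1
    exact (Subgroup.card_subgroup_dvd_card (P : Subgroup G)).trans h1
  have hP : Nat.card P = p := by
    obtain ⟨k, hk⟩ := IsPGroup.iff_card.mp P.isPGroup'
    match k, hk with
    | 0, hk =>
      exfalso
      have : Nat.card (Sylow p G) = 1 := by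
        have h1 := Subgroup.card_eq_one.mp (hk.trans (pow_zero p))
        haveI : Subsingleton (Sylow p G) := ⟨fun A B => Sylow.ext (by
          rw [show (A : Subgroup G) = ⊥ from Subgroup.card_eq_one.mp
            ((Nat.card_congr (A.equiv P).toEquiv).trans (hk.trans (pow_zero p))),
            show (B : Subgroup G) = ⊥ from Subgroup.card_eq_one.mp
            ((Nat.card_congr (B.equiv P).toEquiv).trans (hk.trans (pow_zero p)))])⟩
        exact Nat.card_unique
      have := hp.out.two_le
      omega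
    | 1, hk => rw [hk, pow_one]
    | 2, hk =>
      refine absurd hk (card_sylow_ne_sq hred.1 ?_ P)
      have h3 : 3 ≤ p := by have := hp.out.two_le; omega
      rw [hn]; nlinarith
    | k + 3, hk => exact absurd ((pow_dvd_pow p (by omega)).trans (hk ▸ hdvd)) hp3
  have hC := centralizer_eq_self hp2 hred hn P hP
  set N := Subgroup.normalizer ((P : Subgroup G) : Set G)
  have hPN : (P : Subgroup G) ≤ N := Subgroup.le_normalizer
  have hNG : Nat.card G = (2 * p + 1) * Nat.card N := by
    rw [← Subgroup.index_mul_card N, show N.index = 2 * p + 1 from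
      P.card_eq_index_normalizer.symm.trans hn]
  obtain ⟨e, he⟩ : p ∣ Nat.card N := hP ▸ Subgroup.card_dvd_of_le hPN
  refine ⟨hP, hC, e, ?_, ?_, he, he ▸ hNG⟩
  · have hcyc : IsCyclic P := isCyclic_of_prime_card hP
    have h1 := Subgroup.card_dvd_of_injective _
      (QuotientGroup.kerLift_injective (P : Subgroup G).normalizerMonoidHom)
    rw [hcyc.card_mulAut, hP, Nat.totient_prime hp.out] at h1
    rw [← Subgroup.index, Subgroup.normalizerMonoidHom_ker, ← Subgroup.relIndex, hC] at h1
    have h2 : (P : Subgroup G).relIndex N * p = e * p := by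
      have h3 := Subgroup.index_mul_card ((P : Subgroup G).subgroupOf N)
      rw [Nat.card_congr (Subgroup.subgroupOfEquivOfLe hPN).toEquiv, hP,
        show Nat.card ↥N = p * e from he, mul_comm p e] at h3
      exact h3
    rwa [Nat.eq_of_mul_eq_mul_right hp.out.pos h2] at h1
  · by_contra hodd
    rw [Nat.not_odd_iff_even] at hodd
    haveI : Fact (Nat.Prime 2) := ⟨Nat.prime_two⟩
    let T : Sylow 2 N := default
    let T' : Subgroup G := (T : Subgroup N).map N.subtype
    have hT' : Nat.card T' = 2 ^ (Nat.card G).factorization 2 := by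
      rw [Nat.card_congr ((T : Subgroup N).equivMapOfInjective _ N.subtype_injective).toEquiv.symm,
        T.card_eq_multiplicity, hNG]
      congr 1
      rw [Nat.factorization_mul (by omega) Nat.card_pos.ne', Finsupp.add_apply,
        Nat.factorization_eq_zero_of_not_dvd (n := 2 * p + 1) (by omega), Nat.zero_add]
    let T₂ : Sylow 2 G := Sylow.ofCard T' hT'
    have hT₂ : (T₂ : Subgroup G) = T' := Sylow.coe_ofCard _ _
    have hcyc : IsCyclic P := isCyclic_of_prime_card hP
    haveI : IsCyclic (MulAut P) := by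
      have e1 : MulAut P ≃* (ZMod p)ˣ := (IsCyclic.mulAutMulEquiv P).trans (by rw [hP])
      haveI := ZMod.isCyclic_units_prime hp.out
      exact isCyclic_of_surjective e1.symm e1.symm.surjective
    haveI : IsCyclic (T : Subgroup N) := by
      refine isCyclic_of_injective
        ((P : Subgroup G).normalizerMonoidHom.comp (T : Subgroup N).subtype) ?_
      rw [injective_iff_map_eq_one]
      intro t ht
      have h1 : (t : N) ∈ (P : Subgroup G).normalizerMonoidHom.ker := ht
      rw [Subgroup.normalizerMonoidHom_ker, hC, Subgroup.mem_subgroupOf] at h1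
      have hd := IsPGroup.disjoint_of_ne 2 p hp2.symm T' P (T.isPGroup'.map _) P.isPGroup'
      have := Subgroup.disjoint_def.mp hd ⟨t, t.2, rfl⟩ h1
      exact Subtype.ext (Subtype.ext this)
    haveI : IsCyclic T₂ := by
      rw [hT₂]
      exact isCyclic_of_surjective _
        ((T : Subgroup N).equivMapOfInjective _ N.subtype_injective).surjective
    have h2G : 2 ∣ Nat.card G := by
      rw [hNG, he]; exact ((even_iff_two_dvd.mp hodd).mul_left p).mul_left _
    have hmin : (Nat.card G).minFac = 2 := (Nat.minFac_eq_two_iff _).mpr h2G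
    have hK := IsCyclic.isComplement' (P := T₂) hmin inferInstance
    set K := (MonoidHom.transferSylow T₂ _).ker
    have hsub : Subgroup.closure (pElts p G) ≤ K := by
      rw [Subgroup.closure_le]
      rintro y ⟨k, hk⟩
      rw [SetLike.mem_coe, MonoidHom.mem_ker]
      set s := (MonoidHom.transferSylow T₂ _) y
      have h1 : s ^ p ^ k = 1 := by rw [← map_pow, hk, map_one]
      obtain ⟨j, hj⟩ := T₂.isPGroup' s
      have hcop : Nat.Coprime (p ^ k) (2 ^ j) :=
        Nat.Coprime.pow _ _ ((Nat.coprime_primes hp.out Nat.prime_two).mpr hp2)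
      exact orderOf_eq_one_iff.mp (Nat.dvd_one.mp
        (hcop.gcd_eq_one ▸ Nat.dvd_gcd (orderOf_dvd_of_pow_eq_one h1) (orderOf_dvd_of_pow_eq_one hj)))
    rw [hred.2, top_le_iff] at hsub
    rw [hsub] at hK
    have h1 := Subgroup.card_eq_one.mpr (Subgroup.isComplement'_top_left.mp hK)
    rw [hT₂, hT'] at h1
    have := Nat.Prime.factorization_pos_of_dvd Nat.prime_two Nat.card_pos.ne' h2G
    rcases Nat.pow_eq_one.mp h1 with h | h <;> omega

/-- Sylow `q`-subgroups lie in a normal subgroup of index prime to `q`. -/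
theorem card_sylow_of_normal_of_coprime_index {q : ℕ} [Fact q.Prime] (K : Subgroup G) [K.Normal]
    (hq : ¬ q ∣ K.index) : Nat.card (Sylow q K) = Nat.card (Sylow q G) := by
  refine card_sylow_of_forall_le K fun Q => ?_
  intro x hx
  obtain ⟨j, hj⟩ := Q.isPGroup' ⟨x, hx⟩
  have hj' : x ^ q ^ j = 1 := by simpa [Subtype.ext_iff] using hj
  rw [← QuotientGroup.eq_one_iff x, ← orderOf_eq_one_iff]
  refine Nat.dvd_one.mp ?_
  have hcop : Nat.Coprime (q ^ j) K.index :=
    Nat.Coprime.pow_left _ ((Fact.out : q.Prime).coprime_iff_not_dvd.mpr hq)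
  rw [← hcop.gcd_eq_one]
  refine Nat.dvd_gcd (orderOf_dvd_of_pow_eq_one ?_) (orderOf_dvd_natCard _)
  rw [← QuotientGroup.mk_pow, hj', QuotientGroup.mk_one]

omit hp in
theorem card_sylow_eq_one_of {q : ℕ} [Fact q.Prime] {m : ℕ} (T : Sylow q G)
    (hm : Nat.card G = m) (hdiv : ∀ d ∈ Nat.divisors (m / q ^ m.factorization q), d % q = 1 → d = 1) :
    Nat.card (Sylow q G) = 1 := by
  have h1 := T.card_dvd_index
  have hidx : (T : Subgroup G).index = m / q ^ m.factorization q := by
    have h := Subgroup.index_mul_card (T : Subgroup G)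
    rw [T.card_eq_multiplicity, hm] at h
    exact (Nat.div_eq_of_eq_mul_left (pow_pos (Fact.out : q.Prime).pos _) h.symm).symm
  rw [hidx] at h1
  have h2 := card_sylow_modEq_one q G
  refine hdiv _ (Nat.mem_divisors.mpr ⟨h1, ?_⟩) ?_
  · rw [← hidx]; exact Subgroup.index_ne_zero_of_finite
  · rw [Nat.ModEq, Nat.one_mod_eq_one.mpr (Fact.out : q.Prime).ne_one] at h2
    exact h2

end Cfsg.Agent.Perm.SylowCount
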