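import Cfsg.Prelude.Def_SolvableStructure
import Cfsg.Agent.Lib.Solv.Basic
import Cfsg.Agent.Lib.Solv.Hall
import Cfsg.Agent.Lib.Solv.Coprime
import Cfsg.Agent.Lib.Perm.MinNormal
import Mathlib.Data.Nat.Factorization.Basic
import Mathlib.Algebra.BigOperators.Group.Finset.Basic
import Mathlib.Algebra.BigOperators.Associated
import Mathlib.Tactic.Group

/-!
Subgroups of pairwise coprime index, Hall complement systems, their conjugacy and their
system normalizers.
-/

set_option autoImplicit false

open scoped Pointwise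

namespace Cfsg.Agent.Perm

variable {G : Type*} [Group G]

theorem index_inf_of_coprime [Finite G] {H K : Subgroup G} (h : H.index.Coprime K.index) :
    (H ⊓ K).index = H.index * K.index := by
  refine le_antisymm (Subgroup.index_inf_le) (Nat.le_of_dvd
    (Nat.pos_of_ne_zero Subgroup.index_ne_zero_of_finite) ?_)
  exact h.mul_dvd_of_dvd_of_dvd (Subgroup.index_dvd_of_le inf_le_left) (Subgroup.index_dvd_of_le inf_le_right)

/-- Subgroups of coprime index factorise the group. -/
theorem mul_of_coprime_index [Finite G] {H K : Subgroup G} (hcop : H.index.Coprime K.index) (g : G) :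
    ∃ x ∈ H, ∃ y ∈ K, g = x * y := by
  let emb := Subgroup.quotientSubgroupOfEmbeddingOfLE K (le_top : H ≤ ⊤)
  have hcard : K.relIndex (⊤ : Subgroup G) = K.relIndex H := by
    rw [Subgroup.relIndex_top_right]
    have h1 : K.relIndex H * H.index = (H ⊓ K).index := by
      rw [← Subgroup.inf_relIndex_left H K, Subgroup.relIndex_mul_index inf_le_left]
    rw [index_inf_of_coprime hcop, mul_comm H.index] at h1
    exact (Nat.eq_of_mul_eq_mul_right (Nat.pos_of_ne_zero Subgroup.index_ne_zero_of_finite) h1).symm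
  have hs : Function.Surjective emb :=
    ((Nat.bijective_iff_injective_and_card _).2 ⟨emb.injective, hcard.symm⟩).2
  obtain ⟨x, hx⟩ := hs (QuotientGroup.mk ⟨g, Subgroup.mem_top g⟩)
  induction x using QuotientGroup.induction_on with
  | H x =>
    rw [Subgroup.quotientSubgroupOfEmbeddingOfLE_apply_mk, QuotientGroup.eq,
      Subgroup.mem_subgroupOf] at hx
    exact ⟨x, x.2, (x : G)⁻¹ * g, by simpa using hx, by simp⟩

theorem relIndex_dvd_index_of_normalizes [Finite G] {H N : Subgroup G}
    (h : H ≤ Subgroup.normalizer (N : Set G) ∨ N ≤ Subgroup.normalizer (H : Set G)) :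
    H.relIndex N ∣ H.index := by
  have hc : Nat.card (N ⊔ H : Subgroup G) * Nat.card (N ⊓ H : Subgroup G) = Nat.card N * Nat.card H := by
    rcases h with h | h
    · exact Cfsg.Agent.Solv.card_sup_mul_card_inf' N H h
    · have := Cfsg.Agent.Solv.card_sup_mul_card_inf' H N h
      rw [sup_comm, inf_comm, mul_comm (Nat.card H)] at this
      exact this
  have e1 : Nat.card (N ⊓ H : Subgroup G) * H.relIndex N = Nat.card N := by
    have := Subgroup.relIndex_mul_relIndex (⊥ : Subgroup G) (N ⊓ H) N bot_le inf_le_left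
    rwa [Subgroup.relIndex_bot_left, Subgroup.relIndex_bot_left, Subgroup.inf_relIndex_left] at this
  have e2 : Nat.card H * H.relIndex (N ⊔ H) = Nat.card (N ⊔ H : Subgroup G) := by
    have := Subgroup.relIndex_mul_relIndex (⊥ : Subgroup G) H (N ⊔ H) bot_le le_sup_right
    rwa [Subgroup.relIndex_bot_left, Subgroup.relIndex_bot_left] at this
  have e3 : H.relIndex (N ⊔ H) = H.relIndex N := by
    refine Nat.eq_of_mul_eq_mul_left
      (Nat.mul_pos (Nat.card_pos (α := H)) (Nat.card_pos (α := (N ⊓ H : Subgroup G)))) ?_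
    rw [← e1, ← e2] at hc
    calc _ = Nat.card H * H.relIndex (N ⊔ H) * Nat.card (N ⊓ H : Subgroup G) := by ring
      _ = _ := by rw [hc]; ring
  rw [← e3, ← Subgroup.relIndex_mul_index (le_sup_right : H ≤ N ⊔ H)]
  exact dvd_mul_right _ _

theorem hall_conj' [Finite G] (hG : Group.IsSolvable G) (H K : Subgroup G)
    (hcard : Nat.card H = Nat.card K) (hco : (Nat.card K).Coprime K.index) :
    ∃ g : G, MulAut.conj g • H = K :=
  Cfsg.Agent.Solv.hall_conj hG K.card_mul_index.symm hco H K hcard rfl

/-- The same inside a normal subgroup. -/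
theorem normal_mul_of_coprime_index [Finite G] {H K N : Subgroup G} [N.Normal]
    (hcop : H.index.Coprime K.index) {g : G} (hg : g ∈ N) :
    ∃ x ∈ H ⊓ N, ∃ y ∈ K ⊓ N, g = x * y := by
  have h1 : (H.subgroupOf N).index ∣ H.index := relIndex_dvd_index_of_normalizes (Or.inl (by rw [Subgroup.normalizer_eq_top_iff.2 inferInstance]; exact le_top))
  have h2 : (K.subgroupOf N).index ∣ K.index := relIndex_dvd_index_of_normalizes (Or.inl (by rw [Subgroup.normalizer_eq_top_iff.2 inferInstance]; exact le_top))
  obtain ⟨x, hx, y, hy, e⟩ :=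
    mul_of_coprime_index ((hcop.coprime_dvd_left h1).coprime_dvd_right h2) (⟨g, hg⟩ : N)
  exact ⟨x, ⟨hx, x.2⟩, y, ⟨hy, y.2⟩, congrArg Subtype.val e⟩

theorem index_finset_inf [Finite G] {ι : Type*} (K : ι → Subgroup G) (s : Finset ι)
    (h : ∀ i ∈ s, ∀ j ∈ s, i ≠ j → (K i).index.Coprime (K j).index) :
    (s.inf K).index = ∏ i ∈ s, (K i).index := by
  classical
  induction s using Finset.induction_on with
  | empty => simp
  | @insert a s ha ih =>
    have ih' := ih fun i hi j hj => h i (Finset.mem_insert_of_mem hi) j (Finset.mem_insert_of_mem hj)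
    rw [Finset.inf_insert, Finset.prod_insert ha, index_inf_of_coprime, ih']
    rw [ih']
    exact Nat.Coprime.prod_right fun i hi =>
      h a (Finset.mem_insert_self a s) i (Finset.mem_insert_of_mem hi) (by rintro rfl; exact ha hi)

theorem coprime_index_finset_inf [Finite G] {ι : Type*} (K : ι → Subgroup G) (s : Finset ι) (r : ι)
    (hr : r ∉ s) (h : ∀ i j, i ≠ j → (K i).index.Coprime (K j).index) :
    (K r).index.Coprime (s.inf K).index := by
  rw [index_finset_inf K s fun i _ j _ => h i j]
  exact Nat.Coprime.prod_right fun i hi => h r i (by rintro rfl; exact hr hi)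

/-- Simultaneous conjugation inside a normal subgroup `M` of families of pairwise coprime index. -/
theorem exists_common_conj [Finite G] {ι : Type*} (M : Subgroup G) [M.Normal]
    (A L : ι → Subgroup G) (hcop : ∀ i j, i ≠ j → (L i).index.Coprime (L j).index) (s : Finset ι)
    (h : ∀ i ∈ s, ∃ m ∈ M, MulAut.conj m • A i = L i) :
    ∃ m ∈ M, ∀ i ∈ s, MulAut.conj m • A i = L i := by
  classical
  induction s using Finset.induction_on with
  | empty => exact ⟨1, one_mem _, by simp⟩
  | @insert r s hr ih =>
    obtain ⟨m, hm, hms⟩ := ih fun i hi => h i (Finset.mem_insert_of_mem hi)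
    obtain ⟨x, hx, hxr⟩ := h r (Finset.mem_insert_self r s)
    have hy : x * m⁻¹ ∈ M := mul_mem hx (inv_mem hm)
    obtain ⟨l, hl, i0, hi0, e⟩ := normal_mul_of_coprime_index (coprime_index_finset_inf L s r hr hcop) hy
    refine ⟨i0 * m, mul_mem hi0.2 hm, fun i hi => ?_⟩
    rcases Finset.mem_insert.1 hi with rfl | hi
    · have : i0 * m = l⁻¹ * x := by
        calc i0 * m = l⁻¹ * (l * i0) * m := by group
          _ = l⁻¹ * x := by rw [← e]; group
      rw [this, ← Cfsg.Agent.Solv.conj_smul_conj, hxr, Subgroup.conj_smul_eq_self_of_mem (inv_mem hl.1)]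
    · rw [← Cfsg.Agent.Solv.conj_smul_conj, hms i hi,
        Subgroup.conj_smul_eq_self_of_mem (Finset.inf_le (f := L) hi hi0.1)]

/-! ### Complement systems -/

variable {K : Nat.Primes → Subgroup G}

theorem coprime_index_of_isComplementSystem (hK : Cfsg.IsComplementSystem K) :
    ∀ i j : Nat.Primes, i ≠ j → (K i).index.Coprime (K j).index := fun i j hij => by
  rw [hK i, hK j]
  exact Nat.Coprime.pow _ _ ((Nat.coprime_primes i.2 j.2).2 fun e => hij (Subtype.ext e))

theorem eq_top_of_not_dvd [Finite G] (hK : Cfsg.IsComplementSystem K) {p : Nat.Primes}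
    (hp : ¬ (p : ℕ) ∣ Nat.card G) : K p = ⊤ := by
  rw [← Subgroup.index_eq_one, hK p, Nat.factorization_eq_zero_of_not_dvd hp, pow_zero]

/-- The primes dividing the order of the group, as a `Finset`. -/
def primesOf (n : ℕ) : Finset Nat.Primes :=
  n.primeFactors.attach.map ⟨fun p => ⟨p.1, Nat.prime_of_mem_primeFactors p.2⟩,
    fun _ _ h => Subtype.ext (Subtype.mk.inj h)⟩

theorem mem_primesOf {n : ℕ} (hn : n ≠ 0) {p : Nat.Primes} : p ∈ primesOf n ↔ (p : ℕ) ∣ n := by
  refine ⟨?_, fun h => ?_⟩
  · rintro h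
    rw [primesOf] at h
    obtain ⟨⟨q, hq⟩, -, rfl⟩ := Finset.mem_map.1 h
    exact Nat.dvd_of_mem_primeFactors hq
  · rw [primesOf]; exact Finset.mem_map.2 ⟨⟨(p : ℕ), Nat.mem_primeFactors.2 ⟨p.2, h, hn⟩⟩, Finset.mem_attach _ _, rfl⟩

theorem coprime_card_index [Finite G] (hK : Cfsg.IsComplementSystem K) (p : Nat.Primes) :
    (Nat.card (K p)).Coprime (K p).index := by
  have hp : (p : ℕ).Prime := p.2
  rw [hK p]
  refine Nat.Coprime.pow_right _ (Nat.Coprime.symm (hp.coprime_iff_not_dvd.2 fun hd => ?_))
  have h := congrArg (fun n => n.factorization (p : ℕ)) (K p).card_mul_index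
  simp only [Nat.factorization_mul Nat.card_pos.ne' Subgroup.index_ne_zero_of_finite, Finsupp.add_apply] at h
  rw [hK p, hp.factorization_pow] at h
  simp only [Finsupp.single_eq_same] at h
  have := hp.factorization_pos_of_dvd Nat.card_pos.ne' hd
  omega

theorem card_eq_of_system [Finite G] {L : Nat.Primes → Subgroup G} (hK : Cfsg.IsComplementSystem K)
    (hL : Cfsg.IsComplementSystem L) (p : Nat.Primes) : Nat.card (K p) = Nat.card (L p) := by
  have h1 := (K p).card_mul_index
  have h2 := (L p).card_mul_index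
  rw [hK p] at h1
  rw [hL p] at h2
  exact Nat.eq_of_mul_eq_mul_right (pow_pos p.2.pos _) (h1.trans h2.symm)

theorem mem_systemNormalizer {x : G} :
    x ∈ Cfsg.systemNormalizer K ↔ ∀ p, MulAut.conj x • K p = K p := by
  rw [Cfsg.systemNormalizer, Subgroup.mem_iInf]
  exact ⟨fun h p => Cfsg.Agent.Solv.conj_smul_of_mem_normalizer (h p),
    fun h p => Cfsg.Agent.Solv.mem_normalizer_of_conj_smul (h p)⟩

theorem isComplementSystem_map [Finite G] (hK : Cfsg.IsComplementSystem K) (N : Subgroup G) [N.Normal] :
    Cfsg.IsComplementSystem (fun p => (K p).map (QuotientGroup.mk' N)) := by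
  intro p
  have hp : (p : ℕ).Prime := p.2
  have h1 : ((K p).map (QuotientGroup.mk' N)).index ∣ (p : ℕ) ^ (Nat.card G).factorization p := by
    rw [← hK p]; exact Subgroup.index_map_dvd _ (QuotientGroup.mk'_surjective N)
  obtain ⟨a, -, ha⟩ := (Nat.dvd_prime_pow hp).1 h1
  have h2 : Nat.card ((K p).map (QuotientGroup.mk' N)) ∣ Nat.card (K p) :=
    Cfsg.Agent.Solv.card_map_mk'_dvd N (K p)
  have hnd : ¬ (p : ℕ) ∣ Nat.card ((K p).map (QuotientGroup.mk' N)) := by
    intro hd
    rcases Nat.eq_zero_or_pos ((Nat.card G).factorization p) with h0 | h0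
    · have h3 := (hd.trans h2).trans (Subgroup.card_subgroup_dvd_card (K p))
      exact absurd (hp.factorization_pos_of_dvd Nat.card_pos.ne' h3) (by omega)
    · have h3 := coprime_card_index hK p
      rw [hK p] at h3
      exact hp.coprime_iff_not_dvd.1 ((Nat.coprime_pow_right_iff h0 _ _).1 h3).symm (hd.trans h2)
  have h4 := congrArg (fun n => n.factorization (p : ℕ))
    ((K p).map (QuotientGroup.mk' N)).card_mul_index
  simp only [Nat.factorization_mul Nat.card_pos.ne' Subgroup.index_ne_zero_of_finite, Finsupp.add_apply,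
    Nat.factorization_eq_zero_of_not_dvd hnd, zero_add] at h4
  rw [ha, hp.factorization_pow, Finsupp.single_eq_same] at h4
  show ((K p).map (QuotientGroup.mk' N)).index = _
  rw [ha, h4]

theorem map_systemNormalizer [Finite G] [Group.IsSolvable G] (hK : Cfsg.IsComplementSystem K)
    (N : Subgroup G) [N.Normal] :
    Cfsg.systemNormalizer (fun p => (K p).map (QuotientGroup.mk' N)) =
      (Cfsg.systemNormalizer K).map (QuotientGroup.mk' N) := by
  set f := QuotientGroup.mk' N
  refine le_antisymm (fun y hy => ?_) ?_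
  · obtain ⟨g, rfl⟩ := QuotientGroup.mk'_surjective N y
    rw [mem_systemNormalizer] at hy
    have hex : ∀ p ∈ primesOf (Nat.card G), ∃ m ∈ N, MulAut.conj m • (MulAut.conj g • K p) = K p := by
      intro p _
      have hle : MulAut.conj g • K p ≤ N ⊔ K p := by
        have h := hy p
        rw [← Cfsg.Agent.Solv.map_conj_smul] at h
        have := Subgroup.map_le_iff_le_comap.1 h.le
        rwa [Subgroup.comap_map_eq, QuotientGroup.ker_mk', sup_comm] at this
      set L := N ⊔ K p
      have hK1 : K p ≤ L := le_sup_right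
      have hci : ((K p).subgroupOf L).index ∣ (K p).index := by
        rw [← Subgroup.relIndex_mul_index hK1]; exact dvd_mul_right _ _
      obtain ⟨l, hl⟩ := hall_conj' (G := L) inferInstance ((MulAut.conj g • K p).subgroupOf L)
        ((K p).subgroupOf L)
        (by rw [Cfsg.Agent.Solv.card_subgroupOf hle, Cfsg.Agent.Solv.card_subgroupOf hK1, Cfsg.Agent.Solv.card_conj_smul])
        (by rw [Cfsg.Agent.Solv.card_subgroupOf hK1]
            exact (coprime_card_index hK p).coprime_dvd_right hci)
      have h2 := congrArg (Subgroup.map L.subtype) hl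
      rw [Cfsg.Agent.Solv.map_conj_smul, Subgroup.map_subgroupOf_eq_of_le hle,
        Subgroup.map_subgroupOf_eq_of_le hK1] at h2
      obtain ⟨x, hx⟩ := l
      have h2' : MulAut.conj x • (MulAut.conj g • K p) = K p := h2
      have hx' : x ∈ ((N ⊔ K p : Subgroup G) : Set G) := hx
      rw [sup_comm, Subgroup.mul_normal] at hx'
      obtain ⟨k, hk, n, hn, rfl⟩ := hx'
      refine ⟨n, hn, ?_⟩
      have h3 := congrArg (fun X => MulAut.conj k⁻¹ • X) h2'
      simp only [Cfsg.Agent.Solv.conj_smul_conj] at h3
      rw [Subgroup.conj_smul_eq_self_of_mem (inv_mem hk)] at h3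
      rw [Cfsg.Agent.Solv.conj_smul_conj, ← h3]
      congr 2
      group
    obtain ⟨m, hm, hms⟩ := exists_common_conj N (fun p => MulAut.conj g • K p) K
      (coprime_index_of_isComplementSystem hK) (primesOf (Nat.card G)) hex
    refine ⟨m * g, mem_systemNormalizer.2 fun p => ?_, ?_⟩
    · by_cases hp : (p : ℕ) ∣ Nat.card G
      · rw [← Cfsg.Agent.Solv.conj_smul_conj]; exact hms p ((mem_primesOf Nat.card_pos.ne').2 hp)
      · rw [eq_top_of_not_dvd hK hp, Subgroup.Normal.conj_smul_eq_self]
    · rw [map_mul, show f m = 1 from (QuotientGroup.eq_one_iff m).2 hm, one_mul]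
  · rintro - ⟨x, hx, rfl⟩
    rw [mem_systemNormalizer]
    intro p
    show MulAut.conj (f x) • (K p).map f = (K p).map f
    rw [← Cfsg.Agent.Solv.map_conj_smul, mem_systemNormalizer.1 hx p]

theorem exists_conj_system [Finite G] [Group.IsSolvable G] {L : Nat.Primes → Subgroup G}
    (hK : Cfsg.IsComplementSystem K) (hL : Cfsg.IsComplementSystem L) :
    ∃ g : G, ∀ p, MulAut.conj g • K p = L p := by
  obtain ⟨g, -, hg⟩ := exists_common_conj (⊤ : Subgroup G) K L (coprime_index_of_isComplementSystem hL)
    (primesOf (Nat.card G)) fun p _ => by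
      obtain ⟨g, hg⟩ := hall_conj' inferInstance (K p) (L p) (card_eq_of_system hK hL p)
        (coprime_card_index hL p)
      exact ⟨g, trivial, hg⟩
  refine ⟨g, fun p => ?_⟩
  by_cases hp : (p : ℕ) ∣ Nat.card G
  · exact hg p ((mem_primesOf Nat.card_pos.ne').2 hp)
  · rw [eq_top_of_not_dvd hK hp, eq_top_of_not_dvd hL hp, Subgroup.Normal.conj_smul_eq_self]

/-- The system normalizer is nilpotent. -/
theorem systemNormalizer_isNilpotent [Finite G] (hK : Cfsg.IsComplementSystem K) :
    Group.IsNilpotent (Cfsg.systemNormalizer K) := by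
  classical
  set D := Cfsg.systemNormalizer K with hDdef
  have hsyl : ∀ (p : ℕ) (_ : Fact p.Prime) (P : Sylow p D), (P : Subgroup D).Normal := by
    intro p hp P
    set P0 := ((primesOf (Nat.card G)).erase ⟨p, hp.out⟩).inf K with hP0
    have hDP0 : D ≤ Subgroup.normalizer (P0 : Set G) := by
      intro x hx
      refine Cfsg.Agent.Solv.mem_normalizer_of_conj_smul ?_
      refine Subgroup.eq_of_le_of_card_ge ?_ (Cfsg.Agent.Solv.card_conj_smul x P0).ge
      refine Finset.le_inf fun q hq => ?_
      rw [← mem_systemNormalizer.1 hx q]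
      exact Subgroup.pointwise_smul_le_pointwise_smul_iff.2 (Finset.inf_le hq)
    have hidx : P0.index = ∏ q ∈ (primesOf (Nat.card G)).erase ⟨p, hp.out⟩, (q : ℕ) ^ (Nat.card G).factorization q := by
      rw [hP0, index_finset_inf K _ fun i _ j _ => coprime_index_of_isComplementSystem hK i j]
      exact Finset.prod_congr rfl fun q _ => hK q
    have hpg : IsPGroup p P0 := by
      have := Nat.eq_prime_pow_of_unique_prime_dvd (n := Nat.card P0) (p := p) Nat.card_pos.ne'
        (fun {r} hr hrd => by
          by_contra hne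
          have hrG := hrd.trans (Subgroup.card_subgroup_dvd_card P0)
          have hle : P0 ≤ K ⟨r, hr⟩ := Finset.inf_le (Finset.mem_erase.2
            ⟨fun e => hne (congrArg Subtype.val e), (mem_primesOf Nat.card_pos.ne').2 hrG⟩)
          have h1 := coprime_card_index hK ⟨r, hr⟩
          rw [hK ⟨r, hr⟩] at h1
          exact hr.coprime_iff_not_dvd.1
            ((Nat.coprime_pow_right_iff (hr.factorization_pos_of_dvd Nat.card_pos.ne' hrG) _ _).1 h1).symm
            (hrd.trans (Subgroup.card_dvd_of_le hle)))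
      exact IsPGroup.of_card this
    have hnormal : (P0.subgroupOf D).Normal := Subgroup.normal_subgroupOf_of_le_normalizer hDP0
    have hrel : ∀ q ∈ (primesOf (Nat.card G)).erase ⟨p, hp.out⟩,
        ¬ p ∣ ((K q).subgroupOf D).index := by
      intro q hq hd
      haveI : (((K q)).subgroupOf D).Normal := Subgroup.normal_subgroupOf_of_le_normalizer
        fun x hx => Cfsg.Agent.Solv.mem_normalizer_of_conj_smul (mem_systemNormalizer.1 hx q)
      have hle : D ≤ Subgroup.normalizer (K q : Set G) :=
        fun x hx => Cfsg.Agent.Solv.mem_normalizer_of_conj_smul (mem_systemNormalizer.1 hx q)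
      have h1 : ((K q).subgroupOf D).index ∣ (K q).index := relIndex_dvd_index_of_normalizes (Or.inr hle)
      rw [hK q] at h1
      exact (Finset.mem_erase.1 hq).1 (Subtype.ext
        ((Nat.prime_dvd_prime_iff_eq hp.out q.2).1 (hp.out.dvd_of_dvd_pow (hd.trans h1))).symm)
    have hidxD : ¬ p ∣ (P0.subgroupOf D).index := by
      have hcop : ∀ i ∈ (primesOf (Nat.card G)).erase ⟨p, hp.out⟩, ∀ j ∈ (primesOf (Nat.card G)).erase ⟨p, hp.out⟩,
          i ≠ j → ((K i).subgroupOf D).index.Coprime ((K j).subgroupOf D).index := by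
        intro i _ j _ hij
        have hd : ∀ q, ((K q).subgroupOf D).index ∣ (K q).index := fun q =>
          relIndex_dvd_index_of_normalizes (Or.inr fun x hx =>
            Cfsg.Agent.Solv.mem_normalizer_of_conj_smul (mem_systemNormalizer.1 hx q))
        exact ((coprime_index_of_isComplementSystem hK i j hij).coprime_dvd_left (hd i)).coprime_dvd_right (hd j)
      have heq : P0.subgroupOf D = ((primesOf (Nat.card G)).erase ⟨p, hp.out⟩).inf fun q => (K q).subgroupOf D := by
        ext x
        simp only [Subgroup.mem_subgroupOf, hP0]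
        rw [Finset.inf_eq_iInf, Finset.inf_eq_iInf]
        simp [Subgroup.mem_iInf, Subgroup.mem_subgroupOf]
      rw [heq, index_finset_inf _ _ hcop]
      intro hd
      obtain ⟨q, hq, hqd⟩ := (Prime.dvd_finsetProd_iff (Nat.Prime.prime hp.out) _).1 hd
      exact hrel q hq hqd
    let S : Sylow p D := (hpg.comap_of_injective D.subtype D.subtype_injective).toSylow hidxD
    obtain ⟨g, rfl⟩ := MulAction.exists_smul_eq D S P
    haveI : (S : Subgroup D).Normal := hnormal
    rwa [Sylow.smul_eq_of_normal]
  exact ((Group.isNilpotent_of_finite_tfae (G := D)).out 0 3).mpr hsyl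

end Cfsg.Agent.Perm
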