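import Cfsg.Agent.Lib.Solv.Generation
import Cfsg.Agent.Lib.Solv.UniqueSub
import Cfsg.Prelude.Def_OddOrderLocal

/-!
Non-normal TI subgroups `H` that are Hall in their normalizer, in `π(H)`-separable groups.
-/

set_option autoImplicit false
set_option linter.style.haveILetI false

open scoped Pointwise

namespace Cfsg.Agent.Perm.TIHall

open Cfsg.Agent.Solv

universe u

variable {G : Type u} [Group G] [Finite G]

/-- The hypotheses. -/
structure Hyp (H : Subgroup G) : Prop where
  ti : Cfsg.IsTISubset (H : Set G)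
  nn : ¬ H.Normal
  hall : (Nat.card H).Coprime (H.subgroupOf (Subgroup.normalizer (H : Set G))).index
  sep : ∃ (n : ℕ) (M : Fin (n + 1) → Subgroup G), M 0 = ⊥ ∧ M (Fin.last n) = ⊤ ∧ Monotone M ∧
      (∀ i, (M i).Normal) ∧
      ∀ i : Fin n, (∀ q : ℕ, q.Prime → q ∣ (M i.castSucc).relIndex (M i.succ) → q ∣ Nat.card H) ∨
        ((M i.castSucc).relIndex (M i.succ)).Coprime (Nat.card H)

/-- The largest normal subgroup of order prime to `|H|`. -/
def core (H : Subgroup G) : Subgroup G :=
  sSup {K : Subgroup G | K.Normal ∧ (Nat.card K).Coprime (Nat.card H)}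

instance core_normal (H : Subgroup G) : (core H).Normal := Subgroup.sSup_normal _ fun _ h => h.1

theorem le_core {H K : Subgroup G} [K.Normal] (h : (Nat.card K).Coprime (Nat.card H)) :
    K ≤ core H := le_sSup ⟨inferInstance, h⟩

theorem core_coprime (H : Subgroup G) : (Nat.card (core H)).Coprime (Nat.card H) := by
  obtain ⟨M, -, hM⟩ := Finite.exists_le_maximal
    (p := fun N : Subgroup G => N.Normal ∧ (Nat.card N).Coprime (Nat.card H)) (a := ⊥)
    ⟨inferInstance, by simp⟩
  haveI := hM.1.1
  suffices h : core H = M by rw [h]; exact hM.1.2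
  refine le_antisymm (sSup_le ?_) (le_sSup hM.1)
  rintro N ⟨hN, hNp⟩
  have h2 : M ⊔ N ≤ M := hM.2 ⟨inferInstance,
    (hM.1.2.mul_left hNp).coprime_dvd_left (Dvd.intro _ (card_sup_mul_card_inf M N))⟩ le_sup_left
  exact le_sup_right.trans h2

variable {H : Subgroup G}

theorem Hyp.ti_mem (hH : Hyp H) {g x : G} (hx : x ∈ H) (hgx : g * x * g⁻¹ ∈ H) (hx1 : x ≠ 1) :
    g ∈ Subgroup.normalizer (H : Set G) := by
  by_contra hg
  exact hx1 (hH.ti g hg x hx hgx)

theorem Hyp.normalizer_le (hH : Hyp H) {P : Subgroup G} (hP : P ≤ H) (hP1 : P ≠ ⊥) :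
    Subgroup.normalizer (P : Set G) ≤ Subgroup.normalizer (H : Set G) := by
  intro g hg
  obtain ⟨x, hx, hx1⟩ : ∃ x ∈ P, x ≠ 1 := by
    by_contra hcon
    push Not at hcon
    exact hP1 (P.eq_bot_iff_forall.2 hcon)
  exact hH.ti_mem (hP hx) (hP ((Subgroup.mem_normalizer_iff.1 hg x).1 hx)) hx1

theorem Hyp.relIndex_coprime (hH : Hyp H) :
    (Nat.card H).Coprime (H.relIndex (Subgroup.normalizer (H : Set G))) := hH.hall

/-- `H` is a Hall subgroup of `G`. -/
theorem Hyp.hall_top (hH : Hyp H) : (Nat.card H).Coprime H.index := by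
  refine Nat.coprime_of_dvd fun p hp hpH hpI => ?_
  haveI := Fact.mk hp
  obtain ⟨P, hP⟩ := exists_isSylIn p H
  have hP1 : P ≠ ⊥ := by
    intro e
    have h1 : Nat.card P = 1 := by rw [e, Subgroup.card_bot]
    rw [hP.2] at h1
    exact (Nat.one_lt_pow (hp.factorization_pos_of_dvd Nat.card_pos.ne' hpH).ne' hp.one_lt).ne' h1
  obtain ⟨S, hPS⟩ := (IsPGroup.of_card hP.2).exists_le_sylow
  have hlt : P ≠ (S : Subgroup G) := by
    intro e
    have h1 := S.card_eq_multiplicity
    rw [← e, hP.2, ← H.card_mul_index, Nat.factorization_mul Nat.card_pos.ne'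
      Subgroup.index_ne_zero_of_finite, Finsupp.add_apply] at h1
    have := Nat.pow_right_injective hp.two_le h1
    have := hp.factorization_pos_of_dvd Subgroup.index_ne_zero_of_finite hpI
    omega
  haveI : Group.IsNilpotent S := S.isPGroup'.isNilpotent
  have hgrow := Group.normalizerCondition_of_isNilpotent (G := S) (P.subgroupOf S) (lt_top_iff_ne_top.2 fun e => hlt
    (le_antisymm hPS (Subgroup.subgroupOf_eq_top.1 e)))
  obtain ⟨g, hg, hgP⟩ := SetLike.exists_of_lt hgrow
  have hgN : (g : G) ∈ Subgroup.normalizer (P : Set G) := by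
    rw [Subgroup.mem_normalizer_iff] at hg ⊢
    intro y
    constructor
    · intro hy
      exact (hg ⟨y, hPS hy⟩).1 hy
    · intro hy
      have hyS : y ∈ (S : Subgroup G) := by
        have := S.mul_mem (S.mul_mem (S.inv_mem g.2) (hPS hy)) g.2
        simpa [mul_assoc] using this
      exact (hg ⟨y, hyS⟩).2 hy
  set T : Subgroup G := P ⊔ Subgroup.zpowers (g : G) with hT
  have hTS : T ≤ S := sup_le hPS (Subgroup.zpowers_le.2 g.2)
  have hTN : T ≤ Subgroup.normalizer (H : Set G) :=
    sup_le (hP.1.trans Subgroup.le_normalizer)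
      (Subgroup.zpowers_le.2 (hH.normalizer_le hP.1 hP1 hgN))
  obtain ⟨j, hj⟩ := IsPGroup.iff_card.1 (S.isPGroup'.to_le hTS)
  have hTlt : Nat.card P < Nat.card T := by
    refine lt_of_le_of_ne (Subgroup.card_le_of_le le_sup_left) fun e => hgP ?_
    have : P = T := Subgroup.eq_of_le_of_card_ge le_sup_left e.ge
    show (g : G) ∈ P
    rw [this]
    exact Subgroup.mem_sup_right (Subgroup.mem_zpowers _)
  have h2 : Nat.card T ∣ Nat.card H * H.relIndex (Subgroup.normalizer (H : Set G)) := by
    rw [← Subgroup.relIndex_bot_left H, Subgroup.relIndex_mul_relIndex _ _ _ bot_le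
      Subgroup.le_normalizer, Subgroup.relIndex_bot_left]
    exact Subgroup.card_dvd_of_le hTN
  have h3 : Nat.card T ∣ Nat.card H := by
    refine Nat.Coprime.dvd_of_dvd_mul_right ?_ h2
    rw [hj]
    refine Nat.Coprime.pow_left _ (hp.coprime_iff_not_dvd.2 fun hd => ?_)
    exact hp.one_lt.ne' (Nat.eq_one_of_dvd_coprimes hH.relIndex_coprime hpH hd)
  rw [hj, hp.pow_dvd_iff_le_factorization Nat.card_pos.ne'] at h3
  rw [hj, hP.2] at hTlt
  exact absurd (Nat.pow_le_pow_right hp.pos h3) (not_le.2 hTlt)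

/-- `G = O N_G(H)`. -/
theorem Hyp.core_sup_normalizer (hH : Hyp H) :
    core H ⊔ Subgroup.normalizer (H : Set G) = ⊤ := by
  classical
  obtain ⟨n, M, hM0, hMl, hMm, hMn, hMi⟩ := hH.sep
  by_cases hall : ∀ i : Fin (n + 1), M i ≤ core H
  · refine eq_top_iff.2 (le_trans ?_ le_sup_left)
    rw [← hMl]
    exact hall _
  obtain ⟨i, hi1, hi2⟩ : ∃ i : Fin n, M i.castSucc ≤ core H ∧ ¬ M i.succ ≤ core H := by
    by_contra hcon
    push Not at hcon
    refine hall fun i => ?_
    induction i using Fin.induction with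
    | zero => rw [hM0]; exact bot_le
    | succ i ih => exact hcon i ih
  haveI := hMn i.succ
  set O := core H with hO
  set S := O ⊔ M i.succ with hS
  haveI : S.Normal := inferInstanceAs (O ⊔ M i.succ).Normal
  have hd : O.relIndex S ∣ (M i.castSucc).relIndex (M i.succ) := by
    rw [hS, sup_comm, Subgroup.relIndex_sup_right]
    exact Subgroup.relIndex_dvd_of_le_left _ hi1
  rcases hMi i with hpi | hco
  swap
  · exfalso
    refine hi2 (le_sup_right.trans (le_core (K := S) ?_))
    have := Subgroup.relIndex_mul_relIndex ⊥ O S bot_le le_sup_left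
    rw [Subgroup.relIndex_bot_left, Subgroup.relIndex_bot_left] at this
    rw [← this]
    exact Nat.Coprime.mul_left (core_coprime H) (hco.coprime_dvd_left hd)
  have hne : O.relIndex S ≠ 1 := fun e => hi2 (le_sup_right.trans (Subgroup.relIndex_eq_one.1 e))
  obtain ⟨p, hp, hpd⟩ := Nat.exists_prime_and_dvd hne
  haveI := Fact.mk hp
  have hpH : p ∣ Nat.card H := hpi p hp (hpd.trans hd)
  -- the Hall part of `S` lies in `H`
  set T := H ⊓ S with hT
  have hcS : Nat.card O * O.relIndex S = Nat.card S := by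
    rw [← Subgroup.relIndex_bot_left O, Subgroup.relIndex_mul_relIndex _ _ _ bot_le le_sup_left,
      Subgroup.relIndex_bot_left]
  have hcS2 : Nat.card T * T.relIndex S = Nat.card S := by
    rw [← Subgroup.relIndex_bot_left T, Subgroup.relIndex_mul_relIndex _ _ _ bot_le inf_le_right,
      Subgroup.relIndex_bot_left]
  have hTI : T.relIndex S ∣ H.index := by
    rw [hT, Subgroup.inf_relIndex_right]
    have e1 := card_sup_mul_card_inf S H
    have e2 : Nat.card S = H.relIndex S * Nat.card (S ⊓ H : Subgroup G) := by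
      rw [← Subgroup.inf_relIndex_right, inf_comm, mul_comm, ← Subgroup.relIndex_bot_left (S ⊓ H),
        Subgroup.relIndex_mul_relIndex _ _ _ bot_le inf_le_left, Subgroup.relIndex_bot_left]
    rw [e2, mul_right_comm] at e1
    have h1 := Nat.eq_of_mul_eq_mul_right Nat.card_pos e1
    have h2 : H.relIndex S * Nat.card H ∣ Nat.card H * H.index := by
      rw [H.card_mul_index, ← h1]; exact Subgroup.card_subgroup_dvd_card _
    rw [mul_comm] at h2
    exact Nat.dvd_of_mul_dvd_mul_left Nat.card_pos h2
  have hOS : O ⊔ T = S := by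
    refine Subgroup.eq_of_le_of_card_ge (sup_le le_sup_left inf_le_right) ?_
    have h1 := card_sup_mul_card_inf O T
    have h2 : Nat.card (O ⊓ T : Subgroup G) = 1 := Nat.eq_one_of_dvd_coprimes (core_coprime H)
      (Subgroup.card_dvd_of_le inf_le_left) (Subgroup.card_dvd_of_le (inf_le_right.trans inf_le_left))
    rw [h2, mul_one] at h1
    rw [h1, ← hcS]
    refine Nat.mul_le_mul_left _ (Nat.le_of_dvd Nat.card_pos ?_)
    refine Nat.Coprime.dvd_of_dvd_mul_right ?_ (hcS2 ▸ Dvd.intro_left _ hcS)
    refine Nat.coprime_of_dvd fun q hq hq1 hq2 => ?_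
    exact hq.one_lt.ne' (Nat.eq_one_of_dvd_coprimes hH.hall_top
      (hpi q hq (hq1.trans hd)) (hq2.trans hTI))
  obtain ⟨P, hP⟩ := exists_isSylIn p T
  have hPS : IsSylIn p P S := by
    refine ⟨hP.1.trans inf_le_right, ?_⟩
    rw [hP.2, ← hcS2, Nat.factorization_mul Nat.card_pos.ne' (fun e => by
      rw [e, mul_zero] at hcS2; exact Nat.card_pos.ne' hcS2.symm), Finsupp.add_apply,
      Nat.factorization_eq_zero_of_not_dvd fun d => hp.one_lt.ne'
        (Nat.eq_one_of_dvd_coprimes hH.hall_top hpH (d.trans hTI)), add_zero]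
  have hP1 : P ≠ ⊥ := by
    intro e
    have h1 : Nat.card P = 1 := by rw [e, Subgroup.card_bot]
    rw [hPS.2] at h1
    exact (Nat.one_lt_pow (hp.factorization_pos_of_dvd Nat.card_pos.ne'
      ((hpd.trans (Dvd.intro_left _ rfl)).trans (dvd_of_eq hcS))).ne' hp.one_lt).ne' h1
  obtain ⟨Q, hQ⟩ := hPS.exists_sylow
  have hfr := Sylow.normalizer_sup_eq_top Q
  rw [hQ] at hfr
  rw [eq_top_iff, ← hfr]
  refine sup_le ((hH.normalizer_le (hP.1.trans inf_le_left) hP1).trans le_sup_right) ?_
  rw [← hOS]
  exact sup_le le_sup_left ((inf_le_left.trans Subgroup.le_normalizer).trans le_sup_right)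

/-- `O H` is normal. -/
theorem Hyp.core_sup_normal (hH : Hyp H) : (core H ⊔ H).Normal := by
  rw [← Subgroup.normalizer_eq_top_iff, eq_top_iff, ← hH.core_sup_normalizer]
  refine sup_le (le_sup_left.trans Subgroup.le_normalizer) fun g hg => ?_
  rw [← Subgroup.zpowers_le]
  have hgO : g ∈ Subgroup.normalizer (core H : Set G) := by
    rw [Subgroup.normalizer_eq_top]; exact Subgroup.mem_top g
  rw [Subgroup.zpowers_le]
  refine mem_normalizer_of_conj_smul ?_
  rw [Subgroup.smul_sup, conj_smul_of_mem_normalizer hgO, conj_smul_of_mem_normalizer hg]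

/-- Abelian `p`-subgroups of `H` are cyclic. -/
theorem Hyp.abelian_cyclic (hH : Hyp H) {A : Subgroup G} (hA : A ≤ H) [IsMulCommutative A] :
    IsCyclic A := by
  by_contra hnc
  refine hH.nn ?_
  have hN : core H ≤ Subgroup.normalizer (H : Set G) := by
    have hco : (Nat.card A).Coprime (Nat.card (core H)) :=
      ((core_coprime H).coprime_dvd_right (Subgroup.card_dvd_of_le hA)).symm
    have hAK : A ≤ Subgroup.normalizer (core H : Set G) := by
      rw [Subgroup.normalizer_eq_top]; exact le_top
    rw [← gen_eq A (core H) inferInstance hAK hco]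
    refine iSup₂_le fun B hB => ?_
    obtain ⟨hBA, a, ha, hBa⟩ := hB
    obtain ⟨x, hx, hx1⟩ : ∃ x ∈ B, x ≠ 1 := by
      by_contra hcon
      push Not at hcon
      refine hnc ?_
      rw [B.eq_bot_iff_forall.2 hcon, bot_sup_eq] at hBa
      rw [← hBa]
      infer_instance
    rintro c ⟨-, hc⟩
    have e : c * x * c⁻¹ = x := by
      rw [← Subgroup.mem_centralizer_iff.1 hc x hx, mul_inv_cancel_right]
    exact hH.ti_mem (hA (hBA hx)) (e.symm ▸ hA (hBA hx)) hx1
  rw [← Subgroup.normalizer_eq_top_iff, eq_top_iff, ← hH.core_sup_normalizer]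
  exact sup_le hN le_rfl

/-- The Sylow subgroups of `H` are cyclic, except perhaps for non-abelian `2`-groups. -/
theorem Hyp.sylow_cyclic (hH : Hyp H) {p : ℕ} [Fact p.Prime] (P : Sylow p H)
    (h2 : p = 2 → IsMulCommutative (P : Subgroup H)) : IsCyclic (P : Subgroup H) := by
  by_cases hp2 : p = 2
  · haveI := h2 hp2
    let P' : Subgroup G := (P : Subgroup H).map H.subtype
    let e : (P : Subgroup H) ≃* P' := (P : Subgroup H).equivMapOfInjective H.subtype H.subtype_injective
    haveI : IsMulCommutative P' := ⟨⟨fun a b => e.symm.injective (by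
      rw [map_mul, map_mul]; exact (h2 hp2).is_comm.comm _ _)⟩⟩
    haveI := hH.abelian_cyclic (A := P') (Subgroup.map_subtype_le _)
    exact isCyclic_of_surjective e.symm e.symm.surjective
  have hab : ∀ A : Subgroup (P : Subgroup H), IsMulCommutative A → IsCyclic A := by
    intro A hAc
    let A' : Subgroup G := (A.map (P : Subgroup H).subtype).map H.subtype
    let e : A ≃* A' := (A.equivMapOfInjective _ (P : Subgroup H).subtype_injective).trans
      ((A.map (P : Subgroup H).subtype).equivMapOfInjective H.subtype H.subtype_injective)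
    haveI : IsMulCommutative A' := ⟨⟨fun a b => e.symm.injective (by
      rw [map_mul, map_mul]; exact hAc.is_comm.comm _ _)⟩⟩
    haveI := hH.abelian_cyclic (A := A') (Subgroup.map_subtype_le _)
    exact isCyclic_of_surjective e.symm e.symm.surjective
  have hu : UniqueOrderP p (P : Subgroup H) := by
    have hp : p.Prime := Fact.out
    intro x y hx hy hy1
    haveI : Nontrivial (P : Subgroup H) := nontrivial_of_ne y 1 hy1
    haveI : Nontrivial (Subgroup.center (P : Subgroup H)) := P.isPGroup'.center_nontrivial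
    obtain ⟨z, hz⟩ := exists_prime_orderOf_dvd_card' (G := Subgroup.center (P : Subgroup H)) p (by
      obtain ⟨n, hn⟩ := IsPGroup.iff_card.1 (P.isPGroup'.to_subgroup (Subgroup.center (P : Subgroup H)))
      rw [hn]
      refine dvd_pow_self p fun e => ?_
      rw [e, pow_zero] at hn
      exact Finite.one_lt_card.ne' hn)
    have key : ∀ w : (P : Subgroup H), w ^ p = 1 → w ∈ Subgroup.zpowers (z : (P : Subgroup H)) := by
      intro w hw
      let A := Subgroup.closure ({(z : (P : Subgroup H)), w} : Set (P : Subgroup H))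
      have hAc : IsMulCommutative A := Subgroup.isMulCommutative_closure (by
        intro a ha b hb
        have hzc : ∀ c, c * (z : (P : Subgroup H)) = z * c := fun c =>
          Subgroup.mem_center_iff.1 z.2 c
        rcases ha with rfl | rfl <;> rcases hb with rfl | rfl <;> simp [hzc])
      haveI := hab A hAc
      have hzA : (z : (P : Subgroup H)) ∈ A := Subgroup.subset_closure (by simp)
      have hwA : w ∈ A := Subgroup.subset_closure (by simp)
      have ho : orderOf (⟨(z : (P : Subgroup H)), hzA⟩ : A) = p := by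
        rw [Subgroup.orderOf_mk, Subgroup.orderOf_coe]; exact hz
      obtain ⟨g, hg⟩ := IsCyclic.exists_generator (α := A)
      have hsub : Subgroup.zpowers (⟨w, hwA⟩ : A) ≤ Subgroup.zpowers (⟨(z : (P : Subgroup H)), hzA⟩ : A) := by
        letI : CommGroup A := IsCyclic.commGroup
        have hk : Subgroup.zpowers (⟨(z : (P : Subgroup H)), hzA⟩ : A) = (powMonoidHom p : A →* A).ker := by
          refine Subgroup.eq_of_le_of_card_ge (Subgroup.zpowers_le.2 ?_) ?_
          · rw [MonoidHom.mem_ker, powMonoidHom_apply]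
            exact orderOf_dvd_iff_pow_eq_one.1 ho.dvd
          · rw [IsCyclic.card_powMonoidHom_ker, Nat.card_zpowers, ho]
            exact Nat.le_of_dvd hp.pos (Nat.gcd_dvd_right _ _)
        rw [hk, Subgroup.zpowers_le]
        exact Subtype.ext hw
      obtain ⟨i, hi⟩ := Subgroup.mem_zpowers_iff.1 (hsub (Subgroup.mem_zpowers _))
      exact ⟨i, congrArg Subtype.val hi⟩
    have hyz : Subgroup.zpowers y = Subgroup.zpowers (z : (P : Subgroup H)) := by
      refine Subgroup.eq_of_le_of_card_ge (Subgroup.zpowers_le.2 (key y hy)) ?_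
      rw [Nat.card_zpowers, Nat.card_zpowers, Subgroup.orderOf_coe, hz, orderOf_eq_prime hy hy1]
    rw [hyz]
    exact key x hx
  rcases cyclic_or_quaternion P.isPGroup' hu with h | ⟨h, -⟩
  · exact h
  · exact absurd h hp2

end Cfsg.Agent.Perm.TIHall
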