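import Cfsg.Agent.Lib.Solv.Frobenius
import Cfsg.Agent.Lib.Char.Inflate
import Cfsg.Agent.Lib.Perm.MeetsClasses
import Cfsg.Prelude.Def_OddOrderLocal

/-!
A TI subgroup with a normal complement in its normalizer, of coprime order and index there,
has a normal complement in the whole group.
-/

set_option autoImplicit false
set_option linter.style.haveILetI false

open scoped Pointwise ComplexConjugate

namespace Cfsg.Agent.Perm.TIComplement

open Cfsg

universe u

variable {G : Type u} [Group G] [Finite G] {H : Subgroup G}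

variable (hTI : Cfsg.IsTISubset (H : Set G))
  (hHall : (Nat.card H).Coprime (H.subgroupOf (Subgroup.normalizer (H : Set G))).index)
  (K : Subgroup (Subgroup.normalizer (H : Set G))) [K.Normal] (hK : K.IsComplement' (H.subgroupOf (Subgroup.normalizer (H : Set G))))

include hHall hK in
theorem mem_K_iff (x : (Subgroup.normalizer (H : Set G))) : x ∈ K ↔ x ^ Nat.card K = 1 := by
  constructor
  · intro hx
    exact congrArg Subtype.val (pow_card_eq_one' (x := (⟨x, hx⟩ : K)))
  · intro hx
    rw [← QuotientGroup.eq_one_iff]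
    refine orderOf_eq_one_iff.1 (Nat.eq_one_of_dvd_coprimes hHall ?_ ?_)
    · refine (orderOf_dvd_natCard _).trans (dvd_of_eq ?_)
      rw [← Subgroup.index_eq_card, hK.symm.index_eq_card]
      exact Nat.card_congr (Subgroup.subgroupOfEquivOfLe Subgroup.le_normalizer).toEquiv
    · rw [hK.index_eq_card]
      refine orderOf_dvd_of_pow_eq_one ?_
      rw [← QuotientGroup.mk_pow, hx, QuotientGroup.mk_one]

include hK in
theorem pow_mem_H (x : (Subgroup.normalizer (H : Set G))) : ((x ^ Nat.card K : (Subgroup.normalizer (H : Set G))) : G) ∈ H := by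
  haveI : (H.subgroupOf (Subgroup.normalizer (H : Set G))).Normal :=
    Subgroup.normal_subgroupOf_of_le_normalizer le_rfl
  have := Subgroup.pow_index_mem (H := H.subgroupOf (Subgroup.normalizer (H : Set G))) x
  rwa [hK.index_eq_card] at this

include hTI hHall hK in
/-- Conjugation of an element outside `K` back into the normalizer stays in the normalizer. -/
theorem ti_key (x : (Subgroup.normalizer (H : Set G))) (hx : x ∉ K) (y : G) (hy : y⁻¹ * (x : G) * y ∈ (Subgroup.normalizer (H : Set G))) : y ∈ (Subgroup.normalizer (H : Set G)) := by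
  by_contra hy'
  have h1 := pow_mem_H K hK x
  have h2 := pow_mem_H K hK ⟨_, hy⟩
  have e : y⁻¹ * ((x ^ Nat.card K : (Subgroup.normalizer (H : Set G))) : G) * y =
      ((⟨y⁻¹ * (x : G) * y, hy⟩ : (Subgroup.normalizer (H : Set G))) ^ Nat.card K : (Subgroup.normalizer (H : Set G))) := by
    push_cast
    conv_rhs => rw [show y⁻¹ * (x : G) * y = y⁻¹ * (x : G) * y⁻¹⁻¹ by rw [inv_inv], conj_pow, inv_inv]
  refine hx ((mem_K_iff hHall K hK x).2 (Subtype.ext ?_))
  refine hTI y⁻¹ (fun h => hy' (by simpa using inv_mem h)) _ h1 ?_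
  rw [inv_inv, e]
  exact h2

include hTI hHall hK in
theorem indFun_res [Fintype G] (φ : (Subgroup.normalizer (H : Set G)) → ℂ) (hφ : IsClassFunction (Subgroup.normalizer (H : Set G)) φ)
    (hφK : ∀ x ∈ K, φ x = 0) (x : (Subgroup.normalizer (H : Set G))) : indFun (Subgroup.normalizer (H : Set G)) φ x = φ x := by
  classical
  have hterm : ∀ y : G, extendByZero (Subgroup.normalizer (H : Set G)) φ (y⁻¹ * (x : G) * y) = if y ∈ (Subgroup.normalizer (H : Set G)) then φ x else 0 := by
    intro y
    split_ifs with hy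
    · have hm : y⁻¹ * (x : G) * y ∈ (Subgroup.normalizer (H : Set G)) := mul_mem (mul_mem (inv_mem hy) x.2) hy
      rw [Char.extendByZero_mem (Subgroup.normalizer (H : Set G)) φ hm, ← hφ x ⟨y⁻¹, inv_mem hy⟩]
      congr 1
      ext
      simp
    · by_cases hm : y⁻¹ * (x : G) * y ∈ (Subgroup.normalizer (H : Set G))
      · rw [Char.extendByZero_mem (Subgroup.normalizer (H : Set G)) φ hm]
        refine hφK _ ?_
        by_cases hxK : x ∈ K
        · rw [mem_K_iff hHall K hK] at hxK ⊢
          refine Subtype.ext ?_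
          push_cast
          conv_lhs => rw [show y⁻¹ * (x : G) * y = y⁻¹ * (x : G) * y⁻¹⁻¹ by rw [inv_inv], conj_pow,
            inv_inv]
          rw [show (x : G) ^ Nat.card K = 1 from by simpa using congrArg Subtype.val hxK]
          group
        · exact absurd (ti_key hTI hHall K hK x hxK y hm) hy
      · exact Char.extendByZero_not_mem (Subgroup.normalizer (H : Set G)) φ hm
  rw [indFun]
  simp only [hterm, Finset.sum_ite, Finset.sum_const_zero, add_zero, Finset.sum_const,
    nsmul_eq_mul]
  rw [← Fintype.card_subtype, ← Nat.card_eq_fintype_card, ← mul_assoc, inv_mul_cancel₀, one_mul]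
  exact Nat.cast_ne_zero.mpr Nat.card_pos.ne'

include hTI hHall hK in
theorem exists_ext [Fintype G] [Fintype (Subgroup.normalizer (H : Set G))] (ψ : IrrCharacter ((Subgroup.normalizer (H : Set G)) ⧸ K)) :
    ∃ χ : G → ℂ, IsIrrCharacter G χ ∧
      (∀ x : (Subgroup.normalizer (H : Set G)), χ x = (ψ : (Subgroup.normalizer (H : Set G)) ⧸ K → ℂ) (QuotientGroup.mk x)) ∧
      ∀ g : G, (∀ c : G, ∀ x : (Subgroup.normalizer (H : Set G)), c⁻¹ * g * c = x → x ∈ K) → χ g = χ 1 := by
  classical
  by_cases hψ : (ψ : (Subgroup.normalizer (H : Set G)) ⧸ K → ℂ) = fun _ => 1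
  · exact ⟨fun _ => 1, Char.isIrrCharacter_one, fun x => by rw [hψ], fun _ _ => rfl⟩
  set ψ' : (Subgroup.normalizer (H : Set G)) → ℂ := fun x => (ψ : (Subgroup.normalizer (H : Set G)) ⧸ K → ℂ) (QuotientGroup.mk x) with hψ'def
  have hirr : IsIrrCharacter (Subgroup.normalizer (H : Set G)) ψ' := Char.isIrr_inflate K ψ.2
  have hψ' : ψ' ≠ fun _ => 1 := fun e => hψ (funext fun q => by
    obtain ⟨x, rfl⟩ := QuotientGroup.mk_surjective q
    exact congrFun e x)
  set d := Char.deg ψ' with hd
  have hd1 : ψ' 1 = (d : ℂ) := Char.char_one_eq_deg (Char.irr_isCharacter hirr)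
  let one : (Subgroup.normalizer (H : Set G)) → ℂ := fun _ => 1
  let oneG : G → ℂ := fun _ => 1
  set φ : (Subgroup.normalizer (H : Set G)) → ℂ := ψ' - (d : ℂ) • one with hφ
  have hφc : IsClassFunction (Subgroup.normalizer (H : Set G)) φ := fun g h => by
    simp [hφ, one, Char.isClassFunction_character (Char.irr_isCharacter hirr) g h]
  have hφK : ∀ x ∈ K, φ x = 0 := fun x hx => by
    have : ψ' x = ψ' 1 := by
      rw [hψ'def]
      simp only
      rw [(QuotientGroup.eq_one_iff x).2 hx, QuotientGroup.mk_one]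
    simp [hφ, one, this, hd1]
  have hφ0 : φ 1 = 0 := hφK 1 (one_mem K)
  have hres' := indFun_res hTI hHall K hK φ hφc hφK
  have hres : (fun x : (Subgroup.normalizer (H : Set G)) => indFun (Subgroup.normalizer (H : Set G)) φ x) = φ := funext hres'
  have hψ1 : classInner ψ' one = 0 := by
    rw [Char.irr_orth hirr Char.isIrrCharacter_one, if_neg hψ']
  have h1ψ : classInner one ψ' = 0 := by
    rw [← Char.classInner_symm, hψ1, map_zero]
  have h11 : classInner one one = 1 := Char.irr_self Char.isIrrCharacter_one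
  have hG11 : classInner oneG oneG = 1 := Char.irr_self Char.isIrrCharacter_one
  have hφ1 : classInner φ one = -(d : ℂ) := by
    rw [hφ, Char.classInner_sub_left, Char.classInner_smul_left, hψ1, h11]; ring
  have hφφ : classInner φ φ = 1 + (d : ℂ) * d := by
    conv_lhs => arg 2; rw [hφ]
    rw [Char.classInner_sub_right, Char.classInner_smul_right, hφ1, hφ, Char.classInner_sub_left,
      Char.classInner_smul_left, Char.irr_self hirr, h1ψ, Complex.conj_natCast]
    ring
  have hI : classInner (indFun (Subgroup.normalizer (H : Set G)) φ) (indFun (Subgroup.normalizer (H : Set G)) φ) = 1 + (d : ℂ) * d := by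
    rw [Char.frobenius (Subgroup.normalizer (H : Set G)) φ (Char.isClassFunction_indFun (Subgroup.normalizer (H : Set G)) φ), hres, hφφ]
  have hIo : classInner (indFun (Subgroup.normalizer (H : Set G)) φ) oneG = -(d : ℂ) := by
    rw [Char.frobenius (Subgroup.normalizer (H : Set G)) φ (fun g h => rfl)]
    exact hφ1
  have hoI : classInner oneG (indFun (Subgroup.normalizer (H : Set G)) φ) = -(d : ℂ) := by
    rw [← Char.classInner_symm, hIo, map_neg, Complex.conj_natCast]
  set a : G → ℂ := indFun (Subgroup.normalizer (H : Set G)) ψ' + d • oneG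
  set b : G → ℂ := indFun (Subgroup.normalizer (H : Set G)) (d • one)
  have hab : a - b = indFun (Subgroup.normalizer (H : Set G)) φ + (d : ℂ) • oneG := by
    simp only [a, b, hφ, ← Nat.cast_smul_eq_nsmul ℂ, Char.indFun_sub, Char.indFun_smul]
    abel
  refine ⟨a - b, Solv.isIrr_of_virtual_norm_one (d := d) ?_ ?_ ?_ ?_ ?_, fun x => ?_, fun g hg => ?_⟩
  · exact Char.isCharacter_add (Char.isCharacter_indFun (Subgroup.normalizer (H : Set G)) (Char.irr_isCharacter hirr))
      (Char.isCharacter_nsmul Char.isCharacter_one d)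
  · exact Char.isCharacter_indFun (Subgroup.normalizer (H : Set G)) (Char.isCharacter_nsmul Char.isCharacter_one d)
  · rw [hab, Char.classInner_add_left, Char.classInner_add_right, Char.classInner_add_right,
      Char.classInner_smul_left, Char.classInner_smul_right, Char.classInner_smul_left,
      Char.classInner_smul_right, hI, hIo, hoI, hG11, Complex.conj_natCast]
    ring
  · exact Char.deg_pos hirr
  · rw [hab, Pi.add_apply, Char.indFun_one, hφ0]; simp [oneG]
  · rw [hab, Pi.add_apply, hres']
    simp [hφ, one, oneG, hψ'def]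
  · have hz : indFun (Subgroup.normalizer (H : Set G)) φ g = 0 := by
      rw [indFun, Finset.sum_eq_zero, mul_zero]
      intro y _
      by_cases hm : y⁻¹ * g * y ∈ (Subgroup.normalizer (H : Set G))
      · rw [Char.extendByZero_mem (Subgroup.normalizer (H : Set G)) φ hm]
        exact hφK _ (hg y ⟨_, hm⟩ rfl)
      · exact Char.extendByZero_not_mem (Subgroup.normalizer (H : Set G)) φ hm
    rw [hab, Pi.add_apply, Pi.add_apply, hz, Char.indFun_one, hφ0]
    simp [oneG]

include hTI hHall hK in
theorem exists_normal_complement : ∃ M : Subgroup G, M.Normal ∧ M.IsComplement' H := by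
  classical
  have := Fintype.ofFinite G
  have := Fintype.ofFinite (Subgroup.normalizer (H : Set G))
  have := Fintype.ofFinite ((Subgroup.normalizer (H : Set G)) ⧸ K)
  choose χ hχ hχN hχK using fun ψ => exists_ext hTI hHall K hK ψ
  choose M hMn hM using fun ψ => Solv.exists_char_kernel (hχ ψ)
  set M' : Subgroup G := ⨅ ψ, M ψ with hM'
  haveI hM'n : M'.Normal := Subgroup.normal_iInf_normal hMn
  have hin : ∀ x : (Subgroup.normalizer (H : Set G)), (x : G) ∈ M' → x ∈ K := by
    intro x hx
    rw [← QuotientGroup.eq_one_iff]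
    rw [hM', Subgroup.mem_iInf] at hx
    by_contra hne
    have key : ∀ ψ : IrrCharacter ((Subgroup.normalizer (H : Set G)) ⧸ K),
        (ψ : (Subgroup.normalizer (H : Set G)) ⧸ K → ℂ) (QuotientGroup.mk x) = (ψ : (Subgroup.normalizer (H : Set G)) ⧸ K → ℂ) 1 := fun ψ => by
      have h1 : χ ψ ((1 : (Subgroup.normalizer (H : Set G))) : G) = (ψ : (Subgroup.normalizer (H : Set G)) ⧸ K → ℂ) (QuotientGroup.mk (1 : (Subgroup.normalizer (H : Set G)))) := hχN ψ 1
      rw [QuotientGroup.mk_one, OneMemClass.coe_one] at h1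
      rw [← hχN, ← h1]
      exact (hM ψ x).1 (hx ψ)
    have hreg := Char.regular_sum (QuotientGroup.mk x : (Subgroup.normalizer (H : Set G)) ⧸ K)
    rw [if_neg hne, Finset.sum_congr rfl fun ψ _ => by rw [key ψ, ← pow_two],
      Char.sum_sq_deg] at hreg
    exact Nat.card_pos.ne' (Nat.cast_eq_zero.1 hreg)
  have hout : ∀ g : G, (∀ c : G, ∀ x : (Subgroup.normalizer (H : Set G)), c⁻¹ * g * c = x → x ∈ K) → g ∈ M' := fun g hg => by
    rw [hM', Subgroup.mem_iInf]
    exact fun ψ => (hM ψ g).2 (hχK ψ g hg)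
  have hKM : ∀ x ∈ K, (x : G) ∈ M' := fun x hx => hout _ fun c y hy => by
    rw [mem_K_iff hHall K hK] at hx ⊢
    refine Subtype.ext ?_
    push_cast
    rw [← hy, show c⁻¹ * (x : G) * c = c⁻¹ * (x : G) * c⁻¹⁻¹ by rw [inv_inv], conj_pow,
      show (x : G) ^ Nat.card K = 1 from by simpa using congrArg Subtype.val hx]
    group
  have hinf : M' ⊓ H = ⊥ := by
    rw [eq_bot_iff]
    rintro h ⟨h1, h2⟩
    have h3 := hin ⟨h, Subgroup.le_normalizer h2⟩ h1
    have h4 : (⟨h, Subgroup.le_normalizer h2⟩ : (Subgroup.normalizer (H : Set G))) ∈ K ⊓ H.subgroupOf (Subgroup.normalizer (H : Set G)) := ⟨h3, h2⟩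
    rw [hK.disjoint.eq_bot, Subgroup.mem_bot] at h4
    exact Subgroup.mem_bot.2 (congrArg Subtype.val h4)
  have hsup : M' ⊔ H = ⊤ := by
    refine eq_top_of_meets_classes _ fun g => ?_
    by_cases hg : ∀ c : G, ∀ x : (Subgroup.normalizer (H : Set G)), c⁻¹ * g * c = x → x ∈ K
    · exact ⟨1, by simpa using Subgroup.mem_sup_left (hout g hg)⟩
    push Not at hg
    obtain ⟨c, x, hx, -⟩ := hg
    refine ⟨c, hx ▸ ?_⟩
    have hx' : x ∈ (K : Set (Subgroup.normalizer (H : Set G))) * (H.subgroupOf (Subgroup.normalizer (H : Set G)) : Set (Subgroup.normalizer (H : Set G))) := by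
      rw [hK.mul_eq]; trivial
    obtain ⟨k, hk, h, hh, rfl⟩ := Set.mem_mul.1 hx'
    exact mul_mem (Subgroup.mem_sup_left (hKM k hk)) (Subgroup.mem_sup_right hh)
  exact ⟨M', hM'n, Subgroup.isComplement'_of_disjoint_and_mul_eq_univ (disjoint_iff.2 hinf)
    (by rw [← Subgroup.normal_mul, hsup, Subgroup.coe_top])⟩

end Cfsg.Agent.Perm.TIComplement
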