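import Cfsg.Agent.Lib.Perm.AltAut
import Cfsg.Agent.Lib.Classical.FormSmallSolvable
import Cfsg.Agent.Lib.Solv.Component
import Cfsg.Agent.Lib.Solv.Cores
import Cfsg.Agent.Lib.Fusion.Basic

/-!
# Permutation groups containing 3-cycles
-/

set_option autoImplicit false

open Equiv Equiv.Perm Cfsg
open scoped commutatorElement

namespace Cfsg.Agent.Perm.ThreeClasses

open Cfsg.Agent.Perm.AltAut

variable {α : Type*} [Fintype α] [DecidableEq α] (H : Subgroup (Equiv.Perm α))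

/-- All 3-cycles on `Δ` lie in `H`. -/
def Good (Δ : Finset α) : Prop :=
  ∀ a ∈ Δ, ∀ b ∈ Δ, ∀ d ∈ Δ, a ≠ b → a ≠ d → b ≠ d → cyc a b d ∈ H

variable {H}

theorem cyc_swap_mem {a b d : α} (hab : a ≠ b) (had : a ≠ d) (hbd : b ≠ d) (h : cyc a b d ∈ H) :
    cyc b a d ∈ H := by
  have e : cyc d b a = (cyc a b d)⁻¹ := by
    rw [cyc_inv, cyc, swap_comm d b, swap_comm b a]
  have h2 := inv_mem h
  rw [← e, cyc_rot hbd.symm had.symm hab.symm] at h2
  exact h2

theorem ext {Δ : Finset α} (hΔ : Good H Δ) (h3 : 3 ≤ Δ.card) {u v x : α} (hu : u ∈ Δ) (hv : v ∈ Δ)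
    (huv : u ≠ v) (hx : x ∉ Δ) (h : cyc u v x ∈ H) : Good H (insert x Δ) := by
  have hne : ∀ a ∈ Δ, a ≠ x := fun a ha e => hx (e ▸ ha)
  have sym : ∀ a ∈ Δ, ∀ b ∈ Δ, a ≠ b → cyc a b x ∈ H → cyc b a x ∈ H := fun a ha b hb hab hm =>
    cyc_swap_mem hab (hne a ha) (hne b hb) hm
  have move : ∀ a ∈ Δ, ∀ b ∈ Δ, a ≠ b → cyc a b x ∈ H → ∀ c ∈ Δ, c ≠ b → cyc c b x ∈ H := by
    intro a ha b hb hab hm c hc hcb
    by_cases hca : c = a
    · rwa [hca]
    have hσ := hΔ a ha b hb c hc hab (Ne.symm hca) (Ne.symm hcb)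
    have h1 := H.mul_mem (H.mul_mem hσ hm) (H.inv_mem hσ)
    rw [conj_cyc, cyc_left hab (Ne.symm hca), cyc_mid (Ne.symm hca) (Ne.symm hcb),
      cyc_other (hne a ha).symm (hne b hb).symm (hne c hc).symm] at h1
    exact sym b hb c hc (Ne.symm hcb) h1
  have all : ∀ a ∈ Δ, ∀ b ∈ Δ, a ≠ b → cyc a b x ∈ H := by
    intro a ha b hb hab
    by_cases hav : a = v
    · subst hav
      exact sym b hb a ha hab.symm (move u hu a hv huv h b hb hab.symm)
    · have h1 := sym a ha v hv hav (move u hu v hv huv h a ha hav)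
      exact sym b hb a ha hab.symm (move v hv a ha (Ne.symm hav) h1 b hb hab.symm)
  intro a ha b hb d hd hab had hbd
  rw [Finset.mem_insert] at ha hb hd
  rcases ha with rfl | ha
  · rw [cyc_rot hab had hbd]
    exact all b (hb.resolve_left (Ne.symm hab)) d (hd.resolve_left (Ne.symm had)) hbd
  rcases hb with rfl | hb
  · rw [cyc_rot hab had hbd, cyc_rot hbd hab.symm had.symm]
    exact all d (hd.resolve_left (Ne.symm hbd)) a ha had.symm
  rcases hd with rfl | hd
  · exact all a ha b hb hab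
  · exact hΔ a ha b hb d hd hab had hbd

theorem join {Δ : Finset α} (hΔ : Good H Δ) (h3 : 3 ≤ Δ.card) {a b d : α} (ha : a ∈ Δ)
    (hab : a ≠ b) (had : a ≠ d) (hbd : b ≠ d) (h : cyc a b d ∈ H) :
    ∃ Δ' : Finset α, Δ ⊆ Δ' ∧ b ∈ Δ' ∧ d ∈ Δ' ∧ Good H Δ' := by
  obtain ⟨Δ₁, hsub, hb, hg⟩ : ∃ Δ₁ : Finset α, Δ ⊆ Δ₁ ∧ b ∈ Δ₁ ∧ Good H Δ₁ := by
    by_cases hb : b ∈ Δ
    · exact ⟨Δ, subset_rfl, hb, hΔ⟩
    refine ⟨insert b Δ, Finset.subset_insert _ _, Finset.mem_insert_self _ _, ?_⟩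
    by_cases hd : d ∈ Δ
    · rw [cyc_rot hab had hbd, cyc_rot hbd hab.symm had.symm] at h
      exact ext hΔ h3 hd ha had.symm hb h
    obtain ⟨u, hu, hua⟩ := Finset.exists_mem_ne (show 1 < Δ.card by omega) a
    obtain ⟨v, hv⟩ : ∃ v, v ∈ (Δ.erase a).erase u := Finset.card_pos.1 (by
      rw [Finset.card_erase_of_mem (Finset.mem_erase.2 ⟨hua, hu⟩), Finset.card_erase_of_mem ha]; omega)
    simp only [Finset.mem_erase] at hv
    have hub : u ≠ b := fun e => hb (e ▸ hu)
    have hud : u ≠ d := fun e => hd (e ▸ hu)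
    have hvb : v ≠ b := fun e => hb (e ▸ hv.2.2)
    have hvd : v ≠ d := fun e => hd (e ▸ hv.2.2)
    have hfu : cyc a b d u = u := cyc_other hua hub hud
    have hfv : cyc a b d v = v := cyc_other hv.2.1 hvb hvd
    have h1 := H.mul_mem (H.mul_mem h (hΔ a ha u hu v hv.2.2 hua.symm (Ne.symm hv.2.1) (Ne.symm hv.1))) (H.inv_mem h)
    rw [conj_cyc, cyc_left hab had, hfu, hfv,
      cyc_rot hub.symm hvb.symm (Ne.symm hv.1)] at h1
    exact ext hΔ h3 hu hv.2.2 (Ne.symm hv.1) hb h1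
  by_cases hd : d ∈ Δ₁
  · exact ⟨Δ₁, hsub, hb, hd, hg⟩
  · exact ⟨insert d Δ₁, hsub.trans (Finset.subset_insert _ _), Finset.mem_insert_of_mem hb,
      Finset.mem_insert_self _ _, ext hg (h3.trans (Finset.card_le_card hsub)) (hsub ha) hb hab hd h⟩

/-- A class: a maximal good set. -/
def IsClass (H : Subgroup (Equiv.Perm α)) (Δ : Finset α) : Prop :=
  Good H Δ ∧ 3 ≤ Δ.card ∧ ∀ Δ', Good H Δ' → Δ ⊆ Δ' → Δ' = Δ

theorem exists_class {a b d : α} (hab : a ≠ b) (had : a ≠ d) (hbd : b ≠ d) (h : cyc a b d ∈ H) :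
    ∃ Δ, IsClass H Δ ∧ a ∈ Δ ∧ b ∈ Δ ∧ d ∈ Δ := by
  have h0 : Good H ({a, b, d} : Finset α) := by
    have h1 : cyc b d a ∈ H := cyc_rot hab had hbd ▸ h
    have h2 : cyc d a b ∈ H := cyc_rot hbd hab.symm had.symm ▸ h1
    intro x hx y hy z hz hxy hxz hyz
    simp only [Finset.mem_insert, Finset.mem_singleton] at hx hy hz
    rcases hx with rfl | rfl | rfl <;> rcases hy with rfl | rfl | rfl <;> rcases hz with rfl | rfl | rfl <;>
      first
        | exact absurd rfl hxy | exact absurd rfl hxz | exact absurd rfl hyz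
        | exact h | exact h1 | exact h2
        | exact cyc_swap_mem hyz.symm (by tauto) (by tauto) h
        | exact cyc_swap_mem (by tauto) (by tauto) (by tauto) h
        | exact cyc_swap_mem (by tauto) (by tauto) (by tauto) h1
        | exact cyc_swap_mem (by tauto) (by tauto) (by tauto) h2
  obtain ⟨Δ, hle, hmax⟩ := Finite.exists_le_maximal (p := fun Δ : Finset α => Good H Δ) h0
  refine ⟨Δ, ⟨hmax.1, ?_, fun Δ' h' hsub => le_antisymm (hmax.2 h' hsub) hsub⟩, hle (by simp), hle (by simp), hle (by simp)⟩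
  refine le_trans ?_ (Finset.card_le_card hle)
  rw [Finset.card_insert_of_notMem (by simp [hab, had]), Finset.card_insert_of_notMem (by simp [hbd]),
    Finset.card_singleton]

theorem mem_of_mem {Δ : Finset α} (hΔ : IsClass H Δ) {a b d : α} (ha : a ∈ Δ) (hab : a ≠ b) (had : a ≠ d)
    (hbd : b ≠ d) (h : cyc a b d ∈ H) : b ∈ Δ ∧ d ∈ Δ := by
  obtain ⟨Δ', hsub, hb, hd, hg⟩ := join hΔ.1 hΔ.2.1 ha hab had hbd h
  rw [hΔ.2.2 Δ' hg hsub] at hb hd
  exact ⟨hb, hd⟩

theorem maps_class {Δ : Finset α} (hΔ : IsClass H Δ) {σ : Equiv.Perm α} (hσ : σ ∈ H) {a : α} (ha : a ∈ Δ)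
    (hσa : σ a ∈ Δ) {x : α} (hx : x ∈ Δ) : σ x ∈ Δ := by
  by_cases hxa : x = a
  · rwa [hxa]
  obtain ⟨d, hd⟩ : ∃ d, d ∈ (Δ.erase a).erase x := Finset.card_pos.1 (by
    rw [Finset.card_erase_of_mem (Finset.mem_erase.2 ⟨hxa, hx⟩), Finset.card_erase_of_mem ha]
    have := hΔ.2.1
    omega)
  simp only [Finset.mem_erase] at hd
  have h1 := H.mul_mem (H.mul_mem hσ (hΔ.1 a ha x hx d hd.2.2 (Ne.symm hxa) (Ne.symm hd.2.1) (Ne.symm hd.1))) (H.inv_mem hσ)
  rw [conj_cyc] at h1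
  exact (mem_of_mem hΔ hσa (fun e => hxa (σ.injective e).symm) (fun e => hd.2.1 (σ.injective e).symm)
    (fun e => hd.1 (σ.injective e).symm) h1).1

/-- An element commuting with the 3-cycles of a class preserves it. -/
theorem preserves_of_commute {Δ : Finset α} (hΔ : IsClass H Δ) {σ : Equiv.Perm α}
    (hc : ∀ a ∈ Δ, ∀ b ∈ Δ, ∀ d ∈ Δ, a ≠ b → a ≠ d → b ≠ d → σ * cyc a b d * σ⁻¹ = cyc a b d)
    {x : α} (hx : x ∈ Δ) : σ x ∈ Δ := by
  obtain ⟨b, hb, hbx⟩ := Finset.exists_mem_ne (show 1 < Δ.card by have := hΔ.2.1; omega) x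
  obtain ⟨d, hd⟩ : ∃ d, d ∈ (Δ.erase x).erase b := Finset.card_pos.1 (by
    rw [Finset.card_erase_of_mem (Finset.mem_erase.2 ⟨hbx, hb⟩), Finset.card_erase_of_mem hx]
    have := hΔ.2.1
    omega)
  simp only [Finset.mem_erase] at hd
  have h1 := hc x hx b hb d hd.2.2 hbx.symm (Ne.symm hd.2.1) (Ne.symm hd.1)
  rw [conj_cyc] at h1
  have h2 := congrArg (fun f : Equiv.Perm α => f (σ x)) h1
  simp only [cyc_left (σ.injective.ne hbx.symm) (σ.injective.ne (Ne.symm hd.2.1))] at h2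
  by_contra hn
  rw [cyc_other (show σ x ≠ x from fun e => hn (e.symm ▸ hx)) (show σ x ≠ b from fun e => hn (e.symm ▸ hb))
    (show σ x ≠ d from fun e => hn (e.symm ▸ hd.2.2))] at h2
  exact hbx (σ.injective h2)

variable (H)

/-- The subgroup generated by the 3-cycles in `H`. -/
def threeGen : Subgroup (Equiv.Perm α) :=
  Subgroup.closure {f | f.IsThreeCycle ∧ f ∈ H}

variable {H}

theorem threeGen_preserves {Δ : Finset α} (hΔ : IsClass H Δ) {σ : Equiv.Perm α} (hσ : σ ∈ threeGen H) :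
    ∀ x ∈ Δ, σ x ∈ Δ := by
  induction hσ using Subgroup.closure_induction with
  | mem f hf =>
    intro x hx
    by_cases hfx : f x = x
    · rwa [hfx]
    obtain ⟨h1, h2, -⟩ := three_points hf.1 hfx
    have := hf.2
    rw [eq_cyc hf.1 hfx] at this
    exact (mem_of_mem hΔ hx (Ne.symm hfx) h2 h1 this).1
  | one => exact fun x hx => hx
  | mul σ τ _ _ h1 h2 => exact fun x hx => h1 _ (h2 x hx)
  | inv σ _ h1 =>
    intro x hx
    have hinj : Set.InjOn σ (Δ : Set α) := σ.injective.injOn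
    have hs : Δ.image σ = Δ := Finset.eq_of_subset_of_card_le (fun y hy => by
      obtain ⟨z, hz, rfl⟩ := Finset.mem_image.1 hy
      exact h1 z hz) (by rw [Finset.card_image_of_injective _ σ.injective])
    rw [← hs] at hx
    obtain ⟨z, hz, rfl⟩ := Finset.mem_image.1 hx
    show (σ⁻¹) (σ z) ∈ Δ
    simpa using hz

/-- The alternating group on a good set. -/
def altOn (Δ : Finset α) : Subgroup (Equiv.Perm α) :=
  (alternatingGroup ↥Δ).map (Equiv.Perm.ofSubtype (p := (· ∈ Δ)))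

theorem altOn_le {Δ : Finset α} (hΔ : Good H Δ) : altOn Δ ≤ H := by
  rw [altOn, ← closure_three_cycles_eq_alternating, MonoidHom.map_closure, Subgroup.closure_le]
  rintro _ ⟨f, hf, rfl⟩
  obtain ⟨a, ha⟩ : ∃ a, f a ≠ a := by
    by_contra h
    push Not at h
    exact hf.ne_one (Equiv.ext h)
  obtain ⟨h1, h2, -⟩ := three_points hf ha
  have e : Equiv.Perm.ofSubtype (p := (· ∈ Δ)) f = cyc (a : α) (f a : α) (f (f a) : α) := by
    conv_lhs => rw [eq_cyc hf ha]
    rw [cyc, cyc, map_mul, Equiv.Perm.ofSubtype_swap_eq, Equiv.Perm.ofSubtype_swap_eq]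
  show Equiv.Perm.ofSubtype (p := (· ∈ Δ)) f ∈ H
  rw [e]
  exact hΔ _ a.2 _ (f a).2 _ (f (f a)).2 (fun e => ha (Subtype.ext e).symm) (fun e => h2 (Subtype.ext e))
    (fun e => h1 (Subtype.ext e))

theorem cyc_mem_altOn {Δ : Finset α} {a b d : α} (ha : a ∈ Δ) (hb : b ∈ Δ) (hd : d ∈ Δ) (hab : a ≠ b)
    (had : a ≠ d) (hbd : b ≠ d) : cyc a b d ∈ altOn Δ := by
  refine ⟨cyc ⟨a, ha⟩ ⟨b, hb⟩ ⟨d, hd⟩, IsThreeCycle.mem_alternatingGroup
    (cyc_isThreeCycle (fun e => hab (congrArg Subtype.val e)) (fun e => had (congrArg Subtype.val e))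
      (fun e => hbd (congrArg Subtype.val e))), ?_⟩
  rw [cyc, cyc, map_mul, Equiv.Perm.ofSubtype_swap_eq, Equiv.Perm.ofSubtype_swap_eq]

theorem altOn_le_threeGen {Δ : Finset α} (hΔ : Good H Δ) : altOn Δ ≤ threeGen H := by
  intro x hx
  obtain ⟨σ, hσ, rfl⟩ := hx
  rw [SetLike.mem_coe, ← closure_three_cycles_eq_alternating] at hσ
  induction hσ using Subgroup.closure_induction with
  | mem f hf =>
    refine Subgroup.subset_closure ⟨?_, altOn_le hΔ ⟨f, IsThreeCycle.mem_alternatingGroup hf, rfl⟩⟩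
    show Equiv.Perm.cycleType _ = {3}
    rw [Equiv.Perm.cycleType_ofSubtype]
    exact hf
  | one => rw [map_one]; exact one_mem _
  | mul σ τ _ _ h1 h2 => rw [map_mul]; exact mul_mem h1 h2
  | inv σ _ h1 => rw [map_inv]; exact inv_mem h1

theorem altOn_fix {Δ : Finset α} {σ : Equiv.Perm α} (hσ : σ ∈ altOn Δ) {x : α} (hx : x ∉ Δ) : σ x = x := by
  obtain ⟨τ, -, rfl⟩ := hσ
  exact Equiv.Perm.ofSubtype_apply_of_not_mem τ hx

theorem altOn_isQuasisimple {Δ : Finset α} (h5 : 5 ≤ Δ.card) : IsQuasisimple ↥(altOn Δ) := by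
  haveI : IsSimpleGroup ↥(alternatingGroup ↥Δ) := alternatingGroup.isSimpleGroup (by simpa using h5)
  refine Local.isQuasisimple_congr ((alternatingGroup ↥Δ).equivMapOfInjective _ Equiv.Perm.ofSubtype_injective) ?_
  have hnc : ¬ IsMulCommutative ↥(alternatingGroup ↥Δ) := fun hc => by
    have h3 := alternatingGroup.isMulCommutative_iff_card_le_three.1 hc
    simp at h3
    omega
  have hz : Subgroup.center ↥(alternatingGroup ↥Δ) = ⊥ := by
    refine (IsSimpleGroup.eq_bot_or_eq_top_of_normal _ inferInstance).resolve_right fun e => hnc ?_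
    exact ⟨⟨fun a b => (Subgroup.mem_center_iff.1 (e ▸ Subgroup.mem_top b) a)⟩⟩
  refine ⟨⟨?_⟩, ?_⟩
  · refine ((IsSimpleGroup.eq_bot_or_eq_top_of_normal _ inferInstance).resolve_left fun e => hnc ?_)
    refine ⟨⟨fun a b => ?_⟩⟩
    have h4 := Subgroup.commutator_mem_commutator (Subgroup.mem_top a) (Subgroup.mem_top b)
    rw [← commutator_def, e, Subgroup.mem_bot, commutatorElement_eq_one_iff_mul_comm] at h4
    exact h4
  · have hi : Function.Injective (QuotientGroup.mk' (Subgroup.center ↥(alternatingGroup ↥Δ))) := by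
      rw [← MonoidHom.ker_eq_bot_iff, QuotientGroup.ker_mk', hz]
    haveI := hi.nontrivial
    exact IsSimpleGroup.isSimpleGroup_of_surjective _ (QuotientGroup.mk'_surjective _)

/-- The structure of a permutation group with quasisimple generalised Fitting group all of whose
points but at most two are moved by its 3-cycles. -/
theorem main (hF : IsQuasisimple ↥(generalizedFittingSubgroup ↥H))
    (hfix : ∀ U : Finset α, (∀ x ∈ U, ∀ a b d, a ≠ b → a ≠ d → b ≠ d → cyc a b d ∈ H → a ≠ x) →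
      (∀ σ ∈ H, ∀ x ∈ U, σ x ∈ U) → U.card ≤ 2) :
    ∃ m : ℕ, (m = Fintype.card α - 2 ∨ m = Fintype.card α - 1 ∨ m = Fintype.card α) ∧
      Nonempty (↥(generalizedFittingSubgroup ↥H) ≃* ↥(alternatingGroup (Fin m))) := by
  classical
  obtain ⟨K, hK⟩ : ∃ K, K = generalizedFittingSubgroup ↥H := ⟨_, rfl⟩
  rw [← hK] at hF ⊢
  haveI hKn : K.Normal := hK ▸ Local.gfit_normal
  have hKc : IsComponent K := ⟨hKn.isSubnormal, hF⟩
  obtain ⟨N, hN⟩ : ∃ N, N = (threeGen H).subgroupOf H := ⟨_, rfl⟩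
  have hTH : threeGen H ≤ H := (Subgroup.closure_le _).2 fun f hf => hf.2
  haveI hNn : N.Normal := hN ▸ (Subgroup.normal_subgroupOf_iff_le_normalizer hTH).2 (fun g hg => by
    refine Fusion.mem_normalizer_of_cj_le ?_
    rw [Fusion.cj, threeGen, MonoidHom.map_closure]
    refine Subgroup.closure_mono ?_
    rintro _ ⟨f, ⟨hf, hfH⟩, rfl⟩
    refine ⟨?_, H.mul_mem (H.mul_mem hg hfH) (H.inv_mem hg)⟩
    show (g * f * g⁻¹).cycleType = {3}
    rw [Equiv.Perm.cycleType_conj]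
    exact hf)
  have hKpres : ∀ Δ, IsClass H Δ → ∀ k ∈ K, ∀ x ∈ Δ, ((k : ↥H) : Equiv.Perm α) x ∈ Δ := by
    intro Δ hΔ k hk x hx
    rcases Solv.component_normal_dichotomy hKc N with hle | hc
    · have := hle hk
      rw [hN, Subgroup.mem_subgroupOf] at this
      exact threeGen_preserves hΔ this x hx
    · refine preserves_of_commute hΔ (fun a ha b hb d hd hab had hbd => ?_) hx
      have hf : (⟨cyc a b d, hΔ.1 a ha b hb d hd hab had hbd⟩ : ↥H) ∈ N := by
        rw [hN, Subgroup.mem_subgroupOf]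
        exact Subgroup.subset_closure ⟨cyc_isThreeCycle hab had hbd, hΔ.1 a ha b hb d hd hab had hbd⟩
      have h1 := Subgroup.mem_centralizer_iff.1 (Subgroup.commutator_eq_bot_iff_le_centralizer.1 hc hk) _ hf
      have h2 := congrArg Subtype.val h1
      simp only [Subgroup.coe_mul] at h2
      rw [← h2, mul_inv_cancel_right]
  have hperf : ⁅K, K⁆ = K := Solv.qs_self_commutator hF
  -- perfect groups act trivially on small invariant sets
  have htriv : ∀ U : Finset α, U.card ≤ 4 → (∀ k ∈ K, ∀ x ∈ U, ((k : ↥H) : Equiv.Perm α) x ∈ U) →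
      ∀ k ∈ K, ∀ x ∈ U, ((k : ↥H) : Equiv.Perm α) x = x := by
    intro U hU hinv
    have hiff : ∀ k : ↥K, ∀ x, x ∈ U ↔ ((k : ↥H) : Equiv.Perm α) x ∈ U := fun k x =>
      ⟨hinv k k.2 x, fun hx => by
        have h1 := hinv _ (K.inv_mem k.2) _ hx
        simpa using h1⟩
    let ρ : ↥K →* Equiv.Perm ↥U :=
      { toFun := fun k => ((k : ↥H) : Equiv.Perm α).subtypePerm (fun x => (hiff k x).symm)
        map_one' := by ext; simp
        map_mul' := fun a b => Equiv.ext fun y => Subtype.ext rfl }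
    have hsol : Group.IsSolvable (Equiv.Perm ↥U) :=
      Classical.isSolvable_of_card_le_perm (by simpa using hU)
    haveI : Group.IsPerfect ↥K := hF.1
    have h1 : ρ.range = ⊥ := by
      by_contra hne
      haveI : Nontrivial ↥ρ.range := (Subgroup.nontrivial_iff_ne_bot _).2 hne
      haveI : Group.IsPerfect ↥ρ.range := Group.IsPerfect.ofSurjective ρ.rangeRestrict_surjective
      haveI := hsol
      exact Group.IsPerfect.not_isSolvable (G := ↥ρ.range) inferInstance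
    intro k hk x hx
    have h2 : ρ ⟨k, hk⟩ = 1 := by
      have : ρ ⟨k, hk⟩ ∈ ρ.range := ⟨_, rfl⟩
      rwa [h1, Subgroup.mem_bot] at this
    exact congrArg Subtype.val (Equiv.Perm.congr_fun h2 ⟨x, hx⟩)
  obtain ⟨Δ, hΔ, hΔ5⟩ : ∃ Δ, IsClass H Δ ∧ 5 ≤ Δ.card := by
    by_contra hno
    push Not at hno
    obtain ⟨U, hU⟩ : ∃ U : Finset α, U = Finset.univ.filter (fun x => ∀ a b d, a ≠ b → a ≠ d → b ≠ d → cyc a b d ∈ H → a ≠ x) :=
      ⟨_, rfl⟩
    have hUmem : ∀ x, x ∈ U ↔ ∀ a b d, a ≠ b → a ≠ d → b ≠ d → cyc a b d ∈ H → a ≠ x := fun x => by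
      rw [hU]; simp
    have hUinv : ∀ σ ∈ H, ∀ x ∈ U, σ x ∈ U := by
      intro σ hσ x hx
      rw [hUmem] at hx ⊢
      intro a b d hab had hbd hm e
      have h1 := H.mul_mem (H.mul_mem (H.inv_mem hσ) hm) (H.inv_mem (H.inv_mem hσ))
      rw [conj_cyc] at h1
      refine hx _ _ _ ((σ⁻¹).injective.ne hab) ((σ⁻¹).injective.ne had) ((σ⁻¹).injective.ne hbd) h1 ?_
      rw [e]; simp
    have hall : ∀ k ∈ K, ∀ x, ((k : ↥H) : Equiv.Perm α) x = x := by
      intro k hk x
      by_cases hx : x ∈ U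
      · exact htriv U ((hfix U (fun x hx => (hUmem x).1 hx) hUinv).trans (by norm_num))
          (fun k _ => hUinv _ k.2) k hk x hx
      · rw [hUmem] at hx
        push Not at hx
        obtain ⟨a, b, d, hab, had, hbd, hm, rfl⟩ := hx
        obtain ⟨Δ, hΔ, ha, -⟩ := exists_class hab had hbd hm
        exact htriv Δ (Nat.le_of_lt_succ (hno Δ hΔ)) (hKpres Δ hΔ) k hk _ ha
    refine Solv.qs_ne_bot hF (eq_bot_iff.2 fun k hk => ?_)
    exact Subtype.ext (Equiv.ext (hall k hk))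
  obtain ⟨A, hA⟩ : ∃ A, A = (altOn Δ).subgroupOf H := ⟨_, rfl⟩
  have hAH := altOn_le hΔ.1
  -- `A` is subnormal
  have hAN : A ≤ N := hA ▸ hN ▸ Subgroup.comap_mono (altOn_le_threeGen hΔ.1)
  have hAsub : A.IsSubnormal := by
    refine Subgroup.IsSubnormal.step _ N hAN hNn.isSubnormal ?_
    refine (Subgroup.normal_subgroupOf_iff_le_normalizer hAN).2 fun g hg => ?_
    rw [hN, Subgroup.mem_subgroupOf] at hg
    refine Fusion.mem_normalizer_of_cj_le ?_
    rintro _ ⟨y, hy, rfl⟩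
    rw [hA] at hy ⊢
    rw [SetLike.mem_coe, Subgroup.mem_subgroupOf] at hy
    rw [Subgroup.mem_subgroupOf]
    show (g : Equiv.Perm α) * (y : Equiv.Perm α) * (g : Equiv.Perm α)⁻¹ ∈ altOn Δ
    obtain ⟨τ, hτ, hτy⟩ := hy
    rw [← hτy]
    rw [SetLike.mem_coe, ← closure_three_cycles_eq_alternating] at hτ
    clear hτy
    induction hτ using Subgroup.closure_induction with
    | mem f hf =>
      obtain ⟨a, ha⟩ : ∃ a, f a ≠ a := by
        by_contra h
        push Not at h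
        exact hf.ne_one (Equiv.ext h)
      obtain ⟨h1, h2, -⟩ := three_points hf ha
      have ef : Equiv.Perm.ofSubtype (p := (· ∈ Δ)) f = cyc (a : α) (f a : α) (f (f a) : α) := by
        conv_lhs => rw [eq_cyc hf ha]
        rw [cyc, cyc, map_mul, Equiv.Perm.ofSubtype_swap_eq, Equiv.Perm.ofSubtype_swap_eq]
      rw [ef, conj_cyc]
      have hp := threeGen_preserves hΔ hg
      exact cyc_mem_altOn (hp _ a.2) (hp _ (f a).2) (hp _ (f (f a)).2)
        ((g : Equiv.Perm α).injective.ne fun e => ha (Subtype.ext e).symm)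
        ((g : Equiv.Perm α).injective.ne fun e => h2 (Subtype.ext e))
        ((g : Equiv.Perm α).injective.ne fun e => h1 (Subtype.ext e))
    | one => simp
    | mul σ τ _ _ h1 h2 =>
      have h3 := mul_mem h1 h2
      simp only [map_mul] at h3 ⊢
      convert h3 using 1
      group
    | inv σ _ h1 =>
      have h3 := inv_mem h1
      simp only [map_inv] at h3 ⊢
      convert h3 using 1
      group
  have hAc : IsComponent A := ⟨hAsub,
    Local.isQuasisimple_congr (Subgroup.subgroupOfEquivOfLe hAH).symm (altOn_isQuasisimple hΔ5) |> (hA ▸ ·)⟩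
  have hAK : A = K := Solv.component_le_component hAc hKc
    (hK ▸ (Solv.component_le_layer hAc).trans le_sup_left)
  -- at most two points lie outside
  have hcard : (Finset.univ \ Δ).card ≤ 2 := by
    have hsetwise : ∀ σ ∈ H, ∀ x, x ∈ Δ → σ x ∈ Δ := by
      intro σ hσ x hx
      obtain ⟨b, hb, hbx⟩ := Finset.exists_mem_ne (show 1 < Δ.card by omega) x
      obtain ⟨d, hd⟩ : ∃ d, d ∈ (Δ.erase x).erase b := Finset.card_pos.1 (by
        rw [Finset.card_erase_of_mem (Finset.mem_erase.2 ⟨hbx, hb⟩), Finset.card_erase_of_mem hx]; omega)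
      simp only [Finset.mem_erase] at hd
      have hm := cyc_mem_altOn hx hb hd.2.2 hbx.symm (Ne.symm hd.2.1) (Ne.symm hd.1)
      have h1 : (⟨σ, hσ⟩ : ↥H) * ⟨cyc x b d, hAH hm⟩ * (⟨σ, hσ⟩ : ↥H)⁻¹ ∈ A := by
        rw [hAK]
        refine hKn.conj_mem _ ?_ _
        rw [← hAK, hA, Subgroup.mem_subgroupOf]
        exact hm
      rw [hA, Subgroup.mem_subgroupOf] at h1
      simp only [Subgroup.coe_mul, Subgroup.coe_inv] at h1
      rw [conj_cyc] at h1
      by_contra hn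
      have h2 := altOn_fix h1 hn
      rw [cyc_left (σ.injective.ne hbx.symm) (σ.injective.ne (Ne.symm hd.2.1))] at h2
      exact hbx (σ.injective h2)
    refine hfix _ (fun x hx a b d hab had hbd hm e => ?_) (fun σ hσ x hx => ?_)
    · subst e
      obtain ⟨Δ', hΔ', ha', hb', hd'⟩ := exists_class hab had hbd hm
      -- a class outside `Δ` commutes with `A`, hence lies in `C(F*) ≤ F*`
      have hdisj : ∀ y, y ∈ Δ' → y ∉ Δ := by
        intro y hy hyΔ
        have : Δ' = Δ := by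
          refine Finset.Subset.antisymm (fun z hz => ?_) fun z hz => ?_
          · by_cases hzy : z = y
            · rwa [hzy]
            obtain ⟨w, hw⟩ : ∃ w, w ∈ (Δ'.erase y).erase z := Finset.card_pos.1 (by
              rw [Finset.card_erase_of_mem (Finset.mem_erase.2 ⟨hzy, hz⟩), Finset.card_erase_of_mem hy]
              have := hΔ'.2.1
              omega)
            simp only [Finset.mem_erase] at hw
            exact (mem_of_mem hΔ hyΔ (Ne.symm hzy) (Ne.symm hw.2.1) (Ne.symm hw.1)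
              (hΔ'.1 y hy z hz w hw.2.2 (Ne.symm hzy) (Ne.symm hw.2.1) (Ne.symm hw.1))).1
          · by_cases hzy : z = y
            · rwa [hzy]
            obtain ⟨w, hw⟩ : ∃ w, w ∈ (Δ.erase y).erase z := Finset.card_pos.1 (by
              rw [Finset.card_erase_of_mem (Finset.mem_erase.2 ⟨hzy, hz⟩), Finset.card_erase_of_mem hyΔ]
              omega)
            simp only [Finset.mem_erase] at hw
            exact (mem_of_mem hΔ' hy (Ne.symm hzy) (Ne.symm hw.2.1) (Ne.symm hw.1)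
              (hΔ.1 y hyΔ z hz w hw.2.2 (Ne.symm hzy) (Ne.symm hw.2.1) (Ne.symm hw.1))).1
        exact (Finset.mem_sdiff.1 hx).2 (this ▸ ha')
      have hc : (⟨cyc a b d, hm⟩ : ↥H) ∈ Subgroup.centralizer (K : Set ↥H) := by
        refine Subgroup.mem_centralizer_iff.2 fun k hk => Subtype.ext ?_
        rw [SetLike.mem_coe, ← hAK, hA, Subgroup.mem_subgroupOf] at hk
        show (k : Equiv.Perm α) * cyc a b d = cyc a b d * (k : Equiv.Perm α)
        have e1 : (k : Equiv.Perm α) * cyc a b d * (k : Equiv.Perm α)⁻¹ = cyc a b d := by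
          rw [conj_cyc, altOn_fix hk (hdisj a ha'), altOn_fix hk (hdisj b hb'), altOn_fix hk (hdisj d hd')]
        exact mul_inv_eq_iff_eq_mul.1 e1
      have h1 : (⟨cyc a b d, hm⟩ : ↥H) ∈ K := hK ▸ Solv.centralizer_gfit_le (hK ▸ hc)
      rw [← hAK, hA, Subgroup.mem_subgroupOf] at h1
      have h2 := altOn_fix h1 (hdisj a ha')
      rw [cyc_left hab had] at h2
      exact hab h2.symm
    · simp only [Finset.mem_sdiff, Finset.mem_univ, true_and] at hx ⊢
      intro hn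
      have := hsetwise σ⁻¹ (inv_mem hσ) _ hn
      simp at this
      exact hx this
  rw [Finset.card_sdiff_of_subset (Finset.subset_univ _), Finset.card_univ] at hcard
  refine ⟨Δ.card, ?_, ?_⟩
  · have := Finset.card_le_univ Δ
    omega
  · subst hAK
    rw [hA]
    exact ⟨(Subgroup.subgroupOfEquivOfLe hAH).trans
      (((alternatingGroup ↥Δ).equivMapOfInjective _ Equiv.Perm.ofSubtype_injective).symm.trans
        (Equiv.altCongrHom (Δ.equivFin)))⟩

end Cfsg.Agent.Perm.ThreeClasses
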