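import Cfsg.Agent.Lib.Perm.TwoPrimeGen

/-!
Actions on 22 points of an element of order 11 and an involution inverting it, in even groups.
-/

set_option autoImplicit false
set_option linter.style.haveILetI false

namespace Cfsg.Agent.Perm.TwoOrbit22

open MulAction

variable {G : Type*} [Group G] {X : Type*} [MulAction G X] [Finite X]

/-- Powers indexed by `ZMod 11`. -/
def pw (u : G) (i : ZMod 11) : G := u ^ i.val

theorem pw_add {u : G} (hu : u ^ 11 = 1) (i j : ZMod 11) : pw u (i + j) = pw u i * pw u j := by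
  rw [pw, pw, pw, ← pow_add, ZMod.val_add]
  exact (pow_eq_pow_mod _ hu).symm

theorem pw_zero (u : G) : pw u 0 = 1 := by simp [pw]

theorem pw_one (u : G) : pw u 1 = u := by
  rw [pw, show (1 : ZMod 11).val = 1 from rfl, pow_one]

theorem pw_inv {u : G} (hu : u ^ 11 = 1) (i : ZMod 11) : (pw u i)⁻¹ = pw u (-i) := by
  refine inv_eq_of_mul_eq_one_right ?_
  rw [← pw_add hu, add_neg_cancel, pw_zero]

theorem conj_pw {t u : G} (hu : u ^ 11 = 1) (hinv : t * u = u⁻¹ * t) (i : ZMod 11) :
    t * pw u i = pw u (-i) * t := by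
  have h : ∀ n : ℕ, t * u ^ n = u⁻¹ ^ n * t := by
    intro n
    induction n with
    | zero => simp
    | succ n ih => rw [pow_succ, pow_succ, ← mul_assoc, ih, mul_assoc, hinv, mul_assoc]
  rw [← pw_inv hu, pw, h, inv_pow]

theorem fpf_pw {u : G} (hu : u ^ 11 = 1) (hfix : ∀ x : X, u • x ≠ x) {i : ZMod 11} {x : X}
    (h : pw u i • x = x) : i = 0 := by
  by_contra hi
  haveI : Fact (Nat.Prime 11) := ⟨by norm_num⟩
  have hpow : ∀ n : ℕ, pw u ((n : ZMod 11) * i) • x = x := by
    intro n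
    induction n with
    | zero => simp [pw_zero]
    | succ n ih => rw [Nat.cast_succ, add_mul, one_mul, pw_add hu, mul_smul, h, ih]
  have := hpow (i⁻¹).val
  rw [ZMod.natCast_zmod_val, inv_mul_cancel₀ hi, pw_one] at this
  exact hfix x this

/-- The orbit of `u`. -/
def orb (u : G) (x : X) : Set X := Set.range fun i : ZMod 11 => pw u i • x

theorem mem_orb_self (u : G) (x : X) : x ∈ orb u x := ⟨0, by simp [pw_zero]⟩

theorem orb_eq {u : G} (hu : u ^ 11 = 1) {x y : X} (h : y ∈ orb u x) : orb u y = orb u x := by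
  obtain ⟨i, rfl⟩ := h
  ext z
  constructor
  · rintro ⟨j, rfl⟩
    exact ⟨j + i, by simp [pw_add hu, mul_smul]⟩
  · rintro ⟨j, rfl⟩
    refine ⟨j - i, ?_⟩
    simp only [← mul_smul, ← pw_add hu, sub_add_cancel]

/-- Two orbits. -/
theorem two_orbits (hX : Nat.card X = 22) {u : G} (hu : u ^ 11 = 1) (hfix : ∀ x : X, u • x ≠ x)
    {x y : X} (hy : y ∉ orb u x) :
    Function.Bijective fun p : ZMod 11 × Fin 2 => pw u p.1 • (if p.2 = 0 then x else y) := by
  refine (Nat.bijective_iff_injective_and_card _).2 ⟨?_, by rw [hX, Nat.card_prod]; simp⟩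
  rintro ⟨i, a⟩ ⟨j, b⟩ h
  simp only at h
  have key : ∀ {z w : X}, pw u i • z = pw u j • w → w ∈ orb u z := fun {z w} h' => by
    refine ⟨-j + i, ?_⟩
    simp only [pw_add hu, mul_smul, h', ← pw_inv hu, inv_smul_smul]
  have hsame : ∀ {z : X}, pw u i • z = pw u j • z → i = j := fun {z} h' => by
    have : pw u (-j + i) • z = z := by rw [pw_add hu, mul_smul, h', ← pw_inv hu, inv_smul_smul]
    exact neg_add_eq_zero.1 (fpf_pw hu hfix this) |>.symm
  fin_cases a <;> fin_cases b <;> simp at h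
  · exact Prod.ext (hsame h) rfl
  · exact absurd (key h) hy
  · refine absurd ?_ hy
    have h1 := key h
    rw [orb_eq hu h1]
    exact mem_orb_self u y
  · exact Prod.ext (hsame h) rfl

theorem exists_not_mem (hX : Nat.card X = 22) (u : G) (x : X) : ∃ y, y ∉ orb u x := by
  by_contra hcon
  push Not at hcon
  have h1 : Nat.card X ≤ Nat.card (ZMod 11) :=
    Nat.card_le_card_of_surjective (fun i : ZMod 11 => pw u i • x) hcon
  rw [hX, Nat.card_zmod] at h1
  omega

theorem mem_orb_or (hX : Nat.card X = 22) {u : G} (hu : u ^ 11 = 1) (hfix : ∀ x : X, u • x ≠ x)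
    {x y : X} (hy : y ∉ orb u x) (z : X) : z ∈ orb u x ∨ z ∈ orb u y := by
  obtain ⟨⟨i, a⟩, rfl⟩ := (two_orbits hX hu hfix hy).2 z
  fin_cases a
  · exact Or.inl ⟨i, rfl⟩
  · exact Or.inr ⟨i, rfl⟩

/-- An involution normalizing `⟨u⟩` preserves both orbits. -/
theorem involution_preserves (hX : Nat.card X = 22)
    (hsign : ∀ g : G, ∀ [Fintype X] [DecidableEq X],
      Equiv.Perm.sign (MulAction.toPerm g : Equiv.Perm X) = 1)
    {u : G} (hu : u ^ 11 = 1) (hfix : ∀ x : X, u • x ≠ x) {v : G} (hv : v * v = 1)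
    (hvu : ∀ i, ∃ j, v * pw u i = pw u j * v) (x : X) : v • x ∈ orb u x := by
  classical
  by_contra hx
  haveI := Fintype.ofFinite X
  have hnf : ∀ z : X, v • z ≠ z := by
    intro z hz
    have hswap : ∀ a b : X, v • a = b → ∀ w ∈ orb u a, v • w ∈ orb u b := by
      rintro a b hab _ ⟨i, rfl⟩
      obtain ⟨j, hj⟩ := hvu i
      exact ⟨j, by simp only [← mul_smul, hj]; rw [mul_smul, hab]⟩
    rcases mem_orb_or hX hu hfix hx z with h | h
    · have h1 := hswap x (v • x) rfl z h
      rw [hz] at h1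
      exact hx (by rw [← orb_eq hu h, orb_eq hu h1]; exact mem_orb_self u _)
    · have h1 := hswap (v • x) x (by rw [← mul_smul, hv, one_smul]) z h
      rw [hz] at h1
      exact hx (by rw [← orb_eq hu h1, orb_eq hu h]; exact mem_orb_self u _)
  obtain ⟨n, hn, hs⟩ := TwoPrime.involution_sign (v := (MulAction.toPerm v : Equiv.Perm X)) (by
    ext z; rw [pow_two]; simp [← mul_smul, hv])
  have hsupp : (MulAction.toPerm v : Equiv.Perm X).support = Finset.univ := by
    ext z; simp [hnf z]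
  rw [hsupp, Finset.card_univ, ← Nat.card_eq_fintype_card, hX] at hn
  rw [hsign v, show n = 11 by omega] at hs
  exact absurd hs (by decide)

/-- Coordinates in which `u` translates and `t` negates. -/
theorem coords (hX : Nat.card X = 22)
    (hsign : ∀ g : G, ∀ [Fintype X] [DecidableEq X],
      Equiv.Perm.sign (MulAction.toPerm g : Equiv.Perm X) = 1)
    {u t : G} (hu : u ^ 11 = 1) (hfix : ∀ x : X, u • x ≠ x) (ht : t * t = 1)
    (hinv : t * u = u⁻¹ * t) :
    ∃ e : ZMod 11 × Fin 2 ≃ X, (∀ k i a, pw u k • e (i, a) = e (k + i, a)) ∧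
      (∀ i a, t • e (i, a) = e (-i, a)) := by
  have hpres := involution_preserves hX hsign hu hfix ht (fun i => ⟨-i, conj_pw hu hinv i⟩)
  have hmid : ∀ x : X, ∃ y ∈ orb u x, t • y = y := by
    intro x
    obtain ⟨c, hc⟩ := hpres x
    refine ⟨pw u (6 * c) • x, ⟨_, rfl⟩, ?_⟩
    rw [← mul_smul, conj_pw hu hinv, mul_smul, ← hc]
    simp only [← mul_smul, ← pw_add hu]
    have : -(6 * c) + c = 6 * c := by
      have : (11 : ZMod 11) = 0 := rfl
      linear_combination (-c) * this
    rw [this]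
  obtain ⟨x₀⟩ : Nonempty X := (Nat.card_pos_iff.1 (by rw [hX]; norm_num)).1
  obtain ⟨x, -, hx⟩ := hmid x₀
  obtain ⟨y₀, hy₀⟩ := exists_not_mem hX u x
  obtain ⟨y, hy1, hy⟩ := hmid y₀
  have hyx : y ∉ orb u x := fun h => hy₀ (by
    rw [← orb_eq hu h, orb_eq hu hy1]; exact mem_orb_self u _)
  refine ⟨Equiv.ofBijective _ (two_orbits hX hu hfix hyx), fun k i a => ?_, fun i a => ?_⟩
  · simp only [Equiv.ofBijective_apply, ← mul_smul, ← pw_add hu]
  · simp only [Equiv.ofBijective_apply]
    rw [← mul_smul, conj_pw hu hinv, mul_smul]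
    congr 1
    split_ifs
    · exact hx
    · exact hy

end Cfsg.Agent.Perm.TwoOrbit22
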