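import Cfsg.Agent.Lib.Solv.Coprime
import Cfsg.Agent.Lib.Perm.SylowCount
import Cfsg.Agent.Lib.Perm.Swap
import Cfsg.Agent.Lib.Perm.TwoOrbit22
import Cfsg.Agent.Lib.Perm.DegreeSeven
import Cfsg.Agent.Lib.Perm.Comb22

/-!
No finite group has exactly 22 Sylow 3-subgroups.
-/

set_option autoImplicit false
set_option linter.style.haveILetI false

open scoped Pointwise

namespace Cfsg.Agent.Perm.TwentyTwo

open MulAction SylowCount TwoOrbit22

universe u

variable {G : Type u} [Group G] [Finite G] [Fact (Nat.Prime 3)]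

/-- The hypotheses. -/
structure Cfg (G : Type u) [Group G] : Prop where
  red : IsReduced 3 G
  card : Nat.card (Sylow 3 G) = 22

omit [Finite G] in
theorem faithful (h : Cfg G) {g : G} (hg : ∀ P : Sylow 3 G, g • P = P) : g = 1 := h.red.1 g hg

omit [Finite G] in
/-- Even permutations. -/
theorem sign_one (h : Cfg G) {X : Type*} [MulAction G X] [Fintype X] [DecidableEq X] (g : G) :
    Equiv.Perm.sign (MulAction.toPerm g : Equiv.Perm X) = 1 := by
  let f : G →* ℤˣ := Equiv.Perm.sign.comp (MulAction.toPermHom G X)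
  suffices hf : f = 1 from DFunLike.congr_fun hf g
  refine MonoidHom.eq_of_eqOn_dense h.red.2 fun x hx => ?_
  obtain ⟨k, hk⟩ := hx
  have h1 : f x ^ 3 ^ k = 1 := by rw [← map_pow, hk, map_one]
  rcases Int.units_eq_one_or (f x) with h2 | h2
  · exact h2
  · rw [h2, Odd.neg_one_pow (Odd.pow (by decide))] at h1
    exact absurd h1 (by decide)

theorem card_eq (h : Cfg G) (P : Sylow 3 G) : Nat.card G = 22 * Nat.card (stabilizer G P) := by
  rw [← h.card, ← index_stabilizer_of_transitive G P, mul_comm, Subgroup.card_mul_index]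

/-- A prime-order element fixes pointwise a small invariant set. -/
theorem fixed_small {X : Type*} [MulAction G X] {g : G} {q : ℕ} (hq : q.Prime)
    (hg : orderOf g = q) (S : Finset X) (hS : ∀ x ∈ S, g • x ∈ S) (hlt : S.card < q) :
    ∀ x ∈ S, g • x = x := by
  classical
  intro x hx
  have hinv : ∀ (n : ℕ), g ^ n • x ∈ S := by
    intro n
    induction n with
    | zero => simpa using hx
    | succ n ih => rw [pow_succ', mul_smul]; exact hS _ ih
  have hsub : orbit (Subgroup.zpowers g) x ⊆ (S : Set X) := by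
    rintro _ ⟨⟨y, hy⟩, rfl⟩
    obtain ⟨n, hn⟩ := (Submonoid.mem_powers_iff _ _).1
      ((isOfFinOrder_of_finite g).mem_powers_iff_mem_zpowers.2 hy)
    show y • x ∈ S
    rw [← hn]
    exact hinv n
  haveI : Finite (orbit (Subgroup.zpowers g) x) := Finite.Set.subset _ hsub
  have hd : Nat.card (orbit (Subgroup.zpowers g) x) ∣ q := by
    rw [← hg, ← Nat.card_zpowers, Nat.card_coe_set_eq, ← index_stabilizer]
    exact Subgroup.index_dvd_card _
  have hle : Nat.card (orbit (Subgroup.zpowers g) x) ≤ S.card := by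
    rw [← Nat.card_coe_set_eq (S : Set X) |>.trans (Set.ncard_coe_finset S)]
    exact Nat.card_mono (Finset.finite_toSet S) hsub
  have h1 : Nat.card (orbit (Subgroup.zpowers g) x) = 1 := by
    rcases (Nat.dvd_prime hq).1 hd with h1 | h1
    · exact h1
    · omega
  obtain ⟨hss, -⟩ := Nat.card_eq_one_iff_unique.1 h1
  have := hss.elim ⟨g • x, ⟨g, Subgroup.mem_zpowers g⟩, rfl⟩ ⟨x, mem_orbit_self x⟩
  exact congrArg Subtype.val this

/-- No Sylow 11-subgroup of order 11 is central in its normalizer. -/
theorem no_complement (h : Cfg G) [Fact (Nat.Prime 11)] (Q : Sylow 11 G)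
    (hQ : Nat.card (Q : Subgroup G) = 11) :
    ¬ Subgroup.normalizer ((Q : Subgroup G) : Set G) ≤ Subgroup.centralizer ((Q : Subgroup G) : Set G) := by
  intro hle
  haveI : IsCyclic (Q : Subgroup G) := isCyclic_of_prime_card hQ
  haveI : IsMulCommutative (Q : Subgroup G) :=
    ⟨⟨fun a b => (IsCyclic.commGroup (α := (Q : Subgroup G))).mul_comm a b⟩⟩
  let f := MonoidHom.transferSylow Q hle
  have hc := MonoidHom.ker_transferSylow_isComplement' Q hle
  have htop : f.ker = ⊤ := by
    rw [eq_top_iff, ← h.red.2, Subgroup.closure_le]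
    rintro x ⟨k, hk⟩
    rw [SetLike.mem_coe, MonoidHom.mem_ker, ← orderOf_eq_one_iff]
    refine Nat.eq_one_of_dvd_coprimes (Nat.Coprime.pow_right k (by norm_num : Nat.Coprime 11 3))
      ((orderOf_dvd_natCard (f x)).trans hQ.dvd) (orderOf_dvd_of_pow_eq_one (by rw [← map_pow, hk, map_one]))
  have h1 := hc.card_mul
  rw [htop, Subgroup.card_top, hQ] at h1
  have : (Nat.card G) * 11 = Nat.card G * 1 := by rw [h1, mul_one]
  have h2 := Nat.eq_of_mul_eq_mul_left Nat.card_pos this
  omega

/-- An element `u` of order 11 generating a Sylow subgroup is self-centralising. -/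
theorem centralizer_u (h : Cfg G) {u : G} (hu : orderOf u = 11) (hfix : ∀ P : Sylow 3 G, u • P ≠ P)
    (h121 : ¬ 11 ^ 2 ∣ Nat.card G) {c : G} (hc : Commute c u) : c ∈ Subgroup.zpowers u := by
  classical
  haveI : Fact (Nat.Prime 11) := ⟨by norm_num⟩
  have hu11 : u ^ 11 = 1 := hu ▸ pow_orderOf_eq_one u
  -- elements of exponent eleven in the centraliser
  have h11 : ∀ d : G, Commute d u → d ^ 11 = 1 → d ∈ Subgroup.zpowers u := by
    intro d hd hd11
    by_contra hnd
    have hod : orderOf d = 11 := orderOf_eq_prime hd11 fun e => hnd (e ▸ Subgroup.one_mem _)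
    have hn : Subgroup.zpowers d ≤ Subgroup.normalizer (Subgroup.zpowers u : Set G) := by
      rw [Subgroup.zpowers_le, Subgroup.mem_normalizer_iff]
      intro y
      constructor
      · rintro ⟨i, rfl⟩
        exact ⟨i, by simp only; rw [(hd.zpow_right i).eq, mul_inv_cancel_right]⟩
      · rintro ⟨i, hi⟩
        refine ⟨i, ?_⟩
        have hi : u ^ i = d * y * d⁻¹ := hi
        have e := (hd.zpow_right i).eq
        rw [hi] at e
        have : d * (d * y * d⁻¹) = d * (y * d⁻¹ * d) := by rw [e]; group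
        rw [mul_left_cancel_iff, inv_mul_cancel_right] at this
        show u ^ i = y
        exact hi.trans this
    have h1 := Subgroup.card_mul_index (Subgroup.zpowers u ⊔ Subgroup.zpowers d)
    have hcard : Nat.card (Subgroup.zpowers u ⊔ Subgroup.zpowers d : Subgroup G) = 11 ^ 2 := by
      have h2 := (Subgroup.zpowers u).subgroupOf (Subgroup.zpowers u ⊔ Subgroup.zpowers d)
      have hinf : Subgroup.zpowers u ⊓ Subgroup.zpowers d = ⊥ := by
        have hd2 : Nat.card (Subgroup.zpowers u ⊓ Subgroup.zpowers d : Subgroup G) ∣ 11 := by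
          rw [← hod, ← Nat.card_zpowers]
          exact Subgroup.card_dvd_of_le inf_le_right
        rcases (Nat.dvd_prime (by norm_num : Nat.Prime 11)).1 hd2 with h3 | h3
        · exact Subgroup.card_eq_one.1 h3
        · exfalso
          refine hnd ?_
          have h4 : Subgroup.zpowers u ⊓ Subgroup.zpowers d = Subgroup.zpowers d :=
            Subgroup.eq_of_le_of_card_ge inf_le_right (by rw [h3, Nat.card_zpowers, hod])
          have h5 : d ∈ Subgroup.zpowers u ⊓ Subgroup.zpowers d := by
            rw [h4]; exact Subgroup.mem_zpowers d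
          exact h5.1
      have h3 := Cfsg.Agent.Solv.card_sup_mul_card_inf' (Subgroup.zpowers u) (Subgroup.zpowers d) hn
      rwa [hinf, Subgroup.card_bot, mul_one, Nat.card_zpowers, Nat.card_zpowers, hu, hod, ← pow_two] at h3
    exact h121 ⟨_, (hcard ▸ h1).symm⟩
  -- orbits
  have hX := h.card
  have hcorb : ∀ P R : Sylow 3 G, R ∈ orb u P → c • R ∈ orb u (c • P) := by
    rintro P _ ⟨i, rfl⟩
    refine ⟨i, ?_⟩
    simp only [← mul_smul]
    rw [show c * pw u i = pw u i * c from (hc.pow_right i.val).eq]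
  by_cases hall : ∀ P : Sylow 3 G, c • P ∈ orb u P
  · refine h11 c hc (faithful h fun P => ?_)
    obtain ⟨i, hi⟩ := hall P
    have hk : ∀ k : ℕ, c ^ k • P = pw u ((k : ZMod 11) * i) • P := by
      intro k
      induction k with
      | zero => simp [pw_zero]
      | succ k ih =>
        rw [pow_succ', mul_smul, ih, Nat.cast_succ, add_mul, one_mul, pw_add hu11, mul_smul,
          show pw u i • P = c • P from hi, ← mul_smul, ← mul_smul,
          show c * pw u ((k : ZMod 11) * i) = pw u ((k : ZMod 11) * i) * c from (hc.pow_right _).eq]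
    rw [hk 11, show ((11 : ℕ) : ZMod 11) = 0 from ZMod.natCast_self 11, zero_mul, pw_zero, one_smul]
  · push Not at hall
    obtain ⟨P, hP⟩ := hall
    have hsq : ∀ R : Sylow 3 G, (c * c) • R ∈ orb u R := by
      have hP2 : c • c • P ∈ orb u P := by
        rcases mem_orb_or hX hu11 hfix hP (c • c • P) with h1 | h1
        · exact h1
        · exfalso
          refine hP ?_
          obtain ⟨i, hi⟩ := h1
          refine ⟨i, ?_⟩
          have hi2 : pw u i • c • P = c • c • P := hi
          rw [← mul_smul, show pw u i * c = c * pw u i from ((hc.pow_right i.val).eq).symm,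
            mul_smul, smul_left_cancel_iff] at hi2
          exact hi2
      intro R
      rw [mul_smul]
      rcases mem_orb_or hX hu11 hfix hP R with h1 | h1
      · have h2 := hcorb _ _ (hcorb _ _ h1)
        rwa [orb_eq hu11 hP2, ← orb_eq hu11 h1] at h2
      · have h2 := hcorb _ _ (hcorb _ _ h1)
        have h3 := hcorb _ _ hP2
        rwa [orb_eq hu11 h3, ← orb_eq hu11 h1] at h2
    have hcc : (c * c) ^ 11 = 1 := faithful h fun R => by
      obtain ⟨i, hi⟩ := hsq R
      have hk : ∀ k : ℕ, (c * c) ^ k • R = pw u ((k : ZMod 11) * i) • R := by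
        intro k
        induction k with
        | zero => simp [pw_zero]
        | succ k ih =>
          rw [pow_succ', mul_smul (c * c) ((c * c) ^ k) R, ih, Nat.cast_succ, add_mul, one_mul,
            pw_add hu11, mul_smul (pw u _) (pw u i) R,
            show pw u i • R = (c * c) • R from hi, ← mul_smul (c * c) (pw u _) R,
            ← mul_smul (pw u _) (c * c) R,
            show c * c * pw u ((k : ZMod 11) * i) = pw u ((k : ZMod 11) * i) * (c * c) from
              ((hc.mul_left hc).pow_right _).eq]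
      rw [hk 11, show ((11 : ℕ) : ZMod 11) = 0 from ZMod.natCast_self 11, zero_mul, pw_zero, one_smul]
    set v := c ^ 11 with hv
    have hvv : v * v = 1 := by
      rw [hv, ← pow_add, ← hcc, ← pow_two, ← pow_mul]
    have hvP : v • P ∉ orb u P := by
      intro hh
      refine hP ?_
      obtain ⟨i, hi⟩ := hsq P
      have hk : ∀ k : ℕ, (c * c) ^ k • P ∈ orb u P := by
        intro k
        induction k with
        | zero => rw [pow_zero, one_smul]; exact mem_orb_self u P
        | succ k ih =>
          rw [pow_succ', mul_smul]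
          have := hcorb _ _ (hcorb _ _ ih)
          rw [← mul_smul c c, ← mul_smul c c, orb_eq hu11 (hsq P)] at this
          exact this
      have h5 := hcorb _ _ (hk 5)
      rw [← mul_smul, show c * (c * c) ^ 5 = v by rw [hv, ← pow_two, ← pow_mul, ← pow_succ']] at h5
      have h6 := orb_eq hu11 h5
      rw [orb_eq hu11 hh] at h6
      rw [h6]
      exact mem_orb_self u _
    exact absurd (involution_preserves hX (fun g => sign_one h g) hu11 hfix hvv
      (fun i => ⟨i, ((hc.pow_left 11).pow_right _).eq⟩) P) hvP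

/-- The normalizer of a Sylow 11-subgroup. -/
theorem normalizer_eleven (h : Cfg G) {u : G} (hu : orderOf u = 11)
    (hfix : ∀ P : Sylow 3 G, u • P ≠ P) (h121 : ¬ 11 ^ 2 ∣ Nat.card G) :
    Nat.card (Subgroup.normalizer (Subgroup.zpowers u : Set G)) ∣ 11 * 10 ∧
      11 < Nat.card (Subgroup.normalizer (Subgroup.zpowers u : Set G)) ∧
      (∀ t : G, orderOf t = 2 → t ∈ Subgroup.normalizer (Subgroup.zpowers u : Set G) →
        t * u = u⁻¹ * t) ∧
      (∀ t : G, orderOf t = 5 → t ∈ Subgroup.normalizer (Subgroup.zpowers u : Set G) →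
        ∀ i : ZMod 11, i ≠ 0 → t * pw u i * t⁻¹ ≠ pw u i) := by
  classical
  haveI : Fact (Nat.Prime 11) := ⟨by norm_num⟩
  set Q := Subgroup.zpowers u with hQ
  have hcQ : Nat.card Q = 11 := by rw [hQ, Nat.card_zpowers, hu]
  haveI : IsCyclic Q := isCyclic_of_prime_card hcQ
  have hC : Subgroup.centralizer (Q : Set G) = Q := by
    refine le_antisymm (fun c hc => centralizer_u h hu hfix h121
      (Subgroup.mem_centralizer_iff.1 hc u (Subgroup.mem_zpowers u)).symm) ?_
    intro c hc
    exact Subgroup.mem_centralizer_iff.2 fun y hy => congrArg Subtype.val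
      ((IsCyclic.commGroup (α := Q)).mul_comm ⟨y, hy⟩ ⟨c, hc⟩)
  set N := Subgroup.normalizer (Q : Set G) with hN
  have hk : Nat.card (Subgroup.normalizerMonoidHom Q).ker = 11 := by
    rw [Subgroup.normalizerMonoidHom_ker, hC, Nat.card_congr
      (Subgroup.subgroupOfEquivOfLe Subgroup.le_normalizer).toEquiv, hcQ]
  have hcN : 11 * Nat.card (Subgroup.normalizerMonoidHom Q).range = Nat.card N := by
    rw [← Subgroup.index_ker]
    conv_lhs => arg 1; rw [← hk]
    exact Subgroup.card_mul_index _
  refine ⟨?_, ?_, ?_, ?_⟩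
  · rw [← hcN]
    refine Nat.mul_dvd_mul_left _ ((Subgroup.card_subgroup_dvd_card _).trans ?_)
    rw [IsCyclic.card_mulAut, hcQ, Nat.totient_prime (by norm_num)]
  · refine lt_of_le_of_ne (Nat.le_of_dvd Nat.card_pos ⟨_, hcN.symm⟩) fun e => ?_
    obtain ⟨S, hS⟩ := (IsPGroup.of_card (n := 1) (hcQ.trans (pow_one 11).symm)).exists_le_sylow
    have hSQ : Q = (S : Subgroup G) := Subgroup.eq_of_le_of_card_ge hS (by
      obtain ⟨k, hk⟩ := IsPGroup.iff_card.1 S.isPGroup'
      have hk1 : k ≤ 1 := by
        by_contra hk1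
        exact h121 ((pow_dvd_pow 11 (by omega : 2 ≤ k)).trans
          (hk ▸ Subgroup.card_subgroup_dvd_card _))
      rw [hk, hcQ]
      exact (Nat.pow_le_pow_right (by norm_num) hk1).trans (by norm_num))
    refine no_complement h S (hSQ ▸ hcQ) ?_
    rw [← hSQ, hC]
    refine le_of_eq (Subgroup.eq_of_le_of_card_ge Subgroup.le_normalizer ?_).symm
    rw [hcQ]; exact e.ge
  · intro t ht htN
    obtain ⟨i, hi⟩ := (Subgroup.mem_normalizer_iff.1 htN u).1 (Subgroup.mem_zpowers u)
    have htne : t ∉ Subgroup.centralizer (Q : Set G) := by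
      rw [hC]
      intro htQ
      have := Subgroup.orderOf_dvd_natCard Q htQ
      rw [ht, hcQ] at this
      omega
    have hi1 : u ^ i = t * u * t⁻¹ := hi
    have hii : u ^ (i * i) = u := by
      rw [zpow_mul, hi1, conj_zpow, hi1]
      have htt : t * t = 1 := by rw [← pow_two, ← ht, pow_orderOf_eq_one]
      calc t * (t * u * t⁻¹) * t⁻¹ = (t * t) * u * (t * t)⁻¹ := by group
        _ = u := by rw [htt]; group
    have h1 : ((i * i - 1 : ℤ) : ZMod 11) = 0 := by
      rw [ZMod.intCast_zmod_eq_zero_iff_dvd]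
      have : u ^ (i * i - 1) = 1 := by rw [zpow_sub, hii, zpow_one, mul_inv_cancel]
      have := orderOf_dvd_iff_zpow_eq_one.2 this
      rwa [hu] at this
    push_cast at h1
    have hcases : (i : ZMod 11) = 1 ∨ (i : ZMod 11) = -1 := by
      rcases mul_eq_zero.1 (show ((i : ZMod 11) - 1) * ((i : ZMod 11) + 1) = 0 by linear_combination h1)
        with h2 | h2
      · exact Or.inl (sub_eq_zero.1 h2)
      · exact Or.inr (eq_neg_of_add_eq_zero_left h2)
    have hz : ∀ j : ℤ, (i : ZMod 11) = (j : ZMod 11) → u ^ i = u ^ j := fun j hj => by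
      rw [zpow_eq_zpow_iff_modEq, hu, ← ZMod.intCast_eq_intCast_iff]
      exact hj
    rcases hcases with h2 | h2
    · exfalso
      refine htne (Subgroup.mem_centralizer_iff.2 ?_)
      rintro _ ⟨j, rfl⟩
      have e := hz 1 (by simpa using h2)
      rw [hi1, zpow_one] at e
      exact (Commute.zpow_left (mul_inv_eq_iff_eq_mul.1 e).symm j).eq
    · have e := hz (-1) (by simpa using h2)
      rw [hi1, zpow_neg_one] at e
      exact mul_inv_eq_iff_eq_mul.1 e
  · intro t ht htN j hj e
    have hm : ∀ n : ℕ, t * pw u ((n : ZMod 11) * j) * t⁻¹ = pw u ((n : ZMod 11) * j) := by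
      intro n
      induction n with
      | zero => simp [pw_zero]
      | succ n ihn =>
        rw [Nat.cast_succ, add_mul, one_mul, pw_add (hu ▸ pow_orderOf_eq_one u), ← conj_mul, ihn, e]
    have h1 := hm (j⁻¹).val
    rw [ZMod.natCast_zmod_val, inv_mul_cancel₀ hj, pw_one] at h1
    have htQ : t ∈ Q := centralizer_u h hu hfix h121 (mul_inv_eq_iff_eq_mul.1 h1)
    have := Subgroup.orderOf_dvd_natCard Q htQ
    rw [ht, hcQ] at this
    omega

/-- An element fixing exactly the Sylow subgroups fixed by `P` and commuting with `P`. -/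
theorem fixed_invariant {P : Sylow 3 G} {g : G} (hg : ∀ p ∈ P, Commute g p) {R : Sylow 3 G}
    (hR : g • R = R) {p : G} (hp : p ∈ P) : g • p • R = p • R := by
  rw [← mul_smul, (hg p hp).eq, mul_smul, hR]

theorem stab_normalizes {P : Sylow 3 G} {g : G} (hg : g • P = P) {p : G} (hp : p ∈ P) :
    g * p * g⁻¹ ∈ P :=
  (Subgroup.mem_normalizer_iff.1 (Sylow.smul_eq_iff_mem_normalizer.1 hg) p).1 hp

/-! ### Sylow subgroups of order three -/

theorem commute_of_coprime {P : Sylow 3 G} (hP : Nat.card P = 3) {g : G} (hg : g • P = P)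
    (ho : Odd (orderOf g)) : ∀ p ∈ P, Commute g p := by
  haveI : IsCyclic P := isCyclic_of_prime_card hP
  let gN : Subgroup.normalizer ((P : Subgroup G) : Set G) :=
    ⟨g, Sylow.smul_eq_iff_mem_normalizer.1 hg⟩
  let φ := Subgroup.normalizerMonoidHom (P : Subgroup G)
  have h1 : φ gN = 1 := by
    rw [← orderOf_eq_one_iff]
    refine Nat.eq_one_of_dvd_coprimes (Nat.coprime_two_right.2 ho)
      ((orderOf_map_dvd φ gN).trans (by rw [← Subgroup.orderOf_coe])) ?_
    refine (orderOf_dvd_natCard _).trans ?_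
    rw [IsCyclic.card_mulAut, hP, Nat.totient_prime (by norm_num)]
  intro p hp
  have h2 : g * p * g⁻¹ = p :=
    congrArg Subtype.val (DFunLike.congr_fun h1 (⟨p, hp⟩ : (P : Subgroup G)))
  exact mul_inv_eq_iff_eq_mul.1 h2

theorem orbit_three {P R : Sylow 3 G} (hP : Nat.card P = 3) (hne : R ≠ P) :
    Nat.card (orbit (P : Subgroup G) R) = 3 := by
  have hd : Nat.card (orbit (P : Subgroup G) R) ∣ 3 := by
    refine Nat.dvd_trans ?_ hP.dvd
    rw [Nat.card_coe_set_eq, ← index_stabilizer]
    exact Subgroup.index_dvd_card _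
  rcases (Nat.dvd_prime (Fact.out : Nat.Prime 3)).1 hd with h1 | h1
  · exfalso
    refine hne (Sylow.ext ?_).symm
    have hle : (P : Subgroup G) ≤ R := fun x hx => eq_of_mem_of_smul_eq hx (by
      obtain ⟨hss, -⟩ := Nat.card_eq_one_iff_unique.1 h1
      exact congrArg Subtype.val (hss.elim ⟨x • R, ⟨⟨x, hx⟩, rfl⟩⟩ ⟨R, mem_orbit_self R⟩))
    exact Subgroup.eq_of_le_of_card_ge hle (Nat.card_congr (R.equiv P).toEquiv).le
  · exact h1

theorem no_three (h : Cfg G) {P : Sylow 3 G} (hP : Nat.card P = 3) : False := by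
  classical
  haveI : Fact (Nat.Prime 11) := ⟨by norm_num⟩
  haveI := Fintype.ofFinite (Sylow 3 G)
  have hall : ∀ R : Sylow 3 G, Nat.card R = 3 := fun R => by
    exact (Nat.card_congr (R.equiv P).toEquiv).trans hP
  have hmod : ∀ (g : G) (R : Sylow 3 G), g • R = R → Odd (orderOf g) →
      ((Finset.univ : Finset (Sylow 3 G)).filter fun S => g • S = S).card % 3 = 1 := by
    intro g R hR ho
    set F := (Finset.univ : Finset (Sylow 3 G)).filter fun S => g • S = S with hF
    have hRF : R ∈ F := Finset.mem_filter.2 ⟨Finset.mem_univ _, hR⟩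
    have h3 : 3 ∣ (F.erase R).card := by
      refine Perm.dvd_card_of_invariant (G := (R : Subgroup G)) _ (fun p S hS => ?_) fun S hS => ?_
      · rw [Finset.mem_erase] at hS ⊢
        refine ⟨fun e => hS.1 ?_, Finset.mem_filter.2 ⟨Finset.mem_univ _,
          fixed_invariant (commute_of_coprime (hall R) hR ho) (Finset.mem_filter.1 hS.2).2 p.2⟩⟩
        have e2 : (p : G) • S = R := e
        rw [← inv_smul_smul (p : G) S, e2, smul_eq_self_of_mem ((R : Subgroup G).inv_mem p.2)]
      · exact (orbit_three (hall R) (Finset.mem_erase.1 hS).1).symm.dvd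
    rw [← Finset.card_erase_add_one hRF]
    obtain ⟨k, hk⟩ := h3
    omega
  set N := stabilizer G P with hN
  have hG := card_eq h P
  have h11N : ¬ 11 ∣ Nat.card N := by
    intro hd
    obtain ⟨g, hg⟩ := exists_prime_orderOf_dvd_card' (G := N) 11 hd
    have hgo : orderOf (g : G) = 11 := by rw [Subgroup.orderOf_coe]; exact hg
    have h1 := hmod g P g.2 (by rw [hgo]; decide)
    set F := (Finset.univ : Finset (Sylow 3 G)).filter fun S => (g : G) • S = S with hF
    have hd11 : 11 ∣ Fᶜ.card := by
      refine Perm.dvd_card_of_invariant (G := Subgroup.zpowers (g : G)) _ (fun p S hS => ?_) fun S hS => ?_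
      · rw [Finset.mem_compl, hF, Finset.mem_filter] at hS ⊢
        rintro ⟨-, e⟩
        refine hS ⟨Finset.mem_univ _, ?_⟩
        obtain ⟨i, hi⟩ := p.2
        have e2 : (g : G) • (p : G) • S = (p : G) • S := e
        rw [← mul_smul, show (g : G) * (p : G) = (p : G) * g by
          rw [← hi]; exact ((Commute.refl (g : G)).zpow_right i).eq, mul_smul] at e2
        exact MulAction.injective _ e2
      · have hd2 : Nat.card (orbit (Subgroup.zpowers (g : G)) S) ∣ 11 := by
          rw [← hgo, ← Nat.card_zpowers, Nat.card_coe_set_eq, ← index_stabilizer]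
          exact Subgroup.index_dvd_card _
        rcases (Nat.dvd_prime (by norm_num : Nat.Prime 11)).1 hd2 with h2 | h2
        · exfalso
          rw [Finset.mem_compl, hF, Finset.mem_filter] at hS
          obtain ⟨hss, -⟩ := Nat.card_eq_one_iff_unique.1 h2
          exact hS ⟨Finset.mem_univ _, congrArg Subtype.val
            (hss.elim ⟨(g : G) • S, ⟨⟨g, Subgroup.mem_zpowers _⟩, rfl⟩⟩ ⟨S, mem_orbit_self S⟩)⟩
        · exact h2.symm.dvd
    rw [Finset.card_compl, ← Nat.card_eq_fintype_card, h.card] at hd11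
    have hle : F.card ≤ 22 := (Finset.card_le_univ _).trans (by
      rw [← Nat.card_eq_fintype_card, h.card])
    have hFne : F.card ≠ 22 := by
      intro e
      have hu : F = Finset.univ := Finset.eq_univ_of_card _ (by
        rw [e, ← Nat.card_eq_fintype_card, h.card])
      have : (g : G) = 1 := faithful h fun S => by
        have := hu ▸ Finset.mem_univ S
        exact (Finset.mem_filter.1 this).2
      rw [this, orderOf_one] at hgo
      omega
    omega
  have h121 : ¬ 11 ^ 2 ∣ Nat.card G := by
    rw [hG]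
    intro hd
    refine h11N ((Nat.Coprime.dvd_of_dvd_mul_left (by norm_num : Nat.Coprime 11 2)) ?_)
    rw [pow_two, show 22 * Nat.card N = 11 * (2 * Nat.card N) by ring] at hd
    exact Nat.dvd_of_mul_dvd_mul_left (by norm_num) hd
  obtain ⟨u, hu⟩ := exists_prime_orderOf_dvd_card' (G := G) 11 (by rw [hG]; exact ⟨2 * Nat.card N, by ring⟩)
  have hufix : ∀ R : Sylow 3 G, u • R ≠ R := by
    intro R hR
    refine h11N ?_
    have h1 := card_eq h R
    rw [hG] at h1
    rw [Nat.eq_of_mul_eq_mul_left (by norm_num) h1, ← hu]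
    exact Subgroup.orderOf_dvd_natCard _ hR
  have hu11 : u ^ 11 = 1 := hu ▸ pow_orderOf_eq_one u
  obtain ⟨hd110, hgt, hinv2, hinv5⟩ := normalizer_eleven h hu hufix h121
  set N11 := Subgroup.normalizer (Subgroup.zpowers u : Set G) with hN11
  have h5 : ¬ 5 ∣ Nat.card N11 := by
    intro hd
    haveI : Fact (Nat.Prime 5) := ⟨by norm_num⟩
    obtain ⟨t, ht⟩ := exists_prime_orderOf_dvd_card' (G := N11) 5 hd
    have hto : orderOf (t : G) = 5 := by rw [Subgroup.orderOf_coe]; exact ht
    set F := (Finset.univ : Finset (Sylow 3 G)).filter fun S => (t : G) • S = S with hF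
    have hmemF : ∀ S, S ∈ F ↔ (t : G) • S = S := fun S => by simp [hF]
    have hF2 : F.card ≤ 2 := by
      by_contra hcon
      obtain ⟨a, b, c, ha, hb, hc, hab, hac, hbc⟩ := Finset.two_lt_card_iff.1 (not_le.1 hcon)
      have hone : ∀ {x y : Sylow 3 G}, x ∈ F → y ∈ F → y ∈ orb u x → y = x := by
        intro x y hx hy hxy
        obtain ⟨i, hi⟩ := hxy
        have hi' : pw u i • x = y := hi
        by_cases hi0 : i = 0
        · rw [← hi', hi0, pw_zero, one_smul]
        exfalso
        obtain ⟨k, hk⟩ := (Subgroup.mem_normalizer_iff.1 t.2 (pw u i)).1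
          (Subgroup.pow_mem _ (Subgroup.mem_zpowers u) _)
        have hk' : u ^ k = pw u (k : ZMod 11) := by
          rw [pw, ← zpow_natCast, zpow_eq_zpow_iff_modEq, hu, ← ZMod.intCast_eq_intCast_iff]
          simp
        have hk'' : u ^ k = (t : G) * pw u i * (t : G)⁻¹ := hk
        rw [hk'] at hk''
        have e1 : pw u (k : ZMod 11) • x = pw u i • x := by
          rw [hi', hk'', mul_smul, mul_smul, inv_smul_eq_iff.2 ((hmemF x).1 hx).symm, hi',
            (hmemF y).1 hy]
        have e2 : (-i + (k : ZMod 11)) = 0 := fpf_pw hu11 hufix (X := Sylow 3 G) (x := x) (by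
          rw [pw_add hu11, mul_smul, e1, ← pw_inv hu11, inv_smul_smul])
        rw [← neg_add_eq_zero.1 e2] at hk''
        exact hinv5 t hto t.2 i hi0 hk''.symm
      obtain ⟨y, hy⟩ := exists_not_mem h.card u a
      rcases mem_orb_or h.card hu11 hufix hy b with hb' | hb'
      · exact hab (hone ha hb hb').symm
      rcases mem_orb_or h.card hu11 hufix hy c with hc' | hc'
      · exact hac (hone ha hc hc').symm
      · exact hbc (hone hb hc (by rw [orb_eq hu11 hb']; exact hc')).symm
    have h5c : 5 ∣ Fᶜ.card := by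
      refine Perm.dvd_card_of_invariant (G := Subgroup.zpowers (t : G)) _ (fun p S hS => ?_) fun S hS => ?_
      · rw [Finset.mem_compl, hmemF] at hS ⊢
        intro e
        refine hS ?_
        obtain ⟨i, hi⟩ := p.2
        have e2 : (t : G) • (p : G) • S = (p : G) • S := e
        rw [← mul_smul, show (t : G) * (p : G) = (p : G) * t by
          rw [← hi]; exact ((Commute.refl (t : G)).zpow_right i).eq, mul_smul] at e2
        exact MulAction.injective _ e2
      · have hd2 : Nat.card (orbit (Subgroup.zpowers (t : G)) S) ∣ 5 := by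
          rw [← hto, ← Nat.card_zpowers, Nat.card_coe_set_eq, ← index_stabilizer]
          exact Subgroup.index_dvd_card _
        rcases (Nat.dvd_prime (by norm_num : Nat.Prime 5)).1 hd2 with h2 | h2
        · exfalso
          rw [Finset.mem_compl, hmemF] at hS
          obtain ⟨hss, -⟩ := Nat.card_eq_one_iff_unique.1 h2
          exact hS (congrArg Subtype.val
            (hss.elim ⟨(t : G) • S, ⟨⟨t, Subgroup.mem_zpowers _⟩, rfl⟩⟩ ⟨S, mem_orbit_self S⟩))
        · exact h2.symm.dvd
    rw [Finset.card_compl, ← Nat.card_eq_fintype_card, h.card] at h5c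
    obtain ⟨S, hS⟩ : F.Nonempty := by rw [← Finset.card_pos]; omega
    have := hmod t S ((hmemF S).1 hS) (by rw [hto]; decide)
    rw [← hF] at this
    omega
  have hN22 : Nat.card N11 = 22 := by
    obtain ⟨d, hd⟩ : 11 ∣ Nat.card N11 :=
      hu ▸ Subgroup.orderOf_dvd_natCard _ (Subgroup.le_normalizer (Subgroup.mem_zpowers u))
    rw [hd] at hd110 hgt h5 ⊢
    have hd10 : d ∣ 10 := Nat.dvd_of_mul_dvd_mul_left (by norm_num) hd110
    have : d ≤ 10 := Nat.le_of_dvd (by norm_num) hd10
    interval_cases d <;> simp_all (config := {decide := true})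
  -- the Sylow 11-subgroups
  obtain ⟨S, hS⟩ := (IsPGroup.of_card (n := 1)
    (show Nat.card (Subgroup.zpowers u) = 11 ^ 1 by rw [Nat.card_zpowers, hu, pow_one])).exists_le_sylow
  have hcS : ∀ T : Sylow 11 G, Nat.card T = 11 := by
    intro T
    rw [Nat.card_congr (T.equiv S).toEquiv]
    obtain ⟨k, hk⟩ := IsPGroup.iff_card.1 S.isPGroup'
    have h1 := Subgroup.card_le_of_le hS
    rw [Nat.card_zpowers, hu] at h1
    change 11 ≤ Nat.card S at h1
    rw [hk] at h1 ⊢
    have hk1 : k ≤ 1 := by
      by_contra hk1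
      exact h121 ((pow_dvd_pow 11 (by omega : 2 ≤ k)).trans (hk ▸ Subgroup.card_subgroup_dvd_card _))
    interval_cases k <;> simp_all
  have hSu : (S : Subgroup G) = Subgroup.zpowers u :=
    (Subgroup.eq_of_le_of_card_ge hS (by rw [Nat.card_zpowers, hu]; exact (hcS S).le)).symm
  have hn11 : Nat.card (Sylow 11 G) = Nat.card N := by
    have h1 := (Subgroup.normalizer ((S : Subgroup G) : Set G)).card_mul_index
    rw [hG] at h1
    have e1 : Nat.card (Sylow 11 G) = (Subgroup.normalizer ((S : Subgroup G) : Set G)).index :=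
      S.card_eq_index_normalizer
    rw [← e1, hSu, ← hN11, hN22] at h1
    exact Nat.eq_of_mul_eq_mul_left (by norm_num) h1
  have hN1 : Nat.card N % 11 = 1 := by
    rw [← hn11]; exact (card_sylow_modEq_one 11 G)
  have hN12 : Nat.card N = 12 := by
    -- the orbits of `P`
    let O : Type u := {s : Set (Sylow 3 G) // ∃ R, R ≠ P ∧ s = orbit (P : Subgroup G) R}
    haveI := Fintype.ofFinite O
    have himg : ∀ (g : N) (R : Sylow 3 G),
        (fun z => (g : G) • z) '' orbit (P : Subgroup G) R = orbit (P : Subgroup G) ((g : G) • R) := by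
      intro g R
      ext z
      constructor
      · rintro ⟨_, ⟨p, rfl⟩, rfl⟩
        refine ⟨⟨(g : G) * p * (g : G)⁻¹, stab_normalizes g.2 p.2⟩, ?_⟩
        show ((g : G) * p * (g : G)⁻¹) • (g : G) • R = (g : G) • (p : G) • R
        rw [← mul_smul, ← mul_smul, inv_mul_cancel_right]
      · rintro ⟨p, rfl⟩
        refine ⟨((g : G)⁻¹ * p * g) • R, ⟨⟨(g : G)⁻¹ * p * g, ?_⟩, rfl⟩, ?_⟩
        · have := stab_normalizes (N.inv_mem g.2) p.2
          rwa [inv_inv] at this
        · show (g : G) • ((g : G)⁻¹ * p * g) • R = (p : G) • (g : G) • R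
          rw [← mul_smul, ← mul_smul]; group
    letI : MulAction N O :=
      { smul := fun g s => ⟨(fun z => (g : G) • z) '' s.1, by
          obtain ⟨R, hR, hs⟩ := s.2
          refine ⟨(g : G) • R, fun e => hR ?_, by rw [hs, himg]⟩
          rw [← inv_smul_smul (g : G) R, e]
          exact N.inv_mem g.2⟩
        one_smul := fun s => Subtype.ext (by
          show (fun z : Sylow 3 G => ((1 : N) : G) • z) '' s.1 = s.1
          simp)
        mul_smul := fun a b s => Subtype.ext (by
          show (fun z : Sylow 3 G => ((a * b : N) : G) • z) '' s.1 =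
            (fun z : Sylow 3 G => (a : G) • z) '' ((fun z : Sylow 3 G => (b : G) • z) '' s.1)
          rw [Set.image_image]
          simp only [Subgroup.coe_mul, mul_smul]) }
    have hO7 : Fintype.card O = 7 := by
      let f : {R : Sylow 3 G // R ≠ P} → O := fun R => ⟨orbit (P : Subgroup G) R.1, R.1, R.2, rfl⟩
      have hfib : ∀ s : O, ((Finset.univ : Finset {R : Sylow 3 G // R ≠ P}).filter
          fun R => f R = s).card = 3 := by
        rintro ⟨s, R₀, hR₀, rfl⟩
        refine Eq.trans ?_ (Nat.card_eq_fintype_card.symm.trans (orbit_three hP hR₀))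
        refine Finset.card_bij' (fun R hR => (⟨R.1, ?_⟩ : orbit (P : Subgroup G) R₀))
          (fun y _ => ⟨y.1, fun e => hR₀ ?_⟩) (fun R hR => Finset.mem_univ _) (fun y _ => ?_)
          (fun R _ => rfl) (fun y _ => rfl)
        · have e := congrArg Subtype.val (Finset.mem_filter.1 hR).2
          show R.1 ∈ orbit (P : Subgroup G) R₀
          rw [show orbit (P : Subgroup G) R₀ = orbit (P : Subgroup G) R.1 from e.symm]
          exact mem_orbit_self R.1
        · obtain ⟨p, hp⟩ := y.2
          rw [← e, ← hp]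
          have e2 : (p : G) • R₀ = P := hp.trans e
          have e3 : R₀ = P := by
            rw [← inv_smul_smul (p : G) R₀, e2, smul_eq_self_of_mem ((P : Subgroup G).inv_mem p.2)]
          rw [e3]
          exact (smul_eq_self_of_mem p.2).symm
        · exact Finset.mem_filter.2 ⟨Finset.mem_univ _, Subtype.ext (orbit_eq_iff.2 y.2)⟩
      have h21 : Fintype.card {R : Sylow 3 G // R ≠ P} = 21 := by
        rw [Fintype.card_subtype_compl, Fintype.card_subtype_eq, ← Nat.card_eq_fintype_card, h.card]
      have := Finset.card_eq_sum_card_fiberwise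
        (s := (Finset.univ : Finset {R : Sylow 3 G // R ≠ P})) (t := (Finset.univ : Finset O))
        (f := f) (fun R _ => Finset.mem_univ _)
      simp only [hfib, Finset.sum_const, Finset.card_univ, h21, smul_eq_mul] at this
      omega
    let ψ := MulAction.toPermHom N O
    let χ : N →* MulAut (P : Subgroup G) :=
      (Subgroup.normalizerMonoidHom (P : Subgroup G)).comp
        (Subgroup.inclusion (fun g hg => Sylow.smul_eq_iff_mem_normalizer.1 hg))
    haveI : IsCyclic P := isCyclic_of_prime_card hP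
    have hPN : (P : Subgroup G) ≤ N := fun p hp => smul_eq_self_of_mem hp
    have hboth : ψ.ker ⊓ χ.ker ≤ (P : Subgroup G).subgroupOf N := by
      rintro g ⟨hg1, hg2⟩
      have hcom : ∀ p ∈ P, Commute (g : G) p := fun p hp => by
        have e := congrArg Subtype.val (DFunLike.congr_fun (MonoidHom.mem_ker.1 hg2) ⟨p, hp⟩)
        exact mul_inv_eq_iff_eq_mul.1 e
      have hg3 : (g : G) ^ 3 = 1 := faithful h fun R => by
        by_cases hR : R = P
        · rw [hR]; exact N.pow_mem g.2 3
        have e := congrArg Subtype.val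
          (Equiv.congr_fun (MonoidHom.mem_ker.1 hg1) (⟨_, R, hR, rfl⟩ : O))
        have hmem : (g : G) • R ∈ orbit (P : Subgroup G) R := by
          have : (g : G) • R ∈ (fun z => (g : G) • z) '' orbit (P : Subgroup G) R :=
            ⟨R, mem_orbit_self R, rfl⟩
          have e' : (fun z => (g : G) • z) '' orbit (P : Subgroup G) R = orbit (P : Subgroup G) R := e
          rwa [e'] at this
        obtain ⟨p, hp⟩ := hmem
        have hp' : (p : G) • R = (g : G) • R := hp
        have hk : ∀ k : ℕ, (g : G) ^ k • R = (p : G) ^ k • R := by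
          intro k
          induction k with
          | zero => simp
          | succ k ih =>
            rw [pow_succ', mul_smul, ih, ← mul_smul, ((hcom p p.2).pow_right k).eq, mul_smul, ← hp',
              ← mul_smul, ← pow_succ]
        have hp3 : (p : G) ^ 3 = 1 := by
          have h1 : p ^ 3 = 1 := orderOf_dvd_iff_pow_eq_one.1 ((orderOf_dvd_natCard p).trans hP.dvd)
          exact congrArg Subtype.val h1
        rw [hk 3, hp3, one_smul]
      by_cases hg0 : (g : G) = 1
      · show (g : G) ∈ (P : Subgroup G)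
        rw [hg0]; exact Subgroup.one_mem _
      obtain ⟨T, hT⟩ := (IsPGroup.of_card (n := 1)
        (show Nat.card (Subgroup.zpowers (g : G)) = 3 ^ 1 by
          rw [Nat.card_zpowers, orderOf_eq_prime hg3 hg0, pow_one])).exists_le_sylow
      have hgT : (g : G) ∈ T := hT (Subgroup.mem_zpowers _)
      exact eq_of_mem_of_smul_eq hgT g.2
    have hPker : (P : Subgroup G).subgroupOf N ≤ ψ.ker := by
      intro p hp
      refine MonoidHom.mem_ker.2 (Equiv.ext fun s => Subtype.ext ?_)
      obtain ⟨R, hR, hs⟩ := s.2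
      show (fun z => (p : G) • z) '' s.1 = s.1
      rw [hs, himg, orbit_eq_iff]
      exact ⟨⟨p, hp⟩, rfl⟩
    have hk3 : Nat.card ((P : Subgroup G).subgroupOf N) = 3 := by
      rw [Nat.card_congr (Subgroup.subgroupOfEquivOfLe hPN).toEquiv, hP]
    have hk6 : Nat.card ψ.ker ∣ 6 := by
      have h1 : (χ.comp ψ.ker.subtype).ker.map ψ.ker.subtype ≤ (P : Subgroup G).subgroupOf N := by
        rintro _ ⟨x, hx, rfl⟩
        exact hboth ⟨x.2, hx⟩
      have h2 : Nat.card (χ.comp ψ.ker.subtype).ker ∣ 3 := by
        refine Nat.dvd_trans ?_ hk3.dvd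
        rw [Nat.card_congr (Subgroup.equivMapOfInjective _ _ ψ.ker.subtype_injective).toEquiv]
        exact Subgroup.card_dvd_of_le h1
      have h3 : Nat.card (χ.comp ψ.ker.subtype).range ∣ 2 := by
        refine (Subgroup.card_subgroup_dvd_card _).trans ?_
        rw [IsCyclic.card_mulAut, hP, Nat.totient_prime (by norm_num)]
      rw [← Subgroup.card_mul_index (χ.comp ψ.ker.subtype).ker, Subgroup.index_ker]
      exact Nat.mul_dvd_mul h2 h3
    have hN9 : ¬ 9 ∣ Nat.card N := by
      intro hd
      have hp : Nat.card (P : Subgroup G) = 3 ^ (Nat.card G).factorization 3 := P.card_eq_multiplicity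
      rw [hP] at hp
      have h9 : 3 ^ 2 ∣ Nat.card G := (show 3 ^ 2 ∣ Nat.card N from hd).trans (hG ▸ Dvd.intro_left 22 rfl)
      rw [(Fact.out : Nat.Prime 3).pow_dvd_iff_le_factorization Nat.card_pos.ne'] at h9
      have := Nat.pow_right_injective (by norm_num : 2 ≤ 3) (hp.symm.trans (pow_one 3).symm)
      omega
    have hkeq : Nat.card N = Nat.card ψ.ker * Nat.card ψ.range := by
      rw [← Subgroup.index_ker, Subgroup.card_mul_index]
    have h3H : ¬ 3 ∣ Nat.card ψ.range := fun hd => hN9 (by
      rw [hkeq]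
      exact Nat.mul_dvd_mul (hk3 ▸ Subgroup.card_dvd_of_le hPker) hd)
    have hH : Nat.card ψ.range ∣ 560 := by
      have h1 : Nat.card ψ.range ∣ 3 ^ 2 * 560 := by
        refine (Subgroup.card_subgroup_dvd_card _).trans ?_
        rw [Nat.card_perm, Nat.card_eq_fintype_card, hO7]
        decide
      exact (Nat.Coprime.pow_right 2 ((Fact.out : Nat.Prime 3).coprime_iff_not_dvd.2 h3H).symm).dvd_of_dvd_mul_left h1
    have h7 : 7 ∣ Nat.card ψ.range → Nat.card ψ.range ∣ 14 := fun hd => by
      classical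
      exact degree_seven hO7 _ h3H hd
    have hfin : ∀ k ∈ Nat.divisors 6, ∀ r ∈ Nat.divisors 560, (7 ∣ r → r ∣ 14) → 3 ∣ k →
        k * r % 11 = 1 → k * r = 12 := by decide +kernel
    rw [hkeq] at hN1 ⊢
    exact hfin _ (Nat.mem_divisors.2 ⟨hk6, by norm_num⟩) _ (Nat.mem_divisors.2 ⟨hH, by norm_num⟩) h7
      (hk3 ▸ Subgroup.card_dvd_of_le hPker) hN1
  -- the involution on the twelve Sylow 11-subgroups
  have h12 : Nat.card (Sylow 11 G) = 12 := hn11.trans hN12
  haveI : Fact (Nat.Prime 2) := ⟨Nat.prime_two⟩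
  obtain ⟨t, ht⟩ := exists_prime_orderOf_dvd_card' (G := N11) 2 (by rw [hN22]; norm_num)
  have hto : orderOf (t : G) = 2 := by rw [Subgroup.orderOf_coe]; exact ht
  have htu := hinv2 t hto t.2
  haveI := Fintype.ofFinite (Sylow 11 G)
  have huS : u ∈ S := by
    show u ∈ (S : Subgroup G)
    rw [hSu]; exact Subgroup.mem_zpowers u
  have hufixS : ∀ T : Sylow 11 G, u • T = T ↔ T = S := by
    intro T
    constructor
    · intro hT
      have huT := eq_of_mem_of_smul_eq huS hT
      refine (Sylow.ext (Subgroup.eq_of_le_of_card_ge ?_ ?_)).symm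
      · rw [hSu]; exact Subgroup.zpowers_le.2 huT
      · exact ((hcS T).trans (hcS S).symm).le
    · rintro rfl
      exact smul_eq_self_of_mem huS
  obtain ⟨T₀, hT₀⟩ : ∃ T : Sylow 11 G, T ≠ S :=
    Fintype.exists_ne_of_one_lt_card (by rw [← Nat.card_eq_fintype_card, h12]; norm_num) S
  have hinj : ∀ {i : ZMod 11} {T : Sylow 11 G}, T ≠ S → pw u i • T = T → i = 0 := by
    intro i T hT e
    by_contra hi
    have hpow : ∀ n : ℕ, pw u ((n : ZMod 11) * i) • T = T := by
      intro n
      induction n with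
      | zero => simp [pw_zero]
      | succ n ihn => rw [Nat.cast_succ, add_mul, one_mul, pw_add hu11, mul_smul, e, ihn]
    have := hpow (i⁻¹).val
    rw [ZMod.natCast_zmod_val, inv_mul_cancel₀ hi, pw_one, hufixS] at this
    exact hT this
  have hne : ∀ i : ZMod 11, pw u i • T₀ ≠ S := by
    intro i e
    refine hT₀ ?_
    rw [← inv_smul_smul (pw u i) T₀, e]
    exact smul_eq_self_of_mem ((S : Subgroup G).inv_mem ((S : Subgroup G).pow_mem huS _))
  have hsurj : ∀ T : Sylow 11 G, T ≠ S → ∃ i, pw u i • T₀ = T := by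
    intro T hT
    have himg : ((Finset.univ : Finset (ZMod 11)).image fun i => pw u i • T₀) = Finset.univ.erase S := by
      refine Finset.eq_of_subset_of_card_le ?_ ?_
      · intro x hx
        obtain ⟨i, -, rfl⟩ := Finset.mem_image.1 hx
        exact Finset.mem_erase.2 ⟨hne i, Finset.mem_univ _⟩
      · rw [Finset.card_erase_of_mem (Finset.mem_univ S), Finset.card_univ, ← Nat.card_eq_fintype_card,
          h12, Finset.card_image_of_injective _ (fun i j hij => ?_), Finset.card_univ, ZMod.card]
        have : pw u (-j + i) • T₀ = T₀ := by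
          rw [pw_add hu11, mul_smul, show pw u i • T₀ = pw u j • T₀ from hij, ← pw_inv hu11, inv_smul_smul]
        exact (neg_add_eq_zero.1 (hinj hT₀ this)).symm
    have := Finset.mem_erase.2 ⟨hT, Finset.mem_univ T⟩
    rw [← himg] at this
    obtain ⟨i, -, hi⟩ := Finset.mem_image.1 this
    exact ⟨i, hi⟩
  have htS : (t : G) • S = S := Sylow.smul_eq_iff_mem_normalizer.2 (by
    show (t : G) ∈ Subgroup.normalizer ((S : Subgroup G) : Set G)
    rw [hSu]; exact t.2)
  obtain ⟨c, hc⟩ := hsurj ((t : G) • T₀) (fun e => hT₀ (MulAction.injective (t : G) (e.trans htS.symm)))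
  obtain ⟨n, hn, hs⟩ := TwoPrime.involution_sign (v := (MulAction.toPerm (t : G) : Equiv.Perm (Sylow 11 G))) (by
    refine Equiv.ext fun z => ?_
    rw [pow_two]
    show (t : G) • (t : G) • z = z
    rw [← mul_smul, ← pow_two, ← hto, pow_orderOf_eq_one, one_smul])
  have hfixcard : (MulAction.toPerm (t : G) : Equiv.Perm (Sylow 11 G)).support =
      (Finset.univ.erase S).erase (pw u (6 * c) • T₀) := by
    ext z
    simp only [Equiv.Perm.mem_support, MulAction.toPerm_apply, Finset.mem_erase, Finset.mem_univ,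
      and_true]
    have hti : ∀ i, (t : G) • pw u i • T₀ = pw u (-i + c) • T₀ := fun i => by
      rw [← mul_smul, conj_pw hu11 htu, mul_smul, ← hc, ← mul_smul, ← pw_add hu11]
    have hsix : -(6 * c) + c = 6 * c := by
      have : (11 : ZMod 11) = 0 := rfl
      linear_combination (-c) * this
    constructor
    · intro hz
      refine ⟨fun e => hz ?_, fun e => hz (by rw [e, htS])⟩
      rw [e, hti, hsix]
    · rintro ⟨hz1, hz2⟩ e
      obtain ⟨i, rfl⟩ := hsurj z hz2
      rw [hti] at e
      refine hz1 ?_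
      have h2 : pw u (-i + (-i + c)) • T₀ = T₀ := by
        rw [pw_add hu11, mul_smul, e, ← pw_inv hu11, inv_smul_smul]
      have h3 := hinj hT₀ h2
      have : (11 : ZMod 11) = 0 := rfl
      rw [show i = 6 * c by linear_combination (-6 : ZMod 11) * h3 + (-i) * this]
  rw [hfixcard, Finset.card_erase_of_mem (Finset.mem_erase.2 ⟨hne _, Finset.mem_univ _⟩),
    Finset.card_erase_of_mem (Finset.mem_univ S), Finset.card_univ, ← Nat.card_eq_fintype_card, h12] at hn
  rw [sign_one h, show n = 5 by omega] at hs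
  exact absurd hs (by decide)

/-! ### Larger Sylow subgroups -/

/-- Index of `P ⊓ R` in `P` is three. -/
def Nb (P R : Sylow 3 G) : Prop :=
  P ≠ R ∧ Nat.card ((P : Subgroup G) ⊓ R : Subgroup G) * 3 = Nat.card P

/-- Maximal intersections of index three. -/
def Line (G : Type u) [Group G] : Type u :=
  {D : Subgroup G // ∃ P R : Sylow 3 G, Nb P R ∧ D = (P : Subgroup G) ⊓ R}

theorem Nb.symm {P R : Sylow 3 G} (h : Nb P R) : Nb R P :=
  ⟨h.1.symm, by rw [inf_comm, h.2]; exact Nat.card_congr (P.equiv R).toEquiv⟩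

omit [Finite G] [Fact (Nat.Prime 3)] in
theorem smul_inf (g : G) (P R : Sylow 3 G) :
    MulAut.conj g • ((P : Subgroup G) ⊓ R) = ((g • P : Sylow 3 G) : Subgroup G) ⊓ (g • R : Sylow 3 G) := by
  rw [Subgroup.smul_inf, Sylow.coe_subgroup_smul, Sylow.coe_subgroup_smul]

omit [Fact (Nat.Prime 3)] in
theorem Nb.smul {P R : Sylow 3 G} (h : Nb P R) (g : G) : Nb (g • P) (g • R) := by
  refine ⟨fun e => h.1 (MulAction.injective g e), ?_⟩
  rw [← smul_inf, Sylow.coe_subgroup_smul, Nat.card_congr (Subgroup.equivSMul (MulAut.conj g) _).symm.toEquiv,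
    Nat.card_congr (Subgroup.equivSMul (MulAut.conj g) (P : Subgroup G)).symm.toEquiv]
  exact h.2

instance : MulAction G (Line G) where
  smul g D := ⟨MulAut.conj g • D.1, by
    obtain ⟨P, R, h, hD⟩ := D.2
    exact ⟨g • P, g • R, h.smul g, by rw [hD, smul_inf]⟩⟩
  one_smul D := Subtype.ext (by show MulAut.conj (1 : G) • D.1 = D.1; rw [map_one, one_smul])
  mul_smul a b D := Subtype.ext (by
    show MulAut.conj (a * b) • D.1 = MulAut.conj a • MulAut.conj b • D.1
    rw [map_mul, mul_smul])

instance : Finite (Line G) := Subtype.finite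

/-- Incidence. -/
def Inc (P : Sylow 3 G) (D : Line G) : Prop := D.1 ≤ (P : Subgroup G)

omit [Fact (Nat.Prime 3)] in
theorem inc_smul (g : G) {P : Sylow 3 G} {D : Line G} : Inc (g • P) (g • D) ↔ Inc P D := by
  show MulAut.conj g • D.1 ≤ ((g • P : Sylow 3 G) : Subgroup G) ↔ _
  rw [Sylow.coe_subgroup_smul, Subgroup.pointwise_smul_le_pointwise_smul_iff]
  rfl

theorem line_card (D : Line G) (P : Sylow 3 G) : Nat.card D.1 * 3 = Nat.card P := by
  obtain ⟨P₀, R₀, h, hD⟩ := D.2
  rw [hD, h.2]
  exact Nat.card_congr (P₀.equiv P).toEquiv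

/-- Two members of a line meet exactly in it. -/
theorem line_unique {D : Line G} {P R : Sylow 3 G} (hne : P ≠ R) (hP : Inc P D) (hR : Inc R D) :
    D.1 = (P : Subgroup G) ⊓ R := by
  refine Subgroup.eq_of_le_of_card_ge (le_inf hP hR) ?_
  obtain ⟨i, hi⟩ := IsPGroup.iff_card.1 (P.isPGroup'.to_le
    (inf_le_left : (P : Subgroup G) ⊓ R ≤ (P : Subgroup G)))
  obtain ⟨j, hj⟩ := IsPGroup.iff_card.1 P.isPGroup'
  have h1 := line_card D P
  have h2 : i < j := by
    have hlt : Nat.card ((P : Subgroup G) ⊓ R : Subgroup G) < Nat.card P := by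
      refine lt_of_le_of_ne (Subgroup.card_le_of_le inf_le_left) fun e => hne ?_
      have : (P : Subgroup G) ⊓ R = P := Subgroup.eq_of_le_of_card_ge inf_le_left e.ge
      exact Sylow.ext (Subgroup.eq_of_le_of_card_ge (inf_eq_left.1 this)
        (Nat.card_congr (R.equiv P).toEquiv).le)
    change Nat.card ((P : Subgroup G) ⊓ R : Subgroup G) < Nat.card (P : Subgroup G) at hlt
    rw [hi, hj] at hlt
    exact (Nat.pow_lt_pow_iff_right (by norm_num)).1 hlt
  change Nat.card D.1 * 3 = Nat.card (P : Subgroup G) at h1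
  rw [hj] at h1
  rw [hi]
  have : 3 ^ i * 3 ≤ Nat.card D.1 * 3 := by
    rw [h1, ← pow_succ]; exact Nat.pow_le_pow_right (by norm_num) h2
  omega

theorem nb_iff {P R : Sylow 3 G} : Nb P R ↔ P ≠ R ∧ ∃ D : Line G, Inc P D ∧ Inc R D := by
  constructor
  · intro h
    exact ⟨h.1, ⟨_, P, R, h, rfl⟩, inf_le_left, inf_le_right⟩
  · rintro ⟨hne, D, hP, hR⟩
    exact ⟨hne, by rw [← line_unique hne hP hR]; exact line_card D P⟩

theorem line_eq {D E : Line G} {P R : Sylow 3 G} (hne : P ≠ R) (h1 : Inc P D) (h2 : Inc R D)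
    (h3 : Inc P E) (h4 : Inc R E) : D = E :=
  Subtype.ext ((line_unique hne h1 h2).trans (line_unique hne h3 h4).symm)

open scoped Classical in
/-- The members of a line. -/
noncomputable def pts [Fintype (Sylow 3 G)] (D : Line G) : Finset (Sylow 3 G) :=
  Finset.univ.filter fun P => Inc P D

open scoped Classical in
/-- The lines at a point. -/
noncomputable def linesAt [Fintype (Line G)] (P : Sylow 3 G) : Finset (Line G) :=
  Finset.univ.filter fun D => Inc P D

open scoped Classical in
/-- The neighbours of a point. -/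
noncomputable def nbs [Fintype (Sylow 3 G)] (P : Sylow 3 G) : Finset (Sylow 3 G) :=
  Finset.univ.filter fun R => Nb P R

omit [Finite G] [Fact (Nat.Prime 3)] in
theorem line_arith : ∀ m : ℕ, m < 22 → ∀ r : ℕ, r < 8 → r ≠ 0 → m % 3 = 1 → 4 ≤ m → m ∣ 22 * r →
    r * (m - 1) ≤ 21 → m = 4 := by
  intro m hm r hr h0 h3 h4 hd hle
  interval_cases m <;> interval_cases r <;> omega

omit [Finite G] [Fact (Nat.Prime 3)] in
theorem sh_spec : ∀ k < 11, ∀ n < 22, Comb22.sh k n < 22 ∧
    ((k : ZMod 11) + ((Comb22.sh k n / 2 : ℕ) : ZMod 11) = ((n / 2 : ℕ) : ZMod 11)) ∧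
    Comb22.sh k n % 2 = n % 2 := by decide +kernel

omit [Finite G] [Fact (Nat.Prime 3)] in
theorem rep_spec : ∀ n < 22, Comb22.rep n = n ∨ (Comb22.rep n % 2 = n % 2 ∧
    ((Comb22.rep n / 2 : ℕ) : ZMod 11) = -((n / 2 : ℕ) : ZMod 11)) := by decide +kernel

omit [Finite G] [Fact (Nat.Prime 3)] in
theorem rep_lt : ∀ n < 22, Comb22.rep n < 12 := by decide +kernel

/-- The combinatorial structure when the Sylow subgroups are larger. -/
theorem structure_big (h : Cfg G) (hbig : ∀ P : Sylow 3 G, Nat.card P ≠ 3) [Fintype (Sylow 3 G)]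
    [Fintype (Line G)] :
    (∀ D : Line G, (pts D).card = 4) ∧ (∀ P : Sylow 3 G, (linesAt P).card = 4) ∧
      (∀ P : Sylow 3 G, (nbs P).card = 12) ∧
      ∀ P R S : Sylow 3 G, R ≠ P → ¬ Nb P R → S ≠ P → ¬ Nb P S → ∃ p ∈ P, p • R = S := by
  classical
  obtain ⟨P₁⟩ : Nonempty (Sylow 3 G) := inferInstance
  -- orbits
  have horb : ∀ P R : Sylow 3 G, R ≠ P → ∃ j, 1 ≤ j ∧ Nat.card (orbit (P : Subgroup G) R) = 3 ^ j ∧
      (j = 1 ↔ Nb P R) := by
    intro P R hne
    have hstab : stabilizer (P : Subgroup G) R = ((P : Subgroup G) ⊓ R).subgroupOf (P : Subgroup G) := by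
      ext x
      rw [mem_stabilizer_iff, Subgroup.mem_subgroupOf]
      exact ⟨fun e => ⟨x.2, eq_of_mem_of_smul_eq x.2 e⟩, fun e => smul_eq_self_of_mem e.2⟩
    have hmul : Nat.card (orbit (P : Subgroup G) R) * Nat.card ((P : Subgroup G) ⊓ R : Subgroup G) =
        Nat.card P := by
      rw [Nat.card_coe_set_eq, ← index_stabilizer, hstab, mul_comm,
        ← Nat.card_congr (Subgroup.subgroupOfEquivOfLe (inf_le_left : (P : Subgroup G) ⊓ R ≤ P)).toEquiv,
        Subgroup.card_mul_index]
    obtain ⟨k, hk⟩ := IsPGroup.iff_card.1 P.isPGroup'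
    obtain ⟨j, -, hj⟩ := (Nat.dvd_prime_pow (Fact.out : Nat.Prime 3)).1
      (show Nat.card (orbit (P : Subgroup G) R) ∣ 3 ^ k from hk ▸ Dvd.intro _ hmul)
    refine ⟨j, ?_, hj, ?_⟩
    · by_contra hj0
      have hj0' : j = 0 := by omega
      rw [hj, hj0', pow_zero, one_mul] at hmul
      refine hne (Sylow.ext ?_).symm
      have he : (P : Subgroup G) ⊓ R = P := Subgroup.eq_of_le_of_card_ge inf_le_left hmul.ge
      exact Subgroup.eq_of_le_of_card_ge (inf_eq_left.1 he) (Nat.card_congr (R.equiv P).toEquiv).le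
    · constructor
      · intro e
        rw [hj, e, pow_one, mul_comm] at hmul
        exact ⟨hne.symm, hmul⟩
      · intro hnb
        rw [hj, ← hnb.2, mul_comm] at hmul
        have := Nat.eq_of_mul_eq_mul_left Nat.card_pos hmul
        exact Nat.pow_right_injective (by norm_num : 2 ≤ 3) (this.trans (pow_one 3).symm)
  -- sum over the lines at a point
  have hsum : ∀ P : Sylow 3 G, (nbs P).card = ∑ D ∈ linesAt P, ((pts D).card - 1) := by
    intro P
    have hun : nbs P = (linesAt P).biUnion fun D => (pts D).erase P := by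
      ext R
      simp only [nbs, linesAt, pts, Finset.mem_filter, Finset.mem_univ, true_and, Finset.mem_biUnion,
        Finset.mem_erase]
      rw [nb_iff]
      exact ⟨fun ⟨hne, D, h1, h2⟩ => ⟨D, h1, hne.symm, h2⟩, fun ⟨D, h1, hne, h2⟩ => ⟨hne.symm, D, h1, h2⟩⟩
    rw [hun, Finset.card_biUnion]
    · refine Finset.sum_congr rfl fun D hD => Finset.card_erase_of_mem ?_
      simpa [pts, linesAt] using hD
    · intro D hD E hE hne
      rw [Function.onFun, Finset.disjoint_left]
      intro R hR hR'
      simp only [pts, Finset.mem_erase, Finset.mem_filter, Finset.mem_univ, true_and] at hR hR'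
      simp only [linesAt, Finset.mem_coe, Finset.mem_filter, Finset.mem_univ, true_and] at hD hE
      exact hne (line_eq hR.1.symm hD hR.2 hE hR'.2)
  -- congruences
  have hnb9 : ∀ P : Sylow 3 G, (nbs P).card % 9 = 3 ∧ 9 ∣ 21 - (nbs P).card ∧ (nbs P).card ≤ 21 := by
    intro P
    set Z := ((Finset.univ : Finset (Sylow 3 G)).erase P).filter fun R => ¬ Nb P R with hZ
    have h9 : 9 ∣ Z.card := by
      refine Perm.dvd_card_of_invariant (G := (P : Subgroup G)) _ (fun p R hR => ?_) fun R hR => ?_
      · simp only [hZ, Finset.mem_filter, Finset.mem_erase, Finset.mem_univ, and_true] at hR ⊢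
        have hpP : (p : G) • P = P := smul_eq_self_of_mem p.2
        refine ⟨fun e => hR.1 (MulAction.injective (p : G) (e.trans hpP.symm)), fun e => hR.2 ?_⟩
        have := e.smul (p : G)⁻¹
        rwa [smul_eq_self_of_mem ((P : Subgroup G).inv_mem p.2),
          show ((p : G)⁻¹ • (p • R) : Sylow 3 G) = R from inv_smul_smul (p : G) R] at this
      · simp only [hZ, Finset.mem_filter, Finset.mem_erase, Finset.mem_univ, and_true] at hR
        obtain ⟨j, hj1, hj, hj2⟩ := horb P R hR.1
        rw [hj]
        have hj3 : 2 ≤ j := by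
          rcases Nat.lt_or_ge j 2 with h2 | h2
          · exact absurd (hj2.1 (by omega)) hR.2
          · exact h2
        exact (show 9 = 3 ^ 2 by norm_num) ▸ pow_dvd_pow 3 hj3
    have hsplit : (nbs P).card + Z.card = 21 := by
      have h21 : ((Finset.univ : Finset (Sylow 3 G)).erase P).card = 21 := by
        rw [Finset.card_erase_of_mem (Finset.mem_univ P), Finset.card_univ, ← Nat.card_eq_fintype_card,
          h.card]
      rw [← h21, ← Finset.card_filter_add_card_filter_not (s := (Finset.univ.erase P)) (Nb P)]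
      congr 2
      ext R
      simp only [nbs, Finset.mem_filter, Finset.mem_univ, true_and, Finset.mem_erase, and_true]
      exact ⟨fun hh => ⟨hh.1.symm, hh⟩, fun hh => hh.2⟩
    obtain ⟨c, hc⟩ := h9
    omega
  -- invariance
  have hpts_smul : ∀ (g : G) (D : Line G), (pts (g • D)).card = (pts D).card := by
    intro g D
    symm
    refine Finset.card_equiv (MulAction.toPerm g) fun R => ?_
    simp [pts, inc_smul]
  -- sizes of lines
  have hline : ∀ D : Line G, (pts D).card = 4 := by
    intro D₀
    set m := (pts D₀).card with hm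
    let T : Finset (Line G) := Finset.univ.filter fun D => (pts D).card = m
    set r := ((linesAt P₁).filter fun D => (pts D).card = m).card with hr
    have hrconst : ∀ P : Sylow 3 G, ((linesAt P).filter fun D => (pts D).card = m).card = r := by
      intro P
      obtain ⟨g, rfl⟩ := MulAction.exists_smul_eq G P₁ P
      symm
      refine Finset.card_equiv (MulAction.toPerm g) fun D => ?_
      simp [linesAt, inc_smul, hpts_smul]
    have hdouble : 22 * r = m * T.card := by
      have := Finset.sum_card_bipartiteAbove_eq_sum_card_bipartiteBelow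
        (fun (P : Sylow 3 G) (D : Line G) => Inc P D) (s := Finset.univ) (t := T)
      have hL : ∀ P : Sylow 3 G, (T.bipartiteAbove (fun P D => Inc P D) P).card = r := by
        intro P
        rw [← hrconst P]
        congr 1
        ext D
        simp [T, Finset.mem_bipartiteAbove, linesAt, and_comm]
      have hR : ∀ D ∈ T, (Finset.univ.bipartiteBelow (fun P D => Inc P D) D).card = m := by
        intro D hD
        rw [← (Finset.mem_filter.1 hD).2]
        congr 1
      rw [Finset.sum_congr rfl fun P _ => hL P, Finset.sum_congr rfl hR, Finset.sum_const,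
        Finset.sum_const, smul_eq_mul, smul_eq_mul, Finset.card_univ, ← Nat.card_eq_fintype_card,
        h.card] at this
      rw [this, mul_comm]
    obtain ⟨A, B, hAB, hD₀⟩ := D₀.2
    have hA : Inc A D₀ := by rw [Inc, hD₀]; exact inf_le_left
    have hB : Inc B D₀ := by rw [Inc, hD₀]; exact inf_le_right
    have hr0 : r ≠ 0 := by
      intro e
      have := hrconst A
      rw [e, Finset.card_eq_zero] at this
      exact Finset.eq_empty_iff_forall_notMem.1 this D₀ (by simp [linesAt, hA, hm])
    have hbound : r * (m - 1) ≤ 21 := by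
      refine le_trans ?_ (hnb9 A).2.2
      rw [hsum A, ← hrconst A, ← smul_eq_mul, ← Finset.sum_const]
      refine le_trans (le_of_eq (Finset.sum_congr rfl fun D hD => ?_))
        (Finset.sum_le_sum_of_subset (Finset.filter_subset _ _))
      rw [(Finset.mem_filter.1 hD).2]
    have hm22 : m < 22 := by
      refine lt_of_le_of_ne ?_ fun e => hbig A ?_
      · refine (Finset.card_le_univ _).trans ?_
        rw [← Nat.card_eq_fintype_card, h.card]
      have hu : pts D₀ = Finset.univ := Finset.eq_univ_of_card _ (by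
        rw [← hm, e, ← Nat.card_eq_fintype_card, h.card])
      have hbot : D₀.1 = ⊥ := by
        rw [Subgroup.eq_bot_iff_forall]
        intro d hd
        refine faithful h fun R => ?_
        have : R ∈ pts D₀ := hu ▸ Finset.mem_univ R
        exact smul_eq_self_of_mem ((Finset.mem_filter.1 this).2 hd)
      rw [← line_card D₀ A, hbot, Subgroup.card_bot, one_mul]
    have hm4 : m % 3 = 1 ∧ 4 ≤ m := by
      have hAm : A ∈ pts D₀ := by simp [pts, hA]
      have hnorm : ∀ p ∈ A, MulAut.conj p • D₀.1 = D₀.1 := by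
        intro p hp
        have hmax : (D₀.1.subgroupOf (A : Subgroup G)).index = 3 := by
          have h1 := (D₀.1.subgroupOf (A : Subgroup G)).card_mul_index
          rw [Nat.card_congr (Subgroup.subgroupOfEquivOfLe hA).toEquiv, ← line_card D₀ A] at h1
          exact Nat.eq_of_mul_eq_mul_left Nat.card_pos h1
        haveI : (D₀.1.subgroupOf (A : Subgroup G)).Normal := Subgroup.normal_of_index_eq_minFac_card (by
          rw [hmax]
          obtain ⟨k, hk⟩ := IsPGroup.iff_card.1 A.isPGroup'
          rw [hk]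
          rcases Nat.eq_zero_or_pos k with rfl | hk0
          · exfalso
            have h1 := line_card D₀ A
            change Nat.card D₀.1 * 3 = Nat.card (A : Subgroup G) at h1
            rw [hk, pow_zero] at h1
            omega
          · exact ((Fact.out : Nat.Prime 3).pow_minFac hk0.ne').symm)
        ext y
        rw [Subgroup.mem_pointwise_smul_iff_inv_smul_mem, ← map_inv, MulAut.smul_def, MulAut.conj_apply,
          inv_inv]
        constructor
        · intro hy
          have := ‹(D₀.1.subgroupOf (A : Subgroup G)).Normal›.conj_mem ⟨_, hA hy⟩ hy ⟨p, hp⟩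
          simpa [Subgroup.mem_subgroupOf, mul_assoc] using this
        · intro hy
          have := ‹(D₀.1.subgroupOf (A : Subgroup G)).Normal›.conj_mem ⟨_, hA hy⟩ hy ⟨p, hp⟩⁻¹
          simpa [Subgroup.mem_subgroupOf, mul_assoc] using this
      have h3 : 3 ∣ ((pts D₀).erase A).card := by
        refine Perm.dvd_card_of_invariant (G := (A : Subgroup G)) _ (fun p R hR => ?_) fun R hR => ?_
        · simp only [Finset.mem_erase, pts, Finset.mem_filter, Finset.mem_univ, true_and] at hR ⊢
          refine ⟨fun e => hR.1 (MulAction.injective (p : G)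
            (e.trans (smul_eq_self_of_mem p.2).symm)), ?_⟩
          have := (inc_smul (p : G)).2 hR.2
          rwa [show (p : G) • D₀ = D₀ from Subtype.ext (hnorm p p.2)] at this
        · obtain ⟨j, hj1, hj, -⟩ := horb A R (Finset.mem_erase.1 hR).1
          rw [hj]
          exact dvd_pow_self 3 (by omega)
      rw [Finset.card_erase_of_mem hAm, ← hm] at h3
      have h2 : 1 < m := Finset.one_lt_card.2 ⟨A, hAm, B, by simp [pts, hB], hAB.1⟩
      obtain ⟨c, hc⟩ := h3
      omega
    have hrle : r < 8 := by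
      by_contra hcon
      have : 8 * 3 ≤ r * (m - 1) := Nat.mul_le_mul (by omega) (by omega)
      omega
    exact line_arith m hm22 r hrle hr0 hm4.1 hm4.2 ⟨_, hdouble⟩ hbound
  -- four lines at each point
  have hr4 : ∀ P : Sylow 3 G, (linesAt P).card = 4 := by
    intro P
    have hnb := hsum P
    rw [Finset.sum_congr rfl fun D _ => by rw [hline D], Finset.sum_const, smul_eq_mul] at hnb
    have hdouble : 2 ∣ (linesAt P).card := by
      have := Finset.sum_card_bipartiteAbove_eq_sum_card_bipartiteBelow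
        (fun (P : Sylow 3 G) (D : Line G) => Inc P D) (s := Finset.univ) (t := Finset.univ)
      have hL : ∀ S : Sylow 3 G, ((Finset.univ : Finset (Line G)).bipartiteAbove
          (fun P D => Inc P D) S).card = (linesAt P).card := by
        intro S
        obtain ⟨g, rfl⟩ := MulAction.exists_smul_eq G P S
        symm
        refine Finset.card_equiv (MulAction.toPerm g) fun D => ?_
        simp [linesAt, Finset.mem_bipartiteAbove, inc_smul]
      have hR : ∀ D : Line G, ((Finset.univ : Finset (Sylow 3 G)).bipartiteBelow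
          (fun P D => Inc P D) D).card = 4 := fun D => hline D
      rw [Finset.sum_congr rfl fun S _ => hL S, Finset.sum_congr rfl fun D _ => hR D, Finset.sum_const,
        Finset.sum_const, smul_eq_mul, smul_eq_mul, Finset.card_univ, ← Nat.card_eq_fintype_card,
        h.card] at this
      omega
    obtain ⟨h1, h2, h3⟩ := hnb9 P
    obtain ⟨c, hc⟩ := hdouble
    omega
  have h12 : ∀ P : Sylow 3 G, (nbs P).card = 12 := fun P => by
    rw [hsum P, Finset.sum_congr rfl fun D _ => by rw [hline D], Finset.sum_const, hr4 P, smul_eq_mul]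
  refine ⟨hline, hr4, h12, fun P R S hR hR' hS hS' => ?_⟩
  set Z := ((Finset.univ : Finset (Sylow 3 G)).erase P).filter fun R => ¬ Nb P R with hZ
  have hZ9 : Z.card = 9 := by
    have hZeq : Z = Finset.univ.erase P \ nbs P := by
      ext x; simp [hZ, nbs, and_comm]
    rw [hZeq, Finset.card_sdiff_of_subset, Finset.card_erase_of_mem (Finset.mem_univ P), Finset.card_univ,
      ← Nat.card_eq_fintype_card, h.card, h12 P]
    intro x hx
    simp only [nbs, Finset.mem_filter, Finset.mem_univ, true_and] at hx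
    exact Finset.mem_erase.2 ⟨hx.1.symm, Finset.mem_univ _⟩
  obtain ⟨j, hj1, hj, hj2⟩ := horb P R hR
  have hsub : orbit (P : Subgroup G) R ⊆ (Z : Set (Sylow 3 G)) := by
    rintro _ ⟨p, rfl⟩
    have hpP : (p : G) • P = P := smul_eq_self_of_mem p.2
    simp only [hZ, Finset.mem_coe, Finset.mem_filter, Finset.mem_erase, Finset.mem_univ, and_true]
    refine ⟨fun e => hR (MulAction.injective (p : G) (Eq.trans e hpP.symm)), fun e => hR' ?_⟩
    have := e.smul (p : G)⁻¹
    rwa [smul_eq_self_of_mem ((P : Subgroup G).inv_mem p.2),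
      show ((p : G)⁻¹ • (p • R) : Sylow 3 G) = R from inv_smul_smul (p : G) R] at this
  have hj3 : 2 ≤ j := by
    rcases Nat.lt_or_ge j 2 with h2 | h2
    · exact absurd (hj2.1 (by omega)) hR'
    · exact h2
  have heq : orbit (P : Subgroup G) R = (Z : Set (Sylow 3 G)) := by
    refine Set.eq_of_subset_of_ncard_le hsub ?_ (Finset.finite_toSet Z)
    rw [Set.ncard_coe_finset, hZ9, ← Nat.card_coe_set_eq, hj]
    exact (show 9 = 3 ^ 2 by norm_num) ▸ Nat.pow_le_pow_right (by norm_num) hj3
  have : S ∈ orbit (P : Subgroup G) R := by rw [heq]; simp [hZ, hS, hS']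
  obtain ⟨p, hp⟩ := this
  exact ⟨p, p.2, hp⟩

/-- The point with a given number. -/
def ptOf (e : ZMod 11 × Fin 2 ≃ Sylow 3 G) (n : ℕ) : Sylow 3 G :=
  e (((n / 2 : ℕ) : ZMod 11), if n % 2 = 0 then 0 else 1)

omit [Finite G] [Fact (Nat.Prime 3)] in
theorem ptOf_bij (e : ZMod 11 × Fin 2 ≃ Sylow 3 G) :
    (∀ m < 22, ∀ n < 22, ptOf e m = ptOf e n → m = n) ∧ ∀ R, ∃ n < 22, ptOf e n = R := by
  constructor
  · intro m hm n hn hmn
    have h1 := e.injective hmn
    have key : ∀ m < 22, ∀ n < 22,
        ((((m / 2 : ℕ) : ZMod 11), if m % 2 = 0 then (0 : Fin 2) else 1) =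
          (((n / 2 : ℕ) : ZMod 11), if n % 2 = 0 then (0 : Fin 2) else 1)) → m = n := by decide +kernel
    exact key m hm n hn h1
  · intro R
    have key : ∀ p : ZMod 11 × Fin 2, ∃ n < 22,
        (((n / 2 : ℕ) : ZMod 11), if n % 2 = 0 then (0 : Fin 2) else 1) = p := by decide +kernel
    obtain ⟨n, hn, hn'⟩ := key (e.symm R)
    exact ⟨n, hn, by rw [ptOf, hn', e.apply_symm_apply]⟩

omit [Finite G] [Fact (Nat.Prime 3)] in
theorem pc_eq (e : ZMod 11 × Fin 2 ≃ Sylow 3 G) {a : ℕ} (S : Finset (Sylow 3 G))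
    (h : ∀ n < 22, (a.testBit n = true ↔ ptOf e n ∈ S)) : Comb22.pc a = S.card := by
  classical
  have h1 : Comb22.pc a = ((Finset.range 22).filter fun n => a.testBit n = true).card := by
    simp [Comb22.pc, Finset.filter, Finset.card, Finset.range, Multiset.range]
  rw [h1]
  refine Finset.card_bij (fun n _ => ptOf e n) ?_ ?_ ?_
  · intro n hn
    rw [Finset.mem_filter, Finset.mem_range] at hn
    exact (h n hn.1).1 hn.2
  · intro m hm n hn hmn
    exact (ptOf_bij e).1 m (Finset.mem_range.1 (Finset.mem_filter.1 hm).1) n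
      (Finset.mem_range.1 (Finset.mem_filter.1 hn).1) hmn
  · intro R hR
    obtain ⟨n, hn, rfl⟩ := (ptOf_bij e).2 R
    exact ⟨n, Finset.mem_filter.2 ⟨Finset.mem_range.2 hn, (h n hn).2 hR⟩, rfl⟩

theorem no_big (h : Cfg G) (hbig : ∀ P : Sylow 3 G, Nat.card P ≠ 3) : False := by
  classical
  haveI := Fintype.ofFinite (Sylow 3 G)
  haveI := Fintype.ofFinite (Line G)
  haveI : Fact (Nat.Prime 11) := ⟨by norm_num⟩
  obtain ⟨hline, hfour, h12, htrans⟩ := structure_big h hbig
  -- large primes fix everything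
  have hlarge : ∀ (g : G) (q : ℕ), q.Prime → 5 ≤ q → orderOf g = q → ∀ P : Sylow 3 G, g • P ≠ P := by
    intro g q hq h5 hg P hP
    have hclosed : ∀ R : Sylow 3 G, g • R = R → ∀ S, Nb R S → g • S = S := by
      intro R hR S hS
      obtain ⟨hne, D, hRD, hSD⟩ := nb_iff.1 hS
      have hD : g • D = D := fixed_small hq hg (linesAt R) (fun E hE => by
        simp only [linesAt, Finset.mem_filter, Finset.mem_univ, true_and] at hE ⊢
        have := (inc_smul g).2 hE
        rwa [hR] at this) (by rw [hfour]; omega) D (by simp [linesAt, hRD])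
      exact fixed_small hq hg ((pts D).erase R) (fun T hT => by
        simp only [pts, Finset.mem_erase, Finset.mem_filter, Finset.mem_univ, true_and] at hT ⊢
        refine ⟨fun e => hT.1 (MulAction.injective g (e.trans hR.symm)), ?_⟩
        have := (inc_smul g).2 hT.2
        rwa [hD] at this) (by
          rw [Finset.card_erase_of_mem (by simp [pts, hRD]), hline]; omega) S
        (by simp [pts, hSD, hne.symm])
    set F := (Finset.univ : Finset (Sylow 3 G)).filter fun R => g • R = R with hF
    have hall : ∀ R, R ∈ F := by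
      intro R
      by_contra hR
      have h1 : insert P (nbs P) ⊆ F := by
        intro S hS
        rcases Finset.mem_insert.1 hS with rfl | hS
        · simp [hF, hP]
        · simp [hF, hclosed P hP S (by simpa [nbs] using hS)]
      have h2 : insert R (nbs R) ⊆ Fᶜ := by
        intro S hS
        rw [Finset.mem_compl]
        rcases Finset.mem_insert.1 hS with rfl | hS
        · exact hR
        · intro hSF
          exact hR (by simp [hF, hclosed S (by simpa [hF] using hSF) R (Nb.symm (by simpa [nbs] using hS))])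
      have c1 := Finset.card_le_card h1
      have c2 := Finset.card_le_card h2
      rw [Finset.card_insert_of_notMem (by simp [nbs, Nb]), h12] at c1 c2
      rw [Finset.card_compl, ← Nat.card_eq_fintype_card, h.card] at c2
      omega
    have hg1 : g = 1 := faithful h fun R => (Finset.mem_filter.1 (hall R)).2
    rw [hg1, orderOf_one] at hg
    exact hq.one_lt.ne' hg.symm
  obtain ⟨P₀⟩ : Nonempty (Sylow 3 G) := inferInstance
  set N := stabilizer G P₀ with hN
  have hG := card_eq h P₀
  have hNq : ∀ q, q.Prime → 5 ≤ q → ¬ q ∣ Nat.card N := by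
    intro q hq h5 hd
    haveI := Fact.mk hq
    obtain ⟨g, hg⟩ := exists_prime_orderOf_dvd_card' (G := N) q hd
    exact hlarge g q hq h5 (by rw [Subgroup.orderOf_coe]; exact hg) P₀ g.2
  have h121 : ¬ 11 ^ 2 ∣ Nat.card G := by
    rw [hG]
    intro hd
    refine hNq 11 (by norm_num) (by norm_num)
      ((Nat.Coprime.dvd_of_dvd_mul_left (by norm_num : Nat.Coprime 11 2)) ?_)
    rw [pow_two, show 22 * Nat.card N = 11 * (2 * Nat.card N) by ring] at hd
    exact Nat.dvd_of_mul_dvd_mul_left (by norm_num) hd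
  obtain ⟨u, hu⟩ := exists_prime_orderOf_dvd_card' (G := G) 11 (by rw [hG]; exact ⟨2 * Nat.card N, by ring⟩)
  have hu11 : u ^ 11 = 1 := hu ▸ pow_orderOf_eq_one u
  have hufix : ∀ P : Sylow 3 G, u • P ≠ P := hlarge u 11 (by norm_num) (by norm_num) hu
  obtain ⟨hd110, hgt, hinv2, -⟩ := normalizer_eleven h hu hufix h121
  obtain ⟨d, hd⟩ : 11 ∣ Nat.card (Subgroup.normalizer (Subgroup.zpowers u : Set G)) :=
    hu ▸ Subgroup.orderOf_dvd_natCard _ (Subgroup.le_normalizer (Subgroup.mem_zpowers u))
  have hd10 : d ∣ 10 := Nat.dvd_of_mul_dvd_mul_left (by norm_num : 0 < 11) (hd ▸ hd110)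
  have h5G : ¬ 5 ∣ Nat.card G := by
    rw [hG]
    intro hd5
    exact hNq 5 (by norm_num) le_rfl ((Nat.Coprime.dvd_of_dvd_mul_left (by norm_num : Nat.Coprime 5 22)) hd5)
  have h2N : 2 ∣ Nat.card (Subgroup.normalizer (Subgroup.zpowers u : Set G)) := by
    rw [hd]
    refine Dvd.dvd.mul_left ?_ _
    have hd1 : d ≠ 1 := fun e => by rw [hd, e] at hgt; omega
    have hd5 : ¬ 5 ∣ d := fun e => h5G
      ((hd ▸ Dvd.dvd.mul_left e 11).trans (Subgroup.card_subgroup_dvd_card _))
    have : d ≤ 10 := Nat.le_of_dvd (by norm_num) hd10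
    interval_cases d <;> omega
  haveI : Fact (Nat.Prime 2) := ⟨Nat.prime_two⟩
  obtain ⟨t, ht⟩ := exists_prime_orderOf_dvd_card' (G := Subgroup.normalizer (Subgroup.zpowers u : Set G)) 2 h2N
  have hto : orderOf (t : G) = 2 := by rw [Subgroup.orderOf_coe]; exact ht
  have htt : (t : G) * t = 1 := by rw [← pow_two, ← hto, pow_orderOf_eq_one]
  have htu := hinv2 t hto t.2
  -- the lines
  have hL22 : Nat.card (Line G) = 22 := by
    have := Finset.sum_card_bipartiteAbove_eq_sum_card_bipartiteBelow
      (fun (P : Sylow 3 G) (D : Line G) => Inc P D) (s := Finset.univ) (t := Finset.univ)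
    rw [Finset.sum_congr rfl fun (S : Sylow 3 G) _ => show ((Finset.univ : Finset (Line G)).bipartiteAbove
        (fun P D => Inc P D) S).card = 4 from hfour S,
      Finset.sum_congr rfl fun (D : Line G) _ => show ((Finset.univ : Finset (Sylow 3 G)).bipartiteBelow
        (fun P D => Inc P D) D).card = 4 from hline D,
      Finset.sum_const, Finset.sum_const, smul_eq_mul, smul_eq_mul, Finset.card_univ, Finset.card_univ,
      ← Nat.card_eq_fintype_card, ← Nat.card_eq_fintype_card, h.card] at this
    omega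
  have huL : ∀ D : Line G, u • D ≠ D := by
    intro D hD
    obtain ⟨R, hR⟩ : (pts D).Nonempty := by rw [← Finset.card_pos, hline]; norm_num
    exact hufix R (fixed_small (by norm_num : Nat.Prime 11) hu (pts D) (fun T hT => by
      simp only [pts, Finset.mem_filter, Finset.mem_univ, true_and] at hT ⊢
      have := (inc_smul u).2 hT
      rwa [hD] at this) (by rw [hline]; norm_num) R hR)
  obtain ⟨e, heu, het⟩ := coords h.card (fun g => sign_one h g) hu11 hufix htt htu
  obtain ⟨eL, heLu, heLt⟩ := coords hL22 (fun g => sign_one h g) hu11 huL htt htu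
  -- encoded base lines
  let f : Fin 2 → ℕ → Bool := fun a n => decide (Inc (ptOf e n) (eL (0, a)))
  let A : Fin 2 → ℕ := fun a => Comb22.mask (f a) 22
  have hA : ∀ a, ∀ n < 22, ((A a).testBit n = true ↔ Inc (ptOf e n) (eL (0, a))) := by
    intro a n hn
    simp [A, f, Comb22.testBit_mask, hn]
  have htr : ∀ a, ∀ k < 11, ∀ n < 22,
      ((Comb22.tr (A a) k).testBit n = true ↔ Inc (ptOf e n) (eL ((k : ℕ) , a))) := by
    intro a k hk n hn
    obtain ⟨h1, h2, h3⟩ := sh_spec k hk n hn
    rw [show (Comb22.tr (A a) k).testBit n = (A a).testBit (Comb22.sh k n) by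
      simp [Comb22.tr, Comb22.testBit_mask, hn], hA a _ h1, ← inc_smul (pw u (k : ZMod 11)), heLu, add_zero]
    have : pw u (k : ZMod 11) • ptOf e (Comb22.sh k n) = ptOf e n := by
      rw [ptOf, heu, h2, h3, ptOf]
    rw [this]
  have hsym : ∀ a, ∀ n < 22, f a (Comb22.rep n) = f a n := by
    intro a n hn
    rcases rep_spec n hn with h1 | ⟨h1, h2⟩
    · rw [h1]
    · have hpt : ptOf e (Comb22.rep n) = (t : G) • ptOf e n := by
        rw [ptOf, ptOf, het, h1, h2]
      have hLt : (t : G) • eL (0, a) = eL (0, a) := by rw [heLt, neg_zero]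
      have h4 : Inc (ptOf e (Comb22.rep n)) (eL (0, a)) ↔ Inc (ptOf e n) (eL (0, a)) := by
        conv_lhs => rw [hpt, ← hLt]
        exact inc_smul _
      simp only [f, h4]
  have hpt_k : ∀ a, ∀ k < 11, Comb22.pc (Comb22.tr (A a) k) = 4 := fun a k hk => by
    rw [pc_eq e (pts (eL ((k : ℕ), a))) (fun n hn => by rw [htr a k hk n hn]; simp [pts]), hline]
  have hmem : ∀ a, A a ∈ ((List.range 4096).map Comb22.expand).filter fun x => decide (Comb22.pc x = 4) := by
    intro a
    refine List.mem_filter.2 ⟨List.mem_map.2 ⟨Comb22.mask (f a) 12, ?_, ?_⟩, ?_⟩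
    · rw [List.mem_range]
      exact Comb22.mask_lt _ _
    · refine Nat.eq_of_testBit_eq fun i => ?_
      simp only [Comb22.expand, A, Comb22.testBit_mask]
      by_cases hi : i < 22
      · simp [hi, rep_lt i hi, hsym a i hi]
      · simp [hi]
    · rw [decide_eq_true_iff, pc_eq e (pts (eL (0, a))) (fun n hn => by rw [hA a n hn]; simp [pts]), hline]
  have hmeet : ∀ a b : Fin 2, ∀ k : ℕ, k < 11 → ((k : ZMod 11), b) ≠ (0, a) →
      Comb22.pc (A a &&& Comb22.tr (A b) k) ≤ 1 := by
    intro a b k hk hne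
    rw [pc_eq e (pts (eL (0, a)) ∩ pts (eL ((k : ℕ), b))) (fun n hn => by
      rw [Nat.testBit_land, Bool.and_eq_true, hA a n hn, htr b k hk n hn]; simp [pts])]
    rw [Finset.card_le_one]
    intro P hP R hR
    by_contra hPR
    simp only [pts, Finset.mem_inter, Finset.mem_filter, Finset.mem_univ, true_and] at hP hR
    exact hne (eL.injective (line_eq hPR hP.1 hR.1 hP.2 hR.2)).symm
  have hnbhd : ∀ x < 22, ∀ n < 22,
      ((Comb22.nbhd (A 0) (A 1) x).testBit n = true ↔ Nb (ptOf e x) (ptOf e n)) := by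
    intro x hx n hn
    rw [nb_iff]
    simp only [Comb22.nbhd, Comb22.testBit_mask, hn, decide_true, Bool.true_and, Bool.and_eq_true,
      decide_eq_true_eq, List.any_eq_true, List.mem_range, Bool.or_eq_true]
    constructor
    · rintro ⟨hne, k, hk, hh⟩
      refine ⟨fun e' => hne ((ptOf_bij e).1 n hn x hx e'.symm), ?_⟩
      rcases hh with ⟨h1, h2⟩ | ⟨h1, h2⟩
      · exact ⟨_, (htr 0 k hk x hx).1 h1, (htr 0 k hk n hn).1 h2⟩
      · exact ⟨_, (htr 1 k hk x hx).1 h1, (htr 1 k hk n hn).1 h2⟩
    · rintro ⟨hne, D, h1, h2⟩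
      refine ⟨fun e' => hne (by rw [e']), ?_⟩
      obtain ⟨⟨k, a⟩, rfl⟩ := eL.surjective D
      refine ⟨k.val, ZMod.val_lt k, ?_⟩
      rw [← ZMod.natCast_zmod_val k] at h1 h2
      fin_cases a
      · exact Or.inl ⟨(htr 0 _ (ZMod.val_lt k) x hx).2 h1, (htr 0 _ (ZMod.val_lt k) n hn).2 h2⟩
      · exact Or.inr ⟨(htr 1 _ (ZMod.val_lt k) x hx).2 h1, (htr 1 _ (ZMod.val_lt k) n hn).2 h2⟩
  -- apply the finite check
  have hc0 : ∀ a, A a ∈ Comb22.cands := by
    intro a
    refine List.mem_filter.2 ⟨hmem a, ?_⟩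
    rw [Bool.not_eq_true', ← Bool.not_eq_true]
    intro hh
    simp only [Comb22.meetBad, List.any_eq_true, List.mem_range, Bool.and_eq_true, decide_eq_true_eq] at hh
    obtain ⟨k, hk, hk1, hk2⟩ := hh
    have := hmeet a a k hk (by
      intro e'
      have := (ZMod.natCast_eq_zero_iff k 11).1 (congrArg Prod.fst e')
      have := Nat.le_of_dvd (by omega) this
      omega)
    omega
  have hcheck := Comb22.no_config
  rw [List.all_eq_true] at hcheck
  have hcheck2 := hcheck _ (hc0 0)
  rw [List.all_eq_true] at hcheck2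
  have hcheck3 := hcheck2 _ (hc0 1)
  rw [Bool.or_eq_true] at hcheck3
  rcases hcheck3 with hh | hh
  · simp only [Comb22.meetBad, List.any_eq_true, List.mem_range, Bool.and_eq_true, decide_eq_true_eq] at hh
    obtain ⟨k, hk, -, hk2⟩ := hh
    have := hmeet 0 1 k hk (by simp)
    omega
  · rw [Bool.not_eq_true'] at hh
    refine Bool.false_ne_true (hh.symm.trans ?_)
    simp only [Comb22.muConst, List.all_eq_true, List.mem_map, List.mem_filter, List.mem_range,
      Bool.and_eq_true, decide_eq_true_eq, Bool.not_eq_true', forall_exists_index, and_imp]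
    intro c z hz hz0 hz1 hc c' z' hz' hz0' hz1' hc'
    rw [← hc, ← hc']
    have hcount : ∀ z < 22, Comb22.pc (Comb22.nbhd (A 0) (A 1) 0 &&& Comb22.nbhd (A 0) (A 1) z) =
        (nbs (ptOf e 0) ∩ nbs (ptOf e z)).card := fun z hz =>
      pc_eq e _ (fun n hn => by
        rw [Nat.testBit_land, Bool.and_eq_true, hnbhd 0 (by norm_num) n hn, hnbhd z hz n hn]
        simp [nbs])
    rw [hcount z hz, hcount z' hz']
    have hnot : ∀ z < 22, z ≠ 0 → (Comb22.nbhd (A 0) (A 1) 0).testBit z = false →
        ptOf e z ≠ ptOf e 0 ∧ ¬ Nb (ptOf e 0) (ptOf e z) := fun z hz hz0 hz1 =>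
      ⟨fun e' => hz0 ((ptOf_bij e).1 z hz 0 (by norm_num) e'), fun hnb => by
        rw [(hnbhd 0 (by norm_num) z hz).2 hnb] at hz1; exact Bool.noConfusion hz1⟩
    obtain ⟨a1, a2⟩ := hnot z hz hz0 hz1
    obtain ⟨b1, b2⟩ := hnot z' hz' hz0' hz1'
    obtain ⟨p, hp, hpz⟩ := htrans _ _ _ a1 a2 b1 b2
    have hp0 : p • ptOf e 0 = ptOf e 0 := smul_eq_self_of_mem hp
    refine Finset.card_equiv (MulAction.toPerm p) fun R => ?_
    simp only [nbs, Finset.mem_inter, Finset.mem_filter, Finset.mem_univ, true_and, MulAction.toPerm_apply]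
    constructor
    · rintro ⟨h1, h2⟩
      refine ⟨?_, ?_⟩
      · have := h1.smul p; rwa [hp0] at this
      · have := h2.smul p; rwa [hpz] at this
    · rintro ⟨h1, h2⟩
      refine ⟨?_, ?_⟩
      · have := h1.smul p⁻¹
        rwa [inv_smul_smul, inv_smul_eq_iff.2 hp0.symm] at this
      · have := h2.smul p⁻¹
        rwa [inv_smul_smul, inv_smul_eq_iff.2 hpz.symm] at this

end Cfsg.Agent.Perm.TwentyTwo
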