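import Mathlib

/-!
A doubly transitive group and an automorphism `α` of odd order: when the image of a point stabiliser
has an orbit of length prime to the degree, it fixes a point, so `α` is induced by a permutation.

The orbit gives an incidence matrix `M` intertwining the action with its twist by `α`; its power
`M ^ orderOf α` commutes with the group, which forces the orbit length to be `1` or `n - 1`.
-/

set_option autoImplicit false
set_option linter.style.haveILetI false
set_option linter.unusedSectionVars false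

namespace Cfsg.Agent.Perm.TwistedOrbit

open MulAction Matrix

universe u w

variable {G : Type u} [Group G] {Ω : Type w} [Fintype Ω] [DecidableEq Ω] [MulAction G Ω]

/-- Intertwining of the action with its twist by `β`. -/
def Inv (β : G → G) (X : Matrix Ω Ω ℤ) : Prop := ∀ h : G, ∀ u v : Ω, X (β h • u) (h • v) = X u v

theorem Inv.mul {β γ : G → G} {X Y : Matrix Ω Ω ℤ} (hX : Inv β X) (hY : Inv γ Y) :
    Inv (β ∘ γ) (X * Y) := by
  intro h u v
  rw [Matrix.mul_apply, Matrix.mul_apply]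
  refine (Fintype.sum_equiv (MulAction.toPerm (γ h)) (fun w => X u w * Y w v)
    (fun w => X ((β ∘ γ) h • u) w * Y w (h • v)) fun w => ?_).symm
  show _ = X (β (γ h) • u) (γ h • w) * Y (γ h • w) (h • v)
  rw [hX, hY]

theorem two_valued (h2 : IsMultiplyPretransitive G Ω 2) {X : Matrix Ω Ω ℤ} (hX : Inv (id : G → G) X) {a b : Ω}
    (hab : a ≠ b) : ∀ u v : Ω, X u v = if u = v then X a a else X a b := by
  haveI := h2
  intro u v
  haveI : IsPretransitive G Ω := isPretransitive_of_is_two_pretransitive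
  split
  · next h =>
    subst h
    obtain ⟨g, rfl⟩ := MulAction.exists_smul_eq G a u
    exact hX g a a
  · next h =>
    obtain ⟨g, hg, hg'⟩ := MulAction.is_two_pretransitive_iff.1 h2 hab h
    rw [← hg, ← hg']
    exact hX g a b

/-- The all-ones matrix. -/
def J (Ω : Type w) : Matrix Ω Ω ℤ := Matrix.of fun _ _ => 1

theorem J_mul_J : J Ω * J Ω = (Fintype.card Ω : ℤ) • J Ω := by
  ext i j; simp [J, Matrix.mul_apply]

theorem arith {n k lam : ℕ} {t : ℤ} {r : ℕ} {u : ℤ} (hr : Odd r) (hk0 : 0 < k) (hkn : k < n)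
    (hcop : k.Coprime n) (h1 : (k : ℤ) ^ 2 = t ^ 2 + lam * n) (h2 : (k : ℤ) = t ^ 2 + lam)
    (ht : 0 < t) (h3 : u = t ^ r ∨ u = -t ^ r) (h4 : (n : ℤ) ∣ (k : ℤ) ^ r - u) :
    k = 1 ∨ k + 1 = n := by
  obtain ⟨j, rfl⟩ := hr
  have hmod : (n : ℤ) ∣ (k : ℤ) ^ 2 - t ^ 2 := ⟨lam, by rw [h1]; ring⟩
  have hj : (n : ℤ) ∣ ((k : ℤ) ^ 2) ^ j - (t ^ 2) ^ j := hmod.trans (sub_dvd_pow_sub_pow _ _ j)
  have hcop' : IsCoprime (n : ℤ) (((k : ℤ) ^ 2) ^ j) :=
    ((Nat.isCoprime_iff_coprime.2 hcop.symm).pow_right).pow_right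
  have hd : (n : ℤ) ∣ (k : ℤ) - t ∨ (n : ℤ) ∣ (k : ℤ) + t := by
    rcases h3 with rfl | rfl
    · left
      refine hcop'.dvd_of_dvd_mul_left ?_
      have := h4.sub (hj.mul_left t)
      convert this using 1
      ring
    · right
      refine hcop'.dvd_of_dvd_mul_left ?_
      have := h4.add (hj.mul_left t)
      convert this using 1
      ring
  have htk : t ≤ (k : ℤ) := by nlinarith
  rcases hd with hd | hd
  · left
    have h0 : (k : ℤ) - t = 0 := Int.eq_zero_of_dvd_of_nonneg_of_lt (show (0 : ℤ) ≤ (k : ℤ) - t by linarith)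
      (show (k : ℤ) - t < (n : ℤ) by omega) hd
    have ht1 : t = 1 := by nlinarith
    omega
  · right
    obtain ⟨c, hc⟩ := hd
    have hc0 : 0 < c := by
      rcases lt_or_ge 0 c with h | h
      · exact h
      · exfalso; nlinarith
    have hc2 : c < 2 := by
      by_contra h
      rw [not_lt] at h
      nlinarith
    obtain rfl : c = 1 := by omega
    rw [mul_one] at hc
    have hlam : (lam : ℤ) = k - t ^ 2 := by linarith
    rw [hlam, ← hc] at h1
    have h5 : ((k : ℤ) + t) * (t * (t - 1)) = 0 := by linear_combination h1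
    rcases mul_eq_zero.1 h5 with h6 | h6
    · omega
    rcases mul_eq_zero.1 h6 with h6 | h6
    · omega
    · omega

variable [Finite G]

/-- The image of a point stabiliser with an orbit of length prime to the degree fixes a point. -/
theorem main (h2 : IsMultiplyPretransitive G Ω 2) (o : Ω) (α : MulAut G) (hα : Odd (orderOf α))
    (ω : Ω) (hk : (Nat.card (orbit ((stabilizer G o).map α.toMonoidHom) ω)).Coprime (Fintype.card Ω)) :
    ∃ x : Ω, (stabilizer G o).map α.toMonoidHom = stabilizer G x ∧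
      (Nat.card (orbit ((stabilizer G o).map α.toMonoidHom) ω) = 1 ∨
        Nat.card (orbit ((stabilizer G o).map α.toMonoidHom) ω) = Fintype.card Ω - 1) := by
  classical
  haveI := h2
  haveI hpre : IsPretransitive G Ω := isPretransitive_of_is_two_pretransitive
  set K := (stabilizer G o).map α.toMonoidHom with hK
  set Δ := orbit K ω with hΔ
  set k := Nat.card Δ with hkdef
  set n := Fintype.card Ω with hn
  have hΔinv : ∀ g ∈ K, ∀ u, g • u ∈ Δ ↔ u ∈ Δ := by
    intro g hg u
    refine ⟨fun h => ?_, fun h => mem_orbit_of_mem_orbit (⟨g, hg⟩ : K) h⟩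
    have := mem_orbit_of_mem_orbit (⟨g, hg⟩⁻¹ : K) h
    rwa [Subgroup.smul_def, InvMemClass.coe_inv, inv_smul_smul] at this
  -- a subgroup fixing a point is that stabiliser
  have hfix : ∀ x : Ω, (∀ g ∈ K, g • x = x) → K = stabilizer G x := by
    intro x hx
    refine Subgroup.eq_of_le_of_card_ge (fun g hg => hx g hg) ?_
    rw [hK, Nat.card_congr ((stabilizer G o).equivMapOfInjective α.toMonoidHom α.injective).toEquiv.symm]
    have e : ∀ y : Ω, Nat.card (stabilizer G y) * n = Nat.card G := fun y => by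
      rw [hn, ← Nat.card_eq_fintype_card, ← index_stabilizer_of_transitive G y, Subgroup.card_mul_index]
    exact (Nat.eq_of_mul_eq_mul_right (Fintype.card_pos_iff.2 ⟨o⟩) ((e x).trans (e o).symm)).le
  have hk1 : k = 1 → ∃ x, K = stabilizer G x := fun h => ⟨ω, hfix ω fun g hg => by
    haveI : Subsingleton Δ := (Nat.card_eq_one_iff_unique.1 h).1
    exact congrArg Subtype.val (Subsingleton.elim (⟨g • ω, (hΔinv g hg ω).2 (mem_orbit_self ω)⟩ : Δ) ⟨ω, mem_orbit_self ω⟩)⟩
  by_cases hk1' : k = 1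
  · obtain ⟨x, hx⟩ := hk1 hk1'
    exact ⟨x, hx, Or.inl hk1'⟩
  have hk0 : 0 < k := Nat.card_pos_iff.2 ⟨⟨⟨ω, mem_orbit_self ω⟩⟩, inferInstance⟩
  have hkle : k ≤ n := by
    rw [hkdef, hn, ← Nat.card_eq_fintype_card]
    exact Nat.card_le_card_of_injective _ Subtype.val_injective
  have hkn : k < n := by
    refine lt_of_le_of_ne hkle fun h => hk1' ?_
    rw [h] at hk ⊢
    exact (Nat.coprime_self n).1 hk
  -- the incidence matrix
  set M : Matrix Ω Ω ℤ := Matrix.of fun u v =>
    if ∃ g : G, g • o = v ∧ (α g)⁻¹ • u ∈ Δ then 1 else 0 with hM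
  have hMinv : Inv (α : G → G) M := by
    intro h u v
    show (if ∃ g : G, g • o = h • v ∧ (α g)⁻¹ • α h • u ∈ Δ then (1 : ℤ) else 0) = if _ then _ else _
    refine if_congr ⟨?_, ?_⟩ rfl rfl
    · rintro ⟨g, hg, hg'⟩
      refine ⟨h⁻¹ * g, by rw [mul_smul, hg, inv_smul_smul], ?_⟩
      rwa [map_mul, map_inv, _root_.mul_inv_rev, inv_inv, mul_smul]
    · rintro ⟨g, hg, hg'⟩
      refine ⟨h * g, by rw [mul_smul, hg], ?_⟩
      rwa [map_mul, _root_.mul_inv_rev, mul_smul, inv_smul_smul]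
  have hMo : ∀ u, M u o = if u ∈ Δ then 1 else 0 := by
    intro u
    refine if_congr ⟨?_, fun h => ⟨1, one_smul G o, by rwa [map_one, inv_one, one_smul]⟩⟩ rfl rfl
    rintro ⟨g, hg, hg'⟩
    exact (hΔinv _ (inv_mem (Subgroup.mem_map.2 ⟨g, hg, rfl⟩ : α g ∈ K)) u).1 hg'
  have hcol : ∀ v, ∑ u, M u v = (k : ℤ) := by
    intro v
    obtain ⟨g, rfl⟩ := MulAction.exists_smul_eq G o v
    rw [← Fintype.sum_equiv (MulAction.toPerm (α g)) (fun u => M u o) (fun u => M u (g • o))
      fun u => (hMinv g u o).symm]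
    simp only [hMo]
    rw [Finset.sum_boole, hkdef, Nat.card_eq_fintype_card, Fintype.card_subtype]
  have hrow : ∀ u, ∑ v, M u v = (k : ℤ) := by
    have hc : ∀ u, ∑ v, M u v = ∑ v, M o v := by
      intro u
      obtain ⟨g, rfl⟩ := MulAction.exists_smul_eq G o u
      obtain ⟨g, rfl⟩ := α.surjective g
      exact (Fintype.sum_equiv (MulAction.toPerm g) (fun v => M o v) (fun v => M (α g • o) v)
        fun v => (hMinv g o v).symm).symm
    intro u
    have htot : ∑ u : Ω, ∑ v, M u v = ∑ v : Ω, ∑ u, M u v := Finset.sum_comm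
    simp only [hc, hcol, Finset.sum_const, Finset.card_univ, nsmul_eq_mul] at htot
    rw [hc]
    exact mul_left_cancel₀ (Nat.cast_ne_zero.2 (by omega)) htot
  have hJM : J Ω * M = (k : ℤ) • J Ω := by
    ext i j; simp [J, Matrix.mul_apply, hcol]
  have hMJ : M * J Ω = (k : ℤ) • J Ω := by
    ext i j; simp [J, Matrix.mul_apply, hrow]
  have hMTJ : Mᵀ * J Ω = (k : ℤ) • J Ω := by
    ext i j; simp [J, Matrix.mul_apply, hcol]
  -- another point, and the overlap of two columns
  obtain ⟨b, hb⟩ := Fintype.exists_ne_of_one_lt_card (show 1 < n by omega) o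
  have hX : Inv (id : G → G) (Mᵀ * M) := by
    intro h u v
    rw [Matrix.mul_apply, Matrix.mul_apply]
    refine (Fintype.sum_equiv (MulAction.toPerm (α h)) (fun w => Mᵀ u w * M w v)
      (fun w => Mᵀ (id h • u) w * M w (h • v)) fun w => ?_).symm
    show _ = M (α h • w) (h • u) * M (α h • w) (h • v)
    rw [hMinv, hMinv]
    rfl
  obtain ⟨lam, hlam⟩ : ∃ lam : ℕ, (Mᵀ * M) o b = lam := by
    refine ⟨((Mᵀ * M) o b).toNat, (Int.toNat_of_nonneg ?_).symm⟩
    rw [Matrix.mul_apply]
    refine Finset.sum_nonneg fun w _ => mul_nonneg ?_ ?_ <;>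
      simp only [hM, Matrix.transpose_apply, Matrix.of_apply] <;> split <;> norm_num
  have hdiag : (Mᵀ * M) o o = k := by
    rw [Matrix.mul_apply, ← hcol o]
    refine Finset.sum_congr rfl fun w _ => ?_
    rw [Matrix.transpose_apply]
    simp only [hM, Matrix.of_apply]
    split <;> norm_num
  set s : ℤ := (k : ℤ) - lam with hs
  have hMM : Mᵀ * M = s • (1 : Matrix Ω Ω ℤ) + (lam : ℤ) • J Ω := by
    ext i j
    rw [two_valued h2 hX hb.symm i j, hdiag, hlam]
    simp only [J, Matrix.add_apply, Matrix.smul_apply, Matrix.one_apply, Matrix.of_apply, smul_eq_mul]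
    split <;> simp [hs]
  have hsum : (k : ℤ) ^ 2 = s + lam * n := by
    have h := congrArg (fun X : Matrix Ω Ω ℤ => (X * J Ω) o o) hMM
    simp only [Matrix.mul_assoc, hMJ, Matrix.mul_smul, hMTJ, Matrix.add_mul, Matrix.smul_mul,
      Matrix.one_mul, J_mul_J] at h
    simp [J] at h
    linear_combination h
  -- powers
  have hpow : ∀ i : ℕ, Inv (⇑(α ^ i)) (M ^ i) ∧ (∀ u v, 0 ≤ (M ^ i) u v) ∧
      J Ω * M ^ i = ((k : ℤ) ^ i) • J Ω ∧
      ∃ c : ℤ, (M ^ i)ᵀ * M ^ i = s ^ i • (1 : Matrix Ω Ω ℤ) + c • J Ω := by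
    intro i
    induction i with
    | zero =>
      refine ⟨fun h u v => ?_, fun u v => ?_, by simp, 0, by simp⟩
      · simp only [pow_zero, MulAut.one_apply, Matrix.one_apply]
        exact if_congr (smul_left_cancel_iff h) rfl rfl
      · simp only [pow_zero, Matrix.one_apply]; split <;> norm_num
    | succ i ih =>
      obtain ⟨h1, h2', h3, c, h4⟩ := ih
      refine ⟨?_, fun u v => ?_, ?_, s ^ i * lam + c * k * k, ?_⟩
      · have h5 := h1.mul hMinv
        rwa [← pow_succ, show (⇑(α ^ i) ∘ ⇑α) = ⇑(α ^ (i + 1)) from by rw [pow_succ]; rfl] at h5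
      · rw [pow_succ, Matrix.mul_apply]
        refine Finset.sum_nonneg fun w _ => mul_nonneg (h2' u w) ?_
        simp only [hM, Matrix.of_apply]
        split <;> norm_num
      · rw [pow_succ, ← Matrix.mul_assoc, h3, Matrix.smul_mul, hJM, smul_smul, ← pow_succ]
      · rw [pow_succ, Matrix.transpose_mul, Matrix.mul_assoc, ← Matrix.mul_assoc (M ^ i)ᵀ, h4,
          Matrix.add_mul, Matrix.mul_add, Matrix.smul_mul, Matrix.one_mul, Matrix.mul_smul, hMM,
          Matrix.smul_mul, Matrix.mul_smul, hJM, Matrix.mul_smul, hMTJ]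
        simp only [smul_add, smul_smul]
        rw [add_assoc, ← add_smul, pow_succ]
        congr 2
        ring
  obtain ⟨r, hr⟩ : ∃ r, orderOf α = r := ⟨_, rfl⟩
  rw [hr] at hα
  obtain ⟨hInv, hpos, hJ, c, hc⟩ := hpow r
  rw [show (⇑(α ^ r) : G → G) = id from by rw [← hr, pow_orderOf_eq_one]; rfl] at hInv
  set u : ℤ := (M ^ r) o o - (M ^ r) o b with hu
  set v : ℤ := (M ^ r) o b with hv
  have hMr : M ^ r = u • (1 : Matrix Ω Ω ℤ) + v • J Ω := by
    ext i j
    rw [two_valued h2 hInv hb.symm i j]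
    simp only [J, Matrix.add_apply, Matrix.smul_apply, Matrix.one_apply, Matrix.of_apply, smul_eq_mul]
    split <;> simp [hu, hv]
  have hu2 : u ^ 2 = s ^ r := by
    have h := congrArg (fun X : Matrix Ω Ω ℤ => X o o - X o b) hc
    rw [hMr] at h
    simp only [Matrix.transpose_add, Matrix.transpose_smul, Matrix.transpose_one,
      show (J Ω)ᵀ = J Ω from rfl, Matrix.add_mul, Matrix.mul_add, Matrix.smul_mul, Matrix.mul_smul,
      Matrix.one_mul, Matrix.mul_one, J_mul_J] at h
    simp only [Matrix.add_apply, Matrix.smul_apply, Matrix.one_apply, if_neg hb.symm, if_true, J,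
      Matrix.of_apply, smul_eq_mul] at h
    linear_combination h
  have hdvd : (n : ℤ) ∣ (k : ℤ) ^ r - u := by
    refine ⟨v, ?_⟩
    have h := congrArg (fun X : Matrix Ω Ω ℤ => X o o) hJ
    rw [hMr] at h
    simp only [Matrix.mul_add, Matrix.mul_smul, Matrix.mul_one, J_mul_J] at h
    simp [J] at h
    linear_combination -h
  have hs0 : 0 ≤ s := by
    by_contra hneg
    have h1 : s ^ r < 0 := hα.pow_neg (not_le.1 hneg)
    nlinarith [hu2, sq_nonneg u]
  have hs1 : s ≠ 0 := by
    intro h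
    have hlk : (lam : ℤ) = k := by rw [hs] at h; linarith
    rw [h, hlk, zero_add, pow_two] at hsum
    have : k = n := by exact_mod_cast mul_left_cancel₀ (Nat.cast_ne_zero.2 (by omega)) hsum
    omega
  obtain ⟨j, hj⟩ := hα
  obtain ⟨t₀, ht₀⟩ : s ^ j ∣ u := by
    rw [← Int.pow_dvd_pow_iff (n := 2) two_ne_zero, hu2, hj, ← pow_mul, mul_comm j 2]
    exact ⟨s, pow_succ s (2 * j)⟩
  have hst : t₀ ^ 2 = s := by
    rw [ht₀, hj, mul_pow, ← pow_mul, mul_comm j 2, pow_succ s] at hu2
    exact mul_left_cancel₀ (pow_ne_zero _ hs1) hu2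
  have hlast : k = 1 ∨ k + 1 = n := by
    refine arith (lam := lam) (t := |t₀|) (r := r) (u := u) ⟨j, hj⟩ hk0 hkn hk
      (by rw [sq_abs, hst]; exact hsum) (by rw [sq_abs, hst, hs]; ring) ?_ ?_ hdvd
    · exact abs_pos.2 fun h => hs1 (by rw [← hst, h]; ring)
    · have : (u) ^ 2 = (|t₀| ^ r) ^ 2 := by rw [hu2, ← pow_mul, mul_comm r 2, pow_mul, sq_abs, hst]
      exact sq_eq_sq_iff_eq_or_eq_neg.1 this
  rcases hlast with h | h
  · exact absurd h hk1'
  obtain ⟨x, hx⟩ : ∃ x, Δᶜ = ({x} : Set Ω) := by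
    rw [← Set.ncard_eq_one, Set.ncard_compl, ← Nat.card_coe_set_eq, Nat.card_eq_fintype_card (α := Ω),
      ← hkdef, ← hn]
    omega
  refine ⟨x, hfix x fun g hg => ?_, Or.inr (by omega)⟩
  have h1 : x ∈ Δᶜ := by rw [hx]; exact Set.mem_singleton x
  have h2 : g • x ∈ Δᶜ := fun h => h1 ((hΔinv g hg x).1 h)
  rwa [hx, Set.mem_singleton_iff] at h2

omit [DecidableEq Ω] in
/-- An automorphism mapping a point stabiliser to a point stabiliser is induced by a permutation. -/
theorem exists_perm {G : Subgroup (Equiv.Perm Ω)} [IsPretransitive G Ω] {o x : Ω} {α : MulAut G}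
    (h : (stabilizer G o).map α.toMonoidHom = stabilizer G x) :
    ∃ σ : Equiv.Perm Ω, σ ∈ Subgroup.normalizer (G : Set (Equiv.Perm Ω)) ∧
      ∀ g : G, ((α g : G) : Equiv.Perm Ω) = σ * (g : Equiv.Perm Ω) * σ⁻¹ := by
  have hst : ∀ g : G, g • o = o ↔ α g • x = x := fun g => by
    rw [← mem_stabilizer_iff, ← mem_stabilizer_iff, ← h]
    exact (Subgroup.mem_map_iff_mem α.injective).symm
  choose sec hsec using fun v : Ω => MulAction.exists_smul_eq G o v
  let f : Ω → Ω := fun v => α (sec v) • x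
  have hf : ∀ g : G, f (g • o) = α g • x := fun g => by
    show α (sec (g • o)) • x = α g • x
    rw [← inv_smul_eq_iff, ← mul_smul, ← map_inv, ← map_mul, ← hst, mul_smul, hsec, inv_smul_smul]
  have hinj : Function.Injective f := by
    intro a b hab
    obtain ⟨g, rfl⟩ := MulAction.exists_smul_eq G o a
    obtain ⟨g', rfl⟩ := MulAction.exists_smul_eq G o b
    rw [hf, hf, ← inv_smul_eq_iff, ← mul_smul, ← map_inv, ← map_mul, ← hst, mul_smul,
      inv_smul_eq_iff] at hab
    exact hab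
  let σ : Equiv.Perm Ω := Equiv.ofBijective f ⟨hinj, Finite.surjective_of_injective hinj⟩
  have hσ : ∀ g : G, ((α g : G) : Equiv.Perm Ω) = σ * (g : Equiv.Perm Ω) * σ⁻¹ := by
    intro g
    rw [eq_mul_inv_iff_mul_eq]
    refine Equiv.ext fun v => ?_
    obtain ⟨g', rfl⟩ := MulAction.exists_smul_eq G o v
    show (α g : G) • f (g' • o) = f (g • g' • o)
    rw [hf, ← mul_smul g, hf, map_mul, mul_smul]
  refine ⟨σ, Subgroup.mem_normalizer_iff.2 fun y => ⟨fun hy => ?_, fun hy => ?_⟩, hσ⟩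
  · rw [← hσ ⟨y, hy⟩]; exact (α ⟨y, hy⟩).2
  · have h1 := hσ (α.symm ⟨_, hy⟩)
    rw [α.apply_symm_apply] at h1
    have h2 : y = ((α.symm ⟨_, hy⟩ : G) : Equiv.Perm Ω) := mul_left_cancel (mul_right_cancel h1)
    rw [h2]
    exact Subtype.coe_prop _

end Cfsg.Agent.Perm.TwistedOrbit
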