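import Mathlib

/-!
# Unipotent endomorphisms of an elementary abelian p-group
-/

set_option autoImplicit false

namespace Cfsg.Agent.Perm.UnipotentBound

theorem pow_and_geom_sum {p m r k : ℕ} [Fact p.Prime] {A : Type*} [AddCommGroup A] [Module (ZMod p) A]
    [Finite A] (hA : Nat.card A = p ^ m) (L : Module.End (ZMod p) A) (hL : L ^ p ^ r = 1) (hk : m < p ^ k) :
    L ^ p ^ k = 1 ∧ (∑ i ∈ Finset.range (p ^ k), L ^ i) = 0 := by
  have hp : p.Prime := Fact.out
  have hsub : ∀ j : ℕ, (L - 1) ^ p ^ j = L ^ p ^ j - 1 := by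
    intro j
    have := congrArg (Polynomial.aeval L)
      (sub_pow_char_pow (p := p) (n := j) (Polynomial.X : Polynomial (ZMod p)) 1)
    simpa using this
  have hnil : IsNilpotent (L - 1) := ⟨p ^ r, by rw [hsub, hL, sub_self]⟩
  have hrank : Module.finrank (ZMod p) A = m := by
    have h := Module.natCard_eq_pow_finrank (K := ZMod p) (V := A)
    rw [Nat.card_zmod, hA] at h
    exact (Nat.pow_right_injective hp.two_le h).symm
  have hm0 : (L - 1) ^ m = 0 := by
    have h := LinearMap.aeval_self_charpoly (L - 1)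
    rw [IsNilpotent.charpoly_eq_X_pow_finrank hnil, map_pow, Polynomial.aeval_X, hrank] at h
    exact h
  have hbig : ∀ j, m ≤ j → (L - 1) ^ j = 0 := fun j hj => by
    rw [← Nat.sub_add_cancel hj, pow_add, hm0, mul_zero]
  constructor
  · have := hsub k
    rw [hbig _ (by omega)] at this
    exact sub_eq_zero.1 this.symm
  · have hpoly : (∑ i ∈ Finset.range (p ^ k), (Polynomial.X : Polynomial (ZMod p)) ^ i) =
        (Polynomial.X - 1) ^ (p ^ k - 1) := by
      apply mul_right_cancel₀ (b := (Polynomial.X : Polynomial (ZMod p)) - 1)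
        (by simpa using Polynomial.X_sub_C_ne_zero (1 : ZMod p))
      rw [geom_sum_mul, ← pow_succ, Nat.sub_add_cancel (by omega), sub_pow_char_pow, one_pow]
    have := congrArg (Polynomial.aeval L) hpoly
    simp only [map_sum, map_pow, Polynomial.aeval_X, map_sub, map_one] at this
    rw [this, hbig _ (by omega)]

theorem iterate_and_sum {p m r k : ℕ} [Fact p.Prime] {A : Type*} [AddCommGroup A] [Finite A]
    (hexp : ∀ x : A, p • x = 0) (hA : Nat.card A = p ^ m) (f : A →+ A)
    (hf : ∀ x : A, f^[p ^ r] x = x) (hk : m < p ^ k) (x : A) :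
    f^[p ^ k] x = x ∧ (∑ i ∈ Finset.range (p ^ k), f^[i] x) = 0 := by
  have : Module (ZMod p) A := AddCommGroup.zmodModule hexp
  let L : Module.End (ZMod p) A := f.toZModLinearMap p
  have hpow : ∀ (j : ℕ) (y : A), ((L ^ j : Module.End (ZMod p) A)) y = f^[j] y := fun j y => by
    rw [Module.End.pow_apply]; rfl
  have hL : L ^ p ^ r = 1 := LinearMap.ext fun y => by rw [hpow, hf]; rfl
  obtain ⟨h1, h2⟩ := pow_and_geom_sum hA L hL hk
  constructor
  · rw [← hpow, h1]; rfl
  · have := LinearMap.congr_fun h2 x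
    rw [LinearMap.sum_apply, LinearMap.zero_apply] at this
    simpa only [hpow] using this

end Cfsg.Agent.Perm.UnipotentBound
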